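import Cfsg.Agent.Lib.L34Type.Interface
import Cfsg.Agent.Lib.AutPSL.Diag

/-!
# `PSL₃(4)` normal of odd index with trivial centraliser: `G` embeds in `PGL₃(4)`

Conjugation gives an injection of `G` into `Aut PSL₃(F)`; as the field and graph part is a
2-group it vanishes on `G`, so the image consists of projective linear maps.
-/

set_option autoImplicit false

namespace Cfsg.Agent.L34Type

open Subgroup Cfsg.Agent.AutPSL.Basic Cfsg.Agent.AutPSL.Out

universe u v

/-- Piece E, second half. -/
theorem almostSimpleInput : AlmostSimpleInput.{u, v} := by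
  intro F _ _ hF G _ _ L hL he hodd hC
  obtain ⟨e⟩ := he
  haveI := hL
  haveI : Fact (Nat.Prime 2) := ⟨Nat.prime_two⟩
  obtain ⟨ψ, -, hψ⟩ := exists_proj (F := F) (n := 3) le_rfl
  let φ : G →* MulAut (Matrix.ProjectiveSpecialLinearGroup (Fin 3) F) :=
    (MulAut.congr e).toMonoidHom.comp MulAut.conjNormal
  have hφe : ∀ (g : G) (l : L), φ g (e l) = e (MulAut.conjNormal g l) := fun g l => by
    show e (MulAut.conjNormal g (e.symm (e l))) = _
    rw [e.symm_apply_apply]
  have hinj : Function.Injective φ := by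
    refine (injective_iff_map_eq_one φ).2 fun g hg => ?_
    have : g ∈ centralizer (L : Set G) := by
      refine mem_centralizer_iff.2 fun l hl => ?_
      have h1 := hφe g ⟨l, hl⟩
      rw [hg, MulAut.one_apply] at h1
      have h2 : g * l * g⁻¹ = l := by
        rw [← MulAut.conjNormal_apply g ⟨l, hl⟩, ← e.injective h1]
      exact (mul_inv_eq_iff_eq_mul.1 h2).symm
    rwa [hC, mem_bot] at this
  have hmem : ∀ g, φ g ∈ (gAut (n := 3) (F := F)).range := fun g => by
    rw [← hψ, MonoidHom.mem_ker]
    have hl : ∀ l : L, ψ (φ (l : G)) = 1 := fun l => by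
      rw [← MonoidHom.mem_ker, hψ]
      refine Cfsg.Agent.AutPSL.Diag.inn_le_range ⟨e l, ?_⟩
      refine MulEquiv.ext fun y => ?_
      obtain ⟨y, rfl⟩ := e.surjective y
      rw [hφe, MulAut.conj_apply, ← map_inv, ← map_mul, ← map_mul]
      exact congrArg e (Subtype.ext (MulAut.conjNormal_apply _ _).symm)
    have hp : ψ (φ g) ^ L.index = 1 := by
      rw [← map_pow, ← map_pow]
      exact hl ⟨_, L.pow_index_mem g⟩
    obtain ⟨r⟩ := exists_ringAut_equiv (F := F) (p := 2) (f := 2) hF
    have hcard : Nat.card ((F ≃+* F) × Multiplicative (ZMod 2)) = 4 := by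
      rw [Nat.card_prod, Nat.card_congr r.toEquiv, Nat.card_congr Multiplicative.toAdd, Nat.card_zmod]
    have h4 : ψ (φ g) ^ 4 = 1 := hcard ▸ pow_card_eq_one'
    have h := pow_gcd_eq_one.2 ⟨hp, h4⟩
    have hg : Nat.gcd L.index 4 = 1 := (Nat.coprime_two_right.2 hodd).pow_right 2
    rwa [hg, pow_one] at h
  have hker : (gAut (n := 3) (F := F)).ker = center (GL (Fin 3) F) :=
    Subgroup.ext fun g => gAut_eq_one_iff (by norm_num) g
  let E : (gAut (n := 3) (F := F)).range ≃* PGL3 F :=
    (QuotientGroup.quotientKerEquivRange _).symm.trans (QuotientGroup.quotientMulEquivOfEq hker)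
  exact ⟨E.toMonoidHom.comp (φ.codRestrict _ hmem),
    E.injective.comp fun a b h => hinj (congrArg Subtype.val h)⟩

end Cfsg.Agent.L34Type
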