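import Cfsg.Agent.Lib.L34Type.Interface
import Mathlib.LinearAlgebra.Matrix.ToLin
import Mathlib.LinearAlgebra.FreeModule.Finite.Basic
import Mathlib.LinearAlgebra.Dimension.Free
import Mathlib.FieldTheory.Finite.Basic

/-!
# The affine group of an `F₄`-plane inside `PGL₃(4)`

A module of exponent two and order 16 with `Ω² + Ω + 1 = 0` is a plane over a field with four
elements; a group acting on it affinely and faithfully embeds in `PGL₃`.
-/

set_option autoImplicit false
set_option linter.style.haveILetI false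

namespace Cfsg.Agent.L34Type.Embed

universe u v w

theorem exists_root {F : Type v} [Field F] [Fintype F] (hF : Fintype.card F = 4) :
    (2 : F) = 0 ∧ ∃ w : F, w * w + w + 1 = 0 ∧ ∀ c : F, c = 0 ∨ c = 1 ∨ c = w ∨ c = w + 1 := by
  classical
  have h2 : (2 : F) = 0 := by
    have h := FiniteField.cast_card_eq_zero F
    rw [hF] at h
    have h' : (2 : F) * 2 = 0 := by push_cast at h; linear_combination h
    exact mul_self_eq_zero.1 h'
  refine ⟨h2, ?_⟩
  obtain ⟨w, hw0, hw1⟩ : ∃ w : F, w ≠ 0 ∧ w ≠ 1 := by
    by_contra hne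
    push Not at hne
    have hsub : (Finset.univ : Finset F) ⊆ {0, 1} := fun x _ => by
      by_cases hx : x = 0
      · simp [hx]
      · simp [hne x hx]
    have h := (Finset.card_le_card hsub).trans (Finset.card_insert_le _ _)
    rw [Finset.card_univ, hF, Finset.card_singleton] at h
    omega
  have h3 : w ^ 3 = 1 := by
    have h := FiniteField.pow_card_sub_one_eq_one w hw0
    rwa [hF] at h
  have hroot : w * w + w + 1 = 0 :=
    (mul_eq_zero.1 (show (w - 1) * (w * w + w + 1) = 0 by linear_combination h3)).resolve_left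
      (sub_ne_zero.2 hw1)
  refine ⟨w, hroot, fun c => ?_⟩
  by_contra hne
  push Not at hne
  obtain ⟨c0, c1, cw, cw1⟩ := hne
  have h4 : c ^ 3 = 1 := by
    have h := FiniteField.pow_card_sub_one_eq_one c c0
    rwa [hF] at h
  have hroot' : c * c + c + 1 = 0 :=
    (mul_eq_zero.1 (show (c - 1) * (c * c + c + 1) = 0 by linear_combination h4)).resolve_left
      (sub_ne_zero.2 c1)
  rcases mul_eq_zero.1 (show (c - w) * (c + w + 1) = 0 by linear_combination hroot' - hroot) with
    h | h
  · exact cw (sub_eq_zero.1 h)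
  · exact cw1 (by linear_combination h - (w + 1) * h2)

/-- The scalars of `F` on a module with such an operator. -/
theorem exists_scalars {F : Type v} [Field F] [Fintype F] (hF : Fintype.card F = 4) {V : Type u}
    [AddCommGroup V] (two : ∀ x : V, x + x = 0) {Ω : AddMonoid.End V}
    (heq : ∀ x, Ω (Ω x) + Ω x + x = 0) :
    ∃ α : F →+* AddMonoid.End V, ∀ T : AddMonoid.End V, (∀ x, T (Ω x) = Ω (T x)) →
      ∀ c x, T (α c x) = α c (T x) := by
  classical
  obtain ⟨h2, w, hw, hc⟩ := exists_root hF
  have hw0 : w ≠ 0 := fun h => by simp [h] at hw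
  have hw1 : w ≠ 1 := fun h => by
    rw [h] at hw
    exact one_ne_zero (α := F) (by linear_combination hw - h2)
  have hv0 : w + 1 ≠ 0 := fun h => hw1 (by linear_combination h - h2)
  have hv1 : w + 1 ≠ 1 := fun h => hw0 (by linear_combination h)
  have hvw : w + 1 ≠ w := fun h => one_ne_zero (α := F) (by linear_combination h)
  let α : F → AddMonoid.End V := fun c =>
    if c = 0 then 0 else if c = 1 then 1 else if c = w then Ω else Ω + 1
  have a0 : α 0 = 0 := by simp [α]
  have a1 : α 1 = 1 := by simp [α]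
  have aw : α w = Ω := by simp [α, hw0, hw1]
  have av : α (w + 1) = Ω + 1 := by simp only [α, if_neg hv0, if_neg hv1, if_neg hvw]
  have f1 : (1 : F) + 1 = 0 := by linear_combination h2
  have f2 : (1 : F) + w = w + 1 := add_comm _ _
  have f3 : (1 : F) + (w + 1) = w := by linear_combination h2
  have f4 : w + 1 + 1 = w := by linear_combination h2
  have f5 : w + w = 0 := by linear_combination w * h2
  have f6 : w + (w + 1) = 1 := by linear_combination w * h2
  have f7 : w + 1 + w = 1 := by linear_combination w * h2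
  have f8 : w + 1 + (w + 1) = 0 := by linear_combination (w + 1) * h2
  have m1 : w * w = w + 1 := by linear_combination hw - (w + 1) * h2
  have m2 : w * (w + 1) = 1 := by linear_combination hw - h2
  have m3 : (w + 1) * w = 1 := by linear_combination hw - h2
  have m4 : (w + 1) * (w + 1) = w := by linear_combination hw
  have E1 : (1 : AddMonoid.End V) + 1 = 0 := AddMonoidHom.ext fun x => two x
  have EΩ : Ω + Ω = 0 := AddMonoidHom.ext fun x => two _
  have sq : Ω * Ω = Ω + 1 := AddMonoidHom.ext fun x => by
    show Ω (Ω x) = Ω x + x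
    calc Ω (Ω x) = Ω (Ω x) + (Ω x + x + (Ω x + x)) := by rw [two, add_zero]
      _ = (Ω (Ω x) + Ω x + x) + (Ω x + x) := by abel
      _ = Ω x + x := by rw [heq, zero_add]
  have g3 : 1 + (Ω + 1) = Ω := by rw [add_left_comm, E1, add_zero]
  have g4 : Ω + 1 + 1 = Ω := by rw [add_assoc, E1, add_zero]
  have g6 : Ω + (Ω + 1) = 1 := by rw [← add_assoc, EΩ, zero_add]
  have g7 : Ω + 1 + Ω = 1 := by rw [add_right_comm, EΩ, zero_add]
  have g8 : Ω + 1 + (Ω + 1) = 0 := by rw [add_add_add_comm, EΩ, E1, add_zero]
  have n2 : Ω * (Ω + 1) = 1 := by rw [mul_add, mul_one, sq, g7]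
  have n3 : (Ω + 1) * Ω = 1 := by rw [add_mul, one_mul, sq, g7]
  have n4 : (Ω + 1) * (Ω + 1) = Ω := by rw [mul_add, mul_one, n3, g3]
  refine ⟨
    { toFun := α
      map_one' := a1
      map_zero' := a0
      map_add' := fun c d => by
        rcases hc c with hc' | hc' | hc' | hc' <;> rcases hc d with hd | hd | hd | hd <;>
          rw [hc', hd] <;>
          simp only [a0, a1, aw, av, f1, f2, f3, f4, f5, f6, f7, f8, E1, EΩ, g3, g4, g6, g7, g8,
            zero_add, add_zero] <;> exact add_comm _ _
      map_mul' := fun c d => by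
        rcases hc c with hc' | hc' | hc' | hc' <;> rcases hc d with hd | hd | hd | hd <;>
          rw [hc', hd] <;>
          simp only [a0, a1, aw, av, m1, m2, m3, m4, sq, n2, n3, n4, zero_mul, mul_zero, one_mul,
            mul_one] }, fun T hT c x => ?_⟩
  show T (α c x) = α c (T x)
  rcases hc c with h | h | h | h <;> rw [h]
  · rw [a0]; exact map_zero T
  · rw [a1]; rfl
  · rw [aw]; exact hT x
  · rw [av]
    show T (Ω x + x) = Ω (T x) + T x
    rw [map_add, hT]

/-- A group acting affinely, semilinearly trivially and faithfully embeds in `PGL₃`. -/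
theorem embeds_of_affine {F : Type v} [Field F] [Fintype F] (hF : Fintype.card F = 4) {V : Type u}
    [AddCommGroup V] (two : ∀ x : V, x + x = 0) (hV : Nat.card V = 16) {Ω : AddMonoid.End V}
    (heq : ∀ x, Ω (Ω x) + Ω x + x = 0) {G : Type w} [Group G] (ρ : G →* AddMonoid.End V)
    (hcomm : ∀ g x, ρ g (Ω x) = Ω (ρ g x)) (t : G → V)
    (ht : ∀ g h, t (g * h) = t g + ρ g (t h)) (hfaith : ∀ g, ρ g = 1 → t g = 0 → g = 1) :
    EmbedsPGL G F := by
  classical
  obtain ⟨α, hα⟩ := exists_scalars hF two heq
  haveI : Finite V := Nat.finite_of_card_ne_zero (by rw [hV]; omega)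
  letI : Module F V := Module.compHom V α
  have hsmul : ∀ (c : F) (x : V), c • x = α c x := fun _ _ => rfl
  haveI : Module.Finite F V := Module.Finite.of_finite
  have hdim : Module.finrank F V = 2 := by
    have h := Module.natCard_eq_pow_finrank (K := F) (V := V)
    rw [hV, Nat.card_eq_fintype_card, hF, show (16 : ℕ) = 4 ^ 2 by norm_num] at h
    exact (Nat.pow_right_injective (le_refl 2 |>.trans (by norm_num)) h).symm
  let lin : G → V →ₗ[F] V := fun g =>
    { toFun := fun x => ρ g x
      map_add' := map_add _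
      map_smul' := fun c x => hα (ρ g) (hcomm g) c x }
  have hlin : ∀ g x, lin g x = ρ g x := fun _ _ => rfl
  have t1 : t 1 = 0 := by
    have h := ht 1 1
    rw [one_mul, map_one] at h
    exact left_eq_add.1 h
  let aff : G → (V × F) →ₗ[F] (V × F) := fun g =>
    ((lin g).comp (LinearMap.fst F V F) + (LinearMap.snd F V F).smulRight (t g)).prod
      (LinearMap.snd F V F)
  have haff : ∀ g (x : V) (c : F), aff g (x, c) = (ρ g x + c • t g, c) := fun _ _ _ => rfl
  have hA1 : aff 1 = 1 := LinearMap.ext fun p => by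
    obtain ⟨x, c⟩ := p
    rw [haff, map_one, t1, smul_zero, add_zero]
    rfl
  have hAm : ∀ g h, aff (g * h) = aff g * aff h := fun g h => LinearMap.ext fun p => by
    obtain ⟨x, c⟩ := p
    show aff (g * h) (x, c) = aff g (aff h (x, c))
    rw [haff, haff, haff, ht, smul_add, map_mul]
    refine Prod.ext ?_ rfl
    show ρ g (ρ h x) + (c • t g + c • ρ g (t h)) = ρ g (ρ h x + c • t h) + c • t g
    rw [map_add, show ρ g (c • t h) = c • ρ g (t h) from hα (ρ g) (hcomm g) c (t h)]
    abel
  let b : Module.Basis (Fin 3) F (V × F) := Module.finBasisOfFinrankEq F (V × F)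
    (by rw [Module.finrank_prod, hdim, Module.finrank_self])
  let Φ : (V × F →ₗ[F] V × F) ≃ₐ[F] Matrix (Fin 3) (Fin 3) F := LinearMap.toMatrixAlgEquiv b
  let h : G →* GL (Fin 3) F :=
    MonoidHom.toHomUnits
      { toFun := fun g => Φ (aff g)
        map_one' := by rw [hA1, map_one]
        map_mul' := fun g g' => by rw [hAm, map_mul] }
  refine ⟨(QuotientGroup.mk' _).comp h, (injective_iff_map_eq_one _).2 fun g hg => ?_⟩
  have hc : h g ∈ Subgroup.center (GL (Fin 3) F) := (QuotientGroup.eq_one_iff _).1 hg
  obtain ⟨a, ha⟩ := Matrix.GeneralLinearGroup.mem_center_iff_val_mem_range_scalar.1 hc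
  have hA : aff g = a • 1 := by
    apply Φ.injective
    rw [map_smul, map_one, show Φ (aff g) = ((h g : GL (Fin 3) F) : Matrix (Fin 3) (Fin 3) F) from rfl,
      ← ha, Matrix.smul_one_eq_diagonal]
    rfl
  have e := LinearMap.congr_fun hA (0, 1)
  rw [haff, map_zero, zero_add, one_smul] at e
  have e' : (t g, (1 : F)) = (a • (0 : V), a • (1 : F)) := e
  have ha1 : a = 1 := by simpa using (congrArg Prod.snd e').symm
  have htg : t g = 0 := by simpa using congrArg Prod.fst e'
  refine hfaith g (AddMonoidHom.ext fun x => ?_) htg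
  have e2 := congrArg Prod.fst (LinearMap.congr_fun hA (x, 0))
  rw [haff, ha1, one_smul] at e2
  show ρ g x = x
  simpa using e2

end Cfsg.Agent.L34Type.Embed
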