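import Cfsg.Agent.Lib.L34Type.Defs
import Cfsg.Agent.Lib.CIT.LThreeFourBasic
import Cfsg.Agent.Lib.StronglyClosedFour.Basic

/-!
# Sylow 2-subgroups of type `L₃(4)`: local facts and fusion

`R` and `A` are not conjugate, and an involution of `R \ A` either has `R` as a Sylow 2-subgroup
of its centraliser or is carried into `A` by `N(R)`.
-/

set_option autoImplicit false
set_option linter.style.haveILetI false
set_option linter.unusedSectionVars false

namespace Cfsg.Agent.L34Type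

open Subgroup Cfsg.Agent.CIT
open Cfsg.Agent.StronglyClosedFour (exists_conj_into)

universe u

variable {G : Type u} [Group G]

theorem conj_comp (g h x : G) : g * h * x * (g * h)⁻¹ = g * (h * x * h⁻¹) * g⁻¹ := by group

theorem conj_inv_conj (g x : G) : g⁻¹ * (g * x * g⁻¹) * g = x := by group

namespace Shape

section Basic

variable {S R A : Subgroup G} (h : Shape S R A)
include h

theorem R_inv {x : G} (hx : x ∈ R) : x⁻¹ = x := inv_eq_of_mul_eq_one_right (h.R_sq x hx)

theorem R_comm {a b : G} (ha : a ∈ R) (hb : b ∈ R) : a * b = b * a := by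
  calc a * b = (a * b)⁻¹ := (h.R_inv (mul_mem ha hb)).symm
    _ = b * a := by rw [mul_inv_rev, h.R_inv ha, h.R_inv hb]

theorem R_isPGroup : IsPGroup 2 R :=
  fun x => ⟨1, Subtype.ext (by rw [pow_one, pow_two]; exact h.R_sq x x.2)⟩

theorem R_ne_A : R ≠ A := fun e => by
  have h4 := h.inf_card
  rw [e, inf_idem, h.A_card] at h4
  omega

theorem exists_R_notMem_A [Finite G] : ∃ r ∈ R, r ∉ A := by
  by_contra hne
  push Not at hne
  exact h.R_ne_A (Subgroup.eq_of_le_of_card_ge hne (by rw [h.R_card, h.A_card]))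

theorem exists_inf_ne_one : ∃ z ∈ R ⊓ A, z ≠ 1 := by
  by_contra hne
  push Not at hne
  have e : R ⊓ A = ⊥ := (Subgroup.eq_bot_iff_forall _).2 hne
  have h4 := h.inf_card
  rw [e, Subgroup.card_bot] at h4
  omega

theorem le_centralizer_of_mem_inf {z : G} (hz : z ∈ R ⊓ A) : S ≤ centralizer ({z} : Set G) :=
  fun s hs => mem_centralizer_singleton_iff.2 (h.central z hz s hs).symm

theorem R_le_centralizer {r : G} (hr : r ∈ R) : R ≤ centralizer ({r} : Set G) :=
  fun s hs => mem_centralizer_singleton_iff.2 (h.R_comm hs hr)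

/-- An elementary subgroup of order 16 is `R` or `A`. -/
theorem eq_R_or_A [Finite G] {E : Subgroup G} (hle : E ≤ S) (hcard : Nat.card E = 16)
    (hsq : ∀ x ∈ E, x * x = 1) : E = R ∨ E = A := by
  rcases CIT.le_or_le_of_subset fun x hx => h.involutions x (hle hx) (hsq x hx) with hR | hA
  · exact Or.inl (Subgroup.eq_of_le_of_card_ge hR (by rw [hcard, h.R_card]))
  · exact Or.inr (Subgroup.eq_of_le_of_card_ge hA (by rw [hcard, h.A_card]))

theorem conj_R_cases [Finite G] {g : G} (hg : ∀ x ∈ R, g * x * g⁻¹ ∈ S) :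
    (∀ x ∈ R, g * x * g⁻¹ ∈ R) ∨ (∀ x ∈ R, g * x * g⁻¹ ∈ A) := by
  have hle : R.map (MulAut.conj g).toMonoidHom ≤ S := by
    rintro _ ⟨x, hx, rfl⟩
    exact hg x hx
  rcases h.eq_R_or_A hle (by rw [Subgroup.card_map_of_injective (MulAut.conj g).injective, h.R_card])
    (by
      rintro _ ⟨x, hx, rfl⟩
      rw [← map_mul, h.R_sq x hx, map_one]) with e | e
  · exact Or.inl fun x hx => e ▸ Subgroup.mem_map_of_mem (MulAut.conj g).toMonoidHom hx
  · exact Or.inr fun x hx => e ▸ Subgroup.mem_map_of_mem (MulAut.conj g).toMonoidHom hx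

theorem exists_mul_eq [Finite G] {u : G} (hu : u ∈ S) : ∃ r ∈ R, ∃ a ∈ A, r * a = u := by
  let f : (R ⧸ A.subgroupOf R) × A → S := fun p =>
    ⟨(p.1.out : G) * (p.2 : G), mul_mem (h.R_le p.1.out.2) (h.A_le p.2.2)⟩
  have hinj : Function.Injective f := by
    rintro ⟨q, a⟩ ⟨q', a'⟩ e
    have e' : (q.out : G) * a = q'.out * a' := congrArg Subtype.val e
    have hq : q = q' := by
      rw [← q.out_eq, ← q'.out_eq]
      refine QuotientGroup.eq.2 (Subgroup.mem_subgroupOf.2 ?_)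
      have : ((q.out : G))⁻¹ * (q'.out : G) = a * (a' : G)⁻¹ := by
        rw [eq_mul_inv_iff_mul_eq, mul_assoc, ← e', inv_mul_cancel_left]
      rw [Subgroup.coe_mul, Subgroup.coe_inv, this]
      exact mul_mem a.2 (inv_mem a'.2)
    subst hq
    exact Prod.ext rfl (Subtype.ext (mul_left_cancel e'))
  have hq : Nat.card (R ⧸ A.subgroupOf R) = 4 := by
    have h2 := Subgroup.card_eq_card_quotient_mul_card_subgroup (A.subgroupOf R)
    have h3 : Nat.card (A.subgroupOf R) = Nat.card (A ⊓ R : Subgroup G) := by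
      rw [← Subgroup.inf_subgroupOf_right]
      exact Nat.card_congr (Subgroup.subgroupOfEquivOfLe inf_le_right).toEquiv
    rw [h3, inf_comm, h.inf_card, h.R_card] at h2
    omega
  have hbij : Function.Bijective f := (Nat.bijective_iff_injective_and_card f).2
    ⟨hinj, by rw [Nat.card_prod, hq, h.A_card, h.card_S]⟩
  obtain ⟨⟨q, a⟩, he⟩ := hbij.2 ⟨u, hu⟩
  exact ⟨q.out, q.out.2, a, a.2, congrArg Subtype.val he⟩

theorem le_norm_A [Finite G] : S ≤ normalizer (A : Set G) := by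
  intro u hu
  obtain ⟨r, hr, a, ha, rfl⟩ := h.exists_mul_eq hu
  refine mul_mem ?_ (Subgroup.le_normalizer ha)
  rcases h.symm.conj_R_cases (g := r) (fun x hx =>
    mul_mem (mul_mem (h.R_le hr) (h.A_le hx)) (inv_mem (h.R_le hr))) with hc | hc
  · exact CIT.mem_normalizer_of_forall hc
  · exfalso
    refine h.R_ne_A (Subgroup.eq_of_le_of_card_ge ?_ (by rw [h.R_card, h.A_card])).symm
    intro x hx
    have := mul_mem (mul_mem (inv_mem hr) (hc x hx)) hr
    simpa [mul_assoc] using this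

theorem le_norm_R [Finite G] : S ≤ normalizer (R : Set G) := h.symm.le_norm_A

/-- The commutator of an element of `R` with one of `S` lies in `R ⊓ A`. -/
theorem conj_mul_mem [Finite G] {r s : G} (hr : r ∈ R) (hs : s ∈ S) :
    s * r * s⁻¹ * r ∈ R ⊓ A := by
  obtain ⟨r', hr', a, ha, rfl⟩ := h.exists_mul_eq hs
  have hra : a * r * a⁻¹ * r ∈ R ⊓ A :=
    mem_inf.2 ⟨mul_mem ((mem_normalizer_iff.1 (h.le_norm_R (h.A_le ha)) r).1 hr) hr, by
      have hA := mul_mem ha ((mem_normalizer_iff.1 (h.le_norm_A (h.R_le hr)) _).1 (inv_mem ha))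
      rwa [show a * (r * a⁻¹ * r⁻¹) = a * r * a⁻¹ * r⁻¹ by group, h.R_inv hr] at hA⟩
  have hx : a * r * a⁻¹ ∈ R := (mem_normalizer_iff.1 (h.le_norm_R (h.A_le ha)) r).1 hr
  rwa [conj_comp r' a r, h.R_comm hr' hx, mul_inv_cancel_right]

/-- Conjugation by `S` fills the coset of an element of `R \ A`. -/
theorem exists_conj_eq [Finite G] {r z : G} (hr : r ∈ R) (hrA : r ∉ A) (hz : z ∈ R ⊓ A) :
    ∃ s ∈ S, s * r * s⁻¹ = r * z := by
  have hmem : ∀ s ∈ S, s * r * s⁻¹ * r ∈ R ⊓ A := fun s hs => h.conj_mul_mem hr hs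
  -- the map `A/(R ⊓ A) → R ⊓ A`
  let f : A ⧸ R.subgroupOf A → (R ⊓ A : Subgroup G) := fun q =>
    ⟨(q.out : G) * r * (q.out : G)⁻¹ * r, hmem _ (h.A_le q.out.2)⟩
  have hinj : Function.Injective f := by
    intro q q' e
    have e' : (q.out : G) * r * (q.out : G)⁻¹ * r = (q'.out : G) * r * (q'.out : G)⁻¹ * r :=
      congrArg Subtype.val e
    have e2 := mul_right_cancel e'
    rw [← q.out_eq, ← q'.out_eq]
    refine QuotientGroup.eq.2 (Subgroup.mem_subgroupOf.2 ?_)
    rw [Subgroup.coe_mul, Subgroup.coe_inv]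
    refine h.cent_R r hr hrA _ (h.A_le (mul_mem (inv_mem q.out.2) q'.out.2)) ?_
    calc r * ((q.out : G)⁻¹ * (q'.out : G))
        = (q.out : G)⁻¹ * ((q.out : G) * r * (q.out : G)⁻¹) * (q'.out : G) := by group
      _ = (q.out : G)⁻¹ * (q'.out : G) * r := by rw [e2]; group
  have hq : Nat.card (A ⧸ R.subgroupOf A) = 4 := by
    have h2 := Subgroup.card_eq_card_quotient_mul_card_subgroup (R.subgroupOf A)
    have h3 : Nat.card (R.subgroupOf A) = Nat.card (R ⊓ A : Subgroup G) := by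
      rw [← Subgroup.inf_subgroupOf_right]
      exact Nat.card_congr (Subgroup.subgroupOfEquivOfLe inf_le_right).toEquiv
    rw [h3, h.inf_card, h.A_card] at h2
    omega
  have hbij : Function.Bijective f := (Nat.bijective_iff_injective_and_card f).2
    ⟨hinj, by rw [hq, h.inf_card]⟩
  obtain ⟨q, hq'⟩ := hbij.2 ⟨z, hz⟩
  refine ⟨(q.out : G), h.A_le q.out.2, ?_⟩
  have he : (q.out : G) * r * (q.out : G)⁻¹ * r = z := congrArg Subtype.val hq'
  calc (q.out : G) * r * (q.out : G)⁻¹ = z * r⁻¹ := eq_mul_inv_of_mul_eq he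
    _ = r * z := by rw [h.R_inv hr, h.R_comm hz.1 hr]

end Basic

section Sylow

variable [Finite G] {S : Sylow 2 G} {R A : Subgroup G} (h : Shape (S : Subgroup G) R A)
include h

theorem norm_S_le_R : normalizer ((S : Subgroup G) : Set G) ≤ normalizer (R : Set G) := by
  haveI : Fact (Nat.Prime 2) := ⟨Nat.prime_two⟩
  intro g hg
  set N := normalizer ((S : Subgroup G) : Set G) with hN
  have : ((S : Subgroup G).subgroupOf N).Normal := Subgroup.normal_in_normalizer
  have hodd : Odd ((S : Subgroup G).subgroupOf N).index := by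
    have h2 : ¬ 2 ∣ (S : Subgroup G).index := S.not_dvd_index
    have h1 : (S : Subgroup G).relIndex N ∣ (S : Subgroup G).index :=
      relIndex_dvd_index_of_le Subgroup.le_normalizer
    rw [Nat.odd_iff]
    have : ¬ 2 ∣ (S : Subgroup G).relIndex N := fun e => h2 (e.trans h1)
    show ((S : Subgroup G).relIndex N) % 2 = 1
    omega
  obtain ⟨k, hk⟩ := hodd
  have hpow := Subgroup.pow_index_mem ((S : Subgroup G).subgroupOf N) ⟨g, hg⟩
  rw [hk, Subgroup.mem_subgroupOf] at hpow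
  have hgS : ∀ x ∈ R, g * x * g⁻¹ ∈ (S : Subgroup G) :=
    fun x hx => (Subgroup.mem_normalizer_iff.1 hg x).1 (h.R_le hx)
  rcases h.conj_R_cases hgS with hc | hc
  · exact CIT.mem_normalizer_of_forall hc
  rcases h.symm.conj_R_cases (g := g) (fun x hx =>
      (Subgroup.mem_normalizer_iff.1 hg x).1 (h.A_le hx)) with hA | hA
  · exfalso
    refine h.R_ne_A (Subgroup.eq_of_le_of_card_ge ?_ (by rw [h.R_card, h.A_card]))
    intro x hx
    exact (Subgroup.mem_normalizer_iff.1 (CIT.mem_normalizer_of_forall hA) x).2 (hc x hx)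
  have h2 : g * g ∈ normalizer (R : Set G) :=
    CIT.mem_normalizer_of_forall fun x hx => by rw [conj_comp]; exact hA _ (hc x hx)
  have h3 : g ^ (2 * k + 1) ∈ normalizer (R : Set G) := h.le_norm_R hpow
  rw [pow_succ, pow_mul, pow_two] at h3
  exact (Subgroup.mul_mem_cancel_left _ (pow_mem h2 k)).1 h3

theorem norm_S_le_A : normalizer ((S : Subgroup G) : Set G) ≤ normalizer (A : Set G) :=
  h.symm.norm_S_le_R

theorem norm_S_le_inf : normalizer ((S : Subgroup G) : Set G) ≤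
    normalizer ((R ⊓ A : Subgroup G) : Set G) := fun g hg =>
  CIT.mem_normalizer_of_forall fun x hx => mem_inf.2
    ⟨(mem_normalizer_iff.1 (h.norm_S_le_R hg) x).1 hx.1,
      (mem_normalizer_iff.1 (h.norm_S_le_A hg) x).1 hx.2⟩

/-- `R` and `A` are not conjugate. -/
theorem not_conj (g : G) : ¬ ∀ x ∈ R, g * x * g⁻¹ ∈ A := by
  haveI : Fact (Nat.Prime 2) := ⟨Nat.prime_two⟩
  intro hg
  have hmap : R.map (MulAut.conj g).toMonoidHom = A := by
    refine Subgroup.eq_of_le_of_card_ge ?_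
      (by rw [Subgroup.card_map_of_injective (MulAut.conj g).injective, h.R_card, h.A_card])
    rintro _ ⟨x, hx, rfl⟩
    exact hg x hx
  have hU' : ((g • S : Sylow 2 G) : Subgroup G) ≤ normalizer (A : Set G) := by
    intro y hy
    rw [Sylow.coe_subgroup_smul] at hy
    obtain ⟨u, hu, rfl⟩ := hy
    refine CIT.mem_normalizer_of_forall fun x hx => ?_
    rw [← hmap] at hx ⊢
    obtain ⟨r, hr, rfl⟩ := hx
    refine ⟨u * r * u⁻¹, (Subgroup.mem_normalizer_iff.1 (h.le_norm_R hu) r).1 hr, ?_⟩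
    show MulAut.conj g (u * r * u⁻¹) = MulAut.conj g u * MulAut.conj g r * (MulAut.conj g u)⁻¹
    simp only [map_mul, map_inv]
  obtain ⟨k, hk⟩ := MulAction.exists_smul_eq (normalizer (A : Set G))
    ((g • S).subtype hU') (S.subtype h.le_norm_A)
  have hk' : (k : G) • (g • S) = S := by
    simp_rw [Sylow.smul_subtype, Subgroup.smul_def] at hk
    exact Sylow.subtype_injective hk
  rw [smul_smul, Sylow.smul_eq_iff_mem_normalizer] at hk'
  have hkgR := h.norm_S_le_R hk'
  refine h.R_ne_A (Subgroup.eq_of_le_of_card_ge ?_ (by rw [h.R_card, h.A_card]))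
  intro x hx
  have h2 := hg _ ((Subgroup.mem_normalizer_iff''.1 hkgR x).1 hx)
  have h3 := (Subgroup.mem_normalizer_iff.1 k.2 _).1 h2
  simpa [mul_assoc] using h3

/-- The only conjugate of `R` inside `S` is `R`. -/
theorem conj_R_mem {g : G} (hg : ∀ x ∈ R, g * x * g⁻¹ ∈ (S : Subgroup G)) :
    g ∈ normalizer (R : Set G) :=
  CIT.mem_normalizer_of_forall ((h.conj_R_cases hg).resolve_right (h.not_conj g))

/-- An element of `R` not moved into `A` by `N(R)` has `R` as Sylow subgroup of its centraliser. -/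
theorem odd_relIndex_cent {r : G} (hr : r ∈ R)
    (hn : ∀ n ∈ normalizer (R : Set G), n * r * n⁻¹ ∉ A) :
    Odd (R.relIndex (centralizer ({r} : Set G))) := by
  haveI : Fact (Nat.Prime 2) := ⟨Nat.prime_two⟩
  set C := centralizer ({r} : Set G) with hC
  have hRC : R ≤ C := h.R_le_centralizer hr
  obtain ⟨T, hRT⟩ := IsPGroup.exists_le_sylow (h.R_isPGroup.of_equiv (subgroupOfEquivOfLe hRC).symm)
  have hTp : IsPGroup 2 ((T : Subgroup C).map C.subtype) := T.2.map _
  obtain ⟨P, hP⟩ := hTp.exists_le_sylow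
  obtain ⟨g, rfl⟩ := MulAction.exists_smul_eq G S P
  have hgR : g⁻¹ ∈ normalizer (R : Set G) := h.conj_R_mem fun x hx => by
    have : x ∈ ((g • S : Sylow 2 G) : Subgroup G) :=
      hP ⟨⟨x, hRC hx⟩, hRT hx, rfl⟩
    rw [Sylow.coe_subgroup_smul] at this
    obtain ⟨u, hu, rfl⟩ := this
    show g⁻¹ * (g * u * g⁻¹) * g⁻¹⁻¹ ∈ _
    rwa [inv_inv, conj_inv_conj]
  have hle : (T : Subgroup C) ≤ R.subgroupOf C := by
    intro t ht
    have : (t : G) ∈ ((g • S : Sylow 2 G) : Subgroup G) := hP ⟨t, ht, rfl⟩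
    rw [Sylow.coe_subgroup_smul] at this
    obtain ⟨u, hu, hut⟩ := this
    have hut' : g * u * g⁻¹ = (t : G) := hut
    have hx : g⁻¹ * r * g ∈ R := (mem_normalizer_iff''.1 (inv_inv g ▸ inv_mem hgR) r).1 hr
    have hxA : g⁻¹ * r * g ∉ A := by simpa using hn g⁻¹ hgR
    have htr : (t : G) * r = r * (t : G) := mem_centralizer_singleton_iff.1 t.2
    have huR : u ∈ R := h.cent_R _ hx hxA u hu (by
      rw [show u = g⁻¹ * (t : G) * g by rw [← hut']; group]
      calc g⁻¹ * r * g * (g⁻¹ * (t : G) * g) = g⁻¹ * (r * (t : G)) * g := by group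
        _ = g⁻¹ * ((t : G) * r) * g := by rw [htr]
        _ = g⁻¹ * (t : G) * g * (g⁻¹ * r * g) := by group)
    rw [mem_subgroupOf, ← hut']
    exact (mem_normalizer_iff.1 (inv_inv g ▸ inv_mem hgR) u).1 huR
  have he : (T : Subgroup C) = R.subgroupOf C := le_antisymm hle hRT
  rw [relIndex, ← he, Nat.odd_iff]
  have := T.not_dvd_index
  omega

/-- Conjugates in `S` of an element of `R` which `N(R)` keeps out of `A` come from `N(R)`. -/
theorem exists_norm_conj {r g : G} (hr : r ∈ R)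
    (hn : ∀ n ∈ normalizer (R : Set G), n * r * n⁻¹ ∉ A) (hg : g * r * g⁻¹ ∈ (S : Subgroup G)) :
    g * r * g⁻¹ ∈ R ∧ g * r * g⁻¹ ∉ A ∧
      ∃ n ∈ normalizer (R : Set G), n * r * n⁻¹ = g * r * g⁻¹ := by
  haveI : Fact (Nat.Prime 2) := ⟨Nat.prime_two⟩
  have hodd := h.odd_relIndex_cent hr hn
  set y := g * r * g⁻¹ with hy
  have hy2 : y * y = 1 := by
    rw [hy, show g * r * g⁻¹ * (g * r * g⁻¹) = g * (r * r) * g⁻¹ by group, h.R_sq r hr, mul_one,
      mul_inv_cancel]
  -- a 2-subgroup centralising `y` goes into `R` by conjugation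
  have hinto : ∀ B : Subgroup G, IsPGroup 2 B → (∀ b ∈ B, b * y = y * b) →
      ∃ k, k * y * k⁻¹ = r ∧ ∀ b ∈ B, k * b * k⁻¹ ∈ R := by
    intro B hB hBy
    have hB' : IsPGroup 2 (B.map (MulAut.conj g⁻¹).toMonoidHom) := hB.map _
    obtain ⟨c, hc, hcR⟩ := exists_conj_into (K := centralizer ({r} : Set G)) (T := R) hB' (by
      rintro _ ⟨b, hb, rfl⟩
      rw [mem_centralizer_singleton_iff]
      show g⁻¹ * b * (g⁻¹)⁻¹ * r = r * (g⁻¹ * b * (g⁻¹)⁻¹)
      calc g⁻¹ * b * (g⁻¹)⁻¹ * r = g⁻¹ * (b * y) * g := by rw [hy]; group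
        _ = g⁻¹ * (y * b) * g := by rw [hBy b hb]
        _ = r * (g⁻¹ * b * (g⁻¹)⁻¹) := by rw [hy]; group) hodd
    refine ⟨c⁻¹ * g⁻¹, ?_, fun b hb => ?_⟩
    · rw [conj_comp, hy, show g⁻¹ * (g * r * g⁻¹) * g⁻¹⁻¹ = r by group]
      rw [mul_assoc, inv_inv, ← mem_centralizer_singleton_iff.1 hc, inv_mul_cancel_left]
    · have := hcR _ ⟨b, hb, rfl⟩
      rw [conj_comp, inv_inv c]
      exact this
  have hcard : ∀ (B : Subgroup G) (k : G), (∀ b ∈ B, k * b * k⁻¹ ∈ R) → Nat.card B ≤ 16 := by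
    intro B k hk
    rw [← h.R_card]
    exact Nat.card_le_card_of_injective (fun b : B => (⟨k * b * k⁻¹, hk b b.2⟩ : R))
      fun b b' e => Subtype.ext ((MulAut.conj k).injective (congrArg Subtype.val e))
  have hnotA : y ∉ A := by
    intro hyA
    by_cases hyR : y ∈ R
    · obtain ⟨k, -, hk⟩ := hinto S S.2 fun b hb => (h.central y ⟨hyR, hyA⟩ b hb).symm
      have := hcard S k hk
      rw [h.card_S] at this
      omega
    · obtain ⟨k, -, hk⟩ := hinto A h.symm.R_isPGroup fun b hb => h.symm.R_comm hb hyA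
      exact h.symm.not_conj k hk
  have hyR : y ∈ R := (h.involutions y hg hy2).resolve_right hnotA
  obtain ⟨k, hky, hk⟩ := hinto R h.R_isPGroup fun b hb => h.R_comm hb hyR
  have hkR : k ∈ normalizer (R : Set G) := CIT.mem_normalizer_of_forall hk
  refine ⟨hyR, hnotA, k⁻¹, inv_mem hkR, ?_⟩
  rw [← hky]
  group

end Sylow

end Shape

end Cfsg.Agent.L34Type
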