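import Cfsg.Agent.Lib.L34Type.EmbedOmega3
import Cfsg.Agent.Lib.L34Type.EmbedAffine
import Cfsg.Agent.Lib.L34Type.Local
import Cfsg.Agent.S4217
import Mathlib.GroupTheory.SchurZassenhaus

/-!
# `R` normal and self-centralising: `G` embeds in a parabolic of `PGL₃(4)`

`G` acts on `R` through a `GL₂(4)`, and `R` has a complement by Gaschütz.
-/

set_option autoImplicit false
set_option linter.style.haveILetI false
set_option linter.unusedSectionVars false

namespace Cfsg.Agent.L34Type.Embed

open Subgroup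
open scoped IsMulCommutative Pointwise

universe u v

variable {G : Type u} [Group G]

/-- Conjugation on the additive group of a normal subgroup. -/
def conjEnd (R : Subgroup G) [R.Normal] [IsMulCommutative R] :
    G →* AddMonoid.End (Additive R) where
  toFun g :=
    { toFun := fun x => Additive.ofMul (MulAut.conjNormal g x.toMul)
      map_zero' := map_one (MulAut.conjNormal g)
      map_add' := fun x y => map_mul (MulAut.conjNormal g) x.toMul y.toMul }
  map_one' := AddMonoidHom.ext fun x => congrArg Additive.ofMul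
    (show MulAut.conjNormal (1 : G) x.toMul = x.toMul by rw [map_one]; rfl)
  map_mul' g h := AddMonoidHom.ext fun x => congrArg Additive.ofMul
    (show MulAut.conjNormal (g * h) x.toMul = MulAut.conjNormal g (MulAut.conjNormal h x.toMul) by
      rw [map_mul]; rfl)

theorem conjEnd_coe (R : Subgroup G) [R.Normal] [IsMulCommutative R] (g : G) (x : Additive R) :
    ((conjEnd R g x).toMul : G) = g * (x.toMul : G) * g⁻¹ := MulAut.conjNormal_apply _ _

theorem conjEnd_eq_one_iff (R : Subgroup G) [R.Normal] [IsMulCommutative R] (g : G) :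
    conjEnd R g = 1 ↔ g ∈ centralizer (R : Set G) := by
  refine ⟨fun h => mem_centralizer_iff.2 fun r hr => ?_, fun h => AddMonoidHom.ext fun x => ?_⟩
  · have e : ((conjEnd R g (Additive.ofMul (⟨r, hr⟩ : R))).toMul : G) = r := by rw [h]; rfl
    rw [conjEnd_coe] at e
    exact (mul_inv_eq_iff_eq_mul.1 e).symm
  · show conjEnd R g x = x
    refine Additive.toMul.injective (Subtype.ext ?_)
    rw [conjEnd_coe, ← mem_centralizer_iff.1 h _ x.toMul.2, mul_inv_cancel_right]

section Input

variable [Finite G] {S : Sylow 2 G} {R A : Subgroup G} (h : Shape (S : Subgroup G) R A)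
  (hcent : centralizer (R : Set G) ≤ R)
include h hcent

theorem isPGroup_of_sq_mem {g : G} (hg : g * g ∈ R) : IsPGroup 2 (zpowers g) := by
  haveI : Fact (Nat.Prime 2) := ⟨Nat.prime_two⟩
  have h4 : g ^ (2 ^ 2) = 1 := by
    rw [show (2 : ℕ) ^ 2 = 2 + 2 by norm_num, pow_add, pow_two]
    exact h.R_sq _ hg
  obtain ⟨k, -, hk⟩ := (Nat.dvd_prime_pow Nat.prime_two).1 (orderOf_dvd_of_pow_eq_one h4)
  exact IsPGroup.of_card (by rw [Nat.card_zpowers, hk])

theorem action [R.Normal] [IsMulCommutative R] :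
    Action (conjEnd R) (S : Subgroup G) ((R ⊓ A).subgroupOf R).toAddSubgroup := by
  haveI : Fact (Nat.Prime 2) := ⟨Nat.prime_two⟩
  have hker : ∀ g, conjEnd R g = 1 ↔ g ∈ R := fun g => (conjEnd_eq_one_iff R g).trans
    ⟨fun hg => hcent hg, fun hg => mem_centralizer_iff.2 fun r hr => h.R_comm hr hg⟩
  have hZ : ∀ x : Additive R,
      x ∈ ((R ⊓ A).subgroupOf R).toAddSubgroup ↔ (x.toMul : G) ∈ R ⊓ A := fun _ => Iff.rfl
  have hnot : ∀ x : Additive R,
      x ∉ ((R ⊓ A).subgroupOf R).toAddSubgroup → (x.toMul : G) ∉ A := fun x hx hA =>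
    hx ((hZ x).2 ⟨x.toMul.2, hA⟩)
  have hext : ∀ {x y : Additive R}, (x.toMul : G) = (y.toMul : G) → x = y := fun e =>
    Additive.toMul.injective (Subtype.ext e)
  refine ⟨fun x => hext (h.R_sq _ x.toMul.2), ?_, ?_, ?_, fun g hg x => ?_, fun g hg z hz => ?_,
    fun g hg x hx hxZ => ?_, fun x hx z hz => ?_, fun g h1 h2 => ?_, fun g hg hn => ?_,
    fun g hg => ?_⟩
  · rw [Nat.card_congr Additive.toMul]; exact h.R_card
  · show Nat.card ((R ⊓ A).subgroupOf R) = 4
    rw [Nat.card_congr (Subgroup.subgroupOfEquivOfLe inf_le_left).toEquiv, h.inf_card]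
  · rw [Nat.odd_iff]
    have := S.not_dvd_index
    omega
  · rw [hZ]
    show ((conjEnd R g x).toMul : G) * x.toMul ∈ R ⊓ A
    rw [conjEnd_coe]
    exact h.conj_mul_mem x.toMul.2 hg
  · refine hext ?_
    rw [conjEnd_coe, ← h.central _ ((hZ z).1 hz) g hg, mul_inv_cancel_right]
  · refine (hker g).2 (h.cent_R _ x.toMul.2 (hnot x hxZ) g hg ?_)
    have e := congrArg (fun y : Additive R => (y.toMul : G)) hx
    simp only [conjEnd_coe] at e
    exact (mul_inv_eq_iff_eq_mul.1 e).symm
  · obtain ⟨s, hs, e⟩ := h.exists_conj_eq x.toMul.2 (hnot x hx) ((hZ z).1 hz)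
    exact ⟨s, hs, hext (by rw [conjEnd_coe]; exact e)⟩
  · -- the pointwise stabiliser of the flag is a 2-group containing `S`
    let K : Subgroup G :=
      { carrier := {k | (∀ r ∈ R, k * r * k⁻¹ * r ∈ R ⊓ A) ∧ ∀ z ∈ R ⊓ A, k * z * k⁻¹ = z}
        one_mem' := ⟨fun r hr => by
          rw [one_mul, inv_one, mul_one, h.R_sq r hr]; exact one_mem _, fun z _ => by group⟩
        mul_mem' := fun {a b} ha hb => ⟨fun r hr => by
          have h1 := ha.1 (b * r * b⁻¹) (Subgroup.Normal.conj_mem inferInstance r hr b)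
          have h2 := hb.1 r hr
          have e : a * b * r * (a * b)⁻¹ * r =
              a * (b * r * b⁻¹) * a⁻¹ * (b * r * b⁻¹) * ((b * r * b⁻¹)⁻¹ * r) := by group
          rw [e, h.R_inv (Subgroup.Normal.conj_mem inferInstance r hr b)]
          exact mul_mem h1 h2, fun z hz => by rw [conj_comp, hb.2 z hz, ha.2 z hz]⟩
        inv_mem' := fun {a} ha => ⟨fun r hr => by
          have hb : a⁻¹ * r * a ∈ R := by
            simpa using Subgroup.Normal.conj_mem inferInstance r hr a⁻¹
          have h1 := ha.1 _ hb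
          rw [show a * (a⁻¹ * r * a) * a⁻¹ = r by group] at h1
          rw [inv_inv, h.R_comm hb hr]
          exact h1, fun z hz => by
          conv_lhs => rw [← ha.2 z hz]
          group⟩ }
    have hSK : (S : Subgroup G) ≤ K := fun s hs =>
      ⟨fun r hr => h.conj_mul_mem hr hs, fun z hz => by
        rw [← h.central z hz s hs, mul_inv_cancel_right]⟩
    have hK : IsPGroup 2 K := fun k => by
      refine ⟨2, Subtype.ext ?_⟩
      have hk2 : (k : G) * k ∈ R := hcent (mem_centralizer_iff.2 fun r hr => by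
        have hc : ((k : G) * k) * r * ((k : G) * k)⁻¹ = r := by
          have h1 := k.2.1 r hr
          have e : (k : G) * r * (k : G)⁻¹ = (k : G) * r * (k : G)⁻¹ * r * r := by
            rw [mul_assoc _ r r, h.R_sq r hr, mul_one]
          rw [conj_comp]
          conv_lhs => rw [e]
          rw [show (k : G) * ((k : G) * r * (k : G)⁻¹ * r * r) * (k : G)⁻¹ =
            ((k : G) * ((k : G) * r * (k : G)⁻¹ * r) * (k : G)⁻¹) * ((k : G) * r * (k : G)⁻¹) by group,
            k.2.2 _ h1, h.R_comm h1.1 (Subgroup.Normal.conj_mem inferInstance r hr (k : G)),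
            ← mul_assoc, h.R_sq _ (Subgroup.Normal.conj_mem inferInstance r hr (k : G)), one_mul]
        exact (mul_inv_eq_iff_eq_mul.1 hc).symm)
      show (k : G) ^ (2 ^ 2) = 1
      rw [show (2 : ℕ) ^ 2 = 2 + 2 by norm_num, pow_add, pow_two]
      exact h.R_sq _ hk2
    rw [← S.is_maximal' hK hSK]
    refine ⟨fun r hr => ?_, fun z hz => ?_⟩
    · have e := h1 (Additive.ofMul (⟨r, hr⟩ : R))
      rw [hZ] at e
      change ((conjEnd R g (Additive.ofMul (⟨r, hr⟩ : R))).toMul : G) * r ∈ R ⊓ A at e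
      rwa [conjEnd_coe] at e
    · have e := congrArg (fun y : Additive R => (y.toMul : G))
        (h2 (Additive.ofMul (⟨z, hz.1⟩ : R)) hz)
      simp only [conjEnd_coe] at e
      exact e
  · have hP := isPGroup_of_sq_mem h hcent ((hker _).1 hg)
    have hmem : g ∈ zpowers g ⊓ normalizer ((S : Subgroup G) : Set G) :=
      ⟨mem_zpowers g, CIT.mem_normalizer_of_forall hn⟩
    exact ((hP.inf_normalizer_sylow S).le hmem).2
  · obtain ⟨Q, hQ⟩ := (isPGroup_of_sq_mem h hcent ((hker _).1 hg)).exists_le_sylow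
    obtain ⟨x, hx⟩ := MulAction.exists_smul_eq G S Q
    refine ⟨x, ?_⟩
    have hgQ := hQ (mem_zpowers g)
    rw [← hx, Sylow.coe_subgroup_smul] at hgQ
    obtain ⟨s, hs, rfl⟩ := hgQ
    show x⁻¹ * (x * s * x⁻¹) * x ∈ (S : Subgroup G)
    rwa [conj_inv_conj]

theorem exists_complement_R [R.Normal] [IsMulCommutative R] :
    ∃ K : Subgroup G, K.IsComplement' R := by
  refine (Cfsg.Agent.S4217.result R inferInstance).2 fun p hp _ => ?_
  haveI : Fact p.Prime := ⟨hp⟩
  by_cases hp2 : p = 2
  · subst hp2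
    refine ⟨S.mapSurjective (QuotientGroup.mk'_surjective R), ?_⟩
    obtain ⟨E, hE, hmax⟩ := Set.Finite.exists_maximal
      (s := {E : Subgroup G | E ≤ A ∧ E ⊓ R = ⊥}) (Set.toFinite _) ⟨⊥, bot_le, bot_inf_eq _⟩
    refine ⟨E, hE.2, ?_⟩
    rw [Sylow.coe_mapSurjective, comap_map_eq, QuotientGroup.ker_mk']
    refine le_antisymm (sup_le ((hE.1.trans h.A_le).trans le_sup_left) le_sup_right)
      (sup_le ?_ le_sup_right)
    intro s hs
    obtain ⟨r, hr, a, ha, rfl⟩ := h.exists_mul_eq hs
    refine mul_mem (mem_sup_right hr) ?_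
    by_contra hna
    have hnaE : a ∉ E := fun e => hna (mem_sup_left e)
    have hF : E ⊔ zpowers a ∈ {E : Subgroup G | E ≤ A ∧ E ⊓ R = ⊥} := by
      refine ⟨sup_le hE.1 (zpowers_le.2 ha), (eq_bot_iff_forall _).2 fun x hx => ?_⟩
      have hna' : zpowers a ≤ normalizer (E : Set G) := zpowers_le.2 (CIT.mem_normalizer_of_forall
        fun e he => by
          rw [h.symm.R_comm ha (hE.1 he), mul_inv_cancel_right]; exact he)
      obtain ⟨e, he, y, hy, hey⟩ : x ∈ (E : Set G) * (zpowers a : Set G) := by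
        rw [← Subgroup.coe_mul_of_right_le_normalizer_left _ _ hna']; exact hx.1
      obtain ⟨n, rfl⟩ := mem_zpowers_iff.1 hy
      rcases Int.even_or_odd n with ⟨k, hk⟩ | ⟨k, hk⟩
      · have : e * a ^ n = e := by
          rw [hk, ← two_mul, zpow_mul, zpow_two, h.A_sq a ha, one_zpow, mul_one]
        exact (eq_bot_iff_forall _).1 hE.2 x ⟨(hey.symm.trans this) ▸ he, hx.2⟩
      · refine absurd ?_ hna
        have : e * a ^ n = e * a := by
          rw [hk, zpow_add, zpow_mul, zpow_two, h.A_sq a ha, one_zpow, one_mul, zpow_one]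
        have hxe : x = e * a := hey.symm.trans this
        rw [show a = e⁻¹ * x by rw [hxe, inv_mul_cancel_left]]
        exact mul_mem (mem_sup_left (inv_mem he)) (mem_sup_right hx.2)
    exact hnaE ((hmax hF le_sup_left) (mem_sup_right (mem_zpowers a)))
  · obtain ⟨Q⟩ := (inferInstance : Nonempty (Sylow p (G ⧸ R)))
    refine ⟨Q, ?_⟩
    set U := (Q : Subgroup (G ⧸ R)).comap (QuotientGroup.mk' R) with hU
    have hRU : R ≤ U := fun r hr => by
      rw [hU, mem_comap, QuotientGroup.mk'_apply, (QuotientGroup.eq_one_iff r).2 hr]; exact one_mem _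
    have hcR : Nat.card (R.subgroupOf U) = 16 := by
      rw [Nat.card_congr (subgroupOfEquivOfLe hRU).toEquiv, h.R_card]
    have hidx : (R.subgroupOf U).index = Nat.card (Q : Subgroup (G ⧸ R)) := by
      have h0 : R.relIndex U = ((⊥ : Subgroup (G ⧸ R)).comap (QuotientGroup.mk' R)).relIndex U := by
        rw [MonoidHom.comap_bot, QuotientGroup.ker_mk']
      show R.relIndex U = _
      rw [h0, relIndex_comap, hU, map_comap_eq_self_of_surjective (QuotientGroup.mk'_surjective R),
        relIndex_bot_left]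
    obtain ⟨K, hK⟩ := Subgroup.exists_right_complement'_of_coprime (N := R.subgroupOf U) (by
      obtain ⟨n, hn⟩ := Q.isPGroup'.exists_card_eq
      rw [hcR, hidx, hn, show (16 : ℕ) = 2 ^ 4 by norm_num]
      exact Nat.Coprime.pow 4 n ((Nat.coprime_primes Nat.prime_two hp).2 (Ne.symm hp2)))
    refine ⟨K.map U.subtype, ?_, ?_⟩
    · have e := hK.symm.disjoint.eq_bot
      rw [← map_subgroupOf_eq_of_le hRU, ← map_inf _ _ _ U.subtype_injective, e, Subgroup.map_bot]
    · rw [← map_subgroupOf_eq_of_le hRU, ← Subgroup.map_sup, sup_comm, hK.sup_eq_top,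
        ← MonoidHom.range_eq_map, range_subtype]

end Input

end Cfsg.Agent.L34Type.Embed

namespace Cfsg.Agent.L34Type

open Subgroup Embed
open scoped IsMulCommutative

universe u v

/-- Piece E, first half. -/
theorem parabolicInput : ParabolicInput.{u, v} := by
  intro F _ _ hF G _ _ S R A h hN hcent
  haveI := hN
  haveI : IsMulCommutative R :=
    ⟨⟨fun a b => Subtype.ext (h.R_comm a.2 b.2)⟩⟩
  have H := action h hcent
  obtain ⟨Ω, heq, hcomm⟩ := H.exists_invariant
  obtain ⟨K, hK⟩ := exists_complement_R h hcent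
  have hK' : R.IsComplement' K := hK.symm
  have huniq : ∀ {r r' k k' : G}, r ∈ R → r' ∈ R → k ∈ K → k' ∈ K → r * k = r' * k' → r = r' := by
    intro r r' k k' hr hr' hk hk' e
    have h1 : r'⁻¹ * r ∈ R ⊓ K := mem_inf.2 ⟨mul_mem (inv_mem hr') hr, by
      rw [show r'⁻¹ * r = k' * k⁻¹ by rw [eq_mul_inv_iff_mul_eq, mul_assoc, e, inv_mul_cancel_left]]
      exact mul_mem hk' (inv_mem hk)⟩
    rw [hK'.disjoint.eq_bot, mem_bot] at h1
    exact (inv_mul_eq_one.1 h1).symm
  have hdec : ∀ g : G, ∃ r : R, ∃ k ∈ K, (r : G) * k = g := fun g => by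
    obtain ⟨⟨r, k⟩, hrk⟩ := hK'.2 g
    exact ⟨r, k, k.2, hrk⟩
  choose t kp hkp hg using hdec
  refine embeds_of_affine hF H.two H.card_V heq (conjEnd R) hcomm (fun g => Additive.ofMul (t g))
    (fun g g' => Additive.toMul.injective (Subtype.ext ?_)) fun g hρ ht => ?_
  · show (t (g * g') : G) = (t g : G) * ((conjEnd R g (Additive.ofMul (t g'))).toMul : G)
    rw [conjEnd_coe]
    show (t (g * g') : G) = (t g : G) * (g * (t g' : G) * g⁻¹)
    have hr : (t g : G) * (g * (t g' : G) * g⁻¹) ∈ R :=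
      mul_mem (t g).2 (Subgroup.Normal.conj_mem inferInstance _ (t g').2 g)
    refine huniq (t (g * g')).2 hr (hkp _) (mul_mem (hkp g) (hkp g')) ((hg _).trans ?_)
    have e1 : g * (t g' : G) * g⁻¹ = kp g * (t g' : G) * (kp g)⁻¹ := by
      have hc : kp g * (t g' : G) * (kp g)⁻¹ ∈ R :=
        Subgroup.Normal.conj_mem inferInstance _ (t g').2 _
      conv_lhs => rw [← hg g, conj_comp, h.R_comm (t g).2 hc, mul_inv_cancel_right]
    rw [e1]
    conv_lhs => rw [← hg g, ← hg g']
    group
  · have hgR : g ∈ R := hcent ((conjEnd_eq_one_iff R g).1 hρ)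
    have e : (t g : G) = 1 := congrArg (fun y : Additive R => (y.toMul : G)) ht
    refine (huniq hgR (t g).2 (one_mem K) (hkp g) ?_).trans e
    rw [mul_one, hg]

end Cfsg.Agent.L34Type
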