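import Cfsg.Agent.Lib.L34Type.KleinBasic

/-!
# An odd group with a four-group acting: the square of the fibre is at most the orbit
-/

set_option autoImplicit false
set_option linter.style.haveILetI false
set_option linter.unusedSectionVars false

namespace Cfsg.Agent.L34Type.Klein

open Subgroup

universe u

variable {G : Type u} [Group G] [Finite G]

theorem exists_sqrt {O : Subgroup G} (hO : Odd (Nat.card O)) {w : G} (hw : w ∈ O) :
    ∃ r, r ∈ zpowers w ∧ r * r = w := by
  obtain ⟨j, hj⟩ : Odd (orderOf w) := hO.of_dvd_nat (Subgroup.orderOf_dvd_natCard O hw)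
  refine ⟨w ^ (j + 1), pow_mem (mem_zpowers w) _, ?_⟩
  rw [← pow_add, show j + 1 + (j + 1) = orderOf w + 1 by omega, pow_succ, pow_orderOf_eq_one,
    one_mul]

theorem eq_of_sq {O : Subgroup G} (hO : Odd (Nat.card O)) {x y : G} (hx : x ∈ O) (hy : y ∈ O)
    (h : x * x = y * y) : x = y := by
  have key : ∀ z ∈ O, (z * z) ^ ((Nat.card O + 1) / 2) = z := by
    intro z hz
    obtain ⟨j, hj⟩ := hO
    have h1 : z ^ Nat.card O = 1 := orderOf_dvd_iff_pow_eq_one.1 (Subgroup.orderOf_dvd_natCard O hz)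
    rw [← pow_two, ← pow_mul, show 2 * ((Nat.card O + 1) / 2) = Nat.card O + 1 by omega, pow_succ,
      h1, one_mul]
  rw [← key x hx, h, key y hy]

/-- Conjugation by an element which inverts `w` inverts the powers of `w`. -/
theorem inv_zpowers {a w r : G} (h : a * w * a⁻¹ = w⁻¹) (hr : r ∈ zpowers w) :
    a * r * a⁻¹ = r⁻¹ := by
  obtain ⟨k, rfl⟩ := hr
  simp only [← conj_zpow, h, inv_zpow]

section

variable (O : Subgroup G)

/-- The elements of `O` fixed by `b` and inverted by `a`. -/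
def inverted (a b : G) : Set G := {x | x ∈ O ∧ x * b = b * x ∧ a * x * a⁻¹ = x⁻¹}

variable [O.Normal]

theorem card_fibre_le {a b : G} (ha : a * a = 1) (hab : a * b = b * a) :
    ((centralizer ({a} : Set G)).relIndex (O ⊓ centralizer ({b} : Set G))) ≤
      Nat.card (inverted O a b) := by
  have hai : a⁻¹ = a := inv_eq_of_mul_eq_one_right ha
  set B := O ⊓ centralizer ({b} : Set G) with hB
  let f : B ⧸ (centralizer ({a} : Set G)).subgroupOf B → inverted O a b := fun c =>
    ⟨a * c.out * a⁻¹ * (c.out : G)⁻¹, by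
      refine ⟨mul_mem (Subgroup.Normal.conj_mem inferInstance _ (mem_inf.1 c.out.2).1 a)
        (inv_mem (mem_inf.1 c.out.2).1), ?_, ?_⟩
      · have h1 : Commute a b := hab
        have h2 : Commute (c.out : G) b := mem_centralizer_singleton_iff.1 (mem_inf.1 c.out.2).2
        exact (((h1.mul_left h2).mul_left h1.inv_left).mul_left h2.inv_left).eq
      · rw [hai]
        calc a * (a * c.out * a * (c.out : G)⁻¹) * a
            = (a * a) * c.out * a * (c.out : G)⁻¹ * a := by group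
          _ = (a * (c.out : G) * a * (c.out : G)⁻¹)⁻¹ := by
            rw [ha, one_mul, mul_inv_rev, mul_inv_rev, mul_inv_rev, inv_inv, hai]
            group⟩
  refine Nat.card_le_card_of_injective f fun c d hcd => ?_
  have h1 : a * c.out * a⁻¹ * (c.out : G)⁻¹ = a * d.out * a⁻¹ * (d.out : G)⁻¹ :=
    congrArg Subtype.val hcd
  simp only [mul_assoc, mul_left_cancel_iff] at h1
  rw [← c.out_eq, ← d.out_eq]
  refine QuotientGroup.eq.2 (mem_subgroupOf.2 (mem_centralizer_singleton_iff.2 ?_))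
  rw [Subgroup.coe_mul, Subgroup.coe_inv]
  rw [hai] at h1
  calc (c.out : G)⁻¹ * d.out * a
      = (c.out : G)⁻¹ * ((d.out : G) * (a * (d.out : G)⁻¹)) * d.out := by group
    _ = a * ((c.out : G)⁻¹ * d.out) := by rw [← h1]; group

theorem card_pairs_le (hO : Odd (Nat.card O)) {a b c : G} (ha : a * a = 1) (hb : b * b = 1)
    (hc : c = a * b) (hab : a * b = b * a) :
    Nat.card (inverted O a b) * Nat.card (inverted O a c) ≤
      (centralizer ({a} : Set G)).relIndex O := by
  have hai : a⁻¹ = a := inv_eq_of_mul_eq_one_right ha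
  have hbi : b⁻¹ = b := inv_eq_of_mul_eq_one_right hb
  -- `x` is fixed by `b`, `y` is inverted by `b`
  have hxb : ∀ x : inverted O a b, b * (x : G) * b⁻¹ = x := fun x => by
    rw [← x.2.2.1, mul_inv_cancel_right]
  have hyb : ∀ y : inverted O a c, b * (y : G) * b⁻¹ = (y : G)⁻¹ := fun y => by
    have hb' : b = a * c := by rw [hc, ← mul_assoc, ha, one_mul]
    have hcy : c * (y : G) * c⁻¹ = y := by rw [← y.2.2.1, mul_inv_cancel_right]
    rw [hb', show a * c * (y : G) * (a * c)⁻¹ = a * (c * y * c⁻¹) * a⁻¹ by group, hcy, y.2.2.2]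
  have hwO : ∀ (x : inverted O a b) (y : inverted O a c), (x : G) * y * x ∈ O := fun x y =>
    mul_mem (mul_mem x.2.1 y.2.1) x.2.1
  choose r hr hrr using fun p : inverted O a b × inverted O a c => exists_sqrt hO (hwO p.1 p.2)
  have hrO : ∀ p, r p ∈ O := fun p => (zpowers_le.2 (hwO p.1 p.2)) (hr p)
  have hra : ∀ p, r p * a * (r p)⁻¹ = (p.1 : G) * p.2 * p.1 * a := by
    intro p
    have h1 : a * (r p) * a⁻¹ = (r p)⁻¹ := by
      refine inv_zpowers ?_ (hr p)
      rw [show a * ((p.1 : G) * p.2 * p.1) * a⁻¹ =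
        a * p.1 * a⁻¹ * (a * p.2 * a⁻¹) * (a * p.1 * a⁻¹) by group, p.1.2.2.2, p.2.2.2.2]
      group
    rw [← h1, ← hrr p, hai, mul_assoc (r p) a, ← mul_assoc a (a * r p), ← mul_assoc a a, ha,
      one_mul, ← mul_assoc]
  let f : inverted O a b × inverted O a c → O ⧸ (centralizer ({a} : Set G)).subgroupOf O :=
    fun p => ((⟨r p, hrO p⟩ : O) : O ⧸ (centralizer ({a} : Set G)).subgroupOf O)
  have hf : Function.Injective f := by
    intro p p' he
    have h1 : (r p)⁻¹ * r p' * a = a * ((r p)⁻¹ * r p') :=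
      mem_centralizer_singleton_iff.1 (mem_subgroupOf.1 (QuotientGroup.eq.1 he))
    have h2 : r p * a * (r p)⁻¹ = r p' * a * (r p')⁻¹ := by
      calc r p * a * (r p)⁻¹ = r p * (a * ((r p)⁻¹ * r p')) * (r p')⁻¹ := by group
        _ = r p' * a * (r p')⁻¹ := by rw [← h1]; group
    rw [hra p, hra p'] at h2
    have hw : (p.1 : G) * p.2 * p.1 = p'.1 * p'.2 * p'.1 := mul_right_cancel h2
    obtain ⟨x, y⟩ := p
    obtain ⟨x', y'⟩ := p'
    dsimp only at hw
    have hw' : (x : G)⁻¹ * y * (x : G)⁻¹ = (x' : G)⁻¹ * y' * (x' : G)⁻¹ := by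
      have hconj : b * ((x : G) * y * x) * b⁻¹ = b * ((x' : G) * y' * x') * b⁻¹ := by rw [hw]
      rw [show b * ((x : G) * y * x) * b⁻¹ = b * x * b⁻¹ * (b * y * b⁻¹) * (b * x * b⁻¹) by group,
        show b * ((x' : G) * y' * x') * b⁻¹ = b * x' * b⁻¹ * (b * y' * b⁻¹) * (b * x' * b⁻¹) by
          group, hxb, hyb, hxb, hyb] at hconj
      calc (x : G)⁻¹ * y * (x : G)⁻¹ = ((x : G) * (y : G)⁻¹ * x)⁻¹ := by group
        _ = ((x' : G) * (y' : G)⁻¹ * x')⁻¹ := by rw [hconj]
        _ = _ := by group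
    have hy' : (y' : G) = (x' : G)⁻¹ * x * y * x * (x' : G)⁻¹ := by
      calc (y' : G) = (x' : G)⁻¹ * ((x' : G) * y' * x') * (x' : G)⁻¹ := by group
        _ = _ := by rw [← hw]; group
    set z := (x' : G)⁻¹ * x with hz
    have hzO : z ∈ O := mul_mem (inv_mem x'.2.1) x.2.1
    have hsq : z * y * z⁻¹ * (z * y * z⁻¹) = (y' : G) * y' := by
      have hp : (x : G) * (y * y) * (x : G)⁻¹ = x' * ((y' : G) * y') * (x' : G)⁻¹ := by
        calc (x : G) * (y * y) * (x : G)⁻¹ = (x : G) * y * x * ((x : G)⁻¹ * y * (x : G)⁻¹) := by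
              group
          _ = _ := by rw [hw, hw']; group
      calc z * y * z⁻¹ * (z * y * z⁻¹) = (x' : G)⁻¹ * ((x : G) * (y * y) * (x : G)⁻¹) * x' := by
            rw [hz]; group
        _ = _ := by rw [hp]; group
    have hzy := eq_of_sq hO (mul_mem (mul_mem hzO y.2.1) (inv_mem hzO)) y'.2.1 hsq
    rw [hy', hz, mul_inv_rev, inv_inv] at hzy
    simp only [← mul_assoc] at hzy
    rw [mul_assoc _ (x : G) (x' : G)⁻¹, mul_assoc _ (x : G)⁻¹ (x' : G)] at hzy
    have h3 : (x : G)⁻¹ * x' = x * (x' : G)⁻¹ := mul_left_cancel hzy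
    have h4 : (x' : G) * x' = x * x := by
      calc (x' : G) * x' = x * ((x : G)⁻¹ * x') * x' := by group
        _ = x * x := by rw [h3]; group
    obtain rfl : x' = x := Subtype.ext (eq_of_sq hO x'.2.1 x.2.1 h4)
    obtain rfl : y' = y := Subtype.ext (by rw [hy', hz]; group)
    rfl
  have := Nat.card_le_card_of_injective f hf
  rwa [Nat.card_prod] at this

/-- The bound on the core. -/
theorem fibre_sq_le (hO : Odd (Nat.card O)) {Z : Subgroup G} (hsq : ∀ x ∈ Z, x * x = 1) {a b : G}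
    (ha : a ∈ Z) (hb : b ∈ Z) :
    (centralizer ({a} : Set G)).relIndex (O ⊓ centralizer ({b} : Set G)) *
      (centralizer ({a} : Set G)).relIndex (O ⊓ centralizer ({a * b} : Set G)) ≤
      (centralizer ({a} : Set G)).relIndex O :=
  (Nat.mul_le_mul (card_fibre_le O (hsq a ha) (comm_sq hsq ha hb))
    (card_fibre_le O (hsq a ha) (comm_sq hsq ha (mul_mem ha hb)))).trans
    (card_pairs_le O hO (hsq a ha) (hsq b hb) rfl (comm_sq hsq ha hb))

end

end Cfsg.Agent.L34Type.Klein
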