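import Cfsg.Agent.Lib.L34Type.KleinFive
import Cfsg.Agent.Lib.L34Type.KleinOdd

/-!
# Piece K: a four-group as Sylow 2-subgroup with one class of involutions
-/

set_option autoImplicit false
set_option linter.style.haveILetI false
set_option linter.unusedSectionVars false

namespace Cfsg.Agent.L34Type

open Subgroup

universe u

namespace Klein

variable {G : Type u} [Group G] [Finite G] {Z : Subgroup G}

theorem cent_eq_zpowers (z : G) :
    centralizer ((zpowers z : Subgroup G) : Set G) = centralizer ({z} : Set G) := by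
  rw [zpowers_eq_closure, centralizer_closure]

/-- Orders and indices over an odd normal subgroup. -/
theorem lift_card {O : Subgroup G} [O.Normal] {C : Subgroup G} {Cb : Subgroup (G ⧸ O)}
    (h : Cb.comap (QuotientGroup.mk' O) = O ⊔ C) :
    Nat.card C = Nat.card Cb * Nat.card (C ⊓ O : Subgroup G) ∧
      C.index = Cb.index * C.relIndex O := by
  have h1 : Nat.card (O ⊔ C : Subgroup G) = Nat.card Cb * Nat.card O := by
    rw [← h, Cores.card_comap_mk']
    exact Nat.mul_comm _ _
  have h2 := Cores.card_sup_mul_card_inf C O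
  rw [sup_comm, h1] at h2
  have h3 : Nat.card C = Nat.card Cb * Nat.card (C ⊓ O : Subgroup G) :=
    Nat.eq_of_mul_eq_mul_right (Nat.card_pos : 0 < Nat.card O) (by rw [← h2]; ring)
  refine ⟨h3, ?_⟩
  have h4 := card_mul_relIndex (inf_le_right : C ⊓ O ≤ O)
  rw [Subgroup.inf_relIndex_right] at h4
  have h5 := C.card_mul_index
  have h6 := (O ⊔ C).card_mul_index
  rw [h1, ← h, Subgroup.index_comap_of_surjective _ (QuotientGroup.mk'_surjective O), ← h4] at h6
  apply Nat.eq_of_mul_eq_mul_left (Nat.card_pos : 0 < Nat.card C)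
  rw [h5, ← h6, h3]
  ring

theorem card_inf_conj {O : Subgroup G} [O.Normal] (g z : G) :
    Nat.card (centralizer ({g * z * g⁻¹} : Set G) ⊓ O : Subgroup G) =
      Nat.card (centralizer ({z} : Set G) ⊓ O : Subgroup G) := by
  have he : (centralizer ({z} : Set G) ⊓ O).map (MulAut.conj g).toMonoidHom =
      centralizer ({g * z * g⁻¹} : Set G) ⊓ O := by
    ext y
    constructor
    · rintro ⟨x, hx, rfl⟩
      refine mem_inf.2 ⟨mem_centralizer_singleton_iff.2 ?_,
        Subgroup.Normal.conj_mem inferInstance _ (mem_inf.1 hx).2 g⟩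
      show g * x * g⁻¹ * (g * z * g⁻¹) = g * z * g⁻¹ * (g * x * g⁻¹)
      rw [show g * x * g⁻¹ * (g * z * g⁻¹) = g * (x * z) * g⁻¹ by group,
        mem_centralizer_singleton_iff.1 (mem_inf.1 hx).1]
      group
    · intro hy
      refine ⟨g⁻¹ * y * g, mem_inf.2 ⟨mem_centralizer_singleton_iff.2 ?_, ?_⟩,
        show g * (g⁻¹ * y * g) * g⁻¹ = y by group⟩
      · calc g⁻¹ * y * g * z = g⁻¹ * (y * (g * z * g⁻¹)) * g := by group
          _ = z * (g⁻¹ * y * g) := by rw [mem_centralizer_singleton_iff.1 (mem_inf.1 hy).1]; group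
      · simpa using Subgroup.Normal.conj_mem inferInstance _ (mem_inf.1 hy).2 g⁻¹
  rw [← he, Subgroup.card_map_of_injective (MulAut.conj g).injective]

theorem Setting.inf_cent (h : Setting Z) {a b : G} (ha : a ∈ Z) (ha1 : a ≠ 1) (hb : b ∈ Z)
    (hb1 : b ≠ 1) (hba : b ≠ a) :
    centralizer ({a} : Set G) ⊓ centralizer ({b} : Set G) = centralizer (Z : Set G) := by
  refine le_antisymm (fun x hx => mem_centralizer_iff.2 fun y hy => ?_)
    (le_inf (h.cent_le_cent ha) (h.cent_le_cent hb))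
  have hxa : x * a = a * x := mem_centralizer_singleton_iff.1 (mem_inf.1 hx).1
  have hxb : x * b = b * x := mem_centralizer_singleton_iff.1 (mem_inf.1 hx).2
  obtain ⟨w, hw, hw1, hwa, hwa1, hall⟩ := h.exists_others ha ha1
  have hxw : x * w = w * x := by
    rcases hall b hb with e | e | e | e
    · exact absurd e hb1
    · exact absurd e hba
    · rwa [e] at hxb
    · have hw' : w = b * a := by rw [e, mul_assoc, h.sq a ha, mul_one]
      rw [hw', ← mul_assoc, hxb, mul_assoc, hxa, mul_assoc]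
  rcases hall y hy with rfl | rfl | rfl | rfl
  · rw [one_mul, mul_one]
  · exact hxa.symm
  · exact hxw.symm
  · rw [← mul_assoc x, hxw, mul_assoc w x, hxa, mul_assoc]

theorem Setting.ineq (h : Setting Z)
    (hN : Cfsg.oddCore G ⊔ normalizer (Z : Set G) ≠ ⊤) {z : G} (hz : z ∈ Z) (hz1 : z ≠ 1) :
    3 * ((centralizer (Z : Set G)).relIndex (centralizer ({z} : Set G))) ^ 2 <
      (centralizer ({z} : Set G)).index := by
  haveI : Fact (Nat.Prime 2) := ⟨Nat.prime_two⟩
  set O := Cfsg.oddCore G with hOdef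
  haveI : O.Normal := Cores.pPrimeCore_normal 2
  have hOodd : Odd (Nat.card O) := Cores.oddCore_odd
  set f := QuotientGroup.mk' O with hf
  have hker : f.ker = O := QuotientGroup.ker_mk' O
  have hinjZ : ∀ x ∈ Z, f x = 1 → x = 1 := fun x hx e =>
    StronglyClosedFour.eq_one_of_two_group hOodd (T := Z) h.isPGroup
      (hker ▸ MonoidHom.mem_ker.2 e) hx
  set Zb := Z.map f with hZb
  have hodd : Odd Zb.index := h.odd.of_dvd_nat (Z.index_map_dvd (QuotientGroup.mk'_surjective O))
  have hZb4 : Nat.card Zb = 4 := by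
    rw [← h.card]
    refine (Nat.card_congr (Equiv.ofBijective (fun x : Z => (⟨f x, mem_map_of_mem f x.2⟩ : Zb))
      ⟨fun x y e => ?_, fun y => ?_⟩)).symm
    · have e' : f (x * (y : G)⁻¹) = 1 := by
        rw [map_mul, map_inv, show f (x : G) = f y from congrArg Subtype.val e, mul_inv_cancel]
      exact Subtype.ext (mul_inv_eq_one.1 (hinjZ _ (mul_mem x.2 (inv_mem y.2)) e'))
    · obtain ⟨x, hx, e⟩ := y.2
      exact ⟨⟨x, hx⟩, Subtype.ext e⟩
  have hb : Setting Zb := by
    refine ⟨hZb4, ?_, hodd, ?_⟩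
    · rintro _ ⟨x, hx, rfl⟩
      rw [← map_mul, h.sq x hx, map_one]
    · have hmem : ∀ s : G ⧸ O, orderOf s = 2 → ∃ x ∈ Z, x ≠ 1 ∧ IsConj (f x) s := by
        intro s hs
        have hs2 : s * s = 1 := by rw [← pow_two, ← hs, pow_orderOf_eq_one]
        obtain ⟨k, -, x, hx, e⟩ := StronglyClosedFour.exists_conj_into_involution hs2
          (mem_top s) (T := Zb) (by rwa [Subgroup.relIndex_top_right])
        refine ⟨x, hx, fun e1 => ?_, isConj_iff.2 ⟨k, by rw [e]; group⟩⟩
        rw [e1, map_one] at e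
        have : s = 1 := by
          calc s = k * (k⁻¹ * s * k) * k⁻¹ := by group
            _ = 1 := by rw [← e]; group
        rw [this, orderOf_one] at hs
        omega
      intro s t hs ht
      obtain ⟨x, hx, hx1, hxs⟩ := hmem s hs
      obtain ⟨y, hy, hy1, hyt⟩ := hmem t ht
      exact (hxs.symm.trans (f.map_isConj (h.one_class x y (order_two (h.sq x hx) hx1)
        (order_two (h.sq y hy) hy1)))).trans hyt
  have hOb : Cfsg.oddCore (G ⧸ O) = ⊥ := Cores.pPrimeCore_quotient_self 2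
  have hNb : normalizer (Zb : Set (G ⧸ O)) ≠ ⊤ := by
    intro e
    have hn : Zb.Normal := normalizer_eq_top_iff.1 e
    have hP : (Zb.comap f).Normal := hn.comap f
    have hPeq : Zb.comap f = Z ⊔ O := by rw [hZb, Subgroup.comap_map_eq, hker]
    have hsup := h.sup_normalizer (L := Zb.comap f) (by rw [hPeq]; exact le_sup_left)
    refine hN (top_le_iff.1 (hsup ▸ sup_le ?_ le_sup_right))
    rw [hPeq]
    exact sup_le (Subgroup.le_normalizer.trans le_sup_right) le_sup_left
  have hfz1 : f z ≠ 1 := fun e => hz1 (hinjZ z hz e)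
  have hfz : f z ∈ Zb := mem_map_of_mem f hz
  have hmain := hb.ineq_free hOb hNb hfz hfz1
  -- centralisers in the quotient
  have hkerodd : Odd (Nat.card f.ker) := by rw [hker]; exact hOodd
  have hCZ : (centralizer (Zb : Set (G ⧸ O))).comap f = O ⊔ centralizer (Z : Set G) := by
    rw [hZb, Subgroup.coe_map,
      comap_centralizer f hkerodd h.isPGroup fun a ha b hb' => h.comm ha hb', hker]
  have hzle : zpowers z ≤ Z := zpowers_le.2 hz
  have hCz : (centralizer ({f z} : Set (G ⧸ O))).comap f = O ⊔ centralizer ({z} : Set G) := by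
    rw [← cent_eq_zpowers (f z), ← MonoidHom.map_zpowers, Subgroup.coe_map,
      comap_centralizer f hkerodd (h.isPGroup.to_le hzle)
        (fun a ha b hb' => h.comm (hzle ha) (hzle hb')), hker, cent_eq_zpowers]
  obtain ⟨hcZ, -⟩ := lift_card hCZ
  obtain ⟨hcz, hiz⟩ := lift_card hCz
  set CZ := centralizer (Z : Set G) with hCZdef
  set Cz := centralizer ({z} : Set G) with hCzdef
  set ε := CZ.relIndex (O ⊓ Cz) with hε
  set rb := (centralizer (Zb : Set (G ⧸ O))).relIndex (centralizer ({f z} : Set (G ⧸ O))) with hrb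
  have hZz : CZ ≤ Cz := h.cent_le_cent hz
  have hεcard : Nat.card (CZ ⊓ O : Subgroup G) * ε = Nat.card (Cz ⊓ O : Subgroup G) := by
    have h1 := card_mul_relIndex (inf_le_right : CZ ⊓ (O ⊓ Cz) ≤ O ⊓ Cz)
    rw [Subgroup.inf_relIndex_right] at h1
    rw [show CZ ⊓ (O ⊓ Cz) = CZ ⊓ O by rw [← inf_assoc]; exact inf_eq_left.2 (inf_le_left.trans hZz),
      inf_comm O Cz] at h1
    rw [hε, inf_comm O Cz]
    exact h1
  have hr : CZ.relIndex Cz = rb * ε := by
    have h1 := card_mul_relIndex hZz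
    have h2 := card_mul_relIndex (hb.cent_le_cent hfz)
    rw [← hrb] at h2
    rw [hcZ, hcz, ← hεcard, ← h2] at h1
    refine Nat.eq_of_mul_eq_mul_left (Nat.mul_pos Nat.card_pos Nat.card_pos :
      0 < Nat.card (centralizer (Zb : Set (G ⧸ O))) * Nat.card (CZ ⊓ O : Subgroup G)) ?_
    rw [h1]
    ring
  obtain ⟨b, hb', hb1, hbz, hzb, -⟩ := h.exists_others hz hz1
  have hsame : ∀ w ∈ Z, w ≠ 1 → w ≠ z →
      (centralizer ({z} : Set G)).relIndex (O ⊓ centralizer ({w} : Set G)) = ε := by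
    intro w hw hw1 hwz
    have h1 := card_mul_relIndex
      (inf_le_right : centralizer ({z} : Set G) ⊓ (O ⊓ centralizer ({w} : Set G)) ≤
        O ⊓ centralizer ({w} : Set G))
    rw [Subgroup.inf_relIndex_right, show centralizer ({z} : Set G) ⊓ (O ⊓ centralizer ({w} : Set G)) =
      CZ ⊓ O by rw [inf_comm O, ← inf_assoc, h.inf_cent hz hz1 hw hw1 hwz], inf_comm O] at h1
    obtain ⟨g, hg⟩ := isConj_iff.1 (h.one_class z w (order_two (h.sq z hz) hz1)
      (order_two (h.sq w hw) hw1))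
    rw [← hg, card_inf_conj, ← hεcard, hg, ← hCzdef] at h1
    rw [← hCzdef, inf_comm O]
    exact Nat.eq_of_mul_eq_mul_left Nat.card_pos h1
  have hzb' : z * b ≠ 1 := by rwa [h.comm hz hb']
  have hzbz : z * b ≠ z := fun e => hb1 (mul_eq_left.1 e)
  have hsq := fibre_sq_le O hOodd h.sq hz hb'
  rw [hsame b hb' hb1 hbz, hsame _ (mul_mem hz hb') hzb' hzbz] at hsq
  have hεpos : 0 < ε := by
    refine Nat.pos_of_ne_zero fun e => ?_
    rw [e, mul_zero] at hεcard
    exact (Nat.card_pos (α := (Cz ⊓ O : Subgroup G))).ne hεcard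
  rw [hr, hiz]
  calc 3 * (rb * ε) ^ 2 = 3 * rb ^ 2 * (ε * ε) := by ring
    _ < (centralizer ({f z} : Set (G ⧸ O))).index * (ε * ε) :=
      Nat.mul_lt_mul_of_pos_right hmain (Nat.mul_pos hεpos hεpos)
    _ ≤ _ := Nat.mul_le_mul_left _ hsq

theorem Setting.embedded (h : Setting Z) (hO : Cfsg.oddCore G = ⊥) {M : Subgroup G}
    (hN : normalizer (Z : Set G) ≤ M)
    (hC : ∀ z ∈ Z, z ≠ 1 → centralizer ({z} : Set G) ≤ M) (hM : M ≠ ⊤) :
    Nat.card G = 60 ∧ (∀ z ∈ Z, z ≠ 1 → centralizer ({z} : Set G) = Z) ∧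
      Nat.card (normalizer (Z : Set G)) = 12 := by
  obtain ⟨L, F, _, _, e, d⟩ := h.exists_lin hO (fun e => hM (top_le_iff.1 (e ▸ hN)))
  haveI := d.normal
  have h3 := d.three_lt
  have h8 := d.mod_eight
  rcases eq_or_ne (Fintype.card F) 5 with h5 | h5
  · exact d.five h hO h5
  exfalso
  refine d.not_two_cents h (by omega) (K := M.subgroupOf L) (fun e1 => hM ?_) fun z hz hz1 =>
    fun x hx => mem_subgroupOf.2 (hC z hz hz1 (mem_subgroupOf.1 hx))
  rw [← top_le_iff, ← h.sup_normalizer (L := L) d.le]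
  exact sup_le (subgroupOf_eq_top.1 e1) hN

end Klein

/-- Piece K, first half. -/
theorem kleinIneq : KleinIneq.{u} :=
  fun _ _ _ _ h4 hsq hodd hone hN _ hz hz1 => Klein.Setting.ineq ⟨h4, hsq, hodd, hone⟩ hN hz hz1

/-- Piece K, second half. -/
theorem kleinEmbedded : KleinEmbedded.{u} :=
  fun _ _ _ _ _ h4 hsq hodd hO hone hN hC hM =>
    Klein.Setting.embedded ⟨h4, hsq, hodd, hone⟩ hO hN hC hM

end Cfsg.Agent.L34Type
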