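import Cfsg.Agent.Lib.L34Type.NormalSub
import Cfsg.Agent.Lib.Coprime.Generation

/-!
# Minimal normal subgroups for Sylow 2-subgroups of type `L₃(4)`: the automizer of `R`

If `R` is a Sylow 2-subgroup of `N`, the automizer of `R` in `N` commutes with that of `S`, so
preserves the centre and has no fixed points.
-/

set_option autoImplicit false
set_option linter.unusedSectionVars false
set_option linter.style.haveILetI false

namespace Cfsg.Agent.L34Type

open Subgroup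

variable {G : Type*} [Group G] [Finite G] {S : Sylow 2 G} {R A N : Subgroup G}

/-- An automorphism of odd order mapping the involution `w` into `{w, z w}` fixes it. -/
theorem aut_fix {H : Type*} [Group H] {k : MulAut H} (hk : Odd (orderOf k)) {z w : H}
    (hz : k z = z) (hzz : z * z = 1) (h : k w = w ∨ k w = z * w) : k w = w := by
  rcases h with h | h
  · exact h
  obtain ⟨m, hm⟩ := hk
  have h1 : k = (k ^ 2) ^ (m + 1) := by
    rw [← pow_mul, show 2 * (m + 1) = 2 * m + 1 + 1 by ring, pow_succ, ← hm, pow_orderOf_eq_one,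
      one_mul]
  have h2 : ∀ n : ℕ, ((k ^ 2) ^ n) w = w := by
    intro n
    induction n with
    | zero => simp
    | succ n ih => rw [pow_succ, MulAut.mul_apply, sq, MulAut.mul_apply, h, map_mul, hz, h,
        ← mul_assoc, hzz, one_mul, ← sq, ih]
  rw [h1]
  exact h2 _

namespace MinData

variable (h : MinData S R A N) (hR : R ≤ N) (hA : A ⊓ N = R ⊓ A)
include h hR hA

theorem inf_eq_R : (S : Subgroup G) ⊓ N = R := by
  refine le_antisymm (fun x hx => ?_) (le_inf h.shape.R_le hR)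
  obtain ⟨r, hr, a, ha, rfl⟩ := h.shape.exists_mul_eq hx.1
  have haN : a ∈ A ⊓ N := ⟨ha, by simpa using N.mul_mem (N.inv_mem (hR hr)) hx.2⟩
  rw [hA] at haN
  exact mul_mem hr haN.1

/-- The elements of `N` normalising `R` preserve the centre and, if they fix an element of
`R`, centralise `R`. -/
theorem automizer {y : G} (hyN : y ∈ N) (hy : y ∈ normalizer (R : Set G)) :
    (∀ z ∈ R ⊓ A, y * z * y⁻¹ ∈ R ⊓ A) ∧
      ((∃ t ∈ R, t ≠ 1 ∧ y * t * y⁻¹ = t) → y ∈ centralizer (R : Set G)) := by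
  haveI : Fact (Nat.Prime 2) := ⟨Nat.prime_two⟩
  haveI := h.normal
  set M := normalizer (R : Set G) with hM
  let φ : M →* MulAut R := R.normalizerMonoidHom
  have hφ : ∀ (n : M) (x : R), ((φ n x : R) : G) = (n : G) * x * (n : G)⁻¹ := fun n x => rfl
  have hker : ∀ n : M, φ n = 1 ↔ (n : G) ∈ centralizer (R : Set G) := fun n => by
    rw [← MonoidHom.mem_ker, show φ.ker = _ from R.normalizerMonoidHom_ker, mem_subgroupOf]
  set K : Subgroup (MulAut R) := ((N ⊓ M).subgroupOf M).map φ with hK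
  set V : Subgroup (MulAut R) := ((S : Subgroup G).subgroupOf M).map φ with hV
  have hSM : (S : Subgroup G) ≤ M := h.shape.le_norm_R
  -- `K` has odd order
  have hKodd : Odd (Nat.card K) := by
    refine Nat.odd_iff.2 (Nat.two_dvd_ne_zero.1 fun hd => ?_)
    set L := (N ⊓ M).subgroupOf M
    have hRL : (R.subgroupOf M).subgroupOf L ≤ (φ.comp L.subtype).ker := fun x hx => by
      rw [MonoidHom.mem_ker, MonoidHom.comp_apply]
      exact (hker _).2 fun a ha => h.shape.R_comm ha (mem_subgroupOf.1 (mem_subgroupOf.1 hx))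
    have h1 : Nat.card K ∣ ((R.subgroupOf M).subgroupOf L).index := by
      refine dvd_trans (dvd_of_eq ?_) (index_dvd_of_le hRL)
      rw [Subgroup.index_ker, MonoidHom.range_comp, Subgroup.range_subtype]
    have h2 : ((R.subgroupOf M).subgroupOf L).index = R.relIndex (N ⊓ M) :=
      relIndex_subgroupOf inf_le_right
    rw [h2] at h1
    have h3 : R.relIndex (N ⊓ M) ∣ R.relIndex N :=
      Dvd.intro _ (relIndex_mul_relIndex _ _ _ (le_inf hR le_normalizer) inf_le_left)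
    have h4 : R.relIndex N = (S : Subgroup G).relIndex N := by
      rw [← h.inf_eq_R hR hA, inf_relIndex_right]
    exact S.not_dvd_index (((hd.trans h1).trans (h3.trans h4.dvd)).trans
      (relIndex_dvd_index (S : Subgroup G) N))
  have hord : ∀ k ∈ K, Odd (orderOf k) := fun k hk =>
    hKodd.of_dvd_nat (Subgroup.orderOf_dvd_natCard K hk)
  -- `V` is a four-group
  have hVsq : ∀ v ∈ V, v * v = 1 := by
    rintro _ ⟨s, hs, rfl⟩
    rw [← map_mul, hker]
    exact fun a ha => h.shape.R_comm ha (h.shape.sq _ (mem_subgroupOf.1 hs)).1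
  haveI hVc : IsMulCommutative V := ⟨⟨fun a b => Subtype.ext (by
    have hab := hVsq _ (mul_mem a.2 b.2)
    have ha' := hVsq _ a.2
    have hb' := hVsq _ b.2
    show (a : MulAut R) * b = b * a
    calc (a : MulAut R) * b = a * (((a : MulAut R) * b) * (a * b)) * b := by rw [hab, mul_one]
      _ = ((a : MulAut R) * a) * (b * a) * (b * b) := by group
      _ = b * a := by rw [ha', hb', one_mul, mul_one])⟩⟩
  obtain ⟨r₀, hr₀, hr₀A⟩ : ∃ r ∈ R, r ∉ A := by
    refine SetLike.not_le_iff_exists.1 fun hle' => ?_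
    have := Subgroup.card_le_of_le (le_inf le_rfl hle' : R ≤ R ⊓ A)
    rw [h.shape.R_card, h.shape.inf_card] at this
    omega
  have hV4 : Nat.card V = 4 := by
    set L := (S : Subgroup G).subgroupOf M
    have h1 : (φ.comp L.subtype).ker = (R.subgroupOf M).subgroupOf L := by
      ext x
      rw [MonoidHom.mem_ker, MonoidHom.comp_apply, hker, mem_subgroupOf, mem_subgroupOf]
      exact ⟨fun e => h.shape.cent_R r₀ hr₀ hr₀A _ (mem_subgroupOf.1 x.2) (e r₀ hr₀),
        fun e a ha => h.shape.R_comm ha e⟩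
    rw [hV, show (((S : Subgroup G).subgroupOf M).map φ) = (φ.comp L.subtype).range by
      rw [MonoidHom.range_comp, Subgroup.range_subtype], ← Subgroup.index_ker, h1]
    have h2 : ((R.subgroupOf M).subgroupOf L).index = R.relIndex (S : Subgroup G) :=
      relIndex_subgroupOf hSM
    have h3 := relIndex_mul_relIndex ⊥ R (S : Subgroup G) bot_le h.shape.R_le
    rw [relIndex_bot_left, relIndex_bot_left, h.shape.R_card, h.shape.card_S] at h3
    rw [h2]
    omega
  have hVnc : ¬ IsCyclic V := fun hc => by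
    obtain ⟨g, hg⟩ := hc.exists_generator
    have h1 := orderOf_eq_card_of_forall_mem_zpowers hg
    rw [hV4] at h1
    have h2 : orderOf g ∣ 2 := orderOf_dvd_of_pow_eq_one (by
      rw [sq]; exact Subtype.ext (hVsq _ g.2))
    rw [h1] at h2
    norm_num at h2
  have hVK : V ≤ normalizer (K : Set (MulAut R)) := by
    have key : ∀ v ∈ V, ∀ k ∈ K, v * k * v⁻¹ ∈ K := by
      rintro _ ⟨s, hs, rfl⟩ _ ⟨n, hn, rfl⟩
      exact ⟨s * n * s⁻¹, mem_subgroupOf.2 ⟨h.normal.conj_mem _ (mem_subgroupOf.1 hn).1 _,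
        (s * n * s⁻¹ : M).2⟩, by simp⟩
    intro v hv
    refine mem_normalizer_iff.2 fun k => ⟨key v hv k, fun hk => ?_⟩
    simpa [mul_assoc] using key v⁻¹ (inv_mem hv) _ hk
  -- elements centralising a non-trivial element of `V` preserve the centre
  have hpres : ∀ k : MulAut R, ∀ s : M, (s : G) ∈ (S : Subgroup G) → φ s ≠ 1 → k * φ s = φ s * k →
      ∀ x : R, (x : G) ∈ A → ((k x : R) : G) ∈ A := by
    intro k s hs hs1 hks x hx
    have hfix : φ s x = x := Subtype.ext (by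
      rw [hφ, ← h.shape.central _ ⟨x.2, hx⟩ _ hs, mul_inv_cancel_right])
    have h1 : φ s (k x) = k x := by
      rw [← MulAut.mul_apply, ← hks, MulAut.mul_apply, hfix]
    by_contra hne
    refine hs1 ((hker s).2 fun a ha => h.shape.R_comm ha
      (h.shape.cent_R _ (k x).2 hne _ hs ?_))
    exact (mul_inv_eq_iff_eq_mul.1 (by rw [← hφ, h1] :
      (s : G) * ((k x : R) : G) * (s : G)⁻¹ = (k x : R))).symm
  -- and are trivial if they fix it
  have htriv : ∀ k ∈ K, ∀ s : M, (s : G) ∈ (S : Subgroup G) → φ s ≠ 1 → k * φ s = φ s * k →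
      (∀ x : R, (x : G) ∈ A → k x = x) → k = 1 := by
    intro k hk s hs hs1 hks hfix
    refine MulEquiv.ext fun x => ?_
    show k x = x
    have hc : (((φ s x) * x : R) : G) ∈ R ⊓ A := h.shape.comm_mem hs x.2
    have h1 : φ s (k x) * k x = φ s x * x := by
      rw [← MulAut.mul_apply, ← hks, MulAut.mul_apply, ← map_mul, hfix _ hc.2]
    have h2 : φ s (k x * x) = k x * x := by
      apply Subtype.ext
      have e := congrArg (fun w : R => (w : G)) h1
      simp only [Subgroup.coe_mul] at e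
      rw [map_mul, Subgroup.coe_mul, Subgroup.coe_mul]
      have c1 := h.shape.R_comm (φ s (k x)).2 (k x).2
      calc ((φ s (k x) : R) : G) * (φ s x : R)
          = ((φ s (k x) : R) : G) * (((φ s x : R) : G) * x) * x := by
            rw [mul_assoc, mul_assoc, h.shape.R_sq _ x.2, mul_one]
        _ = ((φ s (k x) : R) : G) * (((φ s (k x) : R) : G) * (k x : R)) * x := by rw [e]
        _ = ((k x : R) : G) * x := by
            rw [← mul_assoc ((φ s (k x) : R) : G), h.shape.R_sq _ (φ s (k x)).2, one_mul]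
    have hzA : ((k x * x : R) : G) ∈ A := by
      by_contra hne
      refine hs1 ((hker s).2 fun a ha => h.shape.R_comm ha
        (h.shape.cent_R _ (k x * x).2 hne _ hs ?_))
      exact (mul_inv_eq_iff_eq_mul.1 (by rw [← hφ, h2] :
        (s : G) * ((k x * x : R) : G) * (s : G)⁻¹ = (k x * x : R))).symm
    refine aut_fix (hord k hk) (hfix _ hzA) (Subtype.ext (h.shape.R_sq _ (k x * x).2)) (Or.inr ?_)
    apply Subtype.ext
    rw [Subgroup.coe_mul, Subgroup.coe_mul, mul_assoc, h.shape.R_sq _ x.2, mul_one]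
  -- `K` centralises `V`
  have hcent : K ≤ centralizer (V : Set (MulAut R)) := by
    have hcop : (Nat.card V).Coprime (Nat.card K) := by
      rw [hV4, show (4 : ℕ) = 2 ^ 2 from rfl]
      exact Nat.Coprime.pow_left 2 (Nat.coprime_two_left.2 hKodd)
    rw [← Coprime.fixedGen_eq hVnc hVK hcop]
    refine iSup₂_le fun v hv => ?_
    obtain ⟨⟨s, hs, rfl⟩, hs1⟩ := hv
    rintro k ⟨hk, hkv⟩ w hw
    have hkv' : k * φ s = φ s * k := mem_centralizer_singleton_iff.1 hkv
    have hs' := mem_subgroupOf.1 hs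
    have hcomm : w * φ s = φ s * w :=
      congrArg Subtype.val (hVc.is_comm.comm ⟨w, hw⟩ ⟨φ s, ⟨s, hs, rfl⟩⟩)
    have hw' : w * k * w⁻¹ ∈ K := (mem_normalizer_iff.1 (hVK hw) k).1 hk
    have hj : w * k * w⁻¹ * k⁻¹ ∈ K := mul_mem hw' (inv_mem hk)
    have hjs : (w * k * w⁻¹ * k⁻¹) * φ s = φ s * (w * k * w⁻¹ * k⁻¹) :=
      ((((Commute.mul_left (Commute.mul_left hcomm hkv' : Commute (w * k) (φ s))
        (Commute.inv_left hcomm : Commute w⁻¹ (φ s))) : Commute (w * k * w⁻¹) (φ s)).mul_left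
        (Commute.inv_left hkv' : Commute k⁻¹ (φ s)))).eq
    obtain ⟨s', hs'', rfl⟩ := hw
    have hw_fix : ∀ x : R, (x : G) ∈ A → φ s' x = x := fun x hx => Subtype.ext (by
      rw [hφ, ← h.shape.central _ ⟨x.2, hx⟩ _ (mem_subgroupOf.1 hs''), mul_inv_cancel_right])
    have hinv_pres : ∀ x : R, (x : G) ∈ A → ((k⁻¹ x : R) : G) ∈ A := fun x hx =>
      hpres k⁻¹ s hs' hs1 (Commute.inv_left hkv').eq x hx
    have hj1 := htriv _ hj s hs' hs1 hjs (fun x hx => by
      have hw_inv : (φ s')⁻¹ (k⁻¹ x) = k⁻¹ x := by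
        rw [← MulEquiv.eq_symm_apply] ; exact (hw_fix _ (hinv_pres x hx)).symm
      rw [MulAut.mul_apply, MulAut.mul_apply, MulAut.mul_apply, hw_inv, MulAut.apply_inv_self,
        hw_fix x hx])
    exact mul_inv_eq_one.1 hj1 |> mul_inv_eq_iff_eq_mul.1
  -- conclusion
  have hyK : φ ⟨y, hy⟩ ∈ K := ⟨⟨y, hy⟩, mem_subgroupOf.2 ⟨hyN, hy⟩, rfl⟩
  obtain ⟨a₀, ha₀, ha₀R⟩ : ∃ a ∈ A, a ∉ R := by
    refine SetLike.not_le_iff_exists.1 fun hle' => ?_
    have := Subgroup.card_le_of_le (le_inf hle' le_rfl : A ≤ R ⊓ A)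
    rw [h.shape.A_card, h.shape.inf_card] at this
    omega
  have hne1 : ∀ a ∈ (S : Subgroup G), a ∉ R → ∀ ha : a ∈ M, φ ⟨a, ha⟩ ≠ 1 := fun a haS haR ha e =>
    haR (h.shape.cent_R r₀ hr₀ hr₀A a haS ((hker _).1 e r₀ hr₀))
  have hcomm : ∀ a (ha : a ∈ (S : Subgroup G)),
      φ ⟨y, hy⟩ * φ ⟨a, hSM ha⟩ = φ ⟨a, hSM ha⟩ * φ ⟨y, hy⟩ := fun a ha =>
    (hcent hyK _ ⟨⟨a, hSM ha⟩, mem_subgroupOf.2 ha, rfl⟩).symm
  have hZ : ∀ z ∈ R ⊓ A, y * z * y⁻¹ ∈ R ⊓ A := fun z hz =>
    ⟨(mem_normalizer_iff.1 hy z).1 hz.1, hpres _ _ (h.shape.A_le ha₀)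
      (hne1 a₀ (h.shape.A_le ha₀) ha₀R _) (hcomm a₀ (h.shape.A_le ha₀)) ⟨z, hz.1⟩ hz.2⟩
  refine ⟨hZ, fun ⟨t, ht, ht1, hfix⟩ => (hker ⟨y, hy⟩).1 ?_⟩
  have hfix' : φ ⟨y, hy⟩ ⟨t, ht⟩ = ⟨t, ht⟩ := Subtype.ext hfix
  -- a fixed element of the centre
  obtain ⟨z, hz, hz1, hzfix⟩ : ∃ z : R, (z : G) ∈ A ∧ z ≠ 1 ∧ φ ⟨y, hy⟩ z = z := by
    by_cases htA : t ∈ A
    · exact ⟨⟨t, ht⟩, htA, fun e => ht1 (congrArg Subtype.val e), hfix'⟩
    · set a' : M := ⟨a₀, hSM (h.shape.A_le ha₀)⟩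
      refine ⟨φ a' ⟨t, ht⟩ * (⟨t, ht⟩ : R), ?_, fun e => ?_, ?_⟩
      · exact (h.shape.comm_mem (h.shape.A_le ha₀) ht).2
      · have e' : a₀ * t * a₀⁻¹ * t = 1 := congrArg Subtype.val e
        have e2 : a₀ * t * a₀⁻¹ = t := (eq_inv_of_mul_eq_one_left e').trans (h.shape.R_inv ht)
        exact ha₀R (h.shape.cent_R t ht htA a₀ (h.shape.A_le ha₀)
          (mul_inv_eq_iff_eq_mul.1 e2).symm)
      · rw [map_mul, ← MulAut.mul_apply, hcomm a₀ (h.shape.A_le ha₀), MulAut.mul_apply, hfix']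
  refine htriv _ hyK ⟨a₀, hSM (h.shape.A_le ha₀)⟩ (h.shape.A_le ha₀)
    (hne1 a₀ (h.shape.A_le ha₀) ha₀R _) (hcomm a₀ (h.shape.A_le ha₀)) fun x hx => ?_
  by_cases hxz : x = z
  · rw [hxz, hzfix]
  by_cases hx1 : x = 1
  · rw [hx1, map_one]
  have hzne : (z : G) ≠ 1 := fun e => hz1 (Subtype.ext e)
  have himg : ((φ ⟨y, hy⟩ x : R) : G) ∈ R ⊓ A := hZ x ⟨x.2, hx⟩
  rcases four_elems h.shape ⟨z.2, hz⟩ hzne ⟨x.2, hx⟩ (fun e => hx1 (Subtype.ext e))
    (fun e => hxz (Subtype.ext e)) himg with e | e | e | e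
  · exact absurd ((map_eq_one_iff _ (φ ⟨y, hy⟩).injective).1 (Subtype.ext e)) hx1
  · exact absurd ((φ ⟨y, hy⟩).injective ((Subtype.ext e : φ ⟨y, hy⟩ x = z).trans hzfix.symm)) hxz
  · exact Subtype.ext e
  · exact aut_fix (hord _ hyK) hzfix (Subtype.ext (h.shape.R_sq _ z.2)) (Or.inr (Subtype.ext e))

end MinData

end Cfsg.Agent.L34Type
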