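import Cfsg.Agent.Lib.L34Type.NormalCases

/-!
# Minimal normal subgroups for Sylow 2-subgroups of type `L₃(4)`: only central involutions

If the involutions of `S ⊓ N` are the central ones, then `S ⊓ N` is the centre, which Glauberman's
`Z*`-theorem forbids, or of type `(4, 4)`, which Brauer's theorem forbids.
-/

set_option autoImplicit false
set_option linter.unusedSectionVars false
set_option linter.style.haveILetI false

namespace Cfsg.Agent.L34Type

open Subgroup
open scoped commutatorElement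

variable {G : Type*} [Group G] [Finite G] {S : Sylow 2 G} {R A N : Subgroup G}

namespace MinData

/-- The Sylow 2-subgroup of `N` is not the centre. -/
theorem not_le_Z (h : MinData S R A N) : ¬ (S : Subgroup G) ⊓ N ≤ R ⊓ A := by
  intro hle
  classical
  haveI : Fact (Nat.Prime 2) := ⟨Nat.prime_two⟩
  haveI := h.normal
  obtain ⟨r, hr, hrA⟩ : ∃ r ∈ R, r ∉ A := by
    refine SetLike.not_le_iff_exists.1 fun hle' => ?_
    have := Subgroup.card_le_of_le (le_inf le_rfl hle' : R ≤ R ⊓ A)
    rw [h.shape.R_card, h.shape.inf_card] at this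
    omega
  have hrr := h.shape.R_sq r hr
  have hrN : r ∉ N := fun e => hrA (hle ⟨h.shape.R_le hr, e⟩).2
  have hr2 : orderOf r = 2 :=
    orderOf_eq_prime (by rw [sq, hrr]) fun e => hrA (e ▸ one_mem A)
  have hzp : Nat.card (zpowers r) = 2 := by rw [Nat.card_zpowers, hr2]
  have hmem : ∀ x ∈ zpowers r, x = 1 ∨ x = r := by
    intro x hx
    rw [← mem_powers_iff_mem_zpowers, (isOfFinOrder_of_finite r).mem_powers_iff_mem_range_orderOf,
      hr2, Finset.mem_image] at hx
    obtain ⟨k, hk, rfl⟩ := hx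
    rw [Finset.mem_range] at hk
    interval_cases k <;> simp
  have hdisj : ∀ K : Subgroup G, r ∉ K → Disjoint K (zpowers r) := fun K hK =>
    disjoint_iff_inf_le.2 fun x hx => by
      rcases hmem x hx.2 with e | e
      · exact mem_bot.2 e
      · exact absurd (e ▸ hx.1) hK
  set E := (R ⊓ A) ⊔ zpowers r with hEdef
  have hnorm : zpowers r ≤ normalizer ((R ⊓ A : Subgroup G) : Set G) :=
    zpowers_le.2 (mem_normalizer_iff.2 fun x => by
      have key : ∀ x ∈ R ⊓ A, r * x * r⁻¹ ∈ R ⊓ A := fun x hx => by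
        rwa [← h.shape.central x hx r (h.shape.R_le hr), mul_inv_cancel_right]
      exact ⟨key x, mem_of_conj_mem key⟩)
  have hE : Eight (S : Subgroup G) R A E :=
    ⟨h.shape, le_sup_left, sup_le inf_le_left (zpowers_le.2 hr), by
      rw [hEdef, Coprime.card_sup_of_disjoint hnorm (hdisj _ fun e => hrA e.2), h.shape.inf_card,
        hzp]⟩
  set H := N ⊔ zpowers r with hHdef
  have hH : Nat.card H = Nat.card N * 2 := by
    rw [hHdef, Coprime.card_sup_of_disjoint (by rw [normalizer_eq_top]; exact le_top) (hdisj _ hrN),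
      hzp]
  have hEH : E ≤ H := sup_le_sup_right h.Z_le _
  have hEp : IsPGroup 2 (E.subgroupOf H) :=
    (IsPGroup.of_card (n := 3) (by rw [hE.card]; norm_num) : IsPGroup 2 E).comap_of_injective
      H.subtype H.subtype_injective
  have hEi : ¬ 2 ∣ (E.subgroupOf H).index := by
    intro hd
    have h1 := (E.subgroupOf H).card_mul_index
    rw [Nat.card_congr (subgroupOfEquivOfLe hEH).toEquiv, hE.card, hH] at h1
    obtain ⟨P, hP⟩ := h.exists_sylow
    have h2 := (P : Subgroup N).card_mul_index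
    have h3 : Nat.card (P : Subgroup N) = 4 := by
      rw [hP, ← Subgroup.inf_subgroupOf_right (S : Subgroup G) N,
        Nat.card_congr (subgroupOfEquivOfLe inf_le_right).toEquiv, ← h.shape.inf_card]
      exact congrArg (fun K : Subgroup G => Nat.card K)
        (le_antisymm hle (le_inf h.shape.Z_le_S h.Z_le))
    rw [h3] at h2
    obtain ⟨q, hq⟩ := hd
    refine P.not_dvd_index ⟨q, ?_⟩
    rw [hq] at h1
    omega
  set Q := hEp.toSylow hEi
  have hNH : N ≤ H := le_sup_left
  haveI : (N.subgroupOf H).Normal := inferInstance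
  have hNi : (N.subgroupOf H).index = 2 := by
    have h1 := (N.subgroupOf H).card_mul_index
    rw [Nat.card_congr (subgroupOfEquivOfLe hNH).toEquiv, hH] at h1
    exact Nat.eq_of_mul_eq_mul_left Nat.card_pos h1
  have hO : ∀ M : Subgroup H, M.Normal → Odd (Nat.card M) → M = ⊥ := by
    intro M hM hodd
    have hMN : M ≤ N.subgroupOf H := by
      intro x hx
      obtain ⟨k, hk⟩ : Odd (orderOf x) :=
        hodd.of_dvd_nat (Subgroup.orderOf_dvd_natCard M hx)
      have h1 : x ^ (N.subgroupOf H).index ∈ N.subgroupOf H := Subgroup.pow_index_mem _ x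
      rw [hNi] at h1
      have h2 : x = (x ^ 2) ^ (k + 1) := by
        rw [← pow_mul, show 2 * (k + 1) = 2 * k + 1 + 1 by ring, pow_succ, ← hk,
          pow_orderOf_eq_one, one_mul]
      rw [h2]
      exact pow_mem h1 _
    have hb := h.no_odd (M.comap (Subgroup.inclusion hNH)) (hM.comap _) ?_
    · refine (Subgroup.eq_bot_iff_forall M).2 fun x hx => ?_
      have hxN : (x : G) ∈ N := mem_subgroupOf.1 (hMN hx)
      have hx' : (⟨x, hxN⟩ : N) ∈ M.comap (Subgroup.inclusion hNH) := hx
      rw [hb, mem_bot] at hx'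
      exact Subtype.ext (show (x : G) = ((1 : H) : G) from congrArg (fun y : N => (y : G)) hx')
    · refine hodd.of_dvd_nat ?_
      exact Subgroup.card_comap_dvd_of_injective _ _ (Subgroup.inclusion_injective hNH)
  have hZ : center H = ⊥ := by
    refine (Subgroup.eq_bot_iff_forall _).2 fun x hx => Subtype.ext ?_
    have : (x : G) ∈ centralizer (N : Set G) := fun y hy =>
      congrArg Subtype.val (mem_center_iff.1 hx ⟨y, hNH hy⟩)
    rw [h.centralizer_eq_bot, mem_bot] at this
    exact this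
  refine not_normalizer_le hO hZ Q (fun x hx => Subtype.ext (h.shape.R_sq x
    (hE.le_R (mem_subgroupOf.1 hx)))) ((R ⊓ A).subgroupOf H) ?_ fun g hg => ?_
  · show ((R ⊓ A).subgroupOf H).relIndex (E.subgroupOf H) = 2
    rw [relIndex_subgroupOf hEH]
    have h1 := ((R ⊓ A).subgroupOf E).card_mul_index
    rw [Nat.card_congr (subgroupOfEquivOfLe hE.Z_le).toEquiv, h.shape.inf_card, hE.card] at h1
    rw [Subgroup.relIndex]
    omega
  · have hgE : (g : G) ∈ normalizer (E : Set G) := by
      have key : ∀ x ∈ E, (g : G) * x * (g : G)⁻¹ ∈ E := fun x hx =>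
        mem_subgroupOf.1 ((mem_normalizer_iff.1 hg ⟨x, hEH hx⟩).1 (mem_subgroupOf.2 hx))
      exact mem_normalizer_iff.2 fun x => ⟨key x, mem_of_conj_mem key⟩
    refine mem_normalizer_iff.2 fun x => ?_
    rw [mem_subgroupOf, mem_subgroupOf]
    exact mem_normalizer_iff.1 (hE.normalizer_le hgE) x

/-- Both intersections are not the centre. -/
theorem not_four_four (h : MinData S R A N) (hR : Nat.card ↥(R ⊓ N) = 4)
    (hA : Nat.card ↥(A ⊓ N) = 4) : False := by
  classical
  haveI : Fact (Nat.Prime 2) := ⟨Nat.prime_two⟩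
  set T := (S : Subgroup G) ⊓ N with hT
  set Z := R ⊓ A with hZdef
  have hRN := h.inf_eq_of_card hR
  have hAN : A ⊓ N = R ⊓ A := (h.symm.inf_eq_of_card hA).trans (inf_comm A R)
  have hinv : ∀ x ∈ T, x * x = 1 → x ∈ Z := by
    intro x hx hxx
    rcases h.shape.involutions x hx.1 hxx with e | e
    · rw [hZdef, ← hRN]; exact ⟨e, hx.2⟩
    · rw [hZdef, ← hAN]; exact ⟨e, hx.2⟩
  have hfus : ∀ z ∈ R ⊓ A, z ≠ 1 → ∀ g ∈ N, g * z * g⁻¹ ∈ (S : Subgroup G) →
      g * z * g⁻¹ ∈ R ⊓ A := fun z hz _ g hg hgS =>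
    hinv _ ⟨hgS, h.normal.conj_mem z (h.Z_le hz) g⟩ (by
      rw [show (g * z * g⁻¹) * (g * z * g⁻¹) = g * (z * z) * g⁻¹ by group,
        h.shape.R_sq z hz.1, mul_one, mul_inv_cancel])
  obtain ⟨b, hb⟩ := h.exists_rotation hfus
  obtain ⟨u, hu, huZ⟩ := SetLike.not_le_iff_exists.1 h.not_le_Z
  have hZT : Z ≤ T := le_inf h.shape.Z_le_S h.Z_le
  set v := b * u * b⁻¹ with hv
  have hvT : v ∈ T := hb.conj_T u hu
  set w := b * v * b⁻¹ with hw
  have hwT : w ∈ T := hb.conj_T v hvT
  set c := u * u with hc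
  have hcZ : c ∈ Z := h.shape.sq u hu.1
  have hc1 : c ≠ 1 := fun e => huZ (hinv u hu e)
  set d := b * c * b⁻¹ with hd
  have hdv : v * v = d := by rw [hv, hd, hc]; group
  have hdw : w * w = c * d := by
    rw [show w * w = b * (v * v) * b⁻¹ by rw [hw]; group, hdv]
    exact hb.image_two hcZ hc1
  have hd1 : d ≠ 1 := hb.ne_one hc1
  have hdc : d ≠ c := hb.move c hcZ hc1
  have hdZ : d ∈ Z := hb.conj_Z c hcZ
  have hcd1 : c * d ≠ 1 := fun e =>
    hdc (mul_left_cancel (e.trans (h.shape.R_sq c hcZ.1).symm))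
  have hsq : ∀ x ∈ T, ∀ y ∈ T, x⁻¹ * y ∈ Z → x * x = y * y := by
    intro x hx y _ hxy
    have e := h.shape.central _ hxy x hx.1
    calc x * x = x * x * ((x⁻¹ * y) * (x⁻¹ * y)) := by rw [h.shape.R_sq _ hxy.1, mul_one]
      _ = x * (x * (x⁻¹ * y)) * (x⁻¹ * y) := by group
      _ = x * ((x⁻¹ * y) * x) * (x⁻¹ * y) := by rw [e]
      _ = y * y := by group
  have hvZ : v ∉ Z := fun e => hd1 (hdv ▸ h.shape.R_sq v e.1)
  have hwZ : w ∉ Z := fun e => hcd1 (hdw ▸ h.shape.R_sq w e.1)
  -- the four cosets of the centre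
  let rep : Fin 4 → T := ![1, ⟨u, hu⟩, ⟨v, hvT⟩, ⟨w, hwT⟩]
  have hrep : ∀ i j, ((rep i : G))⁻¹ * (rep j : G) ∈ Z → i = j := by
    intro i j hij
    have e := hsq _ (rep i).2 _ (rep j).2 hij
    fin_cases i <;> fin_cases j <;> first | rfl | (exfalso; simp [rep] at e hij ⊢; first
      | exact huZ hij
      | exact hvZ hij
      | exact hwZ hij
      | (rw [hdv] at e; first | exact hdc e.symm | exact hdc e)
      | (rw [hdw] at e; first
          | exact hd1 (mul_eq_left.1 e.symm) | exact hd1 (mul_eq_left.1 e))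
      | (rw [hdv, hdw] at e; first
          | exact hc1 (mul_eq_right.1 e.symm) | exact hc1 (mul_eq_right.1 e)))
  have hidx : Z.relIndex T ≤ 4 := by
    have h1 := relIndex_mul_relIndex ⊥ Z T bot_le hZT
    have h2 := relIndex_mul_relIndex ⊥ (A ⊓ T) T bot_le inf_le_right
    rw [inf_relIndex_right, relIndex_bot_left, relIndex_bot_left] at h2
    rw [relIndex_bot_left, relIndex_bot_left, h.shape.inf_card] at h1
    have h3 : A.relIndex T ≤ A.relIndex (S : Subgroup G) :=
      relIndex_le_of_le_right inf_le_left Subgroup.index_ne_zero_of_finite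
    have h4 : A.relIndex (S : Subgroup G) = 4 := by
      have := relIndex_mul_relIndex ⊥ A (S : Subgroup G) bot_le h.shape.A_le
      rw [relIndex_bot_left, relIndex_bot_left, h.shape.A_card, h.shape.card_S] at this
      omega
    have h5 : Nat.card ↥(A ⊓ T) ≤ 4 :=
      hA ▸ Subgroup.card_le_of_le (le_inf inf_le_left (inf_le_right.trans inf_le_right))
    nlinarith
  let q : Fin 4 → T ⧸ Z.subgroupOf T := fun i => QuotientGroup.mk (rep i)
  have hqi : Function.Injective q := fun i j e => hrep i j (by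
    simpa [mem_subgroupOf] using QuotientGroup.eq.1 e)
  have hqb : Function.Bijective q := by
    refine (Nat.bijective_iff_injective_and_card q).2 ⟨hqi, ?_⟩
    refine le_antisymm (Nat.card_le_card_of_injective q hqi) ?_
    rw [Nat.card_fin]
    exact hidx
  have hcardT : Nat.card T = 16 := by
    rw [Subgroup.card_eq_card_quotient_mul_card_subgroup (Z.subgroupOf T),
      ← Nat.card_eq_of_bijective q hqb, Nat.card_fin,
      Nat.card_congr (subgroupOfEquivOfLe hZT).toEquiv, h.shape.inf_card]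
  have huv : (u * v) * (u * v) = c * d := by
    obtain ⟨i, hi⟩ := hqb.2 (QuotientGroup.mk ⟨u * v, mul_mem hu hvT⟩)
    have hi' : ((rep i : G))⁻¹ * (u * v) ∈ Z := by
      simpa [mem_subgroupOf] using QuotientGroup.eq.1 hi
    fin_cases i <;> simp [rep] at hi'
    · exfalso
      refine hdc ?_
      have e : u⁻¹ * v ∈ Z := by
        rw [show u⁻¹ * v = (u * u)⁻¹ * (u * v) by group]
        exact mul_mem (inv_mem hcZ) hi'
      rw [← hdv, ← hsq u hu v hvT e]
    · exact absurd hi' hvZ
    · exfalso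
      refine huZ ?_
      have e := h.shape.central _ hi' v hvT.1
      have : u = v⁻¹ * (u * v) := by
        calc u = v * (v⁻¹ * (u * v)) * v⁻¹ := by group
          _ = (v⁻¹ * (u * v)) * v * v⁻¹ := by rw [e]
          _ = v⁻¹ * (u * v) := by group
      rw [this]
      exact hi'
    · rw [← hsq w hwT (u * v) (mul_mem hu hvT) hi', hdw]
  have hcomm : u * v = v * u := by
    have e : u * (u * v) * v = u * (v * u) * v := by
      calc u * (u * v) * v = (u * u) * (v * v) := by group
        _ = (u * v) * (u * v) := by rw [huv, hdv]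
        _ = u * (v * u) * v := by group
    exact mul_left_cancel (mul_right_cancel e)
  have hu4 : u ^ 4 = 1 := by
    rw [show (4 : ℕ) = 2 * 2 from rfl, pow_mul, sq, sq, ← hc, h.shape.R_sq c hcZ.1]
  have hv4 : v ^ 4 = 1 := by
    rw [show (4 : ℕ) = 2 * 2 from rfl, pow_mul, sq, sq, hdv, h.shape.R_sq d hdZ.1]
  have hmod : ∀ x : G, x ^ 4 = 1 → ∀ a b : ZMod 4, x ^ (a + b).val = x ^ a.val * x ^ b.val := by
    intro x hx a b
    rw [← pow_add, ZMod.val_add, ← pow_eq_pow_mod _ hx]
  let f : Multiplicative (ZMod (2 ^ 2) × ZMod (2 ^ 2)) →* T :=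
    { toFun := fun p => ⟨u ^ (p.toAdd.1.val) * v ^ (p.toAdd.2.val),
        mul_mem (pow_mem hu _) (pow_mem hvT _)⟩
      map_one' := Subtype.ext (by simp)
      map_mul' := fun p p' => Subtype.ext (by
        show u ^ (p.toAdd.1 + p'.toAdd.1).val * v ^ (p.toAdd.2 + p'.toAdd.2).val =
          u ^ p.toAdd.1.val * v ^ p.toAdd.2.val * (u ^ p'.toAdd.1.val * v ^ p'.toAdd.2.val)
        rw [hmod u hu4, hmod v hv4]
        have e : u ^ p'.toAdd.1.val * v ^ p.toAdd.2.val = v ^ p.toAdd.2.val * u ^ p'.toAdd.1.val :=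
          (Commute.pow_pow hcomm _ _).eq
        calc u ^ p.toAdd.1.val * u ^ p'.toAdd.1.val * (v ^ p.toAdd.2.val * v ^ p'.toAdd.2.val)
            = u ^ p.toAdd.1.val * (u ^ p'.toAdd.1.val * v ^ p.toAdd.2.val) * v ^ p'.toAdd.2.val := by
              group
          _ = u ^ p.toAdd.1.val * (v ^ p.toAdd.2.val * u ^ p'.toAdd.1.val) * v ^ p'.toAdd.2.val := by
              rw [e]
          _ = _ := by group) }
  have huvZ : u * v ∉ Z := fun e => hcd1 (huv ▸ h.shape.R_sq _ e.1)
  have hf : Function.Injective f := by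
    rw [injective_iff_map_eq_one]
    intro p hp
    have e : u ^ p.toAdd.1.val * v ^ p.toAdd.2.val = 1 := congrArg Subtype.val hp
    suffices H : p.toAdd.1.val = 0 ∧ p.toAdd.2.val = 0 by
      have e1 := (ZMod.val_eq_zero _).1 H.1
      have e2 := (ZMod.val_eq_zero _).1 H.2
      exact Multiplicative.toAdd.injective (Prod.ext e1 e2)
    have hi : p.toAdd.1.val < 4 := ZMod.val_lt p.toAdd.1
    have hj : p.toAdd.2.val < 4 := ZMod.val_lt p.toAdd.2
    generalize p.toAdd.1.val = i, p.toAdd.2.val = j at e hi hj ⊢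
    have hred : ∀ x : G, x * x ∈ Z → ∀ k : ℕ, ∃ z ∈ Z, x ^ k = x ^ (k % 2) * z := fun x hx k => by
      refine ⟨(x * x) ^ (k / 2), pow_mem hx _, ?_⟩
      rw [← sq, ← pow_mul, ← pow_add, Nat.mod_add_div]
    obtain ⟨z, hz, ez⟩ := hred u hcZ i
    obtain ⟨z', hz', ez'⟩ := hred v (hdv ▸ hdZ) j
    have hz2 : u ^ (i % 2) * v ^ (j % 2) ∈ Z := by
      have h1 : u ^ (i % 2) * v ^ (j % 2) * (z * z') = 1 := by
        rw [← e, ez, ez']
        have ec := h.shape.central z hz _ ((S : Subgroup G).pow_mem hvT.1 (j % 2))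
        calc u ^ (i % 2) * v ^ (j % 2) * (z * z')
            = u ^ (i % 2) * (v ^ (j % 2) * z) * z' := by group
          _ = u ^ (i % 2) * (z * v ^ (j % 2)) * z' := by rw [ec]
          _ = u ^ (i % 2) * z * (v ^ (j % 2) * z') := by group
      rw [eq_inv_of_mul_eq_one_left h1]
      exact inv_mem (mul_mem hz hz')
    interval_cases i <;> interval_cases j <;> first
      | exact ⟨rfl, rfl⟩
      | (exfalso; norm_num at hz2; first | exact huZ hz2 | exact hvZ hz2 | exact huvZ hz2)
      | (exfalso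
         simp [pow_succ, mul_assoc] at e
         first
           | exact hc1 e
           | exact hd1 (hdv ▸ e)
           | (rw [← mul_assoc, ← hc, hdv] at e; exact hcd1 e))
  have hbij : Function.Bijective f := (Nat.bijective_iff_injective_and_card f).2 ⟨hf, by
    rw [hcardT, Nat.card_congr Multiplicative.toAdd, Nat.card_prod, Nat.card_zmod]; norm_num⟩
  obtain ⟨P, hP⟩ := h.exists_sylow
  let e₁ : (P : Subgroup N) ≃* T :=
    ((MulEquiv.subgroupCongr (hP.trans (Subgroup.inf_subgroupOf_right (S : Subgroup G) N).symm)).trans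
      (subgroupOfEquivOfLe inf_le_right))
  obtain ⟨hPn, -, hi | hi⟩ := S0949.result P 2 le_rfl
    (e₁.trans (MulEquiv.ofBijective f hbij).symm) h.no_odd
  · have htop : (P : Subgroup N) = ⊤ := index_eq_one.1 hi
    have hN : Nat.card N = 16 := by
      rw [← Subgroup.card_top (G := N), ← htop, Nat.card_congr e₁.toEquiv, hcardT]
    haveI : Nontrivial N := N.nontrivial_iff_ne_bot.2 h.ne_bot
    have := (IsPGroup.of_card (p := 2) (n := 4) (by rw [hN]; norm_num) : IsPGroup 2 N).center_nontrivial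
    rw [h.center_eq_bot] at this
    exact not_nontrivial _ this
  · haveI := hPn
    have hq : Nat.card (N ⧸ (P : Subgroup N)) = 3 := hi
    haveI : Fact (Nat.Prime 3) := ⟨Nat.prime_three⟩
    haveI := isCyclic_of_prime_card hq
    have hle : ⁅(⊤ : Subgroup N), (⊤ : Subgroup N)⁆ ≤ (P : Subgroup N) := commutator_le.2 fun x _ y _ => by
      rw [← QuotientGroup.eq_one_iff]
      letI := IsCyclic.commGroup (α := N ⧸ (P : Subgroup N))
      show QuotientGroup.mk' (P : Subgroup N) ⁅x, y⁆ = 1
      rw [map_commutatorElement]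
      exact commutatorElement_eq_one_iff_commute.2 (Commute.all _ _)
    rw [h.perfect, top_le_iff] at hle
    rw [hle, index_top] at hi
    omega

/-- The possible intersections. -/
theorem inf_cases (h : MinData S R A N) :
    (R ≤ N ∧ A ≤ N) ∨ (R ≤ N ∧ A ⊓ N = R ⊓ A) ∨ (A ≤ N ∧ R ⊓ N = R ⊓ A) := by
  rcases h.card_inf with hR | hR | hR <;> rcases h.symm.card_inf with hA | hA | hA
  · exact (h.not_four_four hR hA).elim
  · exact (h.symm.not_eight_small hA (Or.inl hR)).elim
  · exact Or.inr (Or.inr ⟨h.symm.R_le_of_card hA, h.inf_eq_of_card hR⟩)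
  · exact (h.not_eight_small hR (Or.inl hA)).elim
  · exact (h.not_eight_small hR (Or.inr hA)).elim
  · exact (h.symm.not_R_eight (h.symm.R_le_of_card hA) hR).elim
  · exact Or.inr (Or.inl ⟨h.R_le_of_card hR, (h.symm.inf_eq_of_card hA).trans (inf_comm A R)⟩)
  · exact (h.not_R_eight (h.R_le_of_card hR) hA).elim
  · exact Or.inl ⟨h.R_le_of_card hR, h.symm.R_le_of_card hA⟩

end MinData

end Cfsg.Agent.L34Type
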