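import Cfsg.Agent.Lib.L34Type.Interface
import Cfsg.Agent.Lib.L34Type.NormalFour
import Cfsg.Agent.Lib.L34Type.NormalAutomizer
import Cfsg.Agent.Lib.CIT.GenModelsThree
import Cfsg.Agent.Lib.Hall.MinimalNormal
import Cfsg.Agent.S3214

/-!
# Sylow 2-subgroups of type `L₃(4)`: minimal normal subgroups

A minimal normal subgroup of a group without cores is simple and contains the Sylow 2-subgroup.
-/

set_option autoImplicit false
set_option linter.unusedSectionVars false
set_option linter.style.haveILetI false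

namespace Cfsg.Agent.L34Type

open Subgroup
open scoped commutatorElement Pointwise

universe u

/-- A commutative normal subgroup of a group without 2-core has odd order. -/
theorem odd_of_comm {H : Type*} [Group H] [Finite H]
    (h2 : ∀ Q : Subgroup H, Q.Normal → IsPGroup 2 Q → Q = ⊥) (M : Subgroup H) [hM : M.Normal]
    [hc : IsMulCommutative M] : Odd (Nat.card M) := by
  haveI : Fact (Nat.Prime 2) := ⟨Nat.prime_two⟩
  by_contra hodd
  obtain ⟨x, hx⟩ := exists_prime_orderOf_dvd_card' (G := M) 2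
    (even_iff_two_dvd.1 (Nat.not_odd_iff_even.1 hodd))
  have hcomm : ∀ a ∈ M, ∀ b ∈ M, a * b = b * a := fun a ha b hb =>
    congrArg Subtype.val (hc.is_comm.comm (⟨a, ha⟩ : M) ⟨b, hb⟩)
  let Q : Subgroup H :=
    { carrier := {x | x ∈ M ∧ x * x = 1}
      one_mem' := ⟨one_mem M, one_mul 1⟩
      mul_mem' := fun {a b} ha hb => ⟨mul_mem ha.1 hb.1, by
        calc a * b * (a * b) = a * (b * a) * b := by group
          _ = (a * a) * (b * b) := by rw [← hcomm a ha.1 b hb.1]; group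
          _ = 1 := by rw [ha.2, hb.2, one_mul]⟩
      inv_mem' := fun {a} ha => ⟨inv_mem ha.1, by rw [← _root_.mul_inv_rev, ha.2, inv_one]⟩ }
  have hQn : Q.Normal := ⟨fun a ha g => ⟨hM.conj_mem a ha.1 g, by
    rw [show g * a * g⁻¹ * (g * a * g⁻¹) = g * (a * a) * g⁻¹ by group, ha.2, mul_one,
      mul_inv_cancel]⟩⟩
  have hx2 : x * x = 1 := by rw [← sq, ← hx, pow_orderOf_eq_one]
  have hxQ : (x : H) ∈ Q := ⟨x.2, congrArg Subtype.val hx2⟩
  rw [h2 Q hQn fun a => ⟨1, Subtype.ext (by simpa [sq] using a.2.2)⟩, mem_bot] at hxQ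
  rw [show x = 1 from Subtype.ext hxQ, orderOf_one] at hx
  omega

variable {G : Type u} [Group G] [Finite G] {S : Sylow 2 G} {R A N : Subgroup G}

namespace MinData

/-- A non-trivial normal subgroup of `N` meets `S` non-trivially. -/
theorem exists_mem_inf (h : MinData S R A N) (M : Subgroup N) [hM : M.Normal] (hM0 : M ≠ ⊥) :
    ∃ x : N, x ∈ M ∧ (x : G) ∈ (S : Subgroup G) ∧ x ≠ 1 := by
  obtain ⟨P, hP⟩ := h.exists_sylow
  by_contra! hno
  refine hM0 (h.no_odd M hM ?_)
  have hbot : (P : Subgroup N) ⊓ M = ⊥ :=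
    eq_bot_iff.2 fun x hx => mem_bot.2 (hno x hx.2 (by
      have h1 : x ∈ (S : Subgroup G).subgroupOf N := hP ▸ hx.1
      exact mem_subgroupOf.1 h1))
  have h1 : (P : Subgroup N).relIndex M = Nat.card M := by
    rw [← inf_relIndex_right, hbot, relIndex_bot_left]
  exact Nat.odd_iff.2 (Nat.two_dvd_ne_zero.1 fun hd =>
    P.not_dvd_index ((h1 ▸ hd).trans (relIndex_dvd_index _ M)))

/-- Two normal subgroups of `N` meeting trivially, if `S ≤ N`. -/
theorem no_pair (h : MinData S R A N) (hSN : (S : Subgroup G) ≤ N) (K C : Subgroup N)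
    [hK : K.Normal] [hC : C.Normal] (hK0 : K ≠ ⊥) (hC0 : C ≠ ⊥) (hKC : K ⊓ C = ⊥) : False := by
  haveI : Fact (Nat.Prime 2) := ⟨Nat.prime_two⟩
  obtain ⟨k, hk, hkS, hk1⟩ := h.exists_mem_inf K hK0
  obtain ⟨c, hc, hcS, hc1⟩ := h.exists_mem_inf C hC0
  set DK := (S : Subgroup G) ⊓ K.map N.subtype with hDK
  set DC := (S : Subgroup G) ⊓ C.map N.subtype with hDC
  have hnorm : ∀ M : Subgroup N, M.Normal → ∀ s ∈ (S : Subgroup G),
      ∀ t ∈ (S : Subgroup G) ⊓ M.map N.subtype, s * t * s⁻¹ ∈ (S : Subgroup G) ⊓ M.map N.subtype := by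
    rintro M hM s hs t ⟨ht, m, hm, rfl⟩
    exact ⟨(S : Subgroup G).mul_mem ((S : Subgroup G).mul_mem hs ht) ((S : Subgroup G).inv_mem hs),
      _, hM.conj_mem m hm ⟨s, hSN hs⟩, rfl⟩
  have hdis : DK ⊓ DC = ⊥ := by
    refine eq_bot_iff.2 ?_
    rintro x ⟨⟨-, a, ha, rfl⟩, -, b, hb, e⟩
    have : a ∈ K ⊓ C := ⟨ha, (Subtype.ext e : b = a) ▸ hb⟩
    rw [hKC, mem_bot] at this
    simp [this]
  have hkD : (k : G) ∈ DK := ⟨hkS, k, hk, rfl⟩
  have hcD : (c : G) ∈ DC := ⟨hcS, c, hc, rfl⟩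
  have hk1' : (k : G) ≠ 1 := fun e => hk1 (Subtype.ext e)
  have hc1' : (c : G) ≠ 1 := fun e => hc1 (Subtype.ext e)
  have key : ∀ D D' : Subgroup G, D ≤ (S : Subgroup G) → D' ≤ (S : Subgroup G) →
      (∀ s ∈ (S : Subgroup G), ∀ t ∈ D, s * t * s⁻¹ ∈ D) →
      (∀ s ∈ (S : Subgroup G), ∀ t ∈ D', s * t * s⁻¹ ∈ D') → D ⊓ D' = ⊥ → D' ≠ ⊥ → D ≤ R ⊓ A := by
    intro D D' hDS hD'S hD hD' hDD hD'0
    by_contra hle
    have hZD := h.shape.Z_le_of_normal hDS hD hle
    by_cases hle' : D' ≤ R ⊓ A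
    · exact hD'0 (eq_bot_iff.2 fun x hx => hDD ▸ ⟨hZD (hle' hx), hx⟩)
    · have hZD' := h.shape.Z_le_of_normal hD'S hD' hle'
      have h1 := Subgroup.card_le_of_le (le_inf hZD hZD')
      rw [hDD, h.shape.inf_card, Subgroup.card_bot] at h1
      omega
  have hK' := key DK DC inf_le_left inf_le_left (hnorm K hK) (hnorm C hC) hdis fun e => hc1' (by
    rw [e, mem_bot] at hcD; exact hcD)
  have hC' := key DC DK inf_le_left inf_le_left (hnorm C hC) (hnorm K hK) (inf_comm DK DC ▸ hdis)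
    fun e => hk1' (by rw [e, mem_bot] at hkD; exact hkD)
  -- the only conjugate of `k` in `S` is `k`
  obtain ⟨P, hP⟩ := h.exists_sylow
  have hmP : ∀ x : N, x ∈ (P : Subgroup N) ↔ (x : G) ∈ (S : Subgroup G) := fun x => by
    rw [hP, mem_subgroupOf]
  obtain ⟨g, hg, hgk⟩ := exists_conj_ne h.no_odd h.center_eq_bot P ((hmP k).2 hkS)
    (Subtype.ext (h.shape.R_sq _ (hK' hkD).1)) hk1
  set x := g * k * g⁻¹ with hx
  have hxD : (x : G) ∈ DK := ⟨(hmP x).1 hg, x, hK.conj_mem k hk g, rfl⟩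
  have hx1 : (x : G) ≠ 1 := fun e => hk1 (conj_eq_one_iff.1 (Subtype.ext e : g * k * g⁻¹ = 1))
  have hxk : (x : G) ≠ k := fun e => hgk (Subtype.ext e)
  have hnot : ∀ y ∈ DK, y ≠ (c : G) := fun y hy e => hc1' (by
    have : (c : G) ∈ DK ⊓ DC := ⟨e ▸ hy, hcD⟩
    rwa [hdis, mem_bot] at this)
  rcases four_elems h.shape (hK' hkD) hk1' (hK' hxD) hx1 hxk (hC' hcD) with e | e | e | e
  · exact hc1' e
  · exact hnot _ hkD e.symm
  · exact hnot _ hxD e.symm
  · exact hnot _ (mul_mem hkD hxD) e.symm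

variable (h : MinData S R A N) (hR : R ≤ N) (hA : A ⊓ N = R ⊓ A)
include h hR hA

theorem exists_sylow_R : ∃ P : Sylow 2 N, (P : Subgroup N) = R.subgroupOf N ∧
    ∀ a ∈ (P : Subgroup N), ∀ b ∈ (P : Subgroup N), a * b = b * a := by
  obtain ⟨P, hP⟩ := h.exists_sylow
  have e : (P : Subgroup N) = R.subgroupOf N := by
    rw [hP, ← Subgroup.inf_subgroupOf_right (S : Subgroup G) N, h.inf_eq_R hR hA]
  refine ⟨P, e, fun a ha b hb => Subtype.ext ?_⟩
  rw [e, mem_subgroupOf] at ha hb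
  exact h.shape.R_comm ha hb

/-- An element of `N` normalising the Sylow subgroup in `N`. -/
theorem normalizer_subgroupOf {n : N} (hn : n ∈ normalizer ((R.subgroupOf N : Subgroup N) : Set N)) :
    (n : G) ∈ normalizer (R : Set G) := by
  refine mem_normalizer_iff.2 fun x => ⟨fun hx => ?_, fun hx => ?_⟩
  · exact mem_subgroupOf.1 ((mem_normalizer_iff.1 hn ⟨x, hR hx⟩).1 (mem_subgroupOf.2 hx))
  · have hxN : x ∈ N := by
      have := N.mul_mem (N.mul_mem (N.inv_mem n.2) (hR hx)) n.2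
      simpa [mul_assoc] using this
    exact mem_subgroupOf.1 ((mem_normalizer_iff.1 hn ⟨x, hxN⟩).2 (mem_subgroupOf.2 hx))

theorem not_R_pair (K C : Subgroup N) [hK : K.Normal] [hC : C.Normal] (hK0 : K ≠ ⊥) (hC0 : C ≠ ⊥)
    (hKC : K ⊓ C = ⊥) : False := by
  haveI : Fact (Nat.Prime 2) := ⟨Nat.prime_two⟩
  obtain ⟨P, hP, hPc⟩ := h.exists_sylow_R hR hA
  haveI : IsMulCommutative (P : Subgroup N) :=
    ⟨⟨fun a b => Subtype.ext (hPc a a.2 b b.2)⟩⟩
  obtain ⟨k, hk, hkS, hk1⟩ := h.exists_mem_inf K hK0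
  obtain ⟨c, hc, hcS, hc1⟩ := h.exists_mem_inf C hC0
  have hkR : (k : G) ∈ R := h.inf_eq_R hR hA ▸ (⟨hkS, k.2⟩ : (k : G) ∈ (S : Subgroup G) ⊓ N)
  have hcR : (c : G) ∈ R := h.inf_eq_R hR hA ▸ (⟨hcS, c.2⟩ : (c : G) ∈ (S : Subgroup G) ⊓ N)
  have hkP : k ∈ (P : Subgroup N) := hP ▸ mem_subgroupOf.2 hkR
  have hcP : c ∈ (P : Subgroup N) := hP ▸ mem_subgroupOf.2 hcR
  -- `K` has no odd and no abelian normal subgroup to be feared
  have hKO : ∀ M : Subgroup K, M.Normal → Odd (Nat.card M) → M = ⊥ := by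
    intro M hM hodd
    have h1 : M ≤ Cfsg.oddCore K := Cores.le_oddCore hodd
    have h2 := h.no_odd ((Cfsg.oddCore K).map K.subtype) inferInstance
      (by rw [Subgroup.card_map_of_injective K.subtype_injective]; exact Cores.oddCore_odd)
    rw [Subgroup.map_eq_bot_iff_of_injective _ K.subtype_injective] at h2
    exact le_bot_iff.1 (h1.trans h2.le)
  have hKZ : center K = ⊥ := by
    have h2 := h.no_comm ((center K).map K.subtype) inferInstance inferInstance
    rwa [Subgroup.map_eq_bot_iff_of_injective _ K.subtype_injective] at h2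
  have hPK : IsPGroup 2 ((P : Subgroup N).subgroupOf K) :=
    P.isPGroup'.comap_of_injective K.subtype K.subtype_injective
  have hPKi : ¬ 2 ∣ ((P : Subgroup N).subgroupOf K).index := fun hd =>
    P.not_dvd_index (hd.trans (relIndex_dvd_index (P : Subgroup N) K))
  obtain ⟨g, hg, hgk⟩ := exists_conj_ne hKO hKZ (hPK.toSylow hPKi)
    (u := ⟨k, hk⟩) (mem_subgroupOf.2 hkP)
    (Subtype.ext (Subtype.ext (h.shape.R_sq _ hkR))) (fun e => hk1 (congrArg Subtype.val e))
  have hgk' : (g : N) * k * (g : N)⁻¹ ≠ k := fun e => hgk (Subtype.ext e)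
  have hgP : (g : N) * k * (g : N)⁻¹ ∈ (P : Subgroup N) := mem_subgroupOf.1 hg
  -- inside the centraliser of `c`
  set X := centralizer ({c} : Set N)
  have hPX : (P : Subgroup N) ≤ X := fun x hx => mem_centralizer_singleton_iff.2 (hPc x hx c hcP)
  have hgc : (g : N) ∈ X := by
    have hdis : Disjoint K C := disjoint_iff.2 hKC
    exact mem_centralizer_singleton_iff.2 (Subgroup.commute_of_normal_of_disjoint K C hK hC hdis g c g.2 hc).eq
  haveI : IsMulCommutative ((P.subtype hPX : Sylow 2 X) : Subgroup X) :=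
    ⟨⟨fun a b => Subtype.ext (Subtype.ext (hPc _ (mem_subgroupOf.1 a.2) _ (mem_subgroupOf.1 b.2)))⟩⟩
  obtain ⟨n, hn, e⟩ := (P.subtype hPX).conj_eq_normalizer_conj_of_mem
    ⟨k, hPX hkP⟩ (⟨g, hgc⟩ : X)⁻¹ (mem_subgroupOf.2 hkP) (mem_subgroupOf.2 (by simpa using hgP))
  have hnP : (n : N) ∈ normalizer ((P : Subgroup N) : Set N) := by
    refine mem_normalizer_iff.2 fun x => ⟨fun hx => ?_, fun hx => ?_⟩
    · exact mem_subgroupOf.1 ((mem_normalizer_iff.1 hn ⟨x, hPX hx⟩).1 (mem_subgroupOf.2 hx))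
    · have hxX : x ∈ X := by
        have := X.mul_mem (X.mul_mem (X.inv_mem n.2) (hPX hx)) n.2
        simpa [mul_assoc] using this
      exact mem_subgroupOf.1 ((mem_normalizer_iff.1 hn ⟨x, hxX⟩).2 (mem_subgroupOf.2 hx))
  have hnR : ((n : N) : G) ∈ normalizer (R : Set G) := h.normalizer_subgroupOf hR hA (hP ▸ hnP)
  have hcent := (h.automizer hR hA (n : N).2 hnR).2 ⟨(c : G), hcR, fun e => hc1 (Subtype.ext e), by
    have e1 := congrArg (fun w : N => (w : G)) (mem_centralizer_singleton_iff.1 n.2)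
    simp only [Subgroup.coe_mul] at e1
    rw [e1, mul_inv_cancel_right]⟩
  refine hgk' ?_
  have e1 := congrArg (fun w : X => ((w : N) : G)) e
  simp only [inv_inv, Subgroup.coe_mul, Subgroup.coe_inv] at e1
  apply Subtype.ext
  simp only [Subgroup.coe_mul, Subgroup.coe_inv]
  rw [e1, mul_assoc, hcent _ hkR, inv_mul_cancel_left]

/-- `N` is not simple if `R` is its Sylow 2-subgroup. -/
theorem not_simple (hs : IsSimpleGroup N) (hna : ¬ IsMulCommutative N) : False := by
  classical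
  haveI : Fact (Nat.Prime 2) := ⟨Nat.prime_two⟩
  obtain ⟨P, hP, hPc⟩ := h.exists_sylow_R hR hA
  haveI : IsMulCommutative (P : Subgroup N) := ⟨⟨fun a b => Subtype.ext (hPc a a.2 b b.2)⟩⟩
  have hI : ∀ t : N, orderOf t = 2 →
      Cfsg.HasNormalPComplement 2 ↥(centralizer ({t} : Set N)) := by
    intro t ht
    set X := centralizer ({t} : Set N)
    have ht1 : t ≠ 1 := fun e => by simp [e] at ht
    obtain ⟨P', hP'⟩ := (IsPGroup.of_card (p := 2) (n := 1)
      (by rw [Nat.card_zpowers, ht, pow_one]) : IsPGroup 2 (zpowers t)).exists_le_sylow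
    obtain ⟨g, hg⟩ := MulAction.exists_smul_eq N P P'
    have hmem : ∀ x : N, x ∈ (P' : Subgroup N) ↔ g⁻¹ * x * g ∈ (P : Subgroup N) := by
      intro x
      rw [← hg, Sylow.coe_subgroup_smul, Subgroup.mem_pointwise_smul_iff_inv_smul_mem,
        MulAut.smul_def, ← map_inv, MulAut.conj_apply, inv_inv]
    have htP' : t ∈ (P' : Subgroup N) := hP' (mem_zpowers t)
    have hPc' : ∀ a ∈ (P' : Subgroup N), ∀ b ∈ (P' : Subgroup N), a * b = b * a := by
      intro a ha b hb
      have := hPc _ ((hmem a).1 ha) _ ((hmem b).1 hb)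
      calc a * b = g * ((g⁻¹ * a * g) * (g⁻¹ * b * g)) * g⁻¹ := by group
        _ = g * ((g⁻¹ * b * g) * (g⁻¹ * a * g)) * g⁻¹ := by rw [this]
        _ = b * a := by group
    have hX : (P' : Subgroup N) ≤ X := fun x hx =>
      mem_centralizer_singleton_iff.2 (hPc' x hx t htP')
    refine Transfer.NormalPComplement.hasNormalPComplement_of_normalizer_le_centralizer
      (P'.subtype hX) fun n hn => ?_
    set m := g⁻¹ * (n : N) * g with hm
    have hmP : m ∈ normalizer ((P : Subgroup N) : Set N) := by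
      have key : ∀ x ∈ (P : Subgroup N), m * x * m⁻¹ ∈ (P : Subgroup N) := by
        intro x hx
        have hx' : g * x * g⁻¹ ∈ (P' : Subgroup N) :=
          (hmem _).2 (by rwa [show g⁻¹ * (g * x * g⁻¹) * g = x by group])
        have := (hmem _).1 (mem_subgroupOf.1
          ((mem_normalizer_iff.1 hn ⟨g * x * g⁻¹, hX hx'⟩).1 (mem_subgroupOf.2 hx')))
        rw [show m * x * m⁻¹ = g⁻¹ * ((n : N) * (g * x * g⁻¹) * (n : N)⁻¹) * g by rw [hm]; group]
        exact this
      exact mem_normalizer_iff.2 fun x => ⟨key x, mem_of_conj_mem key⟩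
    have hmR : (m : G) ∈ normalizer (R : Set G) := h.normalizer_subgroupOf hR hA (hP ▸ hmP)
    have ht' : g⁻¹ * t * g ∈ R.subgroupOf N := hP ▸ (hmem t).1 htP'
    have hfix : m * (g⁻¹ * t * g) * m⁻¹ = g⁻¹ * t * g := by
      have e : (n : N) * t = t * n := mem_centralizer_singleton_iff.1 n.2
      calc m * (g⁻¹ * t * g) * m⁻¹ = g⁻¹ * ((n : N) * t) * (n : N)⁻¹ * g := by rw [hm]; group
        _ = g⁻¹ * t * g := by rw [e]; group
    have hcent := (h.automizer hR hA m.2 hmR).2 ⟨((g⁻¹ * t * g : N) : G), mem_subgroupOf.1 ht',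
      fun e => ht1 (by
        have e' : g⁻¹ * t * g = 1 := Subtype.ext e
        calc t = g * (g⁻¹ * t * g) * g⁻¹ := by group
          _ = 1 := by rw [e']; group), congrArg Subtype.val hfix⟩
    refine fun y hy => Subtype.ext ?_
    have hy' : g⁻¹ * (y : N) * g ∈ R.subgroupOf N := hP ▸ (hmem _).1 (mem_subgroupOf.1 hy)
    have e : (g⁻¹ * (y : N) * g) * m = m * (g⁻¹ * (y : N) * g) :=
      Subtype.ext (hcent _ (mem_subgroupOf.1 hy'))
    show (y : N) * n = n * y
    calc (y : N) * n = g * ((g⁻¹ * (y : N) * g) * m) * g⁻¹ := by rw [hm]; group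
      _ = g * (m * (g⁻¹ * (y : N) * g)) * g⁻¹ := by rw [e]
      _ = (n : N) * y := by rw [hm]; group
  -- one class of involutions
  have hN16 : 16 ∣ Nat.card N := by
    rw [← h.shape.R_card, ← Nat.card_congr (subgroupOfEquivOfLe hR).toEquiv]
    exact Subgroup.card_subgroup_dvd_card _
  have transfer : ∀ {L : Type} [Group L], Nonempty (N ≃* L) → CIT.Gen.OneClass L →
      ∀ x y : N, orderOf x = 2 → orderOf y = 2 → IsConj x y := by
    rintro L _ ⟨e⟩ hL x y hx hy
    have hc := hL (e x) (e y) (by rw [MulEquiv.orderOf_eq, hx]) (by rw [MulEquiv.orderOf_eq, hy])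
    simpa using e.symm.toMonoidHom.map_isConj hc
  have hone : ∀ x y : N, orderOf x = 2 → orderOf y = 2 → IsConj x y := by
    rcases S3214.result hna hI with ⟨F, _, _, -, hF⟩ | ⟨F, _, _, m, hm, hF, e⟩ | e | ⟨F, _, _, h4, hF⟩
    · by_cases h2 : (2 : F) = 0
      · exact transfer hF (CIT.Gen.oneClass_two h2)
      · exact transfer hF (CIT.Gen.oneClass_odd h2)
    · haveI : CharP F 2 := (CharP.charP_iff_prime_eq_zero Nat.prime_two).2 (by
        have h0 := FiniteField.cast_card_eq_zero F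
        rw [hF] at h0
        push_cast at h0
        exact eq_zero_of_pow_eq_zero h0)
      obtain ⟨e⟩ := e
      obtain ⟨ε⟩ := Suzuki.lieEquiv (F := F) hm hF
      first
        | exact transfer ⟨e.trans ε⟩ (CIT.Gen.oneClass_sz hm hF)
        | exact transfer ⟨e.trans ε.symm⟩ (CIT.Gen.oneClass_sz hm hF)
    · exfalso
      obtain ⟨e⟩ := e
      rw [Nat.card_congr e.toEquiv, nat_card_alternatingGroup, Nat.card_eq_fintype_card,
        Fintype.card_fin, Nat.factorial] at hN16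
      norm_num [Nat.factorial] at hN16
    · exact transfer hF (CIT.Gen.oneClass_three_four h4)
  -- the normaliser would be transitive
  haveI : Nontrivial ↥(R ⊓ A) :=
    Finite.one_lt_card_iff_nontrivial.1 (by rw [h.shape.inf_card]; norm_num)
  obtain ⟨⟨z, hz⟩, hz1⟩ := exists_ne (1 : ↥(R ⊓ A))
  obtain ⟨r, hr, hrA⟩ : ∃ r ∈ R, r ∉ A := by
    refine SetLike.not_le_iff_exists.1 fun hle' => ?_
    have := Subgroup.card_le_of_le (le_inf le_rfl hle' : R ≤ R ⊓ A)
    rw [h.shape.R_card, h.shape.inf_card] at this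
    omega
  obtain ⟨g, hg⟩ := isConj_iff.1 (hone ⟨z, hR hz.1⟩ ⟨r, hR hr⟩
    (orderOf_eq_prime (Subtype.ext (by simpa [sq] using h.shape.R_sq z hz.1))
      fun e => hz1 (Subtype.ext (congrArg (fun w : N => (w : G)) e)))
    (orderOf_eq_prime (Subtype.ext (by simpa [sq] using h.shape.R_sq r hr))
      fun e => hrA (by rw [show r = 1 from congrArg (fun w : N => (w : G)) e]; exact one_mem A)))
  obtain ⟨n, hn, e⟩ := P.conj_eq_normalizer_conj_of_mem ⟨z, hR hz.1⟩ g⁻¹
    (show _ ∈ (P : Subgroup N) by rw [hP]; exact mem_subgroupOf.2 hz.1)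
    (show _ ∈ (P : Subgroup N) by rw [inv_inv, hg, hP]; exact mem_subgroupOf.2 hr)
  rw [inv_inv, hg] at e
  have hnR : ((n : N) : G) ∈ normalizer (R : Set G) := h.normalizer_subgroupOf hR hA (hP ▸ hn)
  have hz' := (h.automizer hR hA (N.inv_mem n.2) (inv_mem hnR)).1 z hz
  rw [inv_inv] at hz'
  refine hrA ?_
  rw [show r = ((n : G))⁻¹ * z * n from congrArg (fun w : N => (w : G)) e]
  exact hz'.2

end MinData

/-- Piece N. -/
theorem normalInput : NormalInput.{u} := by
  intro G _ _ S R A hsh hcore hO2 N hN hN0 hmin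
  classical
  haveI := hN
  -- no 2-core in `N`
  have hN2 : ∀ Q : Subgroup N, Q.Normal → IsPGroup 2 Q → Q = ⊥ := by
    intro Q hQ hQp
    have h1 : Q ≤ Cfsg.pCore 2 N := Cores.le_pCore hQp
    have h2 := hO2 ((Cfsg.pCore 2 N).map N.subtype) inferInstance
      ((Cores.pCore_isPGroup 2).map _)
    rw [Subgroup.map_eq_bot_iff_of_injective _ N.subtype_injective] at h2
    exact le_bot_iff.1 (h1.trans h2.le)
  have hno_odd : ∀ M : Subgroup N, M.Normal → Odd (Nat.card M) → M = ⊥ := by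
    intro M hM hodd
    have h1 : M ≤ Cfsg.oddCore N := Cores.le_oddCore hodd
    have h2 : (Cfsg.oddCore N).map N.subtype ≤ Cfsg.oddCore G :=
      Cores.le_oddCore (by
        rw [Subgroup.card_map_of_injective N.subtype_injective]; exact Cores.oddCore_odd)
    rw [hcore, le_bot_iff, Subgroup.map_eq_bot_iff_of_injective _ N.subtype_injective] at h2
    exact le_bot_iff.1 (h1.trans h2.le)
  have hno_comm : ∀ M : Subgroup N, M.Normal → IsMulCommutative M → M = ⊥ := fun M hM hc =>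
    hno_odd M hM (odd_of_comm hN2 M)
  have hna : ¬ IsMulCommutative N := fun hc => hN0 (le_bot_iff.1 ((Cores.le_oddCore
    (odd_of_comm hO2 N)).trans hcore.le))
  have hperf : ⁅(⊤ : Subgroup N), (⊤ : Subgroup N)⁆ = ⊤ := by
    rcases hmin ⁅N, N⁆ inferInstance N.commutator_le_self with e | e
    · exact absurd (Subgroup.commutator_self_eq_bot_iff.1 e) hna
    · apply Subgroup.map_injective N.subtype_injective
      rw [← MonoidHom.range_eq_map, Subgroup.range_subtype]
      exact (Subgroup.map_subtype_commutator N).trans e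
  have h : MinData S R A N := ⟨hsh, hN, hperf, hN0, hno_odd, hno_comm, hcore⟩
  -- simple, or two normal subgroups meeting trivially
  haveI : Nontrivial N := N.nontrivial_iff_ne_bot.2 hN0
  have hdich : IsSimpleGroup N ∨ ∃ K C : Subgroup N,
      K.Normal ∧ C.Normal ∧ K ≠ ⊥ ∧ C ≠ ⊥ ∧ K ⊓ C = ⊥ := by
    by_cases hs : ∀ M : Subgroup N, M.Normal → M = ⊥ ∨ M = ⊤
    · exact Or.inl ⟨fun M hM => hs M hM⟩
    push Not at hs
    obtain ⟨M, hM, hM0, hM1⟩ := hs
    haveI := hM
    obtain ⟨K, hK, hKM, hK0, hKmin⟩ := Hall.exists_minimal_normal M hM0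
    haveI := hK
    have hinf : ∀ L : Subgroup N, L.Normal → ¬ K ≤ L → K ⊓ L = ⊥ := fun L hL hKL => by
      haveI := hL
      exact Hall.minimal_normal_inf_eq_bot hKmin hKL
    -- some conjugate of `K` differs from it
    obtain ⟨g, hg⟩ : ∃ g : G, ¬ ∀ x ∈ K, MulAut.conjNormal g x ∈ K := by
      by_contra! hall
      have hKn : (K.map N.subtype).Normal := by
        refine ⟨?_⟩
        rintro _ ⟨x, hx, rfl⟩ g
        exact ⟨_, hall g x hx, MulAut.conjNormal_apply g x⟩
      rcases hmin _ hKn (Subgroup.map_subtype_le K) with e | e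
      · exact hK0 ((Subgroup.map_eq_bot_iff_of_injective _ N.subtype_injective).1 e)
      · refine hM1 (top_le_iff.1 (le_trans (le_of_eq ?_) hKM))
        apply Subgroup.map_injective N.subtype_injective
        rw [e, ← MonoidHom.range_eq_map, Subgroup.range_subtype]
    refine Or.inr ⟨K, K.map (MulAut.conjNormal g).toMonoidHom, hK,
      hK.map _ (MulAut.conjNormal g).surjective, hK0,
      fun e => hK0 ((Subgroup.map_eq_bot_iff_of_injective _ (MulAut.conjNormal g).injective).1 e),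
      hinf _ (hK.map _ (MulAut.conjNormal g).surjective) fun hle => hg fun x hx => ?_⟩
    have heq := Subgroup.eq_of_le_of_card_ge hle
      (Subgroup.card_map_of_injective (MulAut.conjNormal g).injective).le
    rw [heq]
    exact ⟨x, hx, rfl⟩
  rcases h.inf_cases with ⟨hR, hA⟩ | ⟨hR, hA⟩ | ⟨hA, hR⟩
  · have hSN : (S : Subgroup G) ≤ N := fun s hs => by
      obtain ⟨r, hr, a, ha, rfl⟩ := hsh.exists_mul_eq hs
      exact mul_mem (hR hr) (hA ha)
    rcases hdich with hs | ⟨K, C, hK, hC, hK0, hC0, hKC⟩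
    · exact ⟨hSN, hs⟩
    · exact (h.no_pair hSN K C hK0 hC0 hKC).elim
  · exfalso
    rcases hdich with hs | ⟨K, C, hK, hC, hK0, hC0, hKC⟩
    · exact h.not_simple hR hA hs hna
    · exact h.not_R_pair hR hA K C hK0 hC0 hKC
  · exfalso
    have hR' : R ⊓ N = A ⊓ R := hR.trans (inf_comm R A)
    rcases hdich with hs | ⟨K, C, hK, hC, hK0, hC0, hKC⟩
    · exact h.symm.not_simple hA hR' hs hna
    · exact h.symm.not_R_pair hA hR' K C hK0 hC0 hKC

end Cfsg.Agent.L34Type
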