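import Cfsg.Agent.Lib.L34Type.OneFused

/-!
# Sylow 2-subgroups of type `L₃(4)`: a nontrivial normal 2-subgroup

Without odd core one of the two elementary subgroups of order 16 is then normal and self-centralising.
-/

set_option autoImplicit false
set_option linter.style.haveILetI false
set_option linter.unusedSectionVars false

namespace Cfsg.Agent.L34Type

open Subgroup Cfsg.Agent.CIT
open Cfsg.Agent.StronglyClosedFour (core core_le core_odd burnside le_normalizer_core
  normalizer_le_normalizer_core)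
open scoped Pointwise

universe u

variable {G : Type u} [Group G] [Finite G] {S : Sylow 2 G} {R A : Subgroup G}

/-- A normal subgroup of a group without odd core has none either. -/
theorem core_eq_bot_of_normal (hO : Cfsg.oddCore G = ⊥) {D : Subgroup G} (hD : D.Normal) :
    core D = ⊥ := by
  haveI : (core D).Normal := Subgroup.normalizer_eq_top_iff.1 (top_le_iff.1
    ((Subgroup.normalizer_eq_top_iff.2 hD).ge.trans (normalizer_le_normalizer_core D)))
  exact le_bot_iff.1 (hO ▸ Cores.le_oddCore (core_odd D))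

theorem centralizer_normal_of_normal {K : Subgroup G} (hK : K.Normal) :
    (centralizer (K : Set G)).Normal := by
  refine ⟨fun y hy g => mem_centralizer_iff.2 fun x hx => ?_⟩
  calc x * (g * y * g⁻¹) = g * ((g⁻¹ * x * g) * y) * g⁻¹ := by group
    _ = g * (y * (g⁻¹ * x * g)) * g⁻¹ := by
      rw [mem_centralizer_iff.1 hy (g⁻¹ * x * g) (by simpa using hK.conj_mem x hx g⁻¹)]
    _ = g * y * g⁻¹ * x := by group

namespace Shape

variable (h : Shape (S : Subgroup G) R A)
include h

theorem self_central (hO : Cfsg.oddCore G = ⊥) (hR : R.Normal) : centralizer (R : Set G) ≤ R := by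
  haveI : Fact (Nat.Prime 2) := ⟨Nat.prime_two⟩
  have hRC : R ≤ centralizer (R : Set G) := fun t ht =>
    mem_centralizer_iff.2 fun w hw => h.R_comm hw ht
  intro k hk
  obtain ⟨o, ho, t, ht, rfl⟩ := burnside h.R_isPGroup hRC h.symm.odd_cent_self
    (fun n hn _ a ha => (mem_centralizer_iff.1 hn a ha).symm) k hk
  rw [core_eq_bot_of_normal hO (centralizer_normal_of_normal hR), Subgroup.mem_bot] at ho
  rwa [ho, one_mul]

/-- A normal elementary subgroup in `R` but not in `A` makes `R` normal. -/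
theorem normal_of_normal_le (hO : Cfsg.oddCore G = ⊥) {K : Subgroup G} (hK : K.Normal) (hKR : K ≤ R)
    {r : G} (hrK : r ∈ K) (hrA : r ∉ A) : R.Normal := by
  haveI : Fact (Nat.Prime 2) := ⟨Nat.prime_two⟩
  have hr : r ∈ R := hKR hrK
  have hZK : R ⊓ A ≤ K := fun z hz => by
    obtain ⟨s, -, e⟩ := h.exists_conj_eq hr hrA hz
    have h1 := hK.conj_mem r hrK s
    rw [e] at h1
    have := mul_mem (inv_mem hrK) h1
    rwa [inv_mul_cancel_left] at this
  rcases h.fused_or_normalizes with hf | hns
  · have : K = R := le_antisymm hKR fun x hx => by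
      rcases eq_or_ne x 1 with rfl | hx1
      · exact one_mem K
      obtain ⟨n, -, e⟩ := hf r hr (fun e => hrA (e ▸ one_mem A)) x hx hx1
      exact e ▸ hK.conj_mem r hrK n
    exact this ▸ hK
  set D := centralizer (K : Set G) with hD
  have hDn : D.Normal := centralizer_normal_of_normal hK
  have hRD : R ≤ D := fun t ht => mem_centralizer_iff.2 fun w hw => h.R_comm (hKR hw) ht
  have hDr : D ≤ centralizer ({r} : Set G) := fun d hd =>
    mem_centralizer_singleton_iff.2 (mem_centralizer_iff.1 hd r hrK).symm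
  suffices e : D = R from e ▸ hDn
  refine le_antisymm (fun k hk => ?_) hRD
  obtain ⟨o, ho, t, ht, rfl⟩ := burnside h.R_isPGroup hRD
    ((h.odd_cent hns hr hrA).of_dvd_nat (relIndex_dvd_relIndex hRD hDr)) (fun n hn hnR x hx => by
      have hnr : n * r = r * n := (mem_centralizer_iff.1 hn r hrK).symm
      obtain ⟨c, hc, hcn, hcr⟩ := h.norm_cent_split hns hr hrA hnR hnr
      have hz : ∀ w ∈ R ⊓ A, c * n * w * (c * n)⁻¹ = w := fun w hw => by
        rw [conj_comp, ← mem_centralizer_iff.1 hn w (hZK hw), mul_inv_cancel_right,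
          ← mem_centralizer_iff.1 hc w hw.1, mul_inv_cancel_right]
      have hmem := h.norm_trivial hcn hz hr hrA (by
        rw [hcr, mul_inv_cancel_right, h.R_sq r hr]; exact one_mem A)
      have hSn : (S : Subgroup G) ≤ normalizer (centralizer ((S : Subgroup G) : Set G) : Set G) :=
        fun s hs => CIT.mem_normalizer_of_forall fun y hy => by
          rw [mem_centralizer_iff] at hy ⊢
          intro u hu
          calc u * (s * y * s⁻¹) = s * ((s⁻¹ * u * s) * y) * s⁻¹ := by group
            _ = s * (y * (s⁻¹ * u * s)) * s⁻¹ := by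
              rw [hy _ (mul_mem (mul_mem (inv_mem hs) hu) hs)]
            _ = s * y * s⁻¹ * u := by group
      obtain ⟨d, hd, s, hs, e2⟩ : ∃ d ∈ centralizer ((S : Subgroup G) : Set G),
          ∃ s ∈ (S : Subgroup G), c * n = d * s := by
        have h1 : c * n ∈ (centralizer ((S : Subgroup G) : Set G) : Set G) *
            ((S : Subgroup G) : Set G) := by
          rw [← Subgroup.coe_mul_of_right_le_normalizer_left _ _ hSn]; exact hmem
        obtain ⟨d, hd, s, hs, e2⟩ := h1
        exact ⟨d, hd, s, hs, e2.symm⟩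
      have hdr := mem_centralizer_iff.1 hd r (h.R_le hr)
      have hsr : r * s = s * r := by
        refine mul_left_cancel (a := d) ?_
        calc d * (r * s) = r * (d * s) := by rw [← mul_assoc, ← hdr, mul_assoc]
          _ = d * (s * r) := by rw [← e2, ← hcr, e2, mul_assoc]
      have hsR : s ∈ R := h.cent_R r hr hrA s hs hsr
      have h3 : d * s ∈ centralizer (R : Set G) := mul_mem
        (Subgroup.centralizer_le (fun y hy => h.R_le hy) hd)
        (mem_centralizer_iff.2 fun y hy => h.R_comm hy hsR)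
      rw [← e2] at h3
      exact (mem_centralizer_iff.1 ((Subgroup.mul_mem_cancel_left _ hc).1 h3) x hx).symm) k hk
  rw [core_eq_bot_of_normal hO hDn, Subgroup.mem_bot] at ho
  rwa [ho, one_mul]

/-- A normal subgroup in `R ⊓ A` makes the Sylow subgroup normal. -/
theorem normal_of_normal_le_inf (hO : Cfsg.oddCore G = ⊥) {K : Subgroup G} (hK : K.Normal)
    (hKZ : K ≤ R ⊓ A) (hK1 : K ≠ ⊥) : R.Normal := by
  haveI : Fact (Nat.Prime 2) := ⟨Nat.prime_two⟩
  obtain ⟨⟨z, hz⟩, hz1⟩ : ∃ z : K, z ≠ 1 := by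
    by_contra hne
    push Not at hne
    exact hK1 ((Subgroup.eq_bot_iff_forall _).2 fun x hx => congrArg Subtype.val (hne ⟨x, hx⟩))
  set D := centralizer (K : Set G) with hD
  have hDn : D.Normal := centralizer_normal_of_normal hK
  have hSD : (S : Subgroup G) ≤ D := fun s hs =>
    mem_centralizer_iff.2 fun w hw => h.central w (hKZ hw) s hs
  have hsh : Shape ((S.subtype hSD : Sylow 2 D) : Subgroup D) (R.comap D.subtype) (A.comap D.subtype) :=
    h.comap D.subtype D.subtype_injective (hSD.trans D.range_subtype.ge)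
  have hOD : Cfsg.oddCore D = ⊥ :=
    (Subgroup.map_eq_bot_iff_of_injective _ D.subtype_injective).1 (core_eq_bot_of_normal hO hDn)
  have hzD : z ∈ D := hSD (h.R_le (hKZ hz).1)
  have hSn := normal_of_central hsh hOD (z := ⟨z, hzD⟩) (hKZ hz)
    (fun e => hz1 (Subtype.ext (congrArg (fun x : D => (x : G)) e : z = 1)))
    fun g => Subtype.ext (mem_centralizer_iff.1 g.2 z hz).symm
  have hS : normalizer ((S : Subgroup G) : Set G) = ⊤ := by
    refine (eq_top_iff' _).2 fun g => ?_
    have hle : ((g • S : Sylow 2 G) : Subgroup G) ≤ D := by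
      rw [Sylow.coe_subgroup_smul]
      rintro _ ⟨s, hs, rfl⟩
      exact hDn.conj_mem s (hSD hs) g
    obtain ⟨c, hc⟩ := MulAction.exists_smul_eq D (S.subtype hSD) ((g • S).subtype hle)
    have e : S.subtype hSD = (g • S).subtype hle := by
      rw [← hc]
      exact (Sylow.smul_eq_iff_mem_normalizer.2
        ((Subgroup.normalizer_eq_top_iff.2 hSn).ge (mem_top c))).symm
    exact Sylow.smul_eq_iff_mem_normalizer.1 (Sylow.subtype_injective e).symm
  exact Subgroup.normalizer_eq_top_iff.1 (top_le_iff.1 (hS ▸ h.norm_S_le_R))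

end Shape

/-- A nontrivial normal 2-subgroup leaves `R` or `A` normal and self-centralising. -/
theorem exists_normal_side (h : Shape (S : Subgroup G) R A) (hO : Cfsg.oddCore G = ⊥)
    {N : Subgroup G} (hN : N.Normal) (hp : IsPGroup 2 N) (hne : N ≠ ⊥) :
    (R.Normal ∧ centralizer (R : Set G) ≤ R) ∨ (A.Normal ∧ centralizer (A : Set G) ≤ A) := by
  haveI : Fact (Nat.Prime 2) := ⟨Nat.prime_two⟩
  have hNS : N ≤ (S : Subgroup G) := by
    obtain ⟨Q, hQ⟩ := hp.exists_le_sylow
    obtain ⟨g, hg⟩ := MulAction.exists_smul_eq G Q S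
    intro x hx
    rw [← hg, Sylow.coe_subgroup_smul]
    exact ⟨g⁻¹ * x * g, hQ (by simpa using hN.conj_mem x hx g⁻¹),
      show g * (g⁻¹ * x * g) * g⁻¹ = x by group⟩
  let K : Subgroup G :=
    { carrier := {x | x ∈ N ∧ x * x = 1 ∧ ∀ n ∈ N, x * n = n * x}
      one_mem' := ⟨one_mem N, one_mul 1, fun n _ => by simp⟩
      mul_mem' := fun {x y} hx hy => ⟨mul_mem hx.1 hy.1, by
        rw [show x * y * (x * y) = x * (y * x) * y by group, ← hx.2.2 y hy.1, ← mul_assoc x x y,
          hx.2.1, one_mul, hy.2.1],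
        fun n hn => by rw [mul_assoc, hy.2.2 n hn, ← mul_assoc, hx.2.2 n hn, mul_assoc]⟩
      inv_mem' := fun {x} hx => by rwa [Set.mem_setOf_eq, inv_eq_of_mul_eq_one_right hx.2.1] }
  have hK : K.Normal := ⟨fun x hx g => ⟨hN.conj_mem x hx.1 g, by
      rw [show g * x * g⁻¹ * (g * x * g⁻¹) = g * (x * x) * g⁻¹ by group, hx.2.1, mul_one,
        mul_inv_cancel],
      fun n hn => by
        have e := hx.2.2 _ (hN.conj_mem n hn g⁻¹)
        rw [inv_inv] at e
        calc g * x * g⁻¹ * n = g * (x * (g⁻¹ * n * g)) * g⁻¹ := by group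
          _ = g * (g⁻¹ * n * g * x) * g⁻¹ := by rw [e]
          _ = n * (g * x * g⁻¹) := by group⟩⟩
  have hK1 : K ≠ ⊥ := by
    haveI : Nontrivial N := N.nontrivial_iff_ne_bot.2 hne
    haveI := hp.center_nontrivial
    have hZp : IsPGroup 2 (Subgroup.center N) := hp.to_subgroup _
    obtain ⟨k, hcard⟩ := IsPGroup.iff_card.1 hZp
    have hk : k ≠ 0 := fun e => by
      have h1 : 1 < Nat.card (Subgroup.center N) := Finite.one_lt_card
      rw [hcard, e] at h1
      exact absurd h1 (lt_irrefl 1)
    obtain ⟨⟨⟨x, hxN⟩, hxc⟩, hx2⟩ := exists_prime_orderOf_dvd_card' (G := Subgroup.center N) 2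
      (by rw [hcard]; exact dvd_pow_self 2 hk)
    intro e
    have hx : x ∈ K := ⟨hxN, by
      have := congrArg (fun y : Subgroup.center N => ((y : N) : G))
        (pow_orderOf_eq_one (⟨⟨x, hxN⟩, hxc⟩ : Subgroup.center N))
      rw [hx2, pow_two] at this
      exact this, fun n hn => (congrArg Subtype.val (Subgroup.mem_center_iff.1 hxc ⟨n, hn⟩)).symm⟩
    rw [e, Subgroup.mem_bot] at hx
    subst hx
    rw [show (⟨⟨1, hxN⟩, hxc⟩ : Subgroup.center N) = 1 from rfl, orderOf_one] at hx2
    omega
  have hKsub : ∀ x ∈ K, x ∈ R ∨ x ∈ A := fun x hx => h.involutions x (hNS hx.1) hx.2.1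
  by_cases hKZ : K ≤ R ⊓ A
  · have hR := h.normal_of_normal_le_inf hO hK hKZ hK1
    exact Or.inl ⟨hR, h.self_central hO hR⟩
  obtain ⟨x, hxK, hx⟩ := SetLike.not_le_iff_exists.1 hKZ
  rcases CIT.le_or_le_of_subset hKsub with hKR | hKA
  · have hR := h.normal_of_normal_le hO hK hKR hxK (fun e => hx ⟨hKR hxK, e⟩)
    exact Or.inl ⟨hR, h.self_central hO hR⟩
  · have hA := h.symm.normal_of_normal_le hO hK hKA hxK (fun e => hx ⟨e, hKA hxK⟩)
    exact Or.inr ⟨hA, h.symm.self_central hO hA⟩

end Cfsg.Agent.L34Type
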