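import Cfsg.Agent.Lib.L34Type.OneFusedEnd
import Cfsg.Agent.Lib.L34Type.TwoCore
import Cfsg.Agent.Lib.L34Type.KleinMain
import Cfsg.Agent.Lib.L34Type.NormalMain
import Cfsg.Agent.Lib.L34Type.EmbedParabolic
import Cfsg.Agent.Lib.L34Type.EmbedAlmostSimple

/-!
# Sylow 2-subgroups of type `L₃(4)`: the induction
-/

set_option autoImplicit false
set_option linter.style.haveILetI false
set_option linter.unusedSectionVars false

namespace Cfsg.Agent.L34Type

open Subgroup
open Cfsg.Agent.StronglyClosedFour (eq_one_of_two_group)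
open scoped Pointwise

universe u v

variable (F : Type v) [Field F] [Fintype F]

/-- A simple group of this type is `PSL₃(F)`. -/
theorem simple_iso (hB : BothFusedInput.{u, v}) (hF : Fintype.card F = 4) {G : Type u} [Group G]
    [Finite G] [IsSimpleGroup G] {S : Sylow 2 G} {R A : Subgroup G}
    (h : Shape (S : Subgroup G) R A) (hb : Below.{u, v} (Nat.card G) F) :
    Nonempty (G ≃* Matrix.ProjectiveSpecialLinearGroup (Fin 3) F) := by
  have key : ∀ R A : Subgroup G, Shape (S : Subgroup G) R A → Fused A →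
      Nonempty (G ≃* Matrix.ProjectiveSpecialLinearGroup (Fin 3) F) := by
    intro R A h hf
    rcases h.fused_or_normalizes with hf' | hns
    · exact hB F hF G S R A h hb hf' hf
    · exact (not_oneFused kleinEmbedded h hf hns).elim
  rcases fused_of_simple kleinIneq h with hf | hf
  · exact key A R h.symm hf
  · exact key R A h hf

/-- The core-free case. -/
theorem embeds_of_core_eq_bot (hB : BothFusedInput.{u, v}) (hF : Fintype.card F = 4) {G : Type u}
    [Group G] [Finite G] {S : Sylow 2 G} {R A : Subgroup G} (h : Shape (S : Subgroup G) R A)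
    (hO : Cfsg.oddCore G = ⊥) (hb : Below.{u, v} (Nat.card G) F) : EmbedsPGL G F := by
  haveI : Fact (Nat.Prime 2) := ⟨Nat.prime_two⟩
  by_cases h2 : ∀ N : Subgroup G, N.Normal → IsPGroup 2 N → N = ⊥
  swap
  · push Not at h2
    obtain ⟨N, hN, hp, hne⟩ := h2
    rcases exists_normal_side h hO hN hp hne with ⟨hR, hC⟩ | ⟨hA, hC⟩
    · exact parabolicInput F hF G S R A h hR hC
    · exact parabolicInput F hF G S A R h.symm hA hC
  -- a minimal normal subgroup
  have hne : ({N : Subgroup G | N.Normal ∧ N ≠ ⊥}).Nonempty := by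
    refine ⟨⊤, inferInstance, fun e => ?_⟩
    have h64 := Subgroup.card_le_card_group (S : Subgroup G)
    rw [h.card_S, ← Subgroup.card_top (G := G), e, Subgroup.card_bot] at h64
    omega
  obtain ⟨N, ⟨hN, hN0⟩, hmin⟩ := Set.exists_min_image _ (fun N : Subgroup G => Nat.card N)
    (Set.toFinite _) hne
  have hmin' : ∀ K : Subgroup G, K.Normal → K ≤ N → K = ⊥ ∨ K = N := fun K hK hle => by
    rcases eq_or_ne K ⊥ with e | e
    · exact Or.inl e
    · exact Or.inr (Subgroup.eq_of_le_of_card_ge hle (hmin K ⟨hK, e⟩))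
  obtain ⟨hSN, hsimple⟩ := normalInput G S R A h hO h2 N hN hN0 hmin'
  haveI := hsimple
  have hsh : Shape ((S.subtype hSN : Sylow 2 N) : Subgroup N) (R.comap N.subtype) (A.comap N.subtype) :=
    h.comap N.subtype N.subtype_injective (hSN.trans N.range_subtype.ge)
  have hiso := simple_iso F hB hF hsh fun H _ _ T R' A' hlt hT =>
    hb H T R' A' (hlt.trans_le (Subgroup.card_le_card_group N)) hT
  refine almostSimpleInput F hF G N hN hiso ?_ ?_
  · rw [Nat.odd_iff]
    have h1 : ¬ 2 ∣ N.index := fun e => S.not_dvd_index (e.trans (index_dvd_of_le hSN))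
    omega
  set C := centralizer (N : Set G) with hC
  haveI hCn : C.Normal := centralizer_normal_of_normal hN
  haveI := hN
  have hCN : C ⊓ N = ⊥ := by
    refine (hmin' (C ⊓ N) inferInstance inf_le_right).resolve_right fun e => ?_
    haveI : IsMulCommutative N := ⟨⟨fun a b => Subtype.ext
      (mem_centralizer_iff.1 ((inf_eq_right.1 e) b.2) a a.2)⟩⟩
    have h64 : Nat.card (S : Subgroup G) ∣ Nat.card N := Subgroup.card_dvd_of_le hSN
    rw [h.card_S] at h64
    have hp : (Nat.card N).Prime := by
      letI : CommGroup N := { (inferInstance : Group N) with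
        mul_comm := fun a b => mul_comm' a b }
      exact IsSimpleGroup.prime_card
    rcases (Nat.dvd_prime hp).1 h64 with e1 | e1
    · omega
    · rw [← e1] at hp
      norm_num at hp
  refine le_bot_iff.1 (hO ▸ Cores.le_oddCore ?_)
  by_contra hev
  rw [Nat.not_odd_iff_even, even_iff_two_dvd] at hev
  obtain ⟨⟨x, hx⟩, hx2⟩ := exists_prime_orderOf_dvd_card' 2 hev
  rw [Subgroup.orderOf_mk] at hx2
  have hp : IsPGroup 2 (zpowers x) := IsPGroup.of_card (n := 1) (by rw [Nat.card_zpowers, hx2]; rfl)
  obtain ⟨Q, hQ⟩ := hp.exists_le_sylow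
  obtain ⟨g, hg⟩ := MulAction.exists_smul_eq G Q S
  have hxS : g * x * g⁻¹ ∈ (S : Subgroup G) := by
    rw [← hg, Sylow.coe_subgroup_smul]
    exact ⟨x, hQ (mem_zpowers x), rfl⟩
  have hmem : g * x * g⁻¹ ∈ C ⊓ N := ⟨hCn.conj_mem x hx g, hSN hxS⟩
  rw [hCN, Subgroup.mem_bot, conj_eq_one_iff] at hmem
  rw [hmem, orderOf_one] at hx2
  omega

/-- The theorem for every order. -/
theorem below_all (hB : BothFusedInput.{u, v}) (hF : Fintype.card F = 4) :
    ∀ n : ℕ, Below.{u, v} n F := by
  intro n
  induction n with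
  | zero => exact fun H _ _ S R A hlt => absurd hlt (Nat.not_lt_zero _)
  | succ n ih =>
    intro G _ _ S R A hlt h
    haveI : Fact (Nat.Prime 2) := ⟨Nat.prime_two⟩
    set q := QuotientGroup.mk' (Cfsg.oddCore G) with hq
    have hsurj : Function.Surjective q := QuotientGroup.mk'_surjective _
    set T : Sylow 2 (G ⧸ Cfsg.oddCore G) := S.mapSurjective hsurj with hT
    have hsh : Shape (T : Subgroup (G ⧸ Cfsg.oddCore G)) (R.map q) (A.map q) := by
      rw [hT, Sylow.coe_mapSurjective]
      exact h.map_injOn q fun x hx e => eq_one_of_two_group (X := Cfsg.oddCore G)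
        (T := (S : Subgroup G)) Cores.oddCore_odd S.2 ((QuotientGroup.eq_one_iff x).1 e) hx
    refine embeds_of_core_eq_bot F hB hF hsh InvChar.Core.oddCore_quotient_oddCore_eq_bot
      fun H _ _ U R' A' hlt' hU => ih H U R' A' ?_ hU
    exact hlt'.trans_le ((Subgroup.card_quotient_dvd_card _ |> Nat.le_of_dvd Nat.card_pos).trans
      (Nat.le_of_lt_succ hlt))

/-- A group with a Sylow 2-subgroup of type `L₃(4)` embeds in `PGL₃(F)` modulo its core. -/
theorem mod_core_embeds (hB : BothFusedInput.{u, v}) (hF : Fintype.card F = 4) {G : Type u} [Group G]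
    [Finite G] {S : Sylow 2 G} {R A : Subgroup G} (h : Shape (S : Subgroup G) R A) :
    EmbedsPGL (G ⧸ Cfsg.oddCore G) F :=
  below_all F hB hF (Nat.card G + 1) G S R A (Nat.lt_succ_self _) h

end Cfsg.Agent.L34Type
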