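import Cfsg.Agent.Lib.L34Type.NoFusionSide

/-!
# Sylow 2-subgroups of type `L₃(4)`: a simple group has a fused side
-/

set_option autoImplicit false
set_option linter.style.haveILetI false
set_option linter.unusedSectionVars false

namespace Cfsg.Agent.L34Type

open Subgroup Cfsg.Agent.CIT Cfsg.Agent.Involutions
open Cfsg.Agent.StronglyClosedFour (core core_le core_odd le_normalizer_core eq_one_of_two_group
  exists_conj_into_involution odd_orderOf_of_mem)
open scoped Pointwise

universe u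

variable {G : Type u} [Group G] [Finite G] {S : Sylow 2 G} {R A : Subgroup G}

theorem oddCore_eq_bot_of_simple [IsSimpleGroup G] (h : Shape (S : Subgroup G) R A) :
    Cfsg.oddCore G = ⊥ := by
  refine (IsSimpleGroup.eq_bot_or_eq_top_of_normal (Cfsg.oddCore G) inferInstance).resolve_right
    fun e => ?_
  have h1 : Odd (Nat.card G) := by
    rw [← Subgroup.card_top (G := G), ← e]; exact Cores.oddCore_odd
  have h2 : 2 ∣ Nat.card G := Dvd.dvd.trans ⟨32, h.card_S.trans (by norm_num)⟩ (card_subgroup_dvd_card (S : Subgroup G))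
  exact absurd (even_iff_two_dvd.2 h2) (Nat.not_even_iff_odd.2 h1)

theorem not_normal_of_simple [IsSimpleGroup G] (h : Shape (S : Subgroup G) R A) {N : Subgroup G}
    (hN : N ≠ ⊥) (hN' : Nat.card N ≤ 32) : ¬ N.Normal := fun hn => by
  rcases IsSimpleGroup.eq_bot_or_eq_top_of_normal N hn with e | e
  · exact hN e
  · have h2 := Subgroup.card_le_card_group (S : Subgroup G)
    rw [e, Subgroup.card_top] at hN'
    rw [h.card_S] at h2
    omega

namespace Shape

variable (h : Shape (S : Subgroup G) R A)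
include h

/-- Not every element of `R \ A` has a covered centraliser. -/
theorem exists_wide [IsSimpleGroup G]
    (hnsR : ∀ n ∈ normalizer (R : Set G), ∀ z ∈ R ⊓ A, n * z * n⁻¹ ∈ A)
    (hnsA : ∀ n ∈ normalizer (A : Set G), ∀ z ∈ A ⊓ R, n * z * n⁻¹ ∈ R) :
    ∃ r ∈ R, r ∉ A ∧ ∃ H, Kernel R A r H ∧ Wide R A H := by
  haveI : Fact (Nat.Prime 2) := ⟨Nat.prime_two⟩
  by_contra hne
  push Not at hne
  have hcov : ∀ r ∈ R, r ∉ A → Covered R r := fun r hr hrA => by
    obtain ⟨H, hH⟩ := h.exists_kernel hnsR hr hrA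
    exact (h.covered_or_wide hnsR hr hrA hH).resolve_right (hne r hr hrA H hH)
  obtain ⟨r, hr, hrA⟩ := h.exists_R_notMem_A
  obtain ⟨z, hz, hz1⟩ := h.exists_inf_ne_one
  have hmain := StronglyClosedFour.General.main R h.R_sq (by rw [h.R_card]; norm_num)
    ((h.odd_cent hnsR hr hrA).of_dvd_nat (relIndex_dvd_relIndex
      (fun t ht => mem_centralizer_iff.2 fun w hw => h.R_comm hw ht)
      (fun x hx => mem_centralizer_singleton_iff.2 (mem_centralizer_iff.1 hx r hr).symm)))
    (fun g u hu hgu => by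
      have hy2 : g * u * g⁻¹ * (g * u * g⁻¹) = 1 := by
        rw [show g * u * g⁻¹ * (g * u * g⁻¹) = g * (u * u) * g⁻¹ by group, h.R_sq u hu, mul_one,
          mul_inv_cancel]
      have hodd : Odd ((S : Subgroup G).relIndex (normalizer (R : Set G))) := by
        rw [Nat.odd_iff]
        have h1 : ¬ 2 ∣ (S : Subgroup G).relIndex (normalizer (R : Set G)) := fun e =>
          S.not_dvd_index (e.trans (relIndex_dvd_index_of_le h.le_norm_R))
        omega
      obtain ⟨k, hk, hkS⟩ := exists_conj_into_involution hy2 hgu hodd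
      rw [show k⁻¹ * (g * u * g⁻¹) * k = k⁻¹ * g * u * (k⁻¹ * g)⁻¹ by group] at hkS
      have hmem : k⁻¹ * g * u * (k⁻¹ * g)⁻¹ ∈ R := by
        by_cases huA : u ∈ A
        · exact (h.conj_mem_inf hnsR hnsA ⟨hu, huA⟩ hkS).1
        · exact (h.exists_norm_conj hu (h.conj_notMem_of_normalizes hnsR hu huA) hkS).1
      have := (mem_normalizer_iff.1 hk _).1 hmem
      rwa [show k * (k⁻¹ * g * u * (k⁻¹ * g)⁻¹) * k⁻¹ = g * u * g⁻¹ by group] at this)
    (fun u hu hu1 k hk => by
      by_cases huA : u ∈ A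
      · obtain ⟨o, ho, n, hn, e⟩ := h.cent_cover ⟨hu, huA⟩ hu1 k hk
        exact ⟨o, ho, n, h.norm_S_le_R (mem_inf.1 hn).1, e⟩
      · exact hcov u hu huA k hk)
    ⟨z, hz.1, r, hr, hz1, fun e => hrA (e ▸ one_mem A),
      h.not_isConj_of_notMem hnsR hnsA hz (h.R_le hr) fun e => hrA e.2⟩
  rw [oddCore_eq_bot_of_simple h, sup_bot_eq] at hmain
  refine not_normal_of_simple h (fun e => ?_) (by rw [h.R_card]; norm_num) hmain
  have h16 := h.R_card
  rw [e, Subgroup.card_bot] at h16
  omega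

theorem inf_isConj_of_wide (hnsR : ∀ n ∈ normalizer (R : Set G), ∀ z ∈ R ⊓ A, n * z * n⁻¹ ∈ A)
    {r : G} (hr : r ∈ R) (hrA : r ∉ A) {H : Subgroup G} (hH : Kernel R A r H) (hW : Wide R A H)
    {z w : G} (hz : z ∈ R ⊓ A) (hz1 : z ≠ 1) (hw : w ∈ R ⊓ A) (hw1 : w ≠ 1) : IsConj z w := by
  obtain ⟨m, -, -, e⟩ := h.wide_norm hnsR hr hrA hH hW hz hz1 hw hw1
  exact isConj_iff.2 ⟨m, e⟩

end Shape

/-- A simple group has a fused side. -/
theorem fused_of_simple [IsSimpleGroup G] (hK : KleinIneq.{u}) (h : Shape (S : Subgroup G) R A) :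
    Fused R ∨ Fused A := by
  haveI : Fact (Nat.Prime 2) := ⟨Nat.prime_two⟩
  rcases h.fused_or_normalizes with hf | hnsR
  · exact Or.inl hf
  rcases h.symm.fused_or_normalizes with hf | hnsA
  · exact Or.inr hf
  exfalso
  obtain ⟨r, hr, hrA, Hr, hHr, hWr⟩ := h.exists_wide hnsR hnsA
  obtain ⟨a, ha, haR, Ha, hHa, hWa⟩ := h.symm.exists_wide hnsA hnsR
  obtain ⟨z, hz, hz1⟩ := h.exists_inf_ne_one
  have hz' : z ∈ A ⊓ R := ⟨hz.2, hz.1⟩
  obtain ⟨δr, hδr, hbr⟩ := h.wide_bound hnsR hr hrA hHr hWr hnsA hK hz hz1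
  obtain ⟨δa, hδa, hba⟩ := h.symm.wide_bound hnsA ha haR hHa hWa hnsR hK hz' hz1
  set C := centralizer ({z} : Set G) with hC
  set O := core C with hO
  have hcr := h.wide_card hnsR hr hrA hHr hWr hz hz1
  have hca := h.symm.wide_card hnsA ha haR hHa hWa hz' hz1
  have hSC := h.le_centralizer_of_mem_inf hz
  -- `C(z)` induces an automorphism of order 3 on `S`
  have hcz : 192 * Nat.card O ≤ Nat.card C := by
    set P := O ⊔ (S : Subgroup G) with hP
    have hPC : P ≤ C := sup_le (core_le C) hSC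
    have hSO : (S : Subgroup G) ≤ normalizer (O : Set G) := hSC.trans (le_normalizer_core C)
    have hmul : ∀ k ∈ P, ∃ o ∈ O, ∃ s ∈ (S : Subgroup G), k = o * s := fun k hk => by
      have h1 : k ∈ (O : Set G) * ((S : Subgroup G) : Set G) := by
        rw [← Subgroup.coe_mul_of_right_le_normalizer_left _ _ hSO]; exact hk
      obtain ⟨o, ho, s, hs, e⟩ := h1
      exact ⟨o, ho, s, hs, e.symm⟩
    have hPc := Count.card_of_split (le_sup_left : O ≤ P) (le_sup_right : (S : Subgroup G) ≤ P)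
      (fun x hx hxS => eq_one_of_two_group (core_odd C) S.2 hx hxS) hmul
    have hodd : Odd (P.relIndex C) := by
      rw [Nat.odd_iff]
      have h1 : ¬ 2 ∣ P.relIndex C := fun e =>
        S.not_dvd_index ((e.trans (relIndex_dvd_index_of_le hPC)).trans
          (index_dvd_of_le le_sup_right))
      omega
    have hne1 : P.relIndex C ≠ 1 := by
      intro e1
      have hCP : C ≤ P := relIndex_eq_one.1 e1
      obtain ⟨w, hw, hw1, hwz⟩ : ∃ w ∈ R ⊓ A, w ≠ 1 ∧ w ≠ z := by
        by_contra hne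
        push Not at hne
        have hsub : ((R ⊓ A : Subgroup G) : Set G) ⊆ {1, z} := fun y hy => by
          rcases eq_or_ne y 1 with e | e
          · exact Or.inl e
          · exact Or.inr (hne y hy e)
        have h4 := Set.ncard_le_ncard hsub (Set.toFinite _)
        rw [← Nat.card_coe_set_eq, SetLike.coe_sort_coe, h.inf_card] at h4
        have := Set.ncard_pair hz1.symm
        omega
      obtain ⟨m₁, hm₁, hm₁r, hm₁z⟩ := h.wide_norm hnsR hr hrA hHr hWr hz hz1 hw hw1
      obtain ⟨m₂, hm₂, hm₂a, hm₂w⟩ :=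
        h.symm.wide_norm hnsA ha haR hHa hWa ⟨hw.2, hw.1⟩ hw1 hz' hz1
      have hn : m₂ * m₁ ∈ C := mem_centralizer_singleton_iff.2
        (mul_inv_eq_iff_eq_mul.1 (by rw [conj_comp, hm₁z, hm₂w]))
      obtain ⟨o, ho, s, hs, e⟩ := hmul _ (hCP hn)
      -- `m₂` would fix `r` and `a` modulo `R ⊓ A`
      have hnr : m₂ * m₁ * r * (m₂ * m₁)⁻¹ = m₂ * r * m₂⁻¹ := by
        rw [conj_comp, hm₁r, mul_inv_cancel_right]
      have hr' : m₂ * r * m₂⁻¹ = s * r * s⁻¹ := by
        have hx : s * r * s⁻¹ ∈ (S : Subgroup G) := mul_mem (mul_mem hs (h.R_le hr)) (inv_mem hs)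
        refine mul_inv_eq_one.1 (eq_one_of_two_group (core_odd C) S.2 ?_
          (mul_mem (h.R_le (h.conj_R hm₂ hr)) (inv_mem hx)))
        rw [← hnr, e, conj_comp]
        generalize hX : s * r * s⁻¹ = x at hx
        rw [show o * x * o⁻¹ * x⁻¹ = o * (x * o⁻¹ * x⁻¹) by group]
        exact mul_mem ho ((mem_normalizer_iff.1 (le_normalizer_core C (hSC hx)) _).1 (inv_mem ho))
      have hrmod : m₂ * r * m₂⁻¹ * r ∈ A := by rw [hr']; exact (h.conj_mul_mem hr hs).2
      have hR2 := h.norm_mod_R hm₂ hr hrA hrmod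
      have hA2 : ∀ x ∈ A, m₂ * x * m₂⁻¹ * x ∈ R ⊓ A := fun x hx => by
        have := h.symm.norm_mod_R hm₂ ha haR
          (by rw [hm₂a, mul_inv_cancel_right, h.A_sq a ha]; exact one_mem R) x hx
        exact ⟨this.2, this.1⟩
      exact hwz ((h.norm_fix_of_mod hm₂ hR2 hA2 w hw).symm.trans hm₂w)
    rw [card_eq_card_mul_relIndex hPC, hPc, h.card_S]
    obtain ⟨j, hj⟩ := hodd
    rw [hj] at hne1 ⊢
    have hj1 : 1 ≤ j := by omega
    calc 192 * Nat.card O = Nat.card O * 64 * (2 * 1 + 1) := by ring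
      _ ≤ _ := Nat.mul_le_mul_left _ (by omega)
  -- the pairs from the classes of `r` and `a`
  have or₂ : orderOf r = 2 := Basic.orderOf_two_iff.2 ⟨h.R_sq r hr, fun e => hrA (e ▸ one_mem A)⟩
  have oa : orderOf a = 2 := Basic.orderOf_two_iff.2 ⟨h.A_sq a ha, fun e => haR (e ▸ one_mem R)⟩
  have oz : orderOf z = 2 := Basic.orderOf_two_iff.2 ⟨h.R_sq z hz.1, hz1⟩
  have hnra : ∀ t ∈ R, t ∉ A → ∀ t' ∈ A, t' ∉ R → ¬ IsConj t t' := fun t ht htA t' ht' ht'R hc => by
    obtain ⟨g, rfl⟩ := isConj_iff.1 hc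
    exact ht'R (h.exists_norm_conj ht (h.conj_notMem_of_normalizes hnsR ht htA) (h.A_le ht')).1
  have hnc : ¬ IsConj r a := hnra r hr hrA a ha haR
  have hcount := Count.one_class_count or₂ oa oz hnc (fun p q hp hq => by
    have op := Count.orderOf_of_isConj or₂ hp
    have oq := Count.orderOf_of_isConj oa hq
    obtain ⟨oi, cip, ciq⟩ := Basic.middle_involution op oq
      (Basic.even_orderOf_mul_of_not_isConj op oq fun hc => hnc (hp.trans (hc.trans hq.symm)))
    set i := (p * q) ^ (orderOf (p * q) / 2)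
    have hmove : ∀ (T : Subgroup G) (x y : G), Commute i y → IsConj x y →
        Odd (T.relIndex (centralizer ({x} : Set G))) → ∃ t ∈ T, IsConj t i := by
      intro T x y hiy hxy hodd
      obtain ⟨g, rfl⟩ := isConj_iff.1 hxy
      have hxC : g⁻¹ * i * g ∈ centralizer ({x} : Set G) := mem_centralizer_singleton_iff.2 (by
        calc g⁻¹ * i * g * x = g⁻¹ * (i * (g * x * g⁻¹)) * g := by group
          _ = g⁻¹ * ((g * x * g⁻¹) * i) * g := by rw [hiy.eq]
          _ = x * (g⁻¹ * i * g) := by group)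
      obtain ⟨c, -, hcT⟩ := exists_conj_into_involution (by
        rw [show g⁻¹ * i * g * (g⁻¹ * i * g) = g⁻¹ * (i * i) * g by group, Basic.inv_sq_one oi,
          mul_one, inv_mul_cancel]) hxC hodd
      exact ⟨_, hcT, isConj_iff.2 ⟨g * c, by group⟩⟩
    obtain ⟨t, ht, hti⟩ := hmove R r p cip hp (h.odd_cent hnsR hr hrA)
    obtain ⟨t', ht', ht'i⟩ := hmove A a q ciq hq (h.symm.odd_cent hnsA ha haR)
    have ht1 : t ≠ 1 := by
      rintro rfl
      obtain ⟨g, hg⟩ := isConj_iff.1 hti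
      exact Basic.ne_one oi (by rw [← hg]; group)
    by_cases htA : t ∈ A
    · exact (h.inf_isConj_of_wide hnsR hr hrA hHr hWr hz hz1 ⟨ht, htA⟩ ht1).trans hti
    by_cases ht'R : t' ∈ R
    · have ht'1 : t' ≠ 1 := by
        rintro rfl
        obtain ⟨g, hg⟩ := isConj_iff.1 ht'i
        exact Basic.ne_one oi (by rw [← hg]; group)
      exact (h.inf_isConj_of_wide hnsR hr hrA hHr hWr hz hz1 ⟨ht'R, ht'⟩ ht'1).trans ht'i
    exact absurd (hti.trans ht'i.symm) (hnra t ht htA t' ht' ht'R))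
  set Fr := (centralizer ({r} : Set G) ⊓ O).relIndex O
  set Fa := (centralizer ({a} : Set G) ⊓ O).relIndex O
  have hN : Nat.card {p : G × G // IsConj r p.1 ∧ IsConj a p.2 ∧ z ∈ zpowers (p.1 * p.2)} ≤
      48 * (Fr * Fa) := by
    classical
    haveI := Fintype.ofFinite G
    -- the possible images in `S`
    set T := Finset.univ.filter fun t : G × G => t.1 ∈ R ∧ t.1 ∉ A ∧ t.2 ∈ A ∧ t.2 ∉ R ∧
      IsConj r t.1 ∧ IsConj a t.2 ∧ t.1 * t.2 * (t.1 * t.2) = z with hT
    have hTc : T.card ≤ 48 := by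
      set R' := Finset.univ.filter fun x : G => x ∈ R ∧ x ∉ A with hR'
      have hR'c : R'.card ≤ 12 := by
        have hsub : R' ⊆ (Finset.univ.filter fun x : G => x ∈ R) \
            Finset.univ.filter fun x : G => x ∈ R ⊓ A := by
          intro x hx
          simp only [hR', Finset.mem_filter, Finset.mem_univ, true_and] at hx
          simp only [Finset.mem_sdiff, Finset.mem_filter, Finset.mem_univ, true_and]
          exact ⟨hx.1, fun e => hx.2 e.2⟩
        refine (Finset.card_le_card hsub).trans_eq ?_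
        rw [Finset.card_sdiff_of_subset (fun x hx => by
          simp only [Finset.mem_filter, Finset.mem_univ, true_and] at hx ⊢; exact hx.1)]
        have c1 : (Finset.univ.filter fun x : G => x ∈ R).card = 16 := by
          rw [← Fintype.card_subtype, ← Nat.card_eq_fintype_card]; exact h.R_card
        have c2 : (Finset.univ.filter fun x : G => x ∈ R ⊓ A).card = 4 := by
          rw [← Fintype.card_subtype, ← Nat.card_eq_fintype_card]; exact h.inf_card
        rw [c1, c2]
      have hsub : T ⊆ R'.biUnion fun x => T.filter fun t => t.1 = x := fun t ht => by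
        refine Finset.mem_biUnion.2 ⟨t.1, ?_, by simp [ht]⟩
        simp only [hT, hR', Finset.mem_filter, Finset.mem_univ, true_and] at ht ⊢
        exact ⟨ht.1, ht.2.1⟩
      refine (Finset.card_le_card hsub).trans (Finset.card_biUnion_le.trans
        ((Finset.sum_le_card_nsmul _ _ 4 fun x _ => ?_).trans (by rw [smul_eq_mul]; omega)))
      rcases (T.filter fun t => t.1 = x).eq_empty_or_nonempty with e | ⟨⟨x₀, y₀⟩, h0⟩
      · rw [e, Finset.card_empty]; omega
      refine le_trans (Finset.card_le_card_of_injOn (fun t : G × G => y₀ * t.2)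
        (t := Finset.univ.filter fun w : G => w ∈ R ⊓ A) ?_ ?_) (le_of_eq ?_)
      · intro t ht
        simp only [hT, Finset.coe_filter, Finset.mem_filter, Finset.mem_univ, true_and,
          Set.mem_ofPred_eq] at ht h0 ⊢
        obtain ⟨⟨t1R, t1A, t2A, -, -, -, te⟩, tx⟩ := ht
        obtain ⟨⟨-, -, y0A, -, -, -, ye⟩, yx⟩ := h0
        rw [tx] at te t1R t1A
        rw [show x₀ = x from yx] at ye
        have c1 : t.2 * x * t.2⁻¹ = y₀ * x * y₀⁻¹ := by
          rw [inv_eq_of_mul_eq_one_right (h.A_sq _ t2A), inv_eq_of_mul_eq_one_right (h.A_sq _ y0A)]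
          have e1 : x * t.2 * x * t.2 = x * y₀ * x * y₀ := by
            simpa [mul_assoc] using te.trans ye.symm
          rw [mul_assoc x t.2 x, mul_assoc x (t.2 * x), mul_assoc x y₀ x, mul_assoc x (y₀ * x)] at e1
          exact mul_left_cancel e1
        refine mem_inf.2 ⟨h.cent_R x t1R t1A _ (h.A_le (mul_mem y0A t2A)) ?_, mul_mem y0A t2A⟩
        have c2 : y₀ * t.2 * x * (y₀ * t.2)⁻¹ = x := by
          rw [conj_comp, c1, ← conj_comp, h.A_sq y₀ y0A]; group
        exact (mul_inv_eq_iff_eq_mul.1 c2).symm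
      · intro t ht t' ht' e
        simp only [Finset.coe_filter, Set.mem_ofPred_eq] at ht ht'
        exact Prod.ext (ht.2.trans ht'.2.symm) (mul_left_cancel e)
      · rw [← Fintype.card_subtype, ← Nat.card_eq_fintype_card]; exact h.inf_card
    set B := fun t : G × G => (Finset.univ.filter fun u : G => u * u = 1 ∧ u * t.1 ∈ O) ×ˢ
      Finset.univ.filter fun u : G => u * u = 1 ∧ u * t.2 ∈ O with hB
    set P := Finset.univ.filter fun p : G × G =>
      IsConj r p.1 ∧ IsConj a p.2 ∧ z ∈ zpowers (p.1 * p.2) with hP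
    have hPsub : P ⊆ T.biUnion B := by
      rintro ⟨p, q⟩ hp
      simp only [hP, Finset.mem_filter, Finset.mem_univ, true_and] at hp
      obtain ⟨hpr, hqa, hzm⟩ := hp
      have op := Count.orderOf_of_isConj or₂ hpr
      have oq := Count.orderOf_of_isConj oa hqa
      obtain ⟨-, cp, cq⟩ := Basic.middle_involution op oq
        (Basic.even_orderOf_mul_of_not_isConj op oq fun hc => hnc (hpr.trans (hc.trans hqa.symm)))
      set k := orderOf (p * q) / 2
      have hzk : z = (p * q) ^ k := OrderFormula.eq_middle oz hzm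
      rw [← hzk] at cp cq
      obtain ⟨t₁, ht₁, ot₁, hp1, q₁, -, e₁⟩ :=
        h.cent_involution hz hz1 op (mem_centralizer_singleton_iff.2 cp.eq.symm)
      obtain ⟨t₂, ht₂, ot₂, hq1, q₂, -, e₂⟩ :=
        h.cent_involution hz hz1 oq (mem_centralizer_singleton_iff.2 cq.eq.symm)
      have hr1 : IsConj r t₁ := hpr.trans (isConj_iff.2 ⟨q₁, e₁⟩).symm
      have ha1 : IsConj a t₂ := hqa.trans (isConj_iff.2 ⟨q₂, e₂⟩).symm
      obtain ⟨g₁, hg₁⟩ := isConj_iff.1 hr1
      obtain ⟨g₂, hg₂⟩ := isConj_iff.1 ha1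
      have m1 := h.exists_norm_conj hr (h.conj_notMem_of_normalizes hnsR hr hrA) (hg₁.symm ▸ ht₁)
      have m2 := h.symm.exists_norm_conj ha (h.symm.conj_notMem_of_normalizes hnsA ha haR)
        (hg₂.symm ▸ ht₂)
      rw [hg₁] at m1
      rw [hg₂] at m2
      have hst := h.pow_mod_core hz ht₁ ht₂ hp1 hq1 hzk.symm (h.R_le hz.1)
      refine Finset.mem_biUnion.2 ⟨(t₁, t₂), ?_, ?_⟩
      · simp only [hT, Finset.mem_filter, Finset.mem_univ, true_and]
        exact ⟨m1.1, m1.2.1, m2.1, m2.2.1, hr1, ha1,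
          ((h.mixed_pow_cases m1.1 m1.2.1 m2.1 hz hst).resolve_left hz1).symm⟩
      · simp only [hB, Finset.mem_product, Finset.mem_filter, Finset.mem_univ, true_and]
        refine ⟨⟨Basic.inv_sq_one op, ?_⟩, ⟨Basic.inv_sq_one oq, ?_⟩⟩
        · rwa [← Basic.inv_eq ot₁]
        · rwa [← Basic.inv_eq ot₂]
    have hBc : ∀ t ∈ T, (B t).card ≤ Fr * Fa := by
      intro t ht
      simp only [hT, Finset.mem_filter, Finset.mem_univ, true_and] at ht
      obtain ⟨t1R, -, t2A, -, hr1, ha1, -⟩ := ht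
      simp only [hB, Finset.card_product]
      refine le_of_eq (congrArg₂ (· * ·) ?_ ?_)
      · rw [← Fintype.card_subtype, ← Nat.card_eq_fintype_card]
        exact h.wide_fibre hnsR hr hrA hHr hWr hz hz1 (h.R_le t1R) hr1
      · rw [← Fintype.card_subtype, ← Nat.card_eq_fintype_card]
        exact h.symm.wide_fibre hnsA ha haR hHa hWa hz' hz1 (h.A_le t2A) ha1
    calc Nat.card {p : G × G // IsConj r p.1 ∧ IsConj a p.2 ∧ z ∈ zpowers (p.1 * p.2)} = P.card := by
          rw [Nat.card_eq_fintype_card, Fintype.card_subtype]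
      _ ≤ T.card * (Fr * Fa) := (Finset.card_le_card hPsub).trans (Finset.card_biUnion_le.trans
          ((Finset.sum_le_card_nsmul _ _ _ hBc).trans_eq (smul_eq_mul ..)))
      _ ≤ 48 * (Fr * Fa) := Nat.mul_le_mul_right _ hTc
  -- arithmetic
  have e1 := OrderFormula.class_card_mul r
  have e2 := OrderFormula.class_card_mul a
  have e3 : Nat.card {u : G // IsConj z u} * Nat.card C = Nat.card G := OrderFormula.class_card_mul z
  have fr : Nat.card ↥(centralizer ({r} : Set G) ⊓ O : Subgroup G) * Fr = Nat.card O :=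
    (card_eq_card_mul_relIndex inf_le_right).symm
  have fa : Nat.card ↥(centralizer ({a} : Set G) ⊓ O : Subgroup G) * Fa = Nat.card O :=
    (card_eq_card_mul_relIndex inf_le_right).symm
  set Z1 := Nat.card {u : G // IsConj z u}
  set cr := Nat.card (centralizer ({r} : Set G))
  set ca := Nat.card (centralizer ({a} : Set G))
  set cz := Nat.card C
  set Qr := Nat.card ↥(centralizer ({r} : Set G) ⊓ O : Subgroup G)
  set Qa := Nat.card ↥(centralizer ({a} : Set G) ⊓ O : Subgroup G)
  set Ir := (centralizer ({(⟨z, hHr.inf_le hz⟩ : Hr)} : Set Hr)).index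
  set Ia := (centralizer ({(⟨z, hHa.inf_le hz'⟩ : Ha)} : Set Ha)).index
  set N := Nat.card {p : G × G // IsConj r p.1 ∧ IsConj a p.2 ∧ z ∈ zpowers (p.1 * p.2)}
  have hG : 0 < Nat.card G := Nat.card_pos
  have key : Z1 * cz * cz ≤ cr * ca * (48 * (Fr * Fa)) := by
    have h1 : Nat.card G * Nat.card G = Z1 * N * (cr * ca) := by
      rw [← hcount]
      calc Nat.card G * Nat.card G = (Nat.card {u : G // IsConj r u} * cr) *
            (Nat.card {u : G // IsConj a u} * ca) := by rw [e1, e2]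
        _ = _ := by ring
    have h2 : Nat.card G * cz = N * (cr * ca) := by
      refine Nat.eq_of_mul_eq_mul_left hG ?_
      calc Nat.card G * (Nat.card G * cz) = Nat.card G * Nat.card G * cz := by ring
        _ = Z1 * cz * (N * (cr * ca)) := by rw [h1]; ring
        _ = Nat.card G * (N * (cr * ca)) := by rw [e3]
    rw [e3, h2]
    exact (Nat.mul_le_mul_right _ hN).trans_eq (mul_comm _ _)
  have hbound : 3 * Z1 ≤ Ir * Ia := by
    have hOpos : 0 < Nat.card O := Nat.card_pos
    have h3 : cr * ca * (48 * (Fr * Fa)) = 12288 * (Ir * Ia) * (Nat.card O * Nat.card O) := by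
      calc cr * ca * (48 * (Fr * Fa)) = 12288 * (Ir * Ia) * ((Qr * Fr) * (Qa * Fa)) := by
            rw [show cr = 16 * Qr * Ir from hcr, show ca = 16 * Qa * Ia from hca]; ring
        _ = _ := by rw [fr, fa]
    have h4 : Z1 * (192 * Nat.card O) * (192 * Nat.card O) ≤ Z1 * cz * cz := by gcongr
    have h5 : 36864 * Z1 * (Nat.card O * Nat.card O) ≤ 12288 * (Ir * Ia) * (Nat.card O * Nat.card O) := by
      rw [← h3]; refine le_trans (le_of_eq ?_) (h4.trans key); ring
    have := Nat.le_of_mul_le_mul_right h5 (Nat.mul_pos hOpos hOpos)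
    omega
  have hIr : 0 < Ir := by omega
  have hIa : 0 < Ia := by omega
  have b1 : 3 * Ir ≤ Ia + 6 * δr ^ 2 := by
    refine Nat.le_of_mul_le_mul_left ?_ hIr
    have : Ir * Ir ≤ Z1 + Ir * (2 * δr ^ 2) := hbr
    nlinarith
  have b2 : 3 * Ia ≤ Ir + 6 * δa ^ 2 := by
    refine Nat.le_of_mul_le_mul_left ?_ hIa
    have : Ia * Ia ≤ Z1 + Ia * (2 * δa ^ 2) := hba
    nlinarith
  omega

end Cfsg.Agent.L34Type
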