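import Cfsg.Agent.Lib.L34Type.OuterOrder
import Cfsg.Agent.Lib.CIT.PlaneAut

/-!
# No simple group has the configuration of `PGL₃(4)`

It would be a group of order 60480 of collineations of the plane of order four.
-/

set_option autoImplicit false
set_option linter.style.haveILetI false
set_option linter.unusedSectionVars false

namespace Cfsg.Agent.L34Type.WithOuter

open Subgroup Cfsg.Agent.CIT

universe u

variable {G : Type u} [Group G] [Finite G] {U : Sylow 2 G} {R A : Subgroup G}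
variable (h : WithOuter U R A)
include h

theorem le_norm_R : (U : Subgroup G) ≤ normalizer (R : Set G) := h.U_le_normalizer.1

theorem le_norm_A : (U : Subgroup G) ≤ normalizer (A : Set G) := h.U_le_normalizer.2

theorem normalizer_U_le_R : normalizer ((U : Subgroup G) : Set G) ≤ normalizer (R : Set G) :=
  h.normalizer_U_le.trans inf_le_left

theorem normalizer_U_le_A : normalizer ((U : Subgroup G) : Set G) ≤ normalizer (A : Set G) :=
  h.normalizer_U_le.trans inf_le_right

theorem normalizer_inf_eq :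
    normalizer (R : Set G) ⊓ normalizer (A : Set G) = normalizer ((U : Subgroup G) : Set G) :=
  h.normalizer_U.symm

theorem mem_U_of_pow_two {g : G} (hg : g ∈ normalizer ((U : Subgroup G) : Set G)) {k : ℕ}
    (hk : g ^ (2 ^ k) = 1) : g ∈ (U : Subgroup G) := by
  haveI : Fact (Nat.Prime 2) := ⟨Nat.prime_two⟩
  obtain ⟨j, -, hj⟩ := (Nat.dvd_prime_pow Nat.prime_two).1 (orderOf_dvd_of_pow_eq_one hk)
  exact h.le_U (IsPGroup.of_card (n := j) (by rw [Nat.card_zpowers, hj])) (zpowers_le.2 hg)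
    (mem_zpowers g)

theorem mem_norm_R_of_mem {g r : G} (hr : r ∈ R) (hr1 : r ≠ 1) (hgr : g⁻¹ * r * g ∈ R) :
    g ∈ normalizer (R : Set G) := by
  refine cj_eq_self_iff.1 ?_
  rw [h.point_unique (g := g) (g' := 1) (Involutions.Basic.orderOf_two_iff.2 ⟨h.R_sq r hr, hr1⟩)
    (mem_cj.2 hgr) (by rwa [cj_one]), cj_one]

end Cfsg.Agent.L34Type.WithOuter

namespace Cfsg.Agent.L34Type.OuterIdentify

open Subgroup MulAction Cfsg.Agent.CIT
open scoped Pointwise

universe u

variable {G : Type u} [Group G] [Finite G] {U : Sylow 2 G} {R A : Subgroup G}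

/-- The base point. -/
def p₀ (R : Subgroup G) : G ⧸ normalizer (R : Set G) := ((1 : G) : G ⧸ normalizer (R : Set G))

theorem smul_p₀_eq_iff (g : G) : g • p₀ R = p₀ R ↔ g ∈ normalizer (R : Set G) := by
  rw [p₀, MulAction.Quotient.smul_coe, smul_eq_mul, mul_one, QuotientGroup.eq, mul_one, inv_mem_iff]

/-- The base line, as a set of points. -/
noncomputable def L₀ (R A : Subgroup G) [Fintype (G ⧸ normalizer (R : Set G))] :
    Finset (G ⧸ normalizer (R : Set G)) :=
  Set.Finite.toFinset (Set.toFinite (Set.range fun k : normalizer (A : Set G) => (k : G) • p₀ R))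

variable [Fintype (G ⧸ normalizer (R : Set G))] [DecidableEq (G ⧸ normalizer (R : Set G))]

theorem mem_L₀ {x : G ⧸ normalizer (R : Set G)} :
    x ∈ L₀ R A ↔ ∃ k ∈ normalizer (A : Set G), k • p₀ R = x := by
  simp [L₀]

theorem p₀_mem : p₀ R ∈ L₀ R A := mem_L₀.2 ⟨1, one_mem _, one_smul _ _⟩

variable (h : WithOuter U R A)
include h

theorem card_L₀ : (L₀ R A).card = 5 := by
  have hr : (L₀ R A : Set (G ⧸ normalizer (R : Set G))) =
      MulAction.orbit (normalizer (A : Set G)) (p₀ R) := by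
    rw [L₀, Set.Finite.coe_toFinset]; rfl
  rw [← Set.ncard_coe_finset, hr, ← Nat.card_coe_set_eq]
  have hs : stabilizer (normalizer (A : Set G)) (p₀ R) =
      (normalizer ((U : Subgroup G) : Set G)).subgroupOf (normalizer (A : Set G)) := by
    ext k
    rw [mem_stabilizer_iff, Subgroup.mem_subgroupOf, ← h.normalizer_inf_eq, Subgroup.mem_inf]
    exact (smul_p₀_eq_iff (k : G)).trans ⟨fun hk => ⟨hk, k.2⟩, And.left⟩
  have h1 := (Nat.card_congr (orbitProdStabilizerEquivGroup (normalizer (A : Set G)) (p₀ R))).symm.trans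
    (Nat.card_prod _ _)
  rw [hs, Nat.card_congr (Subgroup.subgroupOfEquivOfLe h.normalizer_U_le_A).toEquiv, h.norm_U,
    h.norm_A] at h1
  omega

theorem smul_L₀_of_mem {k : G} (hk : k ∈ normalizer (A : Set G)) : k • L₀ R A = L₀ R A := by
  refine Finset.eq_of_subset_of_card_le (fun x hx => ?_) (by rw [Finset.card_smul_finset])
  obtain ⟨y, hy, rfl⟩ := Finset.mem_smul_finset.1 hx
  obtain ⟨k', hk', rfl⟩ := mem_L₀.1 hy
  exact mem_L₀.2 ⟨k * k', mul_mem hk hk', mul_smul _ _ _⟩

theorem A_fix {a : G} (ha : a ∈ A) {x : G ⧸ normalizer (R : Set G)} (hx : x ∈ L₀ R A) : a • x = x := by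
  obtain ⟨k, hk, rfl⟩ := mem_L₀.1 hx
  have h1 : k⁻¹ * a * k ∈ normalizer (R : Set G) :=
    h.le_norm_R (h.A_le ((Subgroup.mem_normalizer_iff''.1 hk a).1 ha))
  have h2 : (k⁻¹ * a * k) • p₀ R = p₀ R := (smul_p₀_eq_iff _).2 h1
  rw [← mul_smul]
  conv_rhs => rw [← h2, ← mul_smul]
  group

/-- `R` is transitive on the other points of the base line. -/
theorem R_trans {x y : G ⧸ normalizer (R : Set G)} (hx : x ∈ (L₀ R A).erase (p₀ R))
    (hy : y ∈ (L₀ R A).erase (p₀ R)) : ∃ r ∈ R, r • x = y := by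
  classical
  have hfix : ∀ u ∈ (U : Subgroup G), u • p₀ R = p₀ R := fun u hu =>
    (smul_p₀_eq_iff u).2 (h.le_norm_R hu)
  have horbit : MulAction.orbit (U : Subgroup G) x ⊆
      ((L₀ R A).erase (p₀ R) : Set (G ⧸ normalizer (R : Set G))) := by
    rintro _ ⟨⟨u, hu⟩, rfl⟩
    show u • x ∈ _
    rw [Finset.mem_coe, Finset.mem_erase]
    obtain ⟨hne, hxL⟩ := Finset.mem_erase.1 hx
    refine ⟨fun e => hne ?_, ?_⟩
    · have e2 : u • x = u • p₀ R := e.trans (hfix u hu).symm
      exact smul_left_cancel u e2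
    · rw [← smul_L₀_of_mem h (h.le_norm_A hu)]
      exact Finset.smul_mem_smul_finset hxL
  obtain ⟨hne, hxL⟩ := Finset.mem_erase.1 hx
  obtain ⟨k, hk, hkx⟩ := mem_L₀.1 hxL
  have hkR : k ∉ normalizer (R : Set G) := fun e => hne (by rw [← hkx, (smul_p₀_eq_iff k).2 e])
  have hstab : stabilizer (U : Subgroup G) x ≤ A.subgroupOf U := by
    rintro ⟨u, hu⟩ hux
    rw [mem_stabilizer_iff] at hux
    change u • x = x at hux
    rw [← hkx] at hux
    have h1 : k⁻¹ * u * k ∈ normalizer (R : Set G) := by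
      rw [← smul_p₀_eq_iff, mul_smul, mul_smul, hux, inv_smul_smul]
    have h2 : k⁻¹ * u * k ∈ normalizer ((U : Subgroup G) : Set G) := by
      rw [← h.normalizer_inf_eq]
      exact Subgroup.mem_inf.2 ⟨h1, mul_mem (mul_mem (inv_mem hk) (h.le_norm_A hu)) hk⟩
    obtain ⟨m, hm⟩ := U.2 ⟨u, hu⟩
    have h3 : k⁻¹ * u * k ∈ (U : Subgroup G) := by
      refine h.mem_U_of_pow_two h2 (k := m) ?_
      have hu1 : u ^ (2 ^ m) = 1 := by simpa using congrArg Subtype.val hm
      calc (k⁻¹ * u * k) ^ (2 ^ m) = (k⁻¹ * u * (k⁻¹)⁻¹) ^ (2 ^ m) := by rw [inv_inv]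
        _ = k⁻¹ * u ^ (2 ^ m) * (k⁻¹)⁻¹ := conj_pow
        _ = 1 := by rw [hu1]; group
    show u ∈ A
    obtain ⟨r, hr, a, ha, rfl⟩ := h.exists_mul_eq hu
    refine mul_mem ?_ ha
    by_contra hrA
    have ha' : k⁻¹ * a * k ∈ A := (Subgroup.mem_normalizer_iff''.1 hk a).1 ha
    have hr' : k⁻¹ * r * k ∈ (U : Subgroup G) := by
      have := mul_mem h3 (inv_mem (h.A_le ha'))
      rwa [show k⁻¹ * (r * a) * k * (k⁻¹ * a * k)⁻¹ = k⁻¹ * r * k by group] at this
    have hsq : k⁻¹ * r * k * (k⁻¹ * r * k) = 1 := by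
      rw [show k⁻¹ * r * k * (k⁻¹ * r * k) = k⁻¹ * (r * r) * k by group, h.R_sq r hr]; group
    have hrR : k⁻¹ * r * k ∈ R := (h.involutions _ hr' hsq).resolve_right fun e => hrA
      ((Subgroup.mem_normalizer_iff''.1 hk r).2 e)
    exact hkR (h.mem_norm_R_of_mem hr (fun e => hrA (e ▸ one_mem A)) hrR)
  have h4 : 4 ≤ (MulAction.orbit (U : Subgroup G) x).ncard := by
    rw [← Nat.card_coe_set_eq]
    have h1 := (Nat.card_congr (orbitProdStabilizerEquivGroup (U : Subgroup G) x)).symm.trans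
      (Nat.card_prod _ _)
    rw [h.card_U] at h1
    have h2 := Nat.card_le_card_of_injective _ (Subgroup.inclusion_injective hstab)
    rw [Nat.card_congr (Subgroup.subgroupOfEquivOfLe h.A_le).toEquiv, h.A_card] at h2
    nlinarith
  have heq := Set.eq_of_subset_of_ncard_le horbit
    (by rw [Set.ncard_coe_finset, Finset.card_erase_of_mem p₀_mem, card_L₀ h]; exact h4)
    (Set.toFinite _)
  obtain ⟨⟨u, hu⟩, hux⟩ : y ∈ MulAction.orbit (U : Subgroup G) x := by rw [heq]; exact hy
  obtain ⟨r, hr, a, ha, rfl⟩ := h.exists_mul_eq hu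
  refine ⟨r, hr, ?_⟩
  rw [← show (r * a) • x = y from hux, mul_smul, A_fix h ha hxL]

/-- Lines through the base point meet the base line only there, or coincide with it. -/
theorem smul_L₀_eq_of_meet {g : G} (hg : g ∈ normalizer (R : Set G))
    {x : G ⧸ normalizer (R : Set G)} (hx : x ∈ (L₀ R A).erase (p₀ R)) (hgx : x ∈ g • L₀ R A) :
    g • L₀ R A = L₀ R A := by
  refine Finset.eq_of_subset_of_card_le (fun y hy => ?_) (by rw [Finset.card_smul_finset])
  by_cases hyp : y = p₀ R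
  · rw [hyp]; exact p₀_mem
  obtain ⟨hxne, hxL⟩ := Finset.mem_erase.1 hx
  obtain ⟨x', hx', hgx'⟩ := Finset.mem_smul_finset.1 hgx
  obtain ⟨y', hy', rfl⟩ := Finset.mem_smul_finset.1 hy
  have hgp : g • p₀ R = p₀ R := (smul_p₀_eq_iff g).2 hg
  obtain ⟨r, hr, hrx⟩ := R_trans h (x := x') (y := y')
    (Finset.mem_erase.2 ⟨fun e => hxne (by rw [← hgx', e, hgp]), hx'⟩)
    (Finset.mem_erase.2 ⟨fun e => hyp (by rw [e, hgp]), hy'⟩)
  have hr' : g * r * g⁻¹ ∈ R := (Subgroup.mem_normalizer_iff.1 hg r).1 hr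
  have : g • y' = (g * r * g⁻¹) • x := by
    rw [← hrx, ← hgx', ← mul_smul, ← mul_smul]; group
  rw [this, ← smul_L₀_of_mem h (h.le_norm_A (h.R_le hr'))]
  exact Finset.smul_mem_smul_finset hxL

theorem stab_L₀ (hG : Nat.card G = 60480) {g : G} (hg : g ∈ normalizer (R : Set G))
    (hgL : g • L₀ R A = L₀ R A) : g ∈ normalizer ((U : Subgroup G) : Set G) := by
  classical
  set M := stabilizer G (L₀ R A) with hM
  set T := M ⊓ normalizer (R : Set G) with hT
  have hBT : normalizer ((U : Subgroup G) : Set G) ≤ T :=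
    le_inf (fun k hk => smul_L₀_of_mem h (h.normalizer_U_le_A hk)) h.normalizer_U_le_R
  have hgT : g ∈ T := ⟨hgL, hg⟩
  by_contra hgB
  have hlt : 576 < Nat.card T := by
    rw [← h.norm_U]
    refine lt_of_le_of_ne (Nat.le_of_dvd Nat.card_pos (Subgroup.card_dvd_of_le hBT)) fun e => hgB ?_
    rw [Subgroup.eq_of_le_of_card_ge hBT e.ge]
    exact hgT
  have h576 : 576 ∣ Nat.card T := h.norm_U ▸ Subgroup.card_dvd_of_le hBT
  have h2880 : Nat.card T ∣ 2880 := h.norm_R ▸ Subgroup.card_dvd_of_le inf_le_right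
  have hT2880 : Nat.card T = 2880 := by
    obtain ⟨j, hj⟩ := h576
    rw [hj] at h2880 hlt
    have hj5 : j ∣ 5 := (Nat.mul_dvd_mul_iff_left (show 0 < 576 by norm_num)).1 h2880
    rcases (Nat.dvd_prime Nat.prime_five).1 hj5 with rfl | rfl
    · omega
    · exact hj
  have hle : normalizer (R : Set G) ≤ M := by
    have e : T = normalizer (R : Set G) :=
      Subgroup.eq_of_le_of_card_ge inf_le_right (by rw [h.norm_R]; exact hT2880.ge)
    rw [← e]
    exact inf_le_left
  have horb : MulAction.orbit M (p₀ R) = (L₀ R A : Set (G ⧸ normalizer (R : Set G))) := by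
    refine Set.Subset.antisymm ?_ fun y hy => ?_
    · rintro _ ⟨⟨m, hm⟩, rfl⟩
      show m • p₀ R ∈ _
      rw [Finset.mem_coe, ← (show m • L₀ R A = L₀ R A from hm)]
      exact Finset.smul_mem_smul_finset p₀_mem
    · obtain ⟨k, hk, rfl⟩ := mem_L₀.1 hy
      exact ⟨⟨k, smul_L₀_of_mem h hk⟩, rfl⟩
  have hs : stabilizer M (p₀ R) = (normalizer (R : Set G)).subgroupOf M := by
    ext m
    rw [mem_stabilizer_iff, Subgroup.mem_subgroupOf]
    exact smul_p₀_eq_iff (m : G)
  have h1 := (Nat.card_congr (orbitProdStabilizerEquivGroup M (p₀ R))).symm.trans (Nat.card_prod _ _)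
  rw [hs, Nat.card_congr (Subgroup.subgroupOfEquivOfLe hle).toEquiv, h.norm_R, horb,
    Nat.card_coe_set_eq, Set.ncard_coe_finset, card_L₀ h] at h1
  have h2 := M.card_subgroup_dvd_card
  rw [hG] at h2
  rw [h1] at h2
  norm_num at h2

/-- The blocks. -/
theorem steiner (hG : Nat.card G = 60480) :
    Fintype.card (G ⧸ normalizer (R : Set G)) = 21 ∧
    Cfsg.IsSteinerSystem 2 5 (Set.range fun g : G => g • L₀ R A) := by
  classical
  have h21 : Fintype.card (G ⧸ normalizer (R : Set G)) = 21 := by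
    have h1 := Subgroup.card_eq_card_quotient_mul_card_subgroup (normalizer (R : Set G))
    rw [hG, h.norm_R, Nat.card_eq_fintype_card] at h1
    omega
  refine ⟨h21, ?_, ?_⟩
  · rintro _ ⟨g, rfl⟩
    rw [Finset.card_smul_finset, card_L₀ h]
  -- the lines through the base point
  let B : Set (Finset (G ⧸ (normalizer (R : Set G)))) := MulAction.orbit (normalizer (R : Set G)) (L₀ R A)
  haveI : Fintype B := Fintype.ofFinite _
  have hB5 : Nat.card B = 5 := by
    have h1 := (Nat.card_congr (orbitProdStabilizerEquivGroup (normalizer (R : Set G)) (L₀ R A))).symm.trans (Nat.card_prod _ _)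
    have hs : stabilizer (normalizer (R : Set G)) (L₀ R A) =
        (normalizer ((U : Subgroup G) : Set G)).subgroupOf (normalizer (R : Set G)) := by
      ext m
      rw [mem_stabilizer_iff, Subgroup.mem_subgroupOf, Subgroup.smul_def]
      exact ⟨fun hm => stab_L₀ h hG m.2 hm, fun hm => smul_L₀_of_mem h (h.normalizer_U_le_A hm)⟩
    rw [hs, Nat.card_congr (Subgroup.subgroupOfEquivOfLe h.normalizer_U_le_R).toEquiv, h.norm_U,
      h.norm_R] at h1
    exact (Nat.eq_of_mul_eq_mul_right (show 0 < 576 by norm_num)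
      (h1.symm.trans (show 2880 = 5 * 576 by norm_num)))
  have hBmem : ∀ b ∈ B, p₀ R ∈ b ∧ b.card = 5 := by
    rintro _ ⟨⟨g, hg⟩, rfl⟩
    refine ⟨?_, (Finset.card_smul_finset g _).trans (card_L₀ h)⟩
    show p₀ R ∈ g • L₀ R A
    rw [← (smul_p₀_eq_iff g).2 hg]
    exact Finset.smul_mem_smul_finset p₀_mem
  have huniq : ∀ b ∈ B, ∀ c ∈ B, ∀ x ≠ p₀ R, x ∈ b → x ∈ c → b = c := by
    rintro _ ⟨⟨g, hg⟩, rfl⟩ _ ⟨⟨k, hk⟩, rfl⟩ x hx hxg hxk
    change x ∈ g • L₀ R A at hxg
    change x ∈ k • L₀ R A at hxk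
    show g • L₀ R A = k • L₀ R A
    obtain ⟨x', hx', rfl⟩ := Finset.mem_smul_finset.1 hxk
    have := smul_L₀_eq_of_meet h (mul_mem (inv_mem hk) hg) (x := x')
      (Finset.mem_erase.2 ⟨fun e => hx (by rw [e, (smul_p₀_eq_iff k).2 hk]), hx'⟩)
      (by
        rw [mul_smul]
        have h2 := Finset.smul_mem_smul_finset (a := k⁻¹) hxg
        rwa [inv_smul_smul] at h2)
    rw [mul_smul] at this
    conv_rhs => rw [← this, smul_inv_smul]
  have hcover : ∀ x ≠ p₀ R, ∃ b ∈ B, x ∈ b := by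
    intro x hx
    have hdisj : Set.PairwiseDisjoint (B.toFinset : Set (Finset (G ⧸ (normalizer (R : Set G))))) (fun b => b.erase (p₀ R)) := by
      intro b hb c hc hbc
      rw [Function.onFun, Finset.disjoint_left]
      intro y hyb hyc
      exact hbc (huniq b (Set.mem_toFinset.1 hb) c (Set.mem_toFinset.1 hc) y (Finset.mem_erase.1 hyb).1
        (Finset.mem_erase.1 hyb).2 (Finset.mem_erase.1 hyc).2)
    have hcard : (B.toFinset.biUnion fun b => b.erase (p₀ R)).card = 20 := by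
      rw [Finset.card_biUnion hdisj, Finset.sum_congr rfl (g := fun _ => 4) (fun b hb => by
        obtain ⟨h1, h2⟩ := hBmem b (Set.mem_toFinset.1 hb)
        rw [Finset.card_erase_of_mem h1, h2]), Finset.sum_const, Set.toFinset_card,
        ← Nat.card_eq_fintype_card, hB5]
      rfl
    have hsub : (B.toFinset.biUnion fun b => b.erase (p₀ R)) = Finset.univ.erase (p₀ R) := by
      refine Finset.eq_of_subset_of_card_le (fun y hy => ?_) ?_
      · obtain ⟨b, -, hyb⟩ := Finset.mem_biUnion.1 hy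
        exact Finset.mem_erase.2 ⟨(Finset.mem_erase.1 hyb).1, Finset.mem_univ _⟩
      · rw [hcard, Finset.card_erase_of_mem (Finset.mem_univ _), Finset.card_univ, h21]
    have hxu : x ∈ B.toFinset.biUnion fun b => b.erase (p₀ R) := by
      rw [hsub]; exact Finset.mem_erase.2 ⟨hx, Finset.mem_univ _⟩
    obtain ⟨b, hb, hxb⟩ := Finset.mem_biUnion.1 hxu
    exact ⟨b, Set.mem_toFinset.1 hb, (Finset.mem_erase.1 hxb).2⟩
  have hthrough : ∀ g : G, p₀ R ∈ g • L₀ R A → g • L₀ R A ∈ B := by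
    intro g hg
    obtain ⟨y, hy, hgy⟩ := Finset.mem_smul_finset.1 hg
    obtain ⟨k, hk, rfl⟩ := mem_L₀.1 hy
    refine ⟨⟨g * k, (smul_p₀_eq_iff _).1 (by rw [mul_smul]; exact hgy)⟩, ?_⟩
    show (g * k) • L₀ R A = g • L₀ R A
    rw [mul_smul, smul_L₀_of_mem h hk]
  intro s hs
  obtain ⟨p, q, hpq, rfl⟩ := Finset.card_eq_two.1 hs
  obtain ⟨g, rfl⟩ : ∃ g : G, g • p₀ R = p := MulAction.exists_smul_eq G _ _
  have hq : g⁻¹ • q ≠ p₀ R := fun e => hpq (by rw [← e, smul_inv_smul])
  obtain ⟨b, hb, hqb⟩ := hcover _ hq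
  have hgb : ∀ {x : G ⧸ (normalizer (R : Set G))} {t : Finset (G ⧸ (normalizer (R : Set G)))}, g⁻¹ • x ∈ t → x ∈ g • t := fun {x t} hxt => by
    have := Finset.smul_mem_smul_finset (a := g) hxt
    rwa [smul_inv_smul] at this
  refine ⟨g • b, ⟨?_, ?_⟩, ?_⟩
  · obtain ⟨⟨c, hc⟩, rfl⟩ := hb
    exact ⟨g * c, by show (g * c) • L₀ R A = g • c • L₀ R A; rw [mul_smul]⟩
  · rw [Finset.insert_subset_iff, Finset.singleton_subset_iff]
    exact ⟨Finset.smul_mem_smul_finset (hBmem b hb).1, hgb hqb⟩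
  · rintro _ ⟨⟨c, rfl⟩, hsub⟩
    rw [Finset.insert_subset_iff, Finset.singleton_subset_iff] at hsub
    change g • p₀ R ∈ c • L₀ R A ∧ q ∈ c • L₀ R A at hsub
    show c • L₀ R A = g • b
    have h1 : p₀ R ∈ (g⁻¹ * c) • L₀ R A := by
      rw [mul_smul]
      have := Finset.smul_mem_smul_finset (a := g⁻¹) hsub.1
      rwa [inv_smul_smul] at this
    have h2 : g⁻¹ • q ∈ (g⁻¹ * c) • L₀ R A := by
      rw [mul_smul]; exact Finset.smul_mem_smul_finset hsub.2
    rw [huniq b hb _ (hthrough _ h1) _ hq hqb h2, mul_smul, smul_inv_smul]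

end Cfsg.Agent.L34Type.OuterIdentify

namespace Cfsg.Agent.L34Type

universe u

open scoped Pointwise LinearAlgebra.Projectivization

/-- A simple group of order 60480 is not a group of collineations of the plane of order four. -/
theorem false_of_steiner {G : Type u} [Group G] [Finite G] [IsSimpleGroup G]
    (hG : Nat.card G = 60480) {α : Type u} [Fintype α] [DecidableEq α] (hα : Fintype.card α = 21)
    {L : Set (Finset α)} (hL : Cfsg.IsSteinerSystem 2 5 L) (θ : G →* Equiv.Perm α)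
    (hinj : Function.Injective θ) (hθ : θ.range ≤ Cfsg.setSystemAut L) : False := by
  classical
  haveI : Fact (Nat.Prime 2) := ⟨Nat.prime_two⟩
  haveI : Fintype (GaloisField 2 2) := Fintype.ofFinite _
  have hF : Fintype.card (GaloisField 2 2) = 4 := by
    rw [← Nat.card_eq_fintype_card, GaloisField.card 2 2 (by norm_num)]; norm_num
  haveI : Fintype (ℙ (GaloisField 2 2) (Fin 3 → GaloisField 2 2)) := Fintype.ofFinite _
  have h21 : Fintype.card (ℙ (GaloisField 2 2) (Fin 3 → GaloisField 2 2)) = 21 := by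
    rw [← Nat.card_eq_fintype_card]; exact CIT.PlaneAut.card_points _ hF
  obtain ⟨e, he⟩ := Cfsg.Agent.S5626.result hα h21 hL (CIT.PlaneAut.steiner_lineSet _ hF)
  obtain ⟨φ, hφi, hφ⟩ := CIT.PlaneAut.exists_model (F := GaloisField 2 2)
  let W := Cfsg.setSystemAut (CIT.PlaneAut.lineSet (GaloisField 2 2))
  let ψ : G →* Equiv.Perm (ℙ (GaloisField 2 2) (Fin 3 → GaloisField 2 2)) :=
    e.permCongrHom.toMonoidHom.comp θ
  have hψi : Function.Injective ψ := fun a b h => hinj (e.permCongrHom.injective h)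
  have hψ : ∀ g, ψ g ∈ W := fun g => by
    rw [Cfsg.Agent.S5628.mem_aut_iff]
    have hg := (Cfsg.Agent.S5628.mem_aut_iff L _).1 (hθ ⟨g, rfl⟩)
    intro s
    obtain ⟨t, rfl⟩ : ∃ t : Finset α, t.image e = s :=
      ⟨s.image e.symm, by simp [Finset.image_image]⟩
    have hiff : ∀ t : Finset α, t.image e ∈ CIT.PlaneAut.lineSet (GaloisField 2 2) ↔ t ∈ L := fun t => by
      rw [← he]
      exact Function.Injective.mem_set_image (Finset.image_injective e.injective)
    rw [show (t.image e).image (ψ g) = (t.image (θ g)).image e by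
      rw [Finset.image_image, Finset.image_image]
      exact Finset.image_congr fun x _ => by simp [ψ], hiff, hiff, hg]
  let ψ' := ψ.codRestrict W hψ
  let φ' := φ.codRestrict W fun x => hφ ⟨x, rfl⟩
  have hψ'i : Function.Injective ψ' := fun a b h => hψi (congrArg Subtype.val h)
  have hφ'i : Function.Injective φ' := fun a b h => hφi (congrArg Subtype.val h)
  have hY : Nat.card φ'.range = 20160 := by
    rw [← Nat.card_congr (MonoidHom.ofInjective hφ'i).toEquiv]; exact CIT.PlaneAut.card_psl hF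
  have hX : Nat.card ψ'.range = 60480 := by
    rw [← Nat.card_congr (MonoidHom.ofInjective hψ'i).toEquiv]; exact hG
  have hsimple : IsSimpleGroup ψ'.range :=
    (MulEquiv.isSimpleGroup_congr (MonoidHom.ofInjective hψ'i)).1 inferInstance
  have hidx : φ'.range.index ≤ 6 := by
    have h1 := φ'.range.card_mul_index
    have h2 : Nat.card W ≤ 120960 := CIT.PlaneAut.card_aut_le h21 (CIT.PlaneAut.steiner_lineSet _ hF)
    rw [hY] at h1
    omega
  have hle : ψ'.range ≤ φ'.range := CIT.PlaneAut.le_of_simple _ _ (by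
    rw [hX]
    calc φ'.range.index.factorial ≤ (6 : ℕ).factorial := Nat.factorial_le hidx
      _ < 60480 := by decide)
  have := Subgroup.card_dvd_of_le hle
  rw [hX, hY] at this
  norm_num at this

/-- Piece G. -/
theorem outerInput : OuterInput.{u} := by
  intro G _ _ _ U R A h
  classical
  haveI : Fintype (G ⧸ Subgroup.normalizer (R : Set G)) := Fintype.ofFinite _
  obtain ⟨h21, hst⟩ := OuterIdentify.steiner h h.card_eq
  let θ := MulAction.toPermHom G (G ⧸ Subgroup.normalizer (R : Set G))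
  refine false_of_steiner h.card_eq h21 hst θ ?_ ?_
  · rcases Subgroup.Normal.eq_bot_or_eq_top (inferInstance : θ.ker.Normal) with hk | hk
    · exact (MonoidHom.ker_eq_bot_iff θ).1 hk
    · exfalso
      have hall : ∀ g : G, g ∈ Subgroup.normalizer (R : Set G) := fun g => by
        rw [← OuterIdentify.smul_p₀_eq_iff]
        exact congrArg (fun f : Equiv.Perm _ => f (OuterIdentify.p₀ R))
          (MonoidHom.mem_ker.1 (hk ▸ Subgroup.mem_top g) : θ g = 1)
      have htop : Subgroup.normalizer (R : Set G) = ⊤ := (Subgroup.eq_top_iff' _).2 hall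
      have hn := h.norm_R
      rw [htop, Subgroup.card_top, h.card_eq] at hn
      omega
  · rintro _ ⟨g, rfl⟩
    rw [Cfsg.Agent.S5628.mem_aut_iff]
    intro s
    show g • s ∈ _ ↔ _
    constructor
    · rintro ⟨c, hc⟩
      exact ⟨g⁻¹ * c, by
        show (g⁻¹ * c) • OuterIdentify.L₀ R A = s
        rw [mul_smul]; exact (eq_inv_smul_iff.2 hc.symm).symm⟩
    · rintro ⟨c, rfl⟩
      exact ⟨g * c, mul_smul _ _ _⟩

end Cfsg.Agent.L34Type
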