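import Cfsg.Agent.Lib.L34Type.BothPlane
import Cfsg.Agent.Lib.L34Type.OuterIdentify
import Cfsg.Agent.Lib.L34Type.NoFusion
import Cfsg.Agent.Lib.CIT.IdOrder
import Cfsg.Agent.Lib.CIT.Identify
import Cfsg.Agent.Lib.Classical.SmallIso
import Cfsg.Agent.Lib.Involutions.StronglyEmbedded

/-!
# Piece B: a simple group with both sides fused is `PSL₃(4)`

The cores of the centralisers of involutions generate a subgroup whose normaliser would be strongly
embedded, and this needs an element of order 35 in `PGL₃(4)`; so they are trivial and the known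
configurations appear.
-/

set_option autoImplicit false
set_option linter.style.haveILetI false
set_option linter.unusedSectionVars false

namespace Cfsg.Agent.L34Type

open Subgroup Cfsg.Agent.Involutions
open Cfsg.Agent.StronglyClosedFour (core core_le core_odd le_normalizer_core eq_one_of_two_group
  exists_conj_into_involution)

universe u v

theorem card_cent_conj {G : Type u} [Group G] (g z : G) :
    Nat.card (centralizer ({g * z * g⁻¹} : Set G)) = Nat.card (centralizer ({z} : Set G)) := by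
  have e : (centralizer ({z} : Set G)).map (MulAut.conj g).toMonoidHom =
      centralizer ({g * z * g⁻¹} : Set G) := by
    ext y
    constructor
    · rintro ⟨x, hx, rfl⟩
      rw [mem_centralizer_singleton_iff]
      show g * x * g⁻¹ * (g * z * g⁻¹) = g * z * g⁻¹ * (g * x * g⁻¹)
      rw [show g * x * g⁻¹ * (g * z * g⁻¹) = g * (x * z) * g⁻¹ by group,
        mem_centralizer_singleton_iff.1 hx]
      group
    · intro hy
      refine ⟨g⁻¹ * y * g, mem_centralizer_singleton_iff.2 ?_,
        show g * (g⁻¹ * y * g) * g⁻¹ = y by group⟩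
      calc g⁻¹ * y * g * z = g⁻¹ * (y * (g * z * g⁻¹)) * g := by group
        _ = z * (g⁻¹ * y * g) := by rw [mem_centralizer_singleton_iff.1 hy]; group
  rw [← e, Subgroup.card_map_of_injective (MulAut.conj g).injective]

theorem cent_zpowers {H : Type*} [Group H] (z : H) :
    centralizer ((zpowers z : Subgroup H) : Set H) = centralizer ({z} : Set H) := by
  rw [zpowers_eq_closure, centralizer_closure]

variable {G : Type u} [Group G] [Finite G] {S : Sylow 2 G} {R A : Subgroup G}

namespace Shape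

variable (h : Shape (S : Subgroup G) R A)
include h

/-- `C(z)` has order `64 e |O(C(z))|` with `e` one or three. -/
theorem core_relIndex {z : G} (hz : z ∈ R ⊓ A) (hz1 : z ≠ 1) :
    (core (centralizer ({z} : Set G))).relIndex (centralizer ({z} : Set G)) = 64 ∨
      (core (centralizer ({z} : Set G))).relIndex (centralizer ({z} : Set G)) = 192 := by
  set C := centralizer ({z} : Set G) with hC
  set O := core C with hO
  have hSC := h.le_centralizer_of_mem_inf hz
  obtain ⟨hodd, hle⟩ := h.relIndex_core_sup_le hz hz1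
  haveI : (O.subgroupOf C).Normal := normal_subgroupOf_of_le_normalizer (le_normalizer_core C)
  have h1 := Subgroup.relIndex_sup_right ((S : Subgroup G).subgroupOf C) (O.subgroupOf C)
  rw [← Subgroup.subgroupOf_sup hSC (core_le C), Subgroup.relIndex_subgroupOf (sup_le hSC (core_le C)),
    Subgroup.relIndex_subgroupOf hSC, sup_comm] at h1
  have h2 := Klein.card_mul_relIndex (inf_le_right : O ⊓ (S : Subgroup G) ≤ (S : Subgroup G))
  rw [Subgroup.inf_relIndex_right] at h2
  have h3 : O ⊓ (S : Subgroup G) = ⊥ :=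
    (Subgroup.eq_bot_iff_forall _).2 fun x hx => eq_one_of_two_group (core_odd C) S.2 hx.1 hx.2
  rw [h3, Subgroup.card_bot, one_mul, h.card_S] at h2
  rw [← Subgroup.relIndex_mul_relIndex O (O ⊔ (S : Subgroup G)) C le_sup_left
    (sup_le (core_le C) hSC), h1, h2]
  obtain ⟨j, hj⟩ := hodd
  rw [hj] at hle ⊢
  rcases (show j = 0 ∨ j = 1 by omega) with rfl | rfl
  · exact Or.inl rfl
  · exact Or.inr rfl

/-- A proper subgroup containing the two normalisers and all centralisers is impossible. -/
theorem false_of_proper {F : Type v} [Field F] [Fintype F] (hF : Fintype.card F = 4)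
    (hB : Below.{u, v} (Nat.card G) F) (hR : Fused R) (hA : Fused A) {W : Subgroup G}
    (hWodd : Odd (Nat.card W))
    (hθ : ∀ a ∈ A, a ≠ 1 → core (centralizer ({a} : Set G)) ≤ W)
    (hNR : normalizer (R : Set G) ≤ normalizer (W : Set G))
    (hNA : normalizer (A : Set G) ≤ normalizer (W : Set G))
    (hCA : ∀ a ∈ A, a ≠ 1 → centralizer ({a} : Set G) ≤ normalizer (W : Set G))
    (hne : normalizer (W : Set G) ≠ ⊤) : False := by
  classical
  haveI : Fact (Nat.Prime 2) := ⟨Nat.prime_two⟩
  set M := normalizer (W : Set G) with hM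
  have hSM : (S : Subgroup G) ≤ M := h.le_norm_R.trans hNR
  have hWM : W ≤ M := Subgroup.le_normalizer
  obtain ⟨z, hz, hz1⟩ := h.exists_inf_ne_one
  have hzM : z ∈ M := hSM (h.R_le hz.1)
  -- all involutions of `M` are conjugate to `z` in `M`
  have hto : ∀ s ∈ M, orderOf s = 2 → ∃ m ∈ M, m * s * m⁻¹ = z := by
    intro s hs hs2
    obtain ⟨k, hk, hkS⟩ := exists_conj_into_involution (Basic.inv_sq_one hs2) hs
      (T := (S : Subgroup G)) (by
        rw [Nat.odd_iff]
        have h1 : ¬ 2 ∣ (S : Subgroup G).relIndex M := fun e =>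
          S.not_dvd_index (e.trans (relIndex_dvd_index_of_le hSM))
        omega)
    have hy : orderOf (k⁻¹ * s * k) = 2 := by
      have := Basic.orderOf_conj k⁻¹ s
      rw [inv_inv, hs2] at this
      exact this
    rcases h.mem_R_or_A hkS hy with e | e
    · obtain ⟨n, hn, he⟩ := hR _ e (Basic.ne_one hy) z hz.1 hz1
      exact ⟨n * k⁻¹, mul_mem (hNR hn) (inv_mem hk), by rw [← he]; group⟩
    · obtain ⟨n, hn, he⟩ := hA _ e (Basic.ne_one hy) z hz.2 hz1
      exact ⟨n * k⁻¹, mul_mem (hNA hn) (inv_mem hk), by rw [← he]; group⟩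
  have hCzM : centralizer ({z} : Set G) ≤ M := hCA z hz.2 hz1
  have hz2 : orderOf z = 2 := Basic.orderOf_two_iff.2 ⟨h.R_sq z hz.1, hz1⟩
  have heven : Even (Nat.card M) := by
    rw [even_iff_two_dvd]
    exact Dvd.dvd.trans (show 2 ∣ Nat.card (S : Subgroup G) from ⟨32, h.card_S.trans (by norm_num)⟩)
      (card_dvd_of_le hSM)
  have hse : Cfsg.IsStronglyEmbedded M := StronglyEmbedded.of_conj hne heven fun t ht ht2 g hg => by
    obtain ⟨m, hm, e⟩ := hto t ht ht2
    obtain ⟨m', hm', e'⟩ := hto _ hg (by rw [Basic.orderOf_conj, ht2])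
    have hc : m' * g * m⁻¹ ∈ centralizer ({z} : Set G) := by
      rw [mem_centralizer_singleton_iff]
      calc m' * g * m⁻¹ * z = m' * g * (m⁻¹ * z * m) * m⁻¹ := by group
        _ = (m' * (g * t * g⁻¹) * m'⁻¹) * (m' * g * m⁻¹) := by
          rw [show m⁻¹ * z * m = t by rw [← e]; group]
          group
        _ = z * (m' * g * m⁻¹) := by rw [e']
    simpa [mul_assoc] using mul_mem (mul_mem (inv_mem hm') (hCzM hc)) hm
  obtain ⟨u, hu, hu2⟩ := StronglyEmbedded.exists_involution_notMem hse
  set D := M ⊓ M.map (MulAut.conj u).toMonoidHom with hD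
  have hDodd : Odd (Nat.card D) := hse.2.2 u hu
  -- the induction hypothesis for `M`
  have hlt : Nat.card M < Nat.card G := by
    refine lt_of_le_of_ne (Subgroup.card_le_card_group M) fun e => hne ?_
    exact Subgroup.eq_top_of_card_eq M e
  have hMS := h.comap M.subtype M.subtype_injective (hSM.trans M.range_subtype.ge)
  obtain ⟨emb, hemb⟩ := hB M (S.subtype hSM) _ _ hlt hMS
  set φ : M →* PGL3 F := emb.comp (QuotientGroup.mk' (Cfsg.oddCore M)) with hφ
  have hker : φ.ker = Cfsg.oddCore M := by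
    rw [hφ, ← MonoidHom.comap_ker, (MonoidHom.ker_eq_bot_iff emb).2 hemb]
    exact QuotientGroup.ker_mk' _
  have hWk : ∀ x : M, (x : G) ∈ W → φ x = 1 := fun x hx => by
    rw [← MonoidHom.mem_ker, hker]
    haveI : (W.subgroupOf M).Normal := Subgroup.normal_in_normalizer
    refine Cores.le_oddCore (N := W.subgroupOf M) ?_ (mem_subgroupOf.2 hx)
    rwa [Nat.card_congr (subgroupOfEquivOfLe hWM).toEquiv]
  set ψ := φ.rangeRestrict with hψ
  have hsurj : Function.Surjective ψ := φ.rangeRestrict_surjective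
  have hψker : ψ.ker = Cfsg.oddCore M := by rw [hψ, MonoidHom.ker_rangeRestrict, hker]
  have hkerodd : Odd (Nat.card ψ.ker) := by rw [hψker]; exact Cores.oddCore_odd
  set T : Sylow 2 φ.range := (S.subtype hSM).mapSurjective hsurj with hT
  set RX := (R.comap M.subtype).map ψ with hRX
  set AX := (A.comap M.subtype).map ψ with hAX
  have hTS : (T : Subgroup φ.range) = ((S : Subgroup G).comap M.subtype).map ψ := by
    rw [hT, Sylow.coe_mapSurjective]; rfl
  have hX : Shape (T : Subgroup φ.range) RX AX := by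
    rw [hTS]
    refine hMS.map_injOn ψ fun x hx e => ?_
    exact eq_one_of_two_group (X := Cfsg.oddCore M) (T := (S : Subgroup G).comap M.subtype)
      Cores.oddCore_odd (S.subtype hSM).2 (hψker ▸ MonoidHom.mem_ker.2 e) hx
  have hnorm : ∀ (E : Subgroup G) (n : M), (n : G) ∈ normalizer (E : Set G) →
      ψ n ∈ normalizer (((E.comap M.subtype).map ψ : Subgroup φ.range) : Set φ.range) := by
    intro E n hn
    refine CIT.mem_normalizer_of_forall ?_
    rintro _ ⟨x, hx, rfl⟩
    exact ⟨n * x * n⁻¹, (mem_normalizer_iff.1 hn _).1 hx, by rw [map_mul, map_mul, map_inv]⟩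
  have hfus : ∀ E : Subgroup G, Fused E → normalizer (E : Set G) ≤ M →
      Fused ((E.comap M.subtype).map ψ) := by
    intro E hE hEM
    rintro _ ⟨x, hx, rfl⟩ hx1 _ ⟨y, hy, rfl⟩ hy1
    obtain ⟨n, hn, e⟩ := hE x hx (fun e => hx1 (by rw [show x = 1 from Subtype.ext e, map_one]))
      y hy (fun e => hy1 (by rw [show y = 1 from Subtype.ext e, map_one]))
    refine ⟨ψ ⟨n, hEM hn⟩, hnorm E _ hn, ?_⟩
    rw [← map_inv, ← map_mul, ← map_mul]
    exact congrArg ψ (Subtype.ext e)
  have hcomap : ∀ a : M, a * a = 1 → (centralizer ({ψ a} : Set φ.range)).comap ψ =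
      ψ.ker ⊔ centralizer ({a} : Set M) := fun a ha => by
    have hp : IsPGroup 2 (zpowers a) := by
      refine fun x => ⟨1, Subtype.ext ?_⟩
      obtain ⟨k, hk⟩ := x.2
      change a ^ k = (x : M) at hk
      rw [pow_one, pow_two, Subgroup.coe_mul, Subgroup.coe_one, ← hk, ← zpow_add, ← two_mul,
        zpow_mul, zpow_two, ha, one_zpow]
    rw [← cent_zpowers (ψ a), ← MonoidHom.map_zpowers, Subgroup.coe_map,
      Klein.comap_centralizer ψ hkerodd hp, cent_zpowers]
    rintro _ ⟨i, rfl⟩ _ ⟨j, rfl⟩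
    exact (Commute.refl a).zpow_zpow i j
  have hcA : ∀ a ∈ AX, a ≠ 1 → centralizer ({a} : Set φ.range) ≤ normalizer (AX : Set φ.range) := by
    rintro _ ⟨a, ha, rfl⟩ ha1 x hx
    obtain ⟨k, rfl⟩ := hsurj x
    have haG : (a : G) ≠ 1 := fun e => ha1 (by rw [show a = 1 from Subtype.ext e, map_one])
    have hk : k ∈ ψ.ker ⊔ centralizer ({a} : Set M) := by
      rw [← hcomap a (Subtype.ext (h.A_sq _ ha))]
      exact hx
    obtain ⟨o, ho, c, hc, rfl⟩ := mem_sup_of_normal_left.1 hk
    rw [map_mul, MonoidHom.mem_ker.1 ho, one_mul]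
    have hcG : (c : G) ∈ centralizer ({(a : G)} : Set G) := mem_centralizer_singleton_iff.2
      (congrArg Subtype.val (mem_centralizer_singleton_iff.1 hc))
    obtain ⟨o', ho', n, hn, e⟩ := h.cover_A hA a ha haG c hcG
    have hec : c = ⟨o', hWM (hθ a ha haG ho')⟩ * ⟨n, hNA hn⟩ := Subtype.ext e
    have h1 : ψ ⟨o', hWM (hθ a ha haG ho')⟩ = 1 := Subtype.ext (hWk _ (hθ a ha haG ho'))
    rw [hec, map_mul, h1, one_mul]
    exact hnorm A _ hn
  -- twenty-one points
  have h21 := hX.index_norm_ge (hfus R hR hNR) (hfus A hA hNA) hcA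
  set zM : M := ⟨z, hzM⟩ with hzMdef
  set zX := ψ zM with hzX
  have hzX1 : zX ≠ 1 := fun e => hz1 (congrArg Subtype.val (eq_one_of_two_group
    (X := Cfsg.oddCore M) (T := (S : Subgroup G).comap M.subtype) Cores.oddCore_odd
    (S.subtype hSM).2 (hψker ▸ MonoidHom.mem_ker.2 e) (h.R_le hz.1)))
  have hzR : zX ∈ RX := ⟨zM, hz.1, rfl⟩
  have hzZ : zX ∈ RX ⊓ AX := mem_inf.2 ⟨hzR, ⟨zM, hz.2, rfl⟩⟩
  have horb := fused_orbit_card hX (hfus R hR hNR) hzR hzX1
  have h64 : 64 ∣ Nat.card (normalizer (RX : Set φ.range) ⊓ centralizer ({zX} : Set φ.range) :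
      Subgroup φ.range) := by
    rw [← hX.card_S]
    exact card_dvd_of_le (le_inf hX.le_norm_R (hX.le_centralizer_of_mem_inf hzZ))
  have hXdiv : Nat.card φ.range ∣ 60480 := natCard_PGL3 hF ▸ φ.range.card_subgroup_dvd_card
  have hidx := (normalizer (RX : Set φ.range)).card_mul_index
  rw [horb] at hidx
  obtain ⟨k, hk⟩ := h64
  rw [hk] at hidx
  have h35 : 35 ∣ Nat.card φ.range := by
    set v := (normalizer (RX : Set φ.range)).index
    have h63 : v * k ∣ 63 := by
      refine Nat.dvd_of_mul_dvd_mul_left (k := 960) (by norm_num) ?_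
      rw [show 960 * (v * k) = 15 * (64 * k) * v by ring, hidx]
      exact hXdiv
    have hv : v ∣ 63 := dvd_trans (dvd_mul_right v k) h63
    have h7 : 7 ∣ v := by
      have hle := Nat.le_of_dvd (by norm_num) hv
      interval_cases v <;> first | decide | (revert hv; decide)
    obtain ⟨w, hw⟩ := h7
    exact ⟨3 * 64 * k * w, by rw [← hidx, hw]; ring⟩
  -- `D` is transitive on the involutions of `M`
  set CM := (centralizer ({z} : Set G)).subgroupOf M with hCM
  set CX := CM.map ψ with hCX
  set DX := (D.subgroupOf M).map ψ with hDX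
  have hCXcard : Nat.card CX ∣ 192 := by
    have h1 : Nat.card CX = ψ.ker.relIndex CM := (Subgroup.relIndex_ker CM ψ).symm
    have h2 : (core (centralizer ({z} : Set G))).subgroupOf M ≤ ψ.ker := fun x hx =>
      MonoidHom.mem_ker.2 (Subtype.ext (hWk x (hθ z hz.2 hz1 (mem_subgroupOf.1 hx))))
    rw [h1]
    refine (Subgroup.relIndex_dvd_of_le_left CM h2).trans ?_
    rw [hCM, Subgroup.relIndex_subgroupOf hCzM]
    rcases h.core_relIndex hz hz1 with e | e <;> rw [e] <;> norm_num
  have hDC : CX.index ∣ Nat.card DX := by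
    let f : DX ⧸ CX.subgroupOf DX → φ.range ⧸ CX := fun c => ((c.out : φ.range) : φ.range ⧸ CX)
    have hf : Function.Bijective f := by
      constructor
      · intro c d e
        rw [← c.out_eq, ← d.out_eq]
        exact QuotientGroup.eq.2 (mem_subgroupOf.2 (by
          rw [Subgroup.coe_mul, Subgroup.coe_inv]
          exact QuotientGroup.eq.1 e))
      · intro c
        obtain ⟨x, rfl⟩ := QuotientGroup.mk_surjective c
        obtain ⟨m, rfl⟩ := hsurj x
        obtain ⟨d, hd, hdz⟩ := StronglyEmbedded.exists_conj_in_inter hse hu2 hu hz2 hzM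
          (t := (m : G) * z * (m : G)⁻¹) (by rw [Basic.orderOf_conj, hz2])
          (mul_mem (mul_mem m.2 hzM) (inv_mem m.2))
        have hdD : ψ ⟨d, hd.1⟩ ∈ DX := ⟨⟨d, hd.1⟩, hd, rfl⟩
        refine ⟨((⟨_, hdD⟩ : DX) : DX ⧸ CX.subgroupOf DX), ?_⟩
        set q := ((⟨_, hdD⟩ : DX) : DX ⧸ CX.subgroupOf DX) with hq
        have h1 := mem_subgroupOf.1 (QuotientGroup.eq.1 q.out_eq)
        rw [Subgroup.coe_mul, Subgroup.coe_inv] at h1
        refine QuotientGroup.eq.2 ?_
        have h2 : (ψ ⟨d, hd.1⟩)⁻¹ * ψ m ∈ CX := ⟨(⟨d, hd.1⟩ : M)⁻¹ * m, by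
          show ((⟨d, hd.1⟩ : M)⁻¹ * m : M) ∈ CM
          rw [hCM, mem_subgroupOf, mem_centralizer_singleton_iff]
          show d⁻¹ * (m : G) * z = z * (d⁻¹ * m)
          calc d⁻¹ * (m : G) * z = d⁻¹ * ((m : G) * z * (m : G)⁻¹) * m := by group
            _ = z * (d⁻¹ * m) := by rw [← hdz]; group, by rw [map_mul, map_inv]⟩
        have := mul_mem h1 h2
        rwa [show ((q.out : DX) : φ.range)⁻¹ * ψ ⟨d, hd.1⟩ * ((ψ ⟨d, hd.1⟩)⁻¹ * ψ m) =
          ((q.out : DX) : φ.range)⁻¹ * ψ m by group] at this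
    rw [Subgroup.index, ← Nat.card_eq_of_bijective f hf]
    exact Subgroup.card_quotient_dvd_card _
  have h35D : 35 ∣ Nat.card DX := by
    refine dvd_trans ?_ hDC
    rw [← CX.card_mul_index] at h35
    exact (Nat.Coprime.coprime_dvd_right hCXcard (by norm_num : Nat.Coprime 35 192)).dvd_of_dvd_mul_left
      h35
  have hDXodd : Odd (Nat.card (DX.map φ.range.subtype)) := by
    rw [Subgroup.card_map_of_injective φ.range.subtype_injective]
    refine hDodd.of_dvd_nat ((card_map_dvd _ _).trans (dvd_of_eq ?_))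
    exact Nat.card_congr (subgroupOfEquivOfLe inf_le_left).toEquiv
  refine not_dvd_thirtyfive hF _ hDXodd ?_
  rwa [Subgroup.card_map_of_injective φ.range.subtype_injective]

/-- Without cores the group is `PSL₃(4)`. -/
theorem psl_of_trivial_cores [IsSimpleGroup G] {F : Type v} [Field F] [Fintype F]
    (hF : Fintype.card F = 4) (hR : Fused R) (hA : Fused A)
    (hθ : ∀ z ∈ R ⊓ A, z ≠ 1 → core (centralizer ({z} : Set G)) = ⊥) :
    Nonempty (G ≃* Matrix.ProjectiveSpecialLinearGroup (Fin 3) F) := by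
  classical
  haveI : Fact (Nat.Prime 2) := ⟨Nat.prime_two⟩
  obtain ⟨z, hz, hz1⟩ := h.exists_inf_ne_one
  have hone : ∀ s t : G, orderOf s = 2 → orderOf t = 2 → IsConj s t := fun s t hs ht =>
    h.isConj_of_fused hR hA hs ht
  have hzo : ∀ w ∈ R ⊓ A, w ≠ 1 → orderOf w = 2 := fun w hw hw1 =>
    Basic.orderOf_two_iff.2 ⟨h.R_sq w hw.1, hw1⟩
  have hCS : ∀ w ∈ R ⊓ A, w ≠ 1 →
      centralizer ({w} : Set G) ≤ normalizer ((S : Subgroup G) : Set G) := by
    intro w hw hw1 k hk
    obtain ⟨o, ho, n, hn, rfl⟩ := h.cent_cover hw hw1 k hk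
    rw [hθ w hw hw1, mem_bot] at ho
    rw [ho, one_mul]
    exact (mem_inf.1 hn).1
  set e := Nat.card (centralizer ({z} : Set G)) with he
  have hcard : ∀ w ∈ R ⊓ A, w ≠ 1 → Nat.card (centralizer ({w} : Set G)) = e := fun w hw hw1 => by
    obtain ⟨g, hg⟩ := isConj_iff.1 (hone z w (hzo z hz hz1) (hzo w hw hw1))
    rw [← hg, card_cent_conj]
  have he2 : e = 64 ∨ e = 192 := by
    have := h.core_relIndex hz hz1
    rwa [hθ z hz hz1, Subgroup.relIndex_bot_left] at this
  -- the centralisers of `R` and `A`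
  have hcR : ∀ {X Y : Subgroup G}, Shape (S : Subgroup G) X Y → X ⊓ Y = R ⊓ A →
      centralizer (X : Set G) = X := by
    intro X Y hX hXY
    refine le_antisymm (fun c hc => ?_)
      (fun x hx => mem_centralizer_iff.2 fun y hy => hX.R_comm hy hx)
    have hzX : z ∈ X ⊓ Y := hXY.symm ▸ hz
    obtain ⟨r, hr, hrY⟩ := hX.exists_R_notMem_A
    have hcz : c ∈ centralizer ({z} : Set G) := mem_centralizer_singleton_iff.2
      (mem_centralizer_iff.1 hc z hzX.1).symm
    have hcN := hCS z hz hz1 hcz
    have hfix : ∀ w ∈ X ⊓ Y, c * w * c⁻¹ = w := fun w hw => by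
      rw [← mem_centralizer_iff.1 hc w hw.1, mul_inv_cancel_right]
    have hmem := hX.norm_trivial hcN hfix hr hrY (by
      rw [← mem_centralizer_iff.1 hc r hr, mul_inv_cancel_right, hX.R_sq r hr]
      exact one_mem Y)
    have hle : centralizer ((S : Subgroup G) : Set G) ⊔ (S : Subgroup G) ≤ (S : Subgroup G) :=
      sup_le ((h.cent_S_le hz hz1).trans (by
        rw [hθ z hz hz1, bot_sup_eq]
        exact inf_le_left.trans h.R_le)) le_rfl
    exact hX.cent_R r hr hrY c (hle hmem) (mem_centralizer_iff.1 hc r hr)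
  have hcentR : centralizer (R : Set G) = R := hcR h rfl
  have hcentA : centralizer (A : Set G) = A := hcR h.symm (inf_comm A R)
  have hnR : Nat.card (normalizer (R : Set G)) = 15 * e := by
    rw [fused_orbit_card h hR hz.1 hz1,
      inf_eq_right.2 ((hCS z hz hz1).trans h.norm_S_le_R)]
  have hnA : Nat.card (normalizer (A : Set G)) = 15 * e := by
    rw [fused_orbit_card h.symm hA hz.2 hz1,
      inf_eq_right.2 ((hCS z hz hz1).trans h.norm_S_le_A)]
  have hnS : Nat.card (normalizer ((S : Subgroup G) : Set G)) = 3 * e := by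
    set N := normalizer ((S : Subgroup G) : Set G)
    set C := centralizer ({z} : Set G)
    haveI := Fintype.ofFinite G
    let f : N ⧸ C.subgroupOf N → {w : (R ⊓ A : Subgroup G) // w ≠ 1} := fun q =>
      ⟨⟨_, h.conj_inf q.out.2 hz⟩, fun e1 => hz1 (conj_eq_one_iff.1 (congrArg Subtype.val e1))⟩
    have hf : Function.Bijective f := by
      constructor
      · intro q q' hqq
        have e' : (q.out : G) * z * (q.out : G)⁻¹ = (q'.out : G) * z * (q'.out : G)⁻¹ :=
          congrArg (fun x : {w : (R ⊓ A : Subgroup G) // w ≠ 1} => ((x : (R ⊓ A : Subgroup G)) : G)) hqq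
        rw [← q.out_eq, ← q'.out_eq]
        refine QuotientGroup.eq.2 (mem_subgroupOf.2 (mem_centralizer_singleton_iff.2 ?_))
        rw [Subgroup.coe_mul, Subgroup.coe_inv]
        calc (q.out : G)⁻¹ * q'.out * z
            = (q.out : G)⁻¹ * ((q'.out : G) * z * (q'.out : G)⁻¹) * q'.out := by group
          _ = z * ((q.out : G)⁻¹ * q'.out) := by rw [← e']; group
      · rintro ⟨⟨w, hw⟩, hw1⟩
        have hw1' : w ≠ 1 := fun e => hw1 (Subtype.ext e)
        obtain ⟨g, hg⟩ := isConj_iff.1 (hone z w (hzo z hz hz1) (hzo w hw hw1'))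
        have hgN : g ∈ N := by
          have hle : ((g • S : Sylow 2 G) : Subgroup G) ≤ N := by
            refine le_trans ?_ (hCS w hw hw1')
            intro y hy
            rw [Sylow.coe_subgroup_smul] at hy
            obtain ⟨s, hs, rfl⟩ := hy
            rw [mem_centralizer_singleton_iff, ← hg]
            show g * s * g⁻¹ * (g * z * g⁻¹) = g * z * g⁻¹ * (g * s * g⁻¹)
            rw [show g * s * g⁻¹ * (g * z * g⁻¹) = g * (s * z) * g⁻¹ by group, ← h.central z hz s hs]
            group
          have h1 := S.3 ((g • S).2.to_sup_of_normal_right' S.2 hle) le_sup_right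
          have h2 : ((g • S : Sylow 2 G) : Subgroup G) ≤ S := h1 ▸ le_sup_left
          exact Sylow.smul_eq_iff_mem_normalizer.1
            (Sylow.ext ((g • S).3 S.2 h2).symm)
        refine ⟨((⟨g, hgN⟩ : N) : N ⧸ C.subgroupOf N), Subtype.ext (Subtype.ext ?_)⟩
        set q := ((⟨g, hgN⟩ : N) : N ⧸ C.subgroupOf N) with hq
        show (q.out : G) * z * (q.out : G)⁻¹ = w
        have h1 := mem_subgroupOf.1 (QuotientGroup.eq.1 q.out_eq)
        rw [Subgroup.coe_mul, Subgroup.coe_inv, mem_centralizer_singleton_iff] at h1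
        rw [← hg]
        calc (q.out : G) * z * (q.out : G)⁻¹
            = (q.out : G) * (z * ((q.out : G)⁻¹ * g)) * g⁻¹ := by group
          _ = g * z * g⁻¹ := by rw [← h1]; group
    have h3 : Nat.card (N ⧸ C.subgroupOf N) = 3 := by
      rw [Nat.card_eq_of_bijective f hf, Nat.card_eq_fintype_card, Fintype.card_subtype_compl,
        Fintype.card_subtype_eq, ← Nat.card_eq_fintype_card, h.inf_card]
    have h2 := Subgroup.card_eq_card_quotient_mul_card_subgroup (C.subgroupOf N)
    rwa [h3, Nat.card_congr (subgroupOfEquivOfLe (hCS z hz hz1)).toEquiv] at h2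
  rcases he2 with he64 | he192
  · have hcfg : CIT.LThreeFour S R A :=
      { card_U := h.card_S
        R_le := h.R_le
        A_le := h.A_le
        R_card := h.R_card
        A_card := h.A_card
        R_sq := h.R_sq
        A_sq := h.A_sq
        inf_card := h.inf_card
        involutions := h.involutions
        cent_R := hcentR
        cent_A := hcentA
        norm_R := by rw [hnR, he64]
        norm_A := by rw [hnA, he64]
        norm_U := by rw [hnS, he64]
        cent_z := fun w hw hw1 => (Subgroup.eq_of_le_of_card_ge (h.le_centralizer_of_mem_inf hw)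
          (by rw [hcard w hw hw1, he64, h.card_S])).symm
        one_class := hone }
    obtain ⟨F', _, _, hF', ⟨f⟩⟩ := CIT.psl_three_four_of_card hcfg hcfg.card_eq
    exact ⟨f.trans (Classical.SmallIso.pslCongr (FiniteField.ringEquivOfCardEq (hF'.trans hF.symm)))⟩
  · refine (outerInput G S R A
      { shape := h
        cent_R := hcentR
        cent_A := hcentA
        norm_R := by rw [hnR, he192]
        norm_A := by rw [hnA, he192]
        norm_U := by rw [hnS, he192]
        cent_z := fun w hw hw1 => ⟨by rw [hcard w hw hw1, he192], hCS w hw hw1⟩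
        one_class := hone }).elim

end Shape

/-- Piece B. -/
theorem bothFusedInput : BothFusedInput.{u, v} := by
  intro F _ _ hF G _ _ _ S R A h hB hR hA
  obtain ⟨W, hWodd, hθz, hθA, -, hNR, hNA, hCA, -⟩ := h.both_signalizer hR hA
  by_cases htop : normalizer (W : Set G) = ⊤
  · have hW : W = ⊥ := by
      haveI : W.Normal := normalizer_eq_top_iff.1 htop
      refine (IsSimpleGroup.eq_bot_or_eq_top_of_normal W inferInstance).resolve_right fun e => ?_
      rw [e, Subgroup.card_top] at hWodd
      have h2 : 2 ∣ Nat.card G := Dvd.dvd.trans ⟨32, h.card_S.trans (by norm_num)⟩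
        (card_subgroup_dvd_card (S : Subgroup G))
      exact Nat.not_even_iff_odd.2 hWodd (even_iff_two_dvd.2 h2)
    exact h.psl_of_trivial_cores hF hR hA fun z hz hz1 => le_bot_iff.1 (hW ▸ hθz z hz hz1)
  · exact (h.false_of_proper hF hB hR hA hWodd hθA hNR hNA hCA htop).elim

end Cfsg.Agent.L34Type
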