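import Cfsg.Agent.Lib.Fusion.SylowSL3

/-!
# Sylow 2-subgroups of type `L₃(4)`: the shape

See `notes/s3198-h12.md`.
-/

set_option autoImplicit false
set_option linter.style.haveILetI false
set_option linter.unusedSectionVars false

namespace Cfsg.Agent.L34Type

open Subgroup

/-- `S = R A` with `R`, `A` the two elementary abelian subgroups of order 16, which hold all
involutions and meet in the centre. -/
structure Shape {G : Type*} [Group G] (S R A : Subgroup G) : Prop where
  card_S : Nat.card S = 64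
  R_le : R ≤ S
  A_le : A ≤ S
  R_card : Nat.card R = 16
  A_card : Nat.card A = 16
  R_sq : ∀ x ∈ R, x * x = 1
  A_sq : ∀ x ∈ A, x * x = 1
  inf_card : Nat.card (R ⊓ A : Subgroup G) = 4
  involutions : ∀ x ∈ S, x * x = 1 → x ∈ R ∨ x ∈ A
  sq : ∀ x ∈ S, x * x ∈ R ⊓ A
  central : ∀ z ∈ R ⊓ A, ∀ s ∈ S, z * s = s * z
  cent_R : ∀ r ∈ R, r ∉ A → ∀ s ∈ S, r * s = s * r → s ∈ R
  cent_A : ∀ a ∈ A, a ∉ R → ∀ s ∈ S, a * s = s * a → s ∈ A

theorem Shape.symm {G : Type*} [Group G] {S R A : Subgroup G} (h : Shape S R A) : Shape S A R where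
  card_S := h.card_S
  R_le := h.A_le
  A_le := h.R_le
  R_card := h.A_card
  A_card := h.R_card
  R_sq := h.A_sq
  A_sq := h.R_sq
  inf_card := by rw [inf_comm]; exact h.inf_card
  involutions x hx h2 := (h.involutions x hx h2).symm
  sq x hx := by rw [inf_comm]; exact h.sq x hx
  central z hz := h.central z (inf_comm A R ▸ hz)
  cent_R := h.cent_A
  cent_A := h.cent_R

theorem Shape.map {H G : Type*} [Group H] [Group G] {S R A : Subgroup H} (h : Shape S R A)
    (f : H →* G) (hf : Function.Injective f) : Shape (S.map f) (R.map f) (A.map f) := by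
  have hinf : R.map f ⊓ A.map f = (R ⊓ A).map f := (map_inf R A f hf).symm
  have hc : ∀ K : Subgroup H, Nat.card (K.map f) = Nat.card K := fun K =>
    card_map_of_injective hf
  have hm : ∀ {K : Subgroup H} {x : H}, f x ∈ K.map f ↔ x ∈ K := fun {K x} =>
    mem_map_iff_mem hf
  exact
    { card_S := (hc S).trans h.card_S
      R_le := map_mono h.R_le
      A_le := map_mono h.A_le
      R_card := (hc R).trans h.R_card
      A_card := (hc A).trans h.A_card
      R_sq := by rintro _ ⟨x, hx, rfl⟩; rw [← map_mul, h.R_sq x hx, map_one]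
      A_sq := by rintro _ ⟨x, hx, rfl⟩; rw [← map_mul, h.A_sq x hx, map_one]
      inf_card := by rw [hinf, hc]; exact h.inf_card
      involutions := by
        rintro _ ⟨x, hx, rfl⟩ h2
        rw [← map_mul] at h2
        exact (h.involutions x hx (hf (h2.trans (map_one f).symm))).imp
          (mem_map_of_mem f) (mem_map_of_mem f)
      sq := by
        rintro _ ⟨x, hx, rfl⟩
        rw [hinf, ← map_mul]
        exact mem_map_of_mem f (h.sq x hx)
      central := by
        rw [hinf]
        rintro _ ⟨z, hz, rfl⟩ _ ⟨s, hs, rfl⟩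
        rw [← map_mul, h.central z hz s hs, map_mul]
      cent_R := by
        rintro _ ⟨r, hr, rfl⟩ hrA _ ⟨s, hs, rfl⟩ e
        rw [← map_mul, ← map_mul] at e
        exact mem_map_of_mem f (h.cent_R r hr (fun e' => hrA (mem_map_of_mem f e')) s hs (hf e))
      cent_A := by
        rintro _ ⟨r, hr, rfl⟩ hrA _ ⟨s, hs, rfl⟩ e
        rw [← map_mul, ← map_mul] at e
        exact mem_map_of_mem f (h.cent_A r hr (fun e' => hrA (mem_map_of_mem f e')) s hs (hf e)) }

section Model

open Cfsg.Agent.AutPSL.Roots Cfsg.Agent.Fusion.SylowSL3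

variable {F : Type*} [Field F] [Fintype F]

local notation "SL" => Matrix.SpecialLinearGroup (Fin 3) F
local notation "U" => (unitriSL (n := 3) (F := F))

theorem en_one : en (1 : U) 0 1 = (0 : F) ∧ en (1 : U) 1 2 = (0 : F) ∧ en (1 : U) 0 2 = (0 : F) := by
  simp [en]

theorem en_inv (x : U) : en x⁻¹ 0 1 = -en x 0 1 ∧ en x⁻¹ 1 2 = -en x 1 2 := by
  obtain ⟨h1, h2, -⟩ := en_mul x x⁻¹
  rw [mul_inv_cancel, en_one.1] at h1
  rw [mul_inv_cancel, en_one.2.1] at h2
  exact ⟨by linear_combination -h1, by linear_combination -h2⟩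

/-- The coordinates of an element. -/
noncomputable def coords : U ≃ F × F × F :=
  Equiv.ofBijective (fun x => (en x 0 1, en x 1 2, en x 0 2))
    ⟨fun x y e => by
      simp only [Prod.mk.injEq] at e
      exact en_ext e.1 e.2.1 e.2.2,
    fun ⟨a, b, c⟩ => by
      obtain ⟨x, h1, h2, h3⟩ := exists_en a b c
      exact ⟨x, by simp [h1, h2, h3]⟩⟩

/-- The elements with a vanishing superdiagonal entry. -/
def edge (i j : Fin 3) (h : ∀ x y : U, en (x * y) i j = en x i j + en y i j) : Subgroup U where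
  carrier := {x | en x i j = 0}
  one_mem' := by
    have := h 1 1
    rw [one_mul] at this
    show en (1 : U) i j = 0
    linear_combination -this
  mul_mem' {x y} hx hy := by
    show en (x * y) i j = 0
    rw [h, show en x i j = 0 from hx, show en y i j = 0 from hy, add_zero]
  inv_mem' {x} hx := by
    show en x⁻¹ i j = 0
    have := h x x⁻¹
    have h1 := h 1 1
    rw [one_mul] at h1
    rw [mul_inv_cancel, show en x i j = 0 from hx] at this
    linear_combination -this - h1

theorem exists_shape_unitri (hF : Fintype.card F = 4) : ∃ R A : Subgroup U, Shape (⊤ : Subgroup U) R A := by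
  classical
  have h2 : (2 : F) = 0 := by
    have h := FiniteField.cast_card_eq_zero F
    rw [hF] at h
    have h' : (2 : F) * 2 = 0 := by push_cast at h; linear_combination h
    exact mul_self_eq_zero.1 h'
  set R := edge (F := F) 1 2 (fun x y => (en_mul x y).2.1) with hR
  set A := edge (F := F) 0 1 (fun x y => (en_mul x y).1) with hA
  have hmR : ∀ x : U, x ∈ R ↔ en x 1 2 = 0 := fun x => Iff.rfl
  have hmA : ∀ x : U, x ∈ A ↔ en x 0 1 = 0 := fun x => Iff.rfl
  have hF' : Nat.card F = 4 := by rw [Nat.card_eq_fintype_card, hF]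
  have hsqr : ∀ x : U, en (x * x) 0 1 = 0 ∧ en (x * x) 1 2 = 0 ∧
      en (x * x) 0 2 = en x 0 1 * en x 1 2 := fun x => by
    obtain ⟨a, b, c⟩ := en_mul x x
    exact ⟨by rw [a]; linear_combination en x 0 1 * h2, by rw [b]; linear_combination en x 1 2 * h2,
      by rw [c]; linear_combination en x 0 2 * h2⟩
  have hsq : ∀ x : U, x * x = 1 ↔ (en x 0 1 = 0 ∨ en x 1 2 = 0) := fun x => by
    obtain ⟨a, b, c⟩ := hsqr x
    rw [← mul_eq_zero, ← c]
    refine ⟨fun e => by rw [e]; exact en_one.2.2, fun e => en_ext ?_ ?_ ?_⟩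
    · rw [a, en_one.1]
    · rw [b, en_one.2.1]
    · rw [e, en_one.2.2]
  have hpair : ∀ (i : Fin 2) , Nat.card {x : U // (if i = 0 then en x 1 2 else en x 0 1) = 0} = 16 := by
    intro i
    have e : {x : U // (if i = 0 then en x 1 2 else en x 0 1) = 0} ≃
        {p : F × F × F // (if i = 0 then p.2.1 else p.1) = 0} :=
      coords.subtypeEquiv fun x => Iff.rfl
    rw [Nat.card_congr e]
    fin_cases i
    · rw [Nat.card_congr (β := F × F)
        ⟨fun p => (p.1.1, p.1.2.2), fun q => ⟨(q.1, 0, q.2), rfl⟩,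
          fun ⟨⟨a, b, c⟩, hb⟩ => by simp at hb; simp [hb], fun _ => rfl⟩, Nat.card_prod, hF']
    · rw [Nat.card_congr (β := F × F)
        ⟨fun p => (p.1.2.1, p.1.2.2), fun q => ⟨(0, q.1, q.2), rfl⟩,
          fun ⟨⟨a, b, c⟩, hb⟩ => by simp at hb; simp [hb], fun _ => rfl⟩, Nat.card_prod, hF']
  refine ⟨R, A, ⟨?_, le_top, le_top, ?_, ?_, fun x hx => (hsq x).2 (Or.inr hx),
    fun x hx => (hsq x).2 (Or.inl hx), ?_, fun x _ hx => ((hsq x).1 hx).symm,
    fun x _ => ⟨(hsqr x).2.1, (hsqr x).1⟩, ?_, ?_, ?_⟩⟩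
  · rw [Subgroup.card_top, Nat.card_congr coords, Nat.card_prod, Nat.card_prod, hF']
  · have h0 := hpair 0
    simp only [if_pos] at h0
    exact h0
  · have h1 := hpair 1
    simp only [show ¬ ((1 : Fin 2) = 0) by decide, if_false] at h1
    exact h1
  · let e : ↥(R ⊓ A) ≃ F :=
      { toFun := fun x => en (x : U) 0 2
        invFun := fun c => ⟨(exists_en 0 0 c).choose,
          ⟨(exists_en 0 0 c).choose_spec.2.1, (exists_en 0 0 c).choose_spec.1⟩⟩
        left_inv := fun x => Subtype.ext (en_ext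
          ((exists_en 0 0 _).choose_spec.1.trans ((hmA _).1 x.2.2).symm)
          ((exists_en 0 0 _).choose_spec.2.1.trans ((hmR _).1 x.2.1).symm)
          (exists_en 0 0 _).choose_spec.2.2)
        right_inv := fun c => (exists_en 0 0 c).choose_spec.2.2 }
    rw [Nat.card_congr e, hF']
  · intro z hz s _
    exact ((Subgroup.mem_center_iff.1 ((mem_center_iff z).2 ⟨hz.2, hz.1⟩)) s).symm
  · intro r hr hrA s _ e
    have h1 : en (r * s) 0 2 = en (s * r) 0 2 := by rw [e]
    rw [(en_mul r s).2.2, (en_mul s r).2.2, (hmR r).1 hr] at h1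
    exact (mul_eq_zero.1 (show en r 0 1 * en s 1 2 = 0 by linear_combination h1)).resolve_left hrA
  · intro r hr hrR s _ e
    have h1 : en (r * s) 0 2 = en (s * r) 0 2 := by rw [e]
    rw [(en_mul r s).2.2, (en_mul s r).2.2, (hmA r).1 hr] at h1
    exact (mul_eq_zero.1 (show en s 0 1 * en r 1 2 = 0 by linear_combination -h1)).resolve_right hrR

/-- A Sylow 2-subgroup of type `L₃(4)` has the shape. -/
theorem exists_shape {G : Type*} [Group G] (hF : Fintype.card F = 4) (S : Subgroup G)
    (P : Sylow 2 (Matrix.ProjectiveSpecialLinearGroup (Fin 3) F))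
    (e : S ≃* (P : Subgroup (Matrix.ProjectiveSpecialLinearGroup (Fin 3) F))) :
    ∃ R A : Subgroup G, Shape S R A := by
  haveI : Fact (Nat.Prime 2) := ⟨Nat.prime_two⟩
  haveI : CharP F 2 := (CharP.charP_iff_prime_eq_zero Nat.prime_two).2 (by
    have h := FiniteField.cast_card_eq_zero F
    rw [hF] at h
    have h' : (2 : F) * 2 = 0 := by push_cast at h; linear_combination h
    exact mul_self_eq_zero.1 h')
  obtain ⟨P', hP'⟩ := exists_sylow_eq (F := F) (n := 3) 2 (by omega)
  let e₁ : U ≃* (P' : Subgroup (Matrix.ProjectiveSpecialLinearGroup (Fin 3) F)) :=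
    (MulEquiv.ofBijective ((QuotientGroup.mk' (Subgroup.center SL)).subgroupMap U)
      ⟨fun x y h => Subtype.ext (mk_injOn _ _ x.2 y.2 0 (congrArg Subtype.val h)),
        MonoidHom.subgroupMap_surjective _ _⟩).trans (MulEquiv.subgroupCongr hP'.symm)
  let e₂ : U ≃* S := (e₁.trans (Sylow.equiv P' P)).trans e.symm
  obtain ⟨R, A, h⟩ := exists_shape_unitri hF
  refine ⟨R.map (S.subtype.comp e₂.toMonoidHom), A.map (S.subtype.comp e₂.toMonoidHom), ?_⟩
  have := h.map (S.subtype.comp e₂.toMonoidHom) (S.subtype_injective.comp e₂.injective)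
  rwa [← MonoidHom.range_eq_map, MonoidHom.range_comp, MonoidHom.range_eq_top.2 e₂.surjective,
    ← MonoidHom.range_eq_map, Subgroup.range_subtype] at this

end Model

end Cfsg.Agent.L34Type
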