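import Cfsg.Agent.Lib.StronglyClosedFour.General

/-!
# Sylow 2-subgroups of type `L₃(4)`: the signalizer functor on an elementary abelian subgroup

Adapted from `Lib/StronglyClosedFour/General`.
-/

set_option autoImplicit false
set_option linter.style.haveILetI false
set_option linter.unusedSectionVars false

namespace Cfsg.Agent.L34Type

open Subgroup
open Cfsg.Agent.StronglyClosedFour
open Cfsg.Agent.StronglyClosedFour.General (mem_cent)
open scoped Pointwise

universe u

variable {G : Type u} [Group G] [Finite G]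

/-- The subgroup generated by the cores of the centralisers of the involutions of `A`. -/
def sigGen (A : Subgroup G) : Subgroup G :=
  ⨆ a : {a : G // a ∈ A ∧ a ≠ 1}, core (centralizer ({(a : G)} : Set G))

theorem le_sigGen {A : Subgroup G} {a : G} (ha : a ∈ A) (ha1 : a ≠ 1) :
    core (centralizer ({a} : Set G)) ≤ sigGen A :=
  le_iSup (fun b : {a : G // a ∈ A ∧ a ≠ 1} => core (centralizer ({(b : G)} : Set G))) ⟨a, ha, ha1⟩

local notation "C[" t "]" => centralizer ({t} : Set G)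

/-- Balance, and the subgroup generated by the functor. -/
theorem signalizer (A : Subgroup G) (hsq : ∀ a ∈ A, a * a = 1) (h8 : 8 ≤ Nat.card A)
    (hCA : Odd (A.relIndex (centralizer (A : Set G))))
    (hgood : ∀ u ∈ A, u ≠ 1 → ∀ k ∈ C[u],
      ∃ o ∈ core C[u], ∃ n ∈ normalizer (A : Set G), k = o * n) :
    (Odd (Nat.card (sigGen A)) ∧ normalizer (A : Set G) ≤ normalizer (sigGen A : Set G) ∧
      ∀ a ∈ A, a ≠ 1 → C[a] ≤ normalizer (sigGen A : Set G)) ∧
    ∀ a ∈ A, a ≠ 1 → ∀ b ∈ A, b ≠ 1 → core C[a] ⊓ C[b] ≤ core C[b] := by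
  haveI : Fact (Nat.Prime 2) := ⟨Nat.prime_two⟩
  set NA := normalizer (A : Set G) with hNA
  have hinv : ∀ a ∈ A, a⁻¹ = a := fun a ha => inv_eq_of_mul_eq_one_right (hsq a ha)
  have hcomm : ∀ a ∈ A, ∀ b ∈ A, a * b = b * a := fun a ha b hb => by
    calc a * b = (a * b)⁻¹ := (hinv _ (mul_mem ha hb)).symm
      _ = b * a := by rw [mul_inv_rev, hinv a ha, hinv b hb]
  have hAp : IsPGroup 2 A := fun a => ⟨1, Subtype.ext (by
    show (a : G) ^ 2 ^ 1 = 1
    rw [pow_one, sq, hsq _ a.2])⟩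
  have hAC : ∀ v ∈ A, A ≤ C[v] := fun v hv a ha => mem_cent.2 (hcomm v hv a ha)
  set CA := centralizer (A : Set G) with hCAdef
  have hCAmem : ∀ x, x ∈ CA ↔ ∀ a ∈ A, a * x = x * a := fun x => mem_centralizer_iff
  have hACA : A ≤ CA := fun a ha => (hCAmem a).2 fun b hb => hcomm b hb a ha
  have hCACv : ∀ v ∈ A, CA ≤ C[v] := fun v hv x hx => mem_cent.2 ((hCAmem x).1 hx v hv)
  have hNCA : NA ≤ normalizer (CA : Set G) := le_normalizer_iff.2 fun n hn x hx => by
    rw [hCAmem] at hx ⊢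
    intro a ha
    have ha' : n⁻¹ * a * n ∈ A := (mem_normalizer_iff''.1 hn a).1 ha
    calc a * (n * x * n⁻¹) = n * ((n⁻¹ * a * n) * x) * n⁻¹ := by group
      _ = n * (x * (n⁻¹ * a * n)) * n⁻¹ := by rw [hx _ ha']
      _ = n * x * n⁻¹ * a := by group
  have hCAN : CA ≤ NA := le_normalizer_iff.2 fun c hc a ha => by
    rwa [← (hCAmem c).1 hc a ha, mul_inv_cancel_right]
  have hCAsplit : ∀ k ∈ CA, ∃ o ∈ core CA, ∃ a ∈ A, k = o * a :=
    burnside hAp hACA hCA fun n hn _ a ha => ((hCAmem n).1 hn a ha).symm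
  set OA := core CA with hOA
  have hOAN : NA ≤ normalizer (OA : Set G) := hNCA.trans (normalizer_le_normalizer_core CA)
  have hgn : ∀ v ∈ A, v ≠ 1 → ∀ k ∈ C[v],
      ∃ o ∈ core C[v], ∃ n ∈ NA ⊓ C[v], k = o * n := by
    intro v hv hv1 k hk
    obtain ⟨o, ho, n, hn, rfl⟩ := hgood v hv hv1 k hk
    refine ⟨o, ho, n, ⟨hn, ?_⟩, rfl⟩
    have := mul_mem (inv_mem (core_le _ ho)) hk
    rwa [inv_mul_cancel_left] at this
  have hOAle : ∀ v ∈ A, v ≠ 1 → OA ≤ core C[v] := by
    intro v hv hv1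
    set R := core C[v] with hR
    have hle : OA ≤ C[v] := (core_le CA).trans (hCACv v hv)
    have hRn : OA ≤ normalizer (R : Set G) := hle.trans (le_normalizer_core _)
    have hn : C[v] ≤ normalizer ((OA ⊔ R : Subgroup G) : Set G) := by
      intro k hk
      obtain ⟨o, ho, n, hn, rfl⟩ := hgn v hv hv1 k hk
      refine mul_mem (Subgroup.le_normalizer (mem_sup_right ho)) (le_normalizer_iff.2 ?_ hn)
      intro m hm x hx
      obtain ⟨a, ha, r, hr, rfl⟩ := (show x ∈ (OA : Set G) * (R : Set G) by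
        rw [← coe_mul_of_left_le_normalizer_right OA R hRn]; exact hx)
      rw [show m * (a * r) * m⁻¹ = (m * a * m⁻¹) * (m * r * m⁻¹) by group]
      exact mul_mem (mem_sup_left (le_normalizer_iff.1 hOAN _ hm.1 a ha))
        (mem_sup_right (le_normalizer_iff.1 (le_normalizer_core _) _ hm.2 r hr))
    exact le_sup_left.trans
      (le_core (sup_le hle (core_le _)) hn (odd_sup hRn (core_odd CA) (core_odd _)))
  -- the signalizer functor
  let θ : G → Subgroup G := fun u => core C[u]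
  have hθC : ∀ a ∈ A, a ≠ 1 → θ a ≤ C[a] := fun a _ _ => core_le _
  have hθodd : ∀ a, Odd (Nat.card (θ a)) := fun a => core_odd _
  have hθinv : ∀ a ∈ A, a ≠ 1 → ∀ b ∈ A, ∀ x ∈ θ a, b * x * b⁻¹ ∈ θ a := fun a ha _ b hb x hx =>
    le_normalizer_iff.1 (le_normalizer_core _) b (hAC a ha hb) x hx
  have hbal : ∀ a ∈ A, a ≠ 1 → ∀ b ∈ A, b ≠ 1 → θ a ⊓ C[b] ≤ θ b := by
    intro a ha ha1 b hb hb1 x hx
    obtain ⟨hxa, hxb⟩ := mem_inf.1 hx
    obtain ⟨r, hr, n, hn, rfl⟩ := hgn b hb hb1 x hxb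
    set R := core C[b] with hR
    have hnC : n ∈ CA := by
      refine (hCAmem n).2 fun c hc => ?_
      have hmA : c * (n * c⁻¹ * n⁻¹) ∈ A :=
        mul_mem hc ((mem_normalizer_iff.1 hn.1 _).1 (inv_mem hc))
      have hcx : c * (r * n) * c⁻¹ * (r * n)⁻¹ ∈ θ a :=
        mul_mem (hθinv a ha ha1 c hc _ hxa) (inv_mem hxa)
      have hcb : c * (r * n) * c⁻¹ * (r * n)⁻¹ =
          (c * r * c⁻¹) * (c * (n * c⁻¹ * n⁻¹)) * r⁻¹ := by group
      have hcr : c * r * c⁻¹ ∈ R := le_normalizer_iff.1 (le_normalizer_core _) c (hAC b hb hc) r hr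
      have hsw : ∀ m ∈ A, ∀ s ∈ R, m * s * m⁻¹ ∈ R := fun m hm s hs =>
        le_normalizer_iff.1 (le_normalizer_core _) m (hAC b hb hm) s hs
      generalize hm' : c * (n * c⁻¹ * n⁻¹) = m at hmA hcb
      generalize hy' : c * (r * n) * c⁻¹ * (r * n)⁻¹ = y at hcx hcb
      have he : y = (c * r * c⁻¹ * (m * r⁻¹ * m⁻¹)) * m := by rw [hcb]; group
      generalize hs' : c * r * c⁻¹ * (m * r⁻¹ * m⁻¹) = s at he
      have hsR : s ∈ R := hs' ▸ mul_mem hcr (hsw m hmA _ (inv_mem hr))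
      have hy2 : y * y ∈ R := by
        rw [he, show s * m * (s * m) = s * (m * s * m⁻¹) * (m * m) by group, hsq m hmA, mul_one]
        exact mul_mem hsR (hsw m hmA s hsR)
      have hyR : y ∈ R := by
        obtain ⟨k, hk⟩ := odd_orderOf_of_mem (hθodd a) hcx
        have : y = (y * y) ^ (k + 1) := by
          rw [← pow_two, ← pow_mul, show 2 * (k + 1) = orderOf y + 1 by omega, pow_succ,
            pow_orderOf_eq_one, one_mul]
        rw [this]
        exact pow_mem hy2 _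
      have hmR : m ∈ R := by
        rw [show m = s⁻¹ * y by rw [he, inv_mul_cancel_left]]
        exact mul_mem (inv_mem hsR) hyR
      have hm1 := eq_one_of_two_group (core_odd _) hAp hmR hmA
      subst hm'
      calc c * n = c * (n * c⁻¹ * n⁻¹) * (n * c) := by group
        _ = n * c := by rw [hm1, one_mul]
    obtain ⟨o, ho, a', ha', rfl⟩ := hCAsplit n hnC
    have hro : r * o ∈ R := mul_mem hr (hOAle b hb hb1 ho)
    have ha'1 : a' = 1 := by
      set x := r * (o * a') with hxdef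
      have hx2 : x * x ∈ R := by
        rw [hxdef, show r * (o * a') * (r * (o * a')) =
            r * o * (a' * (r * o) * a'⁻¹) * (a' * a') by group, hsq a' ha', mul_one]
        exact mul_mem hro (le_normalizer_iff.1 (le_normalizer_core _) a' (hAC b hb ha') _ hro)
      obtain ⟨k, hk⟩ := odd_orderOf_of_mem (hθodd a) hxa
      have hxR : x ∈ R := by
        have : x = (x * x) ^ (k + 1) := by
          rw [← pow_two, ← pow_mul, show 2 * (k + 1) = orderOf x + 1 by omega, pow_succ,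
            pow_orderOf_eq_one, one_mul]
        rw [this]
        exact pow_mem hx2 _
      refine eq_one_of_two_group (X := R) (core_odd _) hAp ?_ ha'
      rw [show a' = (r * o)⁻¹ * x by rw [hxdef]; group]
      exact mul_mem (inv_mem hro) hxR
    rw [ha'1, mul_one]
    exact hro
  obtain ⟨hWp, -⟩ := S0217.result A hcomm (fun a ha => by rw [sq]; exact hsq a ha)
    (by norm_num; exact h8) θ hθC
    (fun a _ _ h => absurd h (by have := Nat.odd_iff.1 (hθodd a); omega)) hθinv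
    (fun a _ _ => S0205.result (hθodd a)) hbal
  set W := ⨆ a : {a : G // a ∈ A ∧ a ≠ 1}, θ a with hW
  have hWodd : Odd (Nat.card W) := by rw [Nat.odd_iff]; omega
  have hθW : ∀ a ∈ A, a ≠ 1 → θ a ≤ W := fun a ha ha1 =>
    le_iSup (fun b : {a : G // a ∈ A ∧ a ≠ 1} => θ b) ⟨a, ha, ha1⟩
  have hNW : NA ≤ normalizer (W : Set G) := by
    refine le_normalizer_iff.2 fun n hn x hx => ?_
    have hle : W ≤ W.comap (MulAut.conj n).toMonoidHom := by
      refine iSup_le fun b => fun y hy => ?_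
      show n * y * n⁻¹ ∈ W
      refine hθW (n * b.1 * n⁻¹) ((mem_normalizer_iff.1 hn _).1 b.2.1)
        (fun h => b.2.2 (conj_eq_one_iff.1 h)) (conj_mem_core (fun z hz => ?_) (fun z hz => ?_) hy)
      · rw [mem_cent] at hz ⊢
        calc n * b.1 * n⁻¹ * (n * z * n⁻¹) = n * (b.1 * z) * n⁻¹ := by group
          _ = n * (z * b.1) * n⁻¹ := by rw [hz]
          _ = n * z * n⁻¹ * (n * b.1 * n⁻¹) := by group
      · rw [mem_cent] at hz ⊢
        calc b.1 * (n⁻¹ * z * n) = n⁻¹ * ((n * b.1 * n⁻¹) * z) * n := by group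
          _ = n⁻¹ * (z * (n * b.1 * n⁻¹)) * n := by rw [hz]
          _ = n⁻¹ * z * n * b.1 := by group
    exact hle hx
  have hCW : ∀ a ∈ A, a ≠ 1 → C[a] ≤ normalizer (W : Set G) := by
    intro a ha ha1 k hk
    obtain ⟨o, ho, n, hn, rfl⟩ := hgn a ha ha1 k hk
    exact mul_mem (Subgroup.le_normalizer (hθW a ha ha1 ho)) (hNW hn.1)
  exact ⟨⟨hWodd, hNW, hCW⟩, hbal⟩

end Cfsg.Agent.L34Type
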