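import Cfsg.Agent.Lib.L34Type.Interface
import Cfsg.Agent.Lib.StronglyClosedFour.Basic
import Cfsg.Agent.Lib.Cores.Basic
import Cfsg.Agent.Lib.CIT.LThreeFourBasic

/-!
# Groups with a four-group as Sylow 2-subgroup and one class of involutions: basic facts
-/

set_option autoImplicit false
set_option linter.style.haveILetI false
set_option linter.unusedSectionVars false

namespace Cfsg.Agent.L34Type.Klein

open Subgroup
open Cfsg.Agent.StronglyClosedFour (exists_conj_into exists_conj_into_involution eq_one_of_sq)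

universe u v

variable {G : Type u} [Group G] [Finite G]

theorem card_mul_relIndex {A B : Subgroup G} (h : A ≤ B) :
    Nat.card A * A.relIndex B = Nat.card B := by
  rw [← Subgroup.relIndex_bot_left, ← Subgroup.relIndex_bot_left,
    Subgroup.relIndex_mul_relIndex ⊥ A B bot_le h]

/-- A four-group of odd index in a group with one class of involutions. -/
structure Setting (Z : Subgroup G) : Prop where
  card : Nat.card Z = 4
  sq : ∀ x ∈ Z, x * x = 1
  odd : Odd Z.index
  one_class : ∀ s t : G, orderOf s = 2 → orderOf t = 2 → IsConj s t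

theorem conj_twice (g k x : G) : g * k * x * (g * k)⁻¹ = g * (k * x * k⁻¹) * g⁻¹ := by group

theorem order_two {x : G} (h : x * x = 1) (h1 : x ≠ 1) : orderOf x = 2 :=
  orderOf_eq_prime (by rw [pow_two, h]) h1

variable {Z : Subgroup G}

theorem isPGroup_sq (hsq : ∀ x ∈ Z, x * x = 1) : IsPGroup 2 Z :=
  fun x => ⟨1, Subtype.ext (by rw [pow_one, pow_two]; exact hsq x x.2)⟩

theorem comm_sq (hsq : ∀ x ∈ Z, x * x = 1) {a b : G} (ha : a ∈ Z) (hb : b ∈ Z) :
    a * b = b * a := by
  have hi : ∀ x ∈ Z, x⁻¹ = x := fun x hx => inv_eq_of_mul_eq_one_right (hsq x hx)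
  calc a * b = (a * b)⁻¹ := (hi _ (mul_mem ha hb)).symm
    _ = b * a := by rw [mul_inv_rev, hi a ha, hi b hb]

namespace Setting

variable (h : Setting Z)
include h

theorem not_dvd_index : ¬ 2 ∣ Z.index := fun h2 =>
  Nat.not_even_iff_odd.2 h.odd (even_iff_two_dvd.2 h2)

theorem isPGroup : IsPGroup 2 Z := isPGroup_sq h.sq

theorem comm {a b : G} (ha : a ∈ Z) (hb : b ∈ Z) : a * b = b * a := comm_sq h.sq ha hb

theorem inv {a : G} (ha : a ∈ Z) : a⁻¹ = a := inv_eq_of_mul_eq_one_right (h.sq a ha)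

theorem le_centralizer : Z ≤ centralizer (Z : Set G) :=
  fun a ha => mem_centralizer_iff.2 fun b hb => h.comm hb ha

theorem le_centralizer_singleton {z : G} (hz : z ∈ Z) : Z ≤ centralizer ({z} : Set G) :=
  fun _ ha => mem_centralizer_singleton_iff.2 (h.comm ha hz)

theorem cent_le_cent {z : G} (hz : z ∈ Z) :
    centralizer (Z : Set G) ≤ centralizer ({z} : Set G) :=
  centralizer_le (by simpa using hz)

theorem odd_relIndex {K : Subgroup G} (hK : Z ≤ K) : Odd (Z.relIndex K) :=
  h.odd.of_dvd_nat (Dvd.intro _ (Subgroup.relIndex_mul_index hK))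

theorem exists_sylow : ∃ P : Sylow 2 G, (P : Subgroup G) = Z := by
  haveI : Fact (Nat.Prime 2) := ⟨Nat.prime_two⟩
  exact ⟨h.isPGroup.toSylow h.not_dvd_index, rfl⟩

theorem not_eight : ¬ 8 ∣ Nat.card G := by
  rintro ⟨k, hk⟩
  rw [← Z.card_mul_index, h.card] at hk
  exact h.not_dvd_index ⟨k, by omega⟩

theorem exists_mem_ne_one : ∃ z ∈ Z, z ≠ 1 := by
  by_contra hne
  push Not at hne
  have e : Z = ⊥ := (Subgroup.eq_bot_iff_forall _).2 hne
  have h4 := h.card
  rw [e, Subgroup.card_bot] at h4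
  omega

/-- A 2-element normalising `Z` lies in it. -/
theorem mem_of_two {x : G} (hx : x ∈ normalizer (Z : Set G)) {k : ℕ} (hk : x ^ 2 ^ k = 1) :
    x ∈ Z := by
  haveI : Fact (Nat.Prime 2) := ⟨Nat.prime_two⟩
  obtain ⟨P, hP⟩ := h.exists_sylow
  have hp : IsPGroup 2 (zpowers x) := by
    rintro ⟨_, n, rfl⟩
    refine ⟨k, Subtype.ext ?_⟩
    show (x ^ n) ^ 2 ^ k = 1
    rw [← zpow_natCast, zpow_comm, zpow_natCast, hk, one_zpow]
  have he := hp.inf_normalizer_sylow P
  have : x ∈ zpowers x ⊓ (P : Subgroup G) := by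
    rw [← he]
    exact mem_inf.2 ⟨mem_zpowers x, by rw [← hP] at hx; exact hx⟩
  rw [hP] at this
  exact (mem_inf.1 this).2

theorem mem_centralizer_of_sq {n : G} (hn : n ∈ normalizer (Z : Set G))
    (hn2 : n * n ∈ centralizer (Z : Set G)) : n ∈ centralizer (Z : Set G) := by
  obtain ⟨k, m, hm, hkm⟩ := Nat.exists_eq_two_pow_mul_odd (orderOf_pos n).ne'
  have h1 : (n ^ m) ^ 2 ^ k = 1 := by
    rw [← pow_mul, mul_comm, ← hkm, pow_orderOf_eq_one]
  have hmem : n ^ m ∈ centralizer (Z : Set G) :=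
    h.le_centralizer (h.mem_of_two (pow_mem hn m) h1)
  obtain ⟨j, rfl⟩ := hm
  rw [pow_succ, pow_mul, pow_two] at hmem
  exact (Subgroup.mul_mem_cancel_left _ (pow_mem hn2 j)).1 hmem

/-- The two further involutions beside `z`. -/
theorem exists_others {z : G} (hz : z ∈ Z) (hz1 : z ≠ 1) :
    ∃ a ∈ Z, a ≠ 1 ∧ a ≠ z ∧ a * z ≠ 1 ∧
      ∀ x ∈ Z, x = 1 ∨ x = z ∨ x = a ∨ x = a * z := by
  classical
  haveI := Fintype.ofFinite G
  have hnle : ¬ Z ≤ zpowers z := fun hle => by
    have h4 := Nat.card_le_card_of_injective (Subgroup.inclusion hle) (Subgroup.inclusion_injective hle)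
    rw [h.card, Nat.card_zpowers, order_two (h.sq z hz) hz1] at h4
    omega
  obtain ⟨a, ha, haz⟩ := SetLike.not_le_iff_exists.1 hnle
  have ha1 : a ≠ 1 := fun e => haz (e ▸ one_mem _)
  have haz' : a ≠ z := fun e => haz (e ▸ mem_zpowers z)
  have hp : a * z ≠ 1 := fun e => haz' (by rw [eq_inv_of_mul_eq_one_left e, h.inv hz])
  refine ⟨a, ha, ha1, haz', hp, fun x hx => ?_⟩
  have hsub : ({1, z, a, a * z} : Finset G) ⊆ Finset.univ.filter (· ∈ Z) := by
    intro y hy
    simp only [Finset.mem_insert, Finset.mem_singleton] at hy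
    rcases hy with rfl | rfl | rfl | rfl <;>
      simp [hz, ha, one_mem, mul_mem]
  have hc : ({1, z, a, a * z} : Finset G).card = 4 := by
    rw [Finset.card_insert_of_notMem, Finset.card_insert_of_notMem, Finset.card_insert_of_notMem,
      Finset.card_singleton]
    · rw [Finset.mem_singleton]; intro e; exact hz1 (left_eq_mul.1 e)
    · simp only [Finset.mem_insert, Finset.mem_singleton, not_or]
      exact ⟨Ne.symm haz', fun e => ha1 (right_eq_mul.1 e)⟩
    · simp only [Finset.mem_insert, Finset.mem_singleton, not_or]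
      exact ⟨Ne.symm hz1, Ne.symm ha1, Ne.symm hp⟩
  have hZ : (Finset.univ.filter (· ∈ Z)).card = 4 := by
    rw [← h.card, Nat.card_eq_fintype_card]
    exact (Fintype.card_subtype _).symm
  have he := Finset.eq_of_subset_of_card_le hsub (by rw [hc, hZ])
  have : x ∈ ({1, z, a, a * z} : Finset G) := by
    rw [he]
    simp [hx]
  simpa using this

/-- An element normalising `Z` and centralising one of its involutions centralises `Z`. -/
theorem mem_centralizer_of_fix {z n : G} (hz : z ∈ Z) (hz1 : z ≠ 1)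
    (hn : n ∈ normalizer (Z : Set G)) (hfix : n * z = z * n) : n ∈ centralizer (Z : Set G) := by
  obtain ⟨a, ha, ha1, haz, hp, hall⟩ := h.exists_others hz hz1
  refine h.mem_centralizer_of_sq hn (mem_centralizer_iff.2 fun x hx => ?_)
  have hconj : n * z * n⁻¹ = z := by rw [hfix, mul_inv_cancel_right]
  have hna : n * a * n⁻¹ = a ∨ n * a * n⁻¹ = a * z := by
    rcases hall _ ((mem_normalizer_iff.1 hn a).1 ha) with e | e | e | e
    · exact absurd (conj_eq_one_iff.1 e) ha1
    · exact absurd (mul_left_cancel (mul_right_cancel (e.trans hconj.symm))) haz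
    · exact Or.inl e
    · exact Or.inr e
  have h2a : n * n * a * (n * n)⁻¹ = a := by
    rw [conj_twice n n a]
    rcases hna with e | e <;> rw [e]
    · exact e
    · rw [show n * (a * z) * n⁻¹ = n * a * n⁻¹ * (n * z * n⁻¹) by group, e, hconj, mul_assoc,
        h.sq z hz, mul_one]
  have h2z : n * n * z * (n * n)⁻¹ = z := by rw [conj_twice n n z, hconj, hconj]
  have h2 : n * n * x * (n * n)⁻¹ = x := by
    rcases hall x hx with rfl | rfl | rfl | rfl
    · rw [mul_one, mul_inv_cancel]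
    · exact h2z
    · exact h2a
    · rw [show n * n * (a * z) * (n * n)⁻¹ = n * n * a * (n * n)⁻¹ * (n * n * z * (n * n)⁻¹) by group,
        h2a, h2z]
  exact (mul_inv_eq_iff_eq_mul.1 h2).symm

/-- The involutions of `Z` are conjugate in its normaliser. -/
theorem exists_conj_normalizer {z w : G} (hz : z ∈ Z) (hz1 : z ≠ 1) (hw : w ∈ Z) (hw1 : w ≠ 1) :
    ∃ n ∈ normalizer (Z : Set G), n * z * n⁻¹ = w := by
  obtain ⟨g, hg⟩ := isConj_iff.1 (h.one_class z w (order_two (h.sq z hz) hz1)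
    (order_two (h.sq w hw) hw1))
  have hp : IsPGroup 2 (Z.map (MulAut.conj g).toMonoidHom) := h.isPGroup.map _
  obtain ⟨k, hk, hkc⟩ := exists_conj_into (K := centralizer ({w} : Set G)) (T := Z) hp (by
    rintro _ ⟨x, hx, rfl⟩
    rw [mem_centralizer_singleton_iff, ← hg]
    show g * x * g⁻¹ * (g * z * g⁻¹) = g * z * g⁻¹ * (g * x * g⁻¹)
    rw [show g * x * g⁻¹ * (g * z * g⁻¹) = g * (x * z) * g⁻¹ by group, h.comm hx hz]
    group) (h.odd_relIndex (h.le_centralizer_singleton hw))
  refine ⟨k⁻¹ * g, CIT.mem_normalizer_of_forall fun x hx => ?_, ?_⟩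
  · have h1 := hkc _ ⟨x, hx, rfl⟩
    rw [show k⁻¹ * g * x * (k⁻¹ * g)⁻¹ = k⁻¹ * (g * x * g⁻¹) * k by group]
    exact h1
  · rw [show k⁻¹ * g * z * (k⁻¹ * g)⁻¹ = k⁻¹ * (g * z * g⁻¹) * k by group, hg, mul_assoc,
      ← mem_centralizer_singleton_iff.1 hk, inv_mul_cancel_left]

end Setting

/-- The centraliser of an involution `z` is a normal subgroup containing `Z` times `C(Z)`. -/
theorem Setting.centralizer_eq_sup (h : Setting Z) {z : G} (hz : z ∈ Z) (hz1 : z ≠ 1)
    {L : Subgroup G} [L.Normal] (hZL : Z ≤ L) :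
    centralizer ({z} : Set G) = (L ⊓ centralizer ({z} : Set G)) ⊔ centralizer (Z : Set G) := by
  refine le_antisymm (fun x hx => ?_) (sup_le inf_le_right (h.cent_le_cent hz))
  set K := L ⊓ centralizer ({z} : Set G) with hK
  have hZK : Z ≤ K := le_inf hZL (h.le_centralizer_singleton hz)
  have hle : Z.map (MulAut.conj x).toMonoidHom ≤ K := by
    rintro _ ⟨a, ha, rfl⟩
    exact mem_inf.2 ⟨Subgroup.Normal.conj_mem inferInstance _ (hZL ha) x,
      mul_mem (mul_mem hx (h.le_centralizer_singleton hz ha)) (inv_mem hx)⟩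
  obtain ⟨k, hk, hkc⟩ := exists_conj_into (h.isPGroup.map _) hle (h.odd_relIndex hZK)
  have hn : k⁻¹ * x ∈ normalizer (Z : Set G) := CIT.mem_normalizer_of_forall fun a ha => by
    rw [show k⁻¹ * x * a * (k⁻¹ * x)⁻¹ = k⁻¹ * (x * a * x⁻¹) * k by group]
    exact hkc _ ⟨a, ha, rfl⟩
  have hkc' : k ∈ centralizer ({z} : Set G) := (mem_inf.1 hk).2
  have hc : k⁻¹ * x ∈ centralizer ({z} : Set G) := mul_mem (inv_mem hkc') hx
  have := h.mem_centralizer_of_fix hz hz1 hn (mem_centralizer_singleton_iff.1 hc)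
  simpa using mul_mem (mem_sup_left hk : k ∈ K ⊔ centralizer (Z : Set G)) (mem_sup_right this)

/-- Centralisers of 2-subgroups map onto the centralisers modulo an odd normal subgroup. -/
theorem comap_centralizer {Q : Type v} [Group Q] (f : G →* Q) (hO : Odd (Nat.card f.ker))
    {T : Subgroup G} (hT : IsPGroup 2 T) (hcomm : ∀ a ∈ T, ∀ b ∈ T, a * b = b * a) :
    (centralizer (f '' (T : Set G))).comap f = f.ker ⊔ centralizer (T : Set G) := by
  haveI : Fact (Nat.Prime 2) := ⟨Nat.prime_two⟩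
  refine le_antisymm (fun x hx => ?_) (sup_le (fun o ho => ?_) (fun x hx => ?_))
  · rw [mem_comap, mem_centralizer_iff] at hx
    have hdisj : T ⊓ f.ker = ⊥ := by
      obtain ⟨n, hn⟩ := IsPGroup.iff_card.1 hT
      refine disjoint_iff.1 (Subgroup.disjoint_of_coprime_natCard ?_)
      rw [hn]
      exact ((Nat.coprime_two_right.2 hO).symm).pow_left n
    have hodd : Odd (T.relIndex (f.ker ⊔ T)) := by
      have h1 := card_mul_relIndex (le_sup_right : T ≤ f.ker ⊔ T)
      have h2 := Cores.card_sup_mul_card_inf T f.ker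
      rw [hdisj, Subgroup.card_bot, mul_one, sup_comm] at h2
      rw [Nat.eq_of_mul_eq_mul_left Nat.card_pos (h1.trans h2)]
      exact hO
    have hle : T.map (MulAut.conj x).toMonoidHom ≤ f.ker ⊔ T := by
      rintro _ ⟨t, ht, rfl⟩
      have : x * t * x⁻¹ * t⁻¹ ∈ f.ker := by
        rw [MonoidHom.mem_ker]
        simp only [map_mul, map_inv]
        rw [← hx (f t) (Set.mem_image_of_mem f ht)]
        group
      show x * t * x⁻¹ ∈ _
      simpa using mul_mem (mem_sup_left this : x * t * x⁻¹ * t⁻¹ ∈ f.ker ⊔ T) (mem_sup_right ht)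
    obtain ⟨k, hk, hkc⟩ := exists_conj_into (hT.map _) hle hodd
    obtain ⟨o, ho, s, hs, rfl⟩ := mem_sup_of_normal_left.1 hk
    rw [MonoidHom.mem_ker] at ho
    have hmem : (o * s)⁻¹ * x ∈ centralizer (T : Set G) := by
      rw [mem_centralizer_iff]
      intro t ht
      have hu := hkc _ ⟨t, ht, rfl⟩
      have hfu : ((o * s)⁻¹ * (x * t * x⁻¹) * (o * s))⁻¹ * t ∈ f.ker := by
        rw [MonoidHom.mem_ker]
        simp only [map_mul, map_inv, ho, one_mul]
        rw [← hx (f t) (Set.mem_image_of_mem f ht), mul_inv_cancel_right]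
        have hst : f s * f t = f t * f s := by rw [← map_mul, ← map_mul, hcomm s hs t ht]
        rw [mul_assoc (f s)⁻¹, ← hst, inv_mul_cancel_left, inv_mul_cancel]
      have h1 : ((o * s)⁻¹ * (x * t * x⁻¹) * (o * s))⁻¹ * t ∈ T ⊓ f.ker :=
        mem_inf.2 ⟨mul_mem (inv_mem hu) ht, hfu⟩
      rw [hdisj, mem_bot, inv_mul_eq_one] at h1
      have h3 : (o * s)⁻¹ * x * t * ((o * s)⁻¹ * x)⁻¹ = (o * s)⁻¹ * (x * t * x⁻¹) * (o * s) := by
        group
      exact (mul_inv_eq_iff_eq_mul.1 (h3.trans h1)).symm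
    have hsC : s ∈ centralizer (T : Set G) := mem_centralizer_iff.2 fun t ht => hcomm t ht s hs
    have hkS : o * s ∈ f.ker ⊔ centralizer (T : Set G) :=
      mul_mem (mem_sup_left (MonoidHom.mem_ker.2 ho)) (mem_sup_right hsC)
    have := mul_mem hkS (mem_sup_right hmem)
    rwa [mul_inv_cancel_left] at this
  · rw [mem_comap, mem_centralizer_iff]
    intro y _
    rw [MonoidHom.mem_ker.1 ho, one_mul, mul_one]
  · rw [mem_comap, mem_centralizer_iff]
    rintro _ ⟨t, ht, rfl⟩
    rw [← map_mul, ← map_mul, mem_centralizer_iff.1 hx t ht]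

end Cfsg.Agent.L34Type.Klein
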