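import Cfsg.Agent.Lib.L34Type.Cover

/-!
# Sylow 2-subgroups of type `L₃(4)`: the action of `N(S)` on the three sections of `S`
-/

set_option autoImplicit false
set_option linter.style.haveILetI false
set_option linter.unusedSectionVars false

namespace Cfsg.Agent.L34Type

open Subgroup Cfsg.Agent.CIT
open Cfsg.Agent.StronglyClosedFour (core burnside le_core odd_sup core_le core_odd le_normalizer_core
  normalizer_le_normalizer_core)
open scoped Pointwise

universe u

variable {G : Type u} [Group G] [Finite G] {S : Sylow 2 G} {R A : Subgroup G}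

namespace Shape

variable (h : Shape (S : Subgroup G) R A)
include h

/-- `R ⊓ A` has no five elements. -/
theorem inf_cases {u v w x : G} (hu : u ∈ R ⊓ A) (hv : v ∈ R ⊓ A) (hw : w ∈ R ⊓ A) (hx : x ∈ R ⊓ A)
    (hu1 : u ≠ 1) (hv1 : v ≠ 1) (hw1 : w ≠ 1) (huv : u ≠ v) (huw : u ≠ w) (hvw : v ≠ w) :
    x = 1 ∨ x = u ∨ x = v ∨ x = w := by
  by_contra hne
  push Not at hne
  obtain ⟨h1, h2, h3, h4⟩ := hne
  classical
  have hfive : ({1, u, v, w, x} : Finset G).card = 5 := by
    simp [hu1.symm, hv1.symm, hw1.symm, h1.symm, h2.symm, h3.symm, h4.symm, huv, huw, hvw, hu1,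
      hv1, hw1]
  have hsub : (({1, u, v, w, x} : Finset G) : Set G) ⊆ ((R ⊓ A : Subgroup G) : Set G) := by
    intro y hy
    simp only [Finset.coe_insert, Finset.coe_singleton, Set.mem_insert_iff,
      Set.mem_singleton_iff] at hy
    rcases hy with rfl | rfl | rfl | rfl | rfl <;> first | exact one_mem _ | assumption
  have hcard := Set.ncard_le_ncard hsub (Set.toFinite _)
  rw [Set.ncard_coe_finset, hfive, ← Nat.card_coe_set_eq, SetLike.coe_sort_coe, h.inf_card] at hcard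
  omega

/-- The cosets of `R ⊓ A` in `R` outside `A` are three. -/
theorem coset_cases {r x y : G} (hr : r ∈ R) (hrA : r ∉ A) (hx : x ∈ R) (hxA : x ∉ A) (hy : y ∈ R)
    (hyA : y ∉ A) (hrx : r * x ∉ A) : r * y ∈ A ∨ x * y ∈ A ∨ r * x * y ∈ A := by
  by_contra hne'
  push Not at hne'
  obtain ⟨hry, hxy, hrxy⟩ := hne'
  classical
  have hq : Nat.card (R ⧸ A.subgroupOf R) = 4 := by
    have h2 := Subgroup.card_eq_card_quotient_mul_card_subgroup (A.subgroupOf R)
    have h3 : Nat.card (A.subgroupOf R) = Nat.card (A ⊓ R : Subgroup G) := by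
      rw [← Subgroup.inf_subgroupOf_right]
      exact Nat.card_congr (Subgroup.subgroupOfEquivOfLe inf_le_right).toEquiv
    rw [h3, inf_comm, h.inf_card, h.R_card] at h2
    omega
  let q : ∀ t : G, t ∈ R → R ⧸ A.subgroupOf R := fun t ht => QuotientGroup.mk ⟨t, ht⟩
  have hne : ∀ t (ht : t ∈ R) t' (ht' : t' ∈ R), t * t' ∉ A → q t ht ≠ q t' ht' := by
    intro t ht t' ht' hn e
    have e' := mem_subgroupOf.1 (QuotientGroup.eq.1 e)
    rw [Subgroup.coe_mul, Subgroup.coe_inv] at e'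
    simp only at e'
    rw [h.R_inv ht] at e'
    exact hn e'
  have hone : ∀ t, t ∉ A → (1 : G) * t ∉ A := fun t ht => by rwa [one_mul]
  have hfive : ({q 1 R.one_mem, q r hr, q x hx, q y hy, q (r * x) (mul_mem hr hx)} :
      Finset (R ⧸ A.subgroupOf R)).card = 5 := by
    have a1 := hne 1 R.one_mem r hr (hone r hrA)
    have a2 := hne 1 R.one_mem x hx (hone x hxA)
    have a3 := hne 1 R.one_mem y hy (hone y hyA)
    have a4 := hne 1 R.one_mem (r * x) (mul_mem hr hx) (hone _ hrx)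
    have a5 := hne r hr x hx hrx
    have a6 := hne r hr y hy hry
    have a7 := hne r hr (r * x) (mul_mem hr hx) (by rwa [← mul_assoc, h.R_sq r hr, one_mul])
    have a8 := hne x hx y hy hxy
    have a9 := hne x hx (r * x) (mul_mem hr hx) (by
      rwa [h.R_comm hr hx, ← mul_assoc, h.R_sq x hx, one_mul])
    have a10 := hne y hy (r * x) (mul_mem hr hx) (by rwa [h.R_comm hy (mul_mem hr hx)])
    simp [a1, a2, a3, a4, a5, a6, a7, a8, a9, a10]
  haveI := Fintype.ofFinite (R ⧸ A.subgroupOf R)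
  have h5 := Finset.card_le_univ ({q 1 R.one_mem, q r hr, q x hx, q y hy, q (r * x) (mul_mem hr hx)} :
      Finset (R ⧸ A.subgroupOf R))
  rw [hfive, ← Nat.card_eq_fintype_card, hq] at h5
  omega

/-- An odd power of an element of `N(S)` lies in `S`. -/
theorem exists_odd_pow {n : G} (hn : n ∈ normalizer ((S : Subgroup G) : Set G)) :
    ∃ m, n ^ (2 * m + 1) ∈ (S : Subgroup G) := by
  haveI : Fact (Nat.Prime 2) := ⟨Nat.prime_two⟩
  set N := normalizer ((S : Subgroup G) : Set G)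
  have : ((S : Subgroup G).subgroupOf N).Normal := Subgroup.normal_in_normalizer
  have h1 : ¬ 2 ∣ (S : Subgroup G).relIndex N := fun e =>
    S.not_dvd_index (e.trans (relIndex_dvd_index_of_le Subgroup.le_normalizer))
  obtain ⟨k, hk⟩ := Nat.odd_iff.2 (show ((S : Subgroup G).subgroupOf N).index % 2 = 1 by
    show ((S : Subgroup G).relIndex N) % 2 = 1
    omega)
  have := Subgroup.pow_index_mem ((S : Subgroup G).subgroupOf N) ⟨n, hn⟩
  rw [hk, mem_subgroupOf] at this
  exact ⟨k, this⟩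

theorem conj_inf {n : G} (hn : n ∈ normalizer ((S : Subgroup G) : Set G)) {z : G} (hz : z ∈ R ⊓ A) :
    n * z * n⁻¹ ∈ R ⊓ A :=
  (mem_normalizer_iff.1 (h.norm_S_le_inf hn) z).1 hz

theorem conj_R {n : G} (hn : n ∈ normalizer ((S : Subgroup G) : Set G)) {r : G} (hr : r ∈ R) :
    n * r * n⁻¹ ∈ R :=
  (mem_normalizer_iff.1 (h.norm_S_le_R hn) r).1 hr

theorem conj_notMem_A_of_norm {n : G} (hn : n ∈ normalizer ((S : Subgroup G) : Set G)) {r : G}
    (hrA : r ∉ A) : n * r * n⁻¹ ∉ A := fun e =>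
  hrA ((mem_normalizer_iff.1 (h.norm_S_le_A hn) r).2 e)

/-- An element of `N(S)` fixing one involution of `R ⊓ A` fixes all. -/
theorem norm_fix_inf {n z : G} (hn : n ∈ normalizer ((S : Subgroup G) : Set G)) (hz : z ∈ R ⊓ A)
    (hz1 : z ≠ 1) (hnz : n * z * n⁻¹ = z) : ∀ w ∈ R ⊓ A, n * w * n⁻¹ = w := by
  intro w hw
  by_contra hne
  have hw1 : w ≠ 1 := fun e => hne (by rw [e]; group)
  have hwz : w ≠ z := fun e => hne (by rw [e]; exact hnz)
  set v := n * w * n⁻¹ with hv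
  have hv1 : v ≠ 1 := fun e => hw1 (conj_eq_one_iff.1 e)
  have hvz : v ≠ z := fun e => hwz ((MulAut.conj n).injective (e.trans hnz.symm))
  have hv2 : n * v * n⁻¹ = w := by
    rcases h.inf_cases hz hw (h.conj_inf hn hw) (h.conj_inf hn (h.conj_inf hn hw)) hz1 hw1 hv1
      hwz.symm hvz.symm (Ne.symm hne) with e | e | e | e
    · exact absurd (conj_eq_one_iff.1 e) hv1
    · exact absurd ((MulAut.conj n).injective (e.trans hnz.symm)) hvz
    · exact e
    · exact absurd ((MulAut.conj n).injective (show n * v * n⁻¹ = n * w * n⁻¹ from e)) hne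
  have h2 : ∀ i : ℕ, (n ^ 2) ^ i * w * ((n ^ 2) ^ i)⁻¹ = w := fun i => by
    induction i with
    | zero => simp
    | succ i ih => rw [pow_succ, conj_comp, pow_two, conj_comp, ← hv, hv2, ← pow_two, ih]
  obtain ⟨m, hm⟩ := h.exists_odd_pow hn
  rw [pow_succ', pow_mul] at hm
  have h3 : n * (n ^ 2) ^ m * w * (n * (n ^ 2) ^ m)⁻¹ = w := by
    rw [← h.central w hw _ hm, mul_inv_cancel_right]
  rw [conj_comp, h2] at h3
  exact hne h3

/-- An element of `N(S)` fixing one nontrivial class of `R` modulo `R ⊓ A` fixes all. -/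
theorem norm_mod_R {n r : G} (hn : n ∈ normalizer ((S : Subgroup G) : Set G)) (hr : r ∈ R)
    (hrA : r ∉ A) (hnr : n * r * n⁻¹ * r ∈ A) : ∀ x ∈ R, n * x * n⁻¹ * x ∈ R ⊓ A := by
  have hA : ∀ u ∈ A, n * u * n⁻¹ ∈ A := fun u hu => (mem_normalizer_iff.1 (h.norm_S_le_A hn) u).1 hu
  intro x hx
  refine mem_inf.2 ⟨mul_mem (h.conj_R hn hx) hx, ?_⟩
  by_cases hxA : x ∈ A
  · exact mul_mem (hA x hxA) hxA
  by_cases hrx : r * x ∈ A
  · -- `x` lies in the class of `r`
    have e1 : n * x * n⁻¹ * x = (n * r * n⁻¹ * r) * (n * (r * x) * n⁻¹) * (r * x) := by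
      have hr' := h.conj_R hn hr
      have hrx' := h.conj_R hn (mul_mem hr hx)
      rw [mul_assoc (n * r * n⁻¹) r, h.R_comm hr hrx',
        show n * r * n⁻¹ * (n * (r * x) * n⁻¹ * r) = n * r * n⁻¹ * (n * (r * x) * n⁻¹) * r by group,
        mul_assoc _ r (r * x), ← mul_assoc r r x, h.R_sq r hr, one_mul,
        show n * r * n⁻¹ * (n * (r * x) * n⁻¹) = n * (r * r * x) * n⁻¹ by group, h.R_sq r hr, one_mul]
    rw [e1]
    exact mul_mem (mul_mem hnr (hA _ hrx)) hrx
  set y := n * x * n⁻¹ with hy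
  have hyR : y ∈ R := h.conj_R hn hx
  have hyA : y ∉ A := h.conj_notMem_A_of_norm hn hxA
  have hnr' : n * r * n⁻¹ ∈ R := h.conj_R hn hr
  rcases h.coset_cases hr hrA hx hxA hyR hyA hrx with e | e | e
  · -- `y` cannot be in the class of `r`
    exfalso
    refine h.conj_notMem_A_of_norm hn hrx ?_
    have e2 : n * (r * x) * n⁻¹ = (n * r * n⁻¹ * r) * (r * y) := by
      rw [mul_assoc _ r (r * y), ← mul_assoc r r y, h.R_sq r hr, one_mul, hy]; group
    rw [e2]
    exact mul_mem hnr e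
  · rwa [h.R_comm hyR hx]
  · -- `n` would interchange two classes
    exfalso
    set c := r * x * y with hc
    have hcR : c ∈ R := mul_mem (mul_mem hr hx) hyR
    have hy' : y = x * r * c := by
      rw [hc, show x * r * (r * x * y) = x * (r * r) * x * y by group, h.R_sq r hr, mul_one,
        h.R_sq x hx, one_mul]
    have hn2 : n ^ 2 * x * (n ^ 2)⁻¹ * x ∈ A := by
      rw [pow_two, conj_comp, ← hy, show n * y * n⁻¹ = n * (x * r * c) * n⁻¹ by rw [← hy']]
      rw [show n * (x * r * c) * n⁻¹ = y * (n * r * n⁻¹) * (n * c * n⁻¹) by rw [hy]; group, hy']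
      have e3 : x * r * c * (n * r * n⁻¹) * (n * c * n⁻¹) * x =
          c * (n * r * n⁻¹ * r) * (n * c * n⁻¹) := by
        generalize ea : n * r * n⁻¹ = a at hnr' ⊢
        have hnc := h.conj_R hn hcR
        generalize eb : n * c * n⁻¹ = b at hnc ⊢
        rw [h.R_comm (mul_mem (mul_mem (mul_mem (mul_mem hx hr) hcR) hnr') hnc) hx,
          show x * (x * r * c * a * b) = x * x * (r * (c * a)) * b by group, h.R_sq x hx, one_mul,
          h.R_comm hr (mul_mem hcR hnr'), mul_assoc c a r]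
      rw [e3]
      exact mul_mem (mul_mem e hnr) (hA c e)
    have h2 : ∀ i : ℕ, (n ^ 2) ^ i * x * ((n ^ 2) ^ i)⁻¹ * x ∈ A := fun i => by
      induction i with
      | zero => simp [h.R_sq x hx]
      | succ i ih =>
        set u := (n ^ 2) ^ i * x * ((n ^ 2) ^ i)⁻¹ with hu
        have hn2N : n ^ 2 ∈ normalizer ((S : Subgroup G) : Set G) := pow_mem hn 2
        have huR : u ∈ R := h.conj_R (pow_mem hn2N i) hx
        rw [pow_succ', conj_comp, ← hu]
        clear_value u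
        have e4 : n ^ 2 * u * (n ^ 2)⁻¹ * x =
            n ^ 2 * (u * x) * (n ^ 2)⁻¹ * (n ^ 2 * x * (n ^ 2)⁻¹ * x) := by
          rw [← mul_assoc, show n ^ 2 * (u * x) * (n ^ 2)⁻¹ * (n ^ 2 * x * (n ^ 2)⁻¹) =
            n ^ 2 * (u * (x * x)) * (n ^ 2)⁻¹ by group, h.R_sq x hx, mul_one]
        rw [e4]
        exact mul_mem ((mem_normalizer_iff.1 (h.norm_S_le_A hn2N) _).1 ih) hn2
    obtain ⟨m, hm⟩ := h.exists_odd_pow hn
    set u := n ^ (2 * m) with hu
    have huN : u ∈ normalizer ((S : Subgroup G) : Set G) := pow_mem hn _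
    have hw : u * x * u⁻¹ * x ∈ A := by rw [hu, pow_mul]; exact h2 m
    have hw' : n * u * x * (n * u)⁻¹ * x ∈ A := (h.conj_mul_mem hx (by
      rw [hu, ← pow_succ']; exact hm)).2
    have hkey : y * x ∈ A := by
      have e5 : y * x = n * (u * x * u⁻¹ * x) * n⁻¹ * (n * u * x * (n * u)⁻¹ * x) := by
        have hux : u * x * u⁻¹ ∈ R := h.conj_R huN hx
        have hu' : n * (u * x * u⁻¹) * n⁻¹ ∈ R := h.conj_R hn hux
        rw [show n * (u * x * u⁻¹ * x) * n⁻¹ = n * (u * x * u⁻¹) * n⁻¹ * y by rw [hy]; group,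
          conj_comp, h.R_comm hu' hyR]
        generalize n * (u * x * u⁻¹) * n⁻¹ = b at hu' ⊢
        rw [show y * b * (b * x) = y * (b * b) * x by group, h.R_sq b hu', mul_one]
      rw [e5]
      exact mul_mem (hA _ hw) hw'
    refine hrA ?_
    have e6 : r = c * (y * x) := by
      rw [hc, show r * x * y * (y * x) = r * (x * (y * y) * x) by group, h.R_sq y hyR, mul_one,
        h.R_sq x hx, mul_one]
    rw [e6]
    exact mul_mem e hkey

/-- Acting trivially on both factors modulo `R ⊓ A` means fixing `R ⊓ A`. -/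
theorem norm_fix_of_mod {n : G} (hn : n ∈ normalizer ((S : Subgroup G) : Set G))
    (hR : ∀ x ∈ R, n * x * n⁻¹ * x ∈ R ⊓ A) (hA : ∀ x ∈ A, n * x * n⁻¹ * x ∈ R ⊓ A) :
    ∀ w ∈ R ⊓ A, n * w * n⁻¹ = w := by
  intro w hw
  obtain ⟨r, hr, hrA⟩ := h.exists_R_notMem_A
  obtain ⟨s, hs, hse⟩ := h.exists_conj_eq hr hrA hw
  obtain ⟨r₁, hr₁, a, ha, rfl⟩ := h.exists_mul_eq hs
  have hw' : a * r * a⁻¹ = r * w := by
    have haR : a * r * a⁻¹ ∈ R := (mem_normalizer_iff.1 (h.le_norm_R (h.A_le ha)) r).1 hr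
    rwa [conj_comp, h.R_comm hr₁ haR, mul_inv_cancel_right] at hse
  set z₁ := n * r * n⁻¹ * r with hz₁
  set z₂ := n * a * n⁻¹ * a with hz₂
  have hn₁ : n * r * n⁻¹ = z₁ * r := by rw [hz₁, mul_assoc (n * r * n⁻¹), h.R_sq r hr, mul_one]
  have hn₂ : n * a * n⁻¹ = z₂ * a := by rw [hz₂, mul_assoc (n * a * n⁻¹), h.A_sq a ha, mul_one]
  have m1 : z₁ ∈ R ⊓ A := hR r hr
  have m2 : z₂ ∈ R ⊓ A := hA a ha
  clear_value z₁ z₂
  have e : z₁ * r * (n * w * n⁻¹) = z₁ * (r * w) := by
    have e1 : n * (r * w) * n⁻¹ = z₁ * r * (n * w * n⁻¹) := by rw [← hn₁]; group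
    have e2 : n * (a * r * a⁻¹) * n⁻¹ = z₁ * (r * w) := by
      have c1 : z₁ * a = a * z₁ := h.central z₁ m1 a (h.A_le ha)
      have c2 : z₂ * (z₁ * (r * w)) = z₁ * (r * w) * z₂ :=
        h.R_comm m2.1 (mul_mem m1.1 (mul_mem hr hw.1))
      calc n * (a * r * a⁻¹) * n⁻¹ = (n * a * n⁻¹) * (n * r * n⁻¹) * (n * a * n⁻¹)⁻¹ := by group
        _ = z₂ * (z₁ * (a * r * a⁻¹)) * z₂⁻¹ := by
          rw [hn₁, hn₂, ← mul_assoc z₁, ← mul_assoc z₁, c1]; group
        _ = z₁ * (r * w) := by rw [hw', c2, mul_inv_cancel_right]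
    rw [← e1, ← hw', e2, hw']
  rw [mul_assoc z₁ r] at e
  exact mul_left_cancel (mul_left_cancel e)

/-- An element of `N(S)` centralising `R ⊓ A` and a class of `R` modulo it is in `C(S) S`. -/
theorem norm_trivial {n r : G} (hn : n ∈ normalizer ((S : Subgroup G) : Set G))
    (hnz : ∀ w ∈ R ⊓ A, n * w * n⁻¹ = w) (hr : r ∈ R) (hrA : r ∉ A)
    (hnr : n * r * n⁻¹ * r ∈ A) :
    n ∈ centralizer ((S : Subgroup G) : Set G) ⊔ (S : Subgroup G) := by
  have hR := h.norm_mod_R hn hr hrA hnr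
  have hA : ∀ x ∈ A, n * x * n⁻¹ * x ∈ R ⊓ A := fun x hx => h.norm_fix_mod hn hnz hr hrA (hR r hr) hx
  have h2 : ∀ x : G, x * x = 1 → n * x * n⁻¹ * x ∈ R ⊓ A → n ^ 2 * x * (n ^ 2)⁻¹ = x := by
    intro x hx2 hx
    set z := n * x * n⁻¹ * x with hz
    have hnx : n * x * n⁻¹ = z * x := by rw [hz, mul_assoc (n * x * n⁻¹), hx2, mul_one]
    clear_value z
    rw [pow_two, conj_comp, hnx, show n * (z * x) * n⁻¹ = n * z * n⁻¹ * (n * x * n⁻¹) by group, hnx,
      hnz z hx, ← mul_assoc, h.R_sq z hx.1, one_mul]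
  have hn2 : n ^ 2 ∈ centralizer ((S : Subgroup G) : Set G) := mem_centralizer_iff.2 fun s hs => by
    obtain ⟨x, hx, a, ha, rfl⟩ := h.exists_mul_eq hs
    have e : n ^ 2 * (x * a) * (n ^ 2)⁻¹ = x * a := by
      rw [show n ^ 2 * (x * a) * (n ^ 2)⁻¹ = n ^ 2 * x * (n ^ 2)⁻¹ * (n ^ 2 * a * (n ^ 2)⁻¹) by group,
        h2 x (h.R_sq x hx) (hR x hx), h2 a (h.A_sq a ha) (hA a ha)]
    exact (mul_inv_eq_iff_eq_mul.1 e).symm
  obtain ⟨m, hm⟩ := h.exists_odd_pow hn
  rw [pow_succ, pow_mul] at hm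
  exact (Subgroup.mul_mem_cancel_left _ (pow_mem (mem_sup_left hn2) m)).1 (mem_sup_right hm)

/-- The centraliser of `S` lies in `O(C(z)) (R ⊓ A)`. -/
theorem cent_S_le {z : G} (hz : z ∈ R ⊓ A) (hz1 : z ≠ 1) :
    centralizer ((S : Subgroup G) : Set G) ≤ core (centralizer ({z} : Set G)) ⊔ (R ⊓ A) := by
  haveI : Fact (Nat.Prime 2) := ⟨Nat.prime_two⟩
  set C := centralizer ({z} : Set G) with hC
  set D := centralizer ((S : Subgroup G) : Set G) with hD
  have hzS : z ∈ (S : Subgroup G) := h.R_le hz.1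
  have hDC : D ≤ C := fun d hd => mem_centralizer_singleton_iff.2 ((mem_centralizer_iff.1 hd) z hzS).symm
  have hZD : R ⊓ A ≤ D := fun w hw => mem_centralizer_iff.2 fun s hs => (h.central w hw s hs).symm
  have hodd : Odd ((R ⊓ A).relIndex D) := by
    have hSD : (S : Subgroup G) ⊓ D ≤ R ⊓ A := by
      rintro s ⟨hs, hsD⟩
      obtain ⟨r, hr, hrA⟩ := h.exists_R_notMem_A
      obtain ⟨a, ha, haR⟩ := h.symm.exists_R_notMem_A
      exact mem_inf.2 ⟨h.cent_R r hr hrA s hs (mem_centralizer_iff.1 hsD r (h.R_le hr)),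
        h.cent_A a ha haR s hs (mem_centralizer_iff.1 hsD a (h.A_le ha))⟩
    have hSn : D ≤ normalizer ((S : Subgroup G) : Set G) := fun d hd =>
      CIT.mem_normalizer_of_forall fun x hx => by
        rw [← mem_centralizer_iff.1 hd x hx, mul_inv_cancel_right]; exact hx
    haveI := normal_subgroupOf_of_le_normalizer hSn
    obtain ⟨T, hT⟩ := IsPGroup.exists_le_sylow
      ((h.R_isPGroup.to_le inf_le_left).of_equiv (subgroupOfEquivOfLe hZD).symm)
    have hTS : ((T : Subgroup D).map D.subtype) ≤ R ⊓ A := by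
      refine le_trans (le_inf ?_ (map_subtype_le _)) hSD
      -- a 2-subgroup of `N(S)` lies in `S`
      have hle : (T : Subgroup D).map D.subtype ≤ normalizer ((S : Subgroup G) : Set G) :=
        (map_subtype_le _).trans hSn
      have := S.3 ((T.2.map D.subtype).to_sup_of_normal_right' S.2 hle) le_sup_right
      rw [← this]
      exact le_sup_left
    have he : (T : Subgroup D) = (R ⊓ A).subgroupOf D := le_antisymm
      (fun t ht => mem_subgroupOf.2 (hTS ⟨t, ht, rfl⟩)) hT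
    rw [relIndex, ← he, Nat.odd_iff]
    have := T.not_dvd_index
    omega
  intro d hd
  obtain ⟨o, ho, w, hw, rfl⟩ := burnside (h.R_isPGroup.to_le inf_le_left) hZD hodd
    (fun n hn _ w hw => (mem_centralizer_iff.1 hn w (h.R_le hw.1)).symm) d hd
  refine mul_mem (mem_sup_left ?_) (mem_sup_right hw)
  -- `O(C(S))` is moved into `O(C(z))`
  set Q := core D ⊔ core C with hQ
  have hDn : normalizer ((S : Subgroup G) : Set G) ≤ normalizer (D : Set G) := fun g hg =>
    CIT.mem_normalizer_of_forall fun x hx => by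
      rw [hD, mem_centralizer_iff] at hx ⊢
      intro s hs
      calc s * (g * x * g⁻¹) = g * ((g⁻¹ * s * g) * x) * g⁻¹ := by group
        _ = g * (x * (g⁻¹ * s * g)) * g⁻¹ := by rw [hx _ ((mem_normalizer_iff''.1 hg s).1 hs)]
        _ = g * x * g⁻¹ * s := by group
  have hQn : C ≤ normalizer (Q : Set G) := by
    intro k hk
    obtain ⟨p, hp, n, hn, rfl⟩ := h.cent_cover hz hz1 k hk
    refine mul_mem (Subgroup.le_normalizer (mem_sup_right hp)) (CIT.mem_normalizer_of_forall ?_)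
    intro x hx
    have hle : Q ≤ Q.comap (MulAut.conj n).toMonoidHom := sup_le
      (fun y hy => mem_sup_left ((mem_normalizer_iff.1
        (normalizer_le_normalizer_core _ (hDn (mem_inf.1 hn).1)) y).1 hy))
      (fun y hy => mem_sup_right ((mem_normalizer_iff.1
        (le_normalizer_core _ (mem_inf.1 hn).2) y).1 hy))
    exact hle hx
  exact le_core (sup_le ((core_le D).trans hDC) (core_le C)) hQn
    (odd_sup ((core_le D).trans (hDC.trans (le_normalizer_core C))) (core_odd D) (core_odd C))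
    (mem_sup_left ho)

end Shape

end Cfsg.Agent.L34Type
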