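import Cfsg.Agent.Lib.L34Type.Invol
import Cfsg.Agent.Lib.L34Type.NormS
import Cfsg.Agent.Lib.L34Type.BothSignalizer
import Cfsg.Agent.Lib.L34Type.KleinBasic
import Cfsg.Agent.Lib.Coprime.Generation

/-!
# Sylow 2-subgroups of type `L₃(4)`, both sides fused: one class and the signalizer subgroup
-/

set_option autoImplicit false
set_option linter.style.haveILetI false
set_option linter.unusedSectionVars false

namespace Cfsg.Agent.L34Type

open Subgroup Cfsg.Agent.CIT Cfsg.Agent.Involutions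
open Cfsg.Agent.StronglyClosedFour (core core_le core_odd le_normalizer_core eq_one_of_two_group
  exists_conj_into exists_conj_into_involution)

universe u

variable {G : Type u} [Group G] [Finite G] {S : Sylow 2 G} {R A : Subgroup G}

theorem fused_orbit_card (h : Shape (S : Subgroup G) R A) (hR : Fused R) {z : G} (hz : z ∈ R)
    (hz1 : z ≠ 1) :
    Nat.card (normalizer (R : Set G)) =
      15 * Nat.card (normalizer (R : Set G) ⊓ centralizer ({z} : Set G) : Subgroup G) := by
  classical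
  haveI := Fintype.ofFinite G
  set N := normalizer (R : Set G)
  set C := centralizer ({z} : Set G)
  let f : N ⧸ C.subgroupOf N → {x : R // x ≠ 1} := fun q =>
    ⟨⟨(q.out : G) * z * (q.out : G)⁻¹, (mem_normalizer_iff.1 q.out.2 z).1 hz⟩, fun e =>
      hz1 (conj_eq_one_iff.1 (congrArg Subtype.val e))⟩
  have hf : Function.Bijective f := by
    constructor
    · intro q q' hqq
      have e : (q.out : G) * z * (q.out : G)⁻¹ = (q'.out : G) * z * (q'.out : G)⁻¹ :=
        congrArg (fun x : {x : R // x ≠ 1} => ((x : R) : G)) hqq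
      rw [← q.out_eq, ← q'.out_eq]
      refine QuotientGroup.eq.2 (mem_subgroupOf.2 (mem_centralizer_singleton_iff.2 ?_))
      rw [Subgroup.coe_mul, Subgroup.coe_inv]
      calc (q.out : G)⁻¹ * q'.out * z
          = (q.out : G)⁻¹ * ((q'.out : G) * z * (q'.out : G)⁻¹) * q'.out := by group
        _ = z * ((q.out : G)⁻¹ * q'.out) := by rw [← e]; group
    · rintro ⟨⟨x, hx⟩, hx1⟩
      obtain ⟨n, hn, e⟩ := hR z hz hz1 x hx (fun e => hx1 (Subtype.ext e))
      refine ⟨((⟨n, hn⟩ : N) : N ⧸ C.subgroupOf N), Subtype.ext (Subtype.ext ?_)⟩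
      set q := ((⟨n, hn⟩ : N) : N ⧸ C.subgroupOf N) with hq
      show (q.out : G) * z * (q.out : G)⁻¹ = x
      have h1 := mem_subgroupOf.1 (QuotientGroup.eq.1 q.out_eq)
      rw [Subgroup.coe_mul, Subgroup.coe_inv, mem_centralizer_singleton_iff] at h1
      rw [← e]
      calc (q.out : G) * z * (q.out : G)⁻¹
          = (q.out : G) * (z * ((q.out : G)⁻¹ * n)) * n⁻¹ := by group
        _ = n * z * n⁻¹ := by rw [← h1]; group
  have h15 : Nat.card (N ⧸ C.subgroupOf N) = 15 := by
    rw [Nat.card_eq_of_bijective f hf, Nat.card_eq_fintype_card, Fintype.card_subtype_compl,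
      Fintype.card_subtype_eq, ← Nat.card_eq_fintype_card, h.R_card]
  have h2 := Subgroup.card_eq_card_quotient_mul_card_subgroup (C.subgroupOf N)
  rw [h15, ← Subgroup.inf_subgroupOf_right,
    Nat.card_congr (subgroupOfEquivOfLe (inf_le_right : C ⊓ N ≤ N)).toEquiv, inf_comm] at h2
  exact h2

namespace Shape

variable (h : Shape (S : Subgroup G) R A)
include h

/-- With both sides fused all involutions are conjugate. -/
theorem isConj_of_fused (hR : Fused R) (hA : Fused A) {s t : G} (hs : orderOf s = 2)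
    (ht : orderOf t = 2) : IsConj s t := by
  haveI : Fact (Nat.Prime 2) := ⟨Nat.prime_two⟩
  obtain ⟨z, hz, hz1⟩ := h.exists_inf_ne_one
  suffices key : ∀ x : G, orderOf x = 2 → IsConj z x from (key s hs).symm.trans (key t ht)
  intro x hx
  obtain ⟨k, -, hk⟩ := exists_conj_into_involution (Basic.inv_sq_one hx) (mem_top x)
    (T := (S : Subgroup G)) (by
      rw [Subgroup.relIndex_top_right, Nat.odd_iff]
      have := S.not_dvd_index
      omega)
  have hy2 : orderOf (k⁻¹ * x * k) = 2 := by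
    have := Basic.orderOf_conj k⁻¹ x
    rw [inv_inv, hx] at this
    exact this
  have hxy : IsConj x (k⁻¹ * x * k) := isConj_iff.2 ⟨k⁻¹, by group⟩
  refine IsConj.trans ?_ hxy.symm
  rcases h.mem_R_or_A hk hy2 with e | e
  · obtain ⟨n, -, hn⟩ := hR z hz.1 hz1 _ e (Basic.ne_one hy2)
    exact isConj_iff.2 ⟨n, hn⟩
  · obtain ⟨n, -, hn⟩ := hA z hz.2 hz1 _ e (Basic.ne_one hy2)
    exact isConj_iff.2 ⟨n, hn⟩

/-- The centralisers of the involutions of a fused side are covered. -/
theorem cover_A (hA : Fused A) : ∀ a ∈ A, a ≠ 1 → ∀ k ∈ centralizer ({a} : Set G),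
    ∃ o ∈ core (centralizer ({a} : Set G)), ∃ m ∈ normalizer (A : Set G), k = o * m := by
  intro a ha ha1
  obtain ⟨z, hz, hz1⟩ := h.exists_inf_ne_one
  obtain ⟨n, hn, e⟩ := hA a ha ha1 z hz.2 hz1
  exact h.cent_cover_A hn (e.symm ▸ hz) ha1

/-- `A` is a Sylow 2-subgroup of its centraliser. -/
theorem odd_relIndex_centralizer_A : Odd (A.relIndex (centralizer (A : Set G))) := by
  haveI : Fact (Nat.Prime 2) := ⟨Nat.prime_two⟩
  obtain ⟨a, ha, haR⟩ := h.symm.exists_R_notMem_A
  set C := centralizer (A : Set G) with hC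
  set N := normalizer (A : Set G) with hN
  have hCN : C ≤ N := centralizer_le_normalizer _
  have hSN : (S : Subgroup G) ≤ N := h.le_norm_A
  have hAC : A ≤ C := fun x hx => mem_centralizer_iff.2 fun y hy => h.symm.R_comm hy hx
  haveI : (C.subgroupOf N).Normal := ⟨fun x hx g => mem_subgroupOf.2 (mem_centralizer_iff.2
    fun y hy => by
      have hy' := (mem_normalizer_iff''.1 g.2 y).1 hy
      have := mem_centralizer_iff.1 (mem_subgroupOf.1 hx) _ hy'
      simp only [Subgroup.coe_mul, Subgroup.coe_inv]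
      calc y * ((g : G) * x * (g : G)⁻¹) = g * (((g : G)⁻¹ * y * g) * x) * (g : G)⁻¹ := by group
        _ = g * (x * ((g : G)⁻¹ * y * g)) * (g : G)⁻¹ := by rw [this]
        _ = (g : G) * x * (g : G)⁻¹ * y := by group)⟩
  have hSC : (S : Subgroup G) ⊓ C = A := le_antisymm
    (fun x hx => h.cent_A a ha haR x hx.1 (mem_centralizer_iff.1 hx.2 a ha)) (le_inf h.A_le hAC)
  -- the Sylow subgroup of `N(A)` meets the normal subgroup `C(A)` in a Sylow subgroup
  have h1 : ((C.subgroupOf N)).relIndex (((S : Subgroup G).subgroupOf N) ⊔ C.subgroupOf N) =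
      (C.subgroupOf N).relIndex ((S : Subgroup G).subgroupOf N) := Subgroup.relIndex_sup_right _ _
  rw [← Subgroup.subgroupOf_sup hSN hCN, Subgroup.relIndex_subgroupOf (sup_le hSN hCN),
    Subgroup.relIndex_subgroupOf hSN] at h1
  have h2 := Subgroup.relIndex_mul_relIndex A C ((S : Subgroup G) ⊔ C) hAC le_sup_right
  have h3 := Subgroup.relIndex_mul_relIndex A (S : Subgroup G) ((S : Subgroup G) ⊔ C) h.A_le le_sup_left
  rw [h1, ← Subgroup.inf_relIndex_right C (S : Subgroup G), inf_comm, hSC, ← h3, mul_comm] at h2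
  have h4 : A.relIndex (S : Subgroup G) ≠ 0 := by
    intro e
    have := Klein.card_mul_relIndex h.A_le
    rw [e, mul_zero, h.card_S] at this
    omega
  rw [Nat.eq_of_mul_eq_mul_left (Nat.pos_of_ne_zero h4) h2, Nat.odd_iff]
  have h5 : ¬ 2 ∣ (S : Subgroup G).relIndex ((S : Subgroup G) ⊔ C) := fun e =>
    S.not_dvd_index (e.trans (relIndex_dvd_index_of_le le_sup_left))
  omega

theorem signalizer_A (hA : Fused A) :
    (Odd (Nat.card (sigGen A)) ∧ normalizer (A : Set G) ≤ normalizer (sigGen A : Set G) ∧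
      ∀ a ∈ A, a ≠ 1 → centralizer ({a} : Set G) ≤ normalizer (sigGen A : Set G)) ∧
    ∀ a ∈ A, a ≠ 1 → ∀ b ∈ A, b ≠ 1 →
      core (centralizer ({a} : Set G)) ⊓ centralizer ({b} : Set G) ≤
        core (centralizer ({b} : Set G)) :=
  signalizer A h.A_sq (by rw [h.A_card]; norm_num) h.odd_relIndex_centralizer_A (h.cover_A hA)

/-- The signalizer subgroup of `A` is generated by the cores of the central involutions. -/
theorem sigGen_eq (hA : Fused A) : sigGen A = sigGen (R ⊓ A) := by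
  refine le_antisymm (iSup_le fun a => ?_)
    (iSup_le fun b => le_sigGen (mem_inf.1 b.2.1).2 b.2.2)
  obtain ⟨⟨-, -, -⟩, hbal⟩ := h.signalizer_A hA
  haveI : IsMulCommutative (R ⊓ A : Subgroup G) :=
    ⟨⟨fun x y => Subtype.ext (h.R_comm x.2.1 y.2.1)⟩⟩
  have hnc : ¬ IsCyclic (R ⊓ A : Subgroup G) := fun hc => by
    obtain ⟨g, hg⟩ := hc.exists_generator
    have h4 : orderOf g ≤ 2 := Nat.le_of_dvd two_pos (orderOf_dvd_of_pow_eq_one
      (Subtype.ext (by rw [pow_two]; exact h.R_sq g g.2.1)))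
    rw [orderOf_eq_card_of_forall_mem_zpowers hg, h.inf_card] at h4
    omega
  set K := core (centralizer ({(a : G)} : Set G)) with hK
  have hZC : R ⊓ A ≤ centralizer ({(a : G)} : Set G) := fun x hx =>
    mem_centralizer_singleton_iff.2 (h.symm.R_comm hx.2 a.2.1)
  have hcop : (Nat.card (R ⊓ A : Subgroup G)).Coprime (Nat.card K) := by
    rw [h.inf_card, show (4 : ℕ) = 2 ^ 2 by norm_num]
    exact ((core_odd _).coprime_two_left).pow_left 2
  rw [← Coprime.fixedGen_eq (A := R ⊓ A) (K := K) hnc (hZC.trans (le_normalizer_core _)) hcop]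
  refine iSup₂_le fun z hz => ?_
  exact (hbal a a.2.1 a.2.2 z (mem_inf.1 hz.1).2 hz.2).trans (le_sigGen hz.1 hz.2)

/-- The signalizer subgroup `W` and its normaliser. -/
theorem both_signalizer (hR : Fused R) (hA : Fused A) :
    ∃ W : Subgroup G, Odd (Nat.card W) ∧
      (∀ z ∈ R ⊓ A, z ≠ 1 → core (centralizer ({z} : Set G)) ≤ W) ∧
      (∀ a ∈ A, a ≠ 1 → core (centralizer ({a} : Set G)) ≤ W) ∧
      (∀ a ∈ R, a ≠ 1 → core (centralizer ({a} : Set G)) ≤ W) ∧
      normalizer (R : Set G) ≤ normalizer (W : Set G) ∧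
      normalizer (A : Set G) ≤ normalizer (W : Set G) ∧
      (∀ a ∈ A, a ≠ 1 → centralizer ({a} : Set G) ≤ normalizer (W : Set G)) ∧
      (∀ a ∈ R, a ≠ 1 → centralizer ({a} : Set G) ≤ normalizer (W : Set G)) := by
  obtain ⟨⟨ho, hNA, hCA⟩, -⟩ := h.signalizer_A hA
  obtain ⟨⟨-, hNR, hCR⟩, -⟩ := h.symm.signalizer_A hR
  have eA := h.sigGen_eq hA
  have eR := h.symm.sigGen_eq hR
  rw [inf_comm, ← eA] at eR
  rw [eR] at hNR hCR
  exact ⟨sigGen A, ho, fun z hz hz1 => le_sigGen hz.2 hz1, fun a ha ha1 => le_sigGen ha ha1,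
    fun a ha ha1 => eR ▸ le_sigGen ha ha1, hNR, hNA, hCA, hCR⟩

/-- At most three cosets of `O(C(z)) S` in `C(z)`. -/
theorem relIndex_core_sup_le {z : G} (hz : z ∈ R ⊓ A) (hz1 : z ≠ 1) :
    Odd ((core (centralizer ({z} : Set G)) ⊔ (S : Subgroup G)).relIndex (centralizer ({z} : Set G))) ∧
      (core (centralizer ({z} : Set G)) ⊔ (S : Subgroup G)).relIndex (centralizer ({z} : Set G)) ≤ 3 := by
  classical
  haveI : Fact (Nat.Prime 2) := ⟨Nat.prime_two⟩
  set C := centralizer ({z} : Set G) with hC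
  set O := core C with hO
  set P := O ⊔ (S : Subgroup G) with hP
  have hSC := h.le_centralizer_of_mem_inf hz
  have hPC : P ≤ C := sup_le (core_le C) hSC
  constructor
  · rw [Nat.odd_iff]
    have h1 : ¬ 2 ∣ P.relIndex C := fun e => S.not_dvd_index
      ((e.trans (relIndex_dvd_index_of_le hPC)).trans (index_dvd_of_le le_sup_right))
    omega
  obtain ⟨r, hr, hrA⟩ := h.exists_R_notMem_A
  have hcov : ∀ k : C, ∃ n, n ∈ normalizer ((S : Subgroup G) : Set G) ∧ n ∈ C ∧ (k : G) * n⁻¹ ∈ O := by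
    intro k
    obtain ⟨o, ho, n, hn, e⟩ := h.cent_cover hz hz1 k k.2
    exact ⟨n, (mem_inf.1 hn).1, (mem_inf.1 hn).2, by rw [e, mul_inv_cancel_right]; exact ho⟩
  choose nn hnN hnC hnO using hcov
  let cl : ∀ k : C, R ⧸ A.subgroupOf R := fun k =>
    ((⟨nn k * r * (nn k)⁻¹, h.conj_R (hnN k) hr⟩ : R) : R ⧸ A.subgroupOf R)
  let f : C ⧸ P.subgroupOf C → {c : R ⧸ A.subgroupOf R // c ≠ ((1 : R) : R ⧸ A.subgroupOf R)} :=
    fun q => ⟨cl q.out, fun e => by
      have := mem_subgroupOf.1 (QuotientGroup.eq.1 e.symm)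
      rw [inv_one, one_mul] at this
      exact h.conj_notMem_A_of_norm (hnN q.out) hrA this⟩
  have hinj : Function.Injective f := by
    intro q q' e
    have e' := mem_subgroupOf.1 (QuotientGroup.eq.1 (congrArg Subtype.val e))
    rw [Subgroup.coe_mul, Subgroup.coe_inv] at e'
    simp only at e'
    set n := nn q.out
    set n' := nn q'.out
    have hn : n⁻¹ * n' ∈ normalizer ((S : Subgroup G) : Set G) :=
      mul_mem (inv_mem (hnN q.out)) (hnN q'.out)
    have hmod : n⁻¹ * n' * r * (n⁻¹ * n')⁻¹ * r ∈ A := by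
      have h1 := (mem_normalizer_iff.1 (h.norm_S_le_A (inv_mem (hnN q.out))) _).1 e'
      rw [show n⁻¹ * ((n * r * n⁻¹)⁻¹ * (n' * r * n'⁻¹)) * n⁻¹⁻¹ =
        r⁻¹ * (n⁻¹ * n' * r * (n⁻¹ * n')⁻¹) by group, h.R_inv hr] at h1
      rwa [h.R_comm (h.conj_R hn hr) hr]
    have hfix := h.norm_fix_inf hn hz hz1 (by
      rw [mem_centralizer_singleton_iff.1 (mul_mem (inv_mem (hnC q.out)) (hnC q'.out)),
        mul_inv_cancel_right])
    have hmem := h.norm_trivial hn hfix hr hrA hmod
    have hle : centralizer ((S : Subgroup G) : Set G) ⊔ (S : Subgroup G) ≤ P :=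
      sup_le ((h.cent_S_le hz hz1).trans (sup_le le_sup_left
        (le_sup_of_le_right (inf_le_left.trans h.R_le)))) le_sup_right
    rw [← q.out_eq, ← q'.out_eq]
    refine QuotientGroup.eq.2 (mem_subgroupOf.2 ?_)
    rw [Subgroup.coe_mul, Subgroup.coe_inv]
    have hOn := le_normalizer_core C
    have h1 : (q.out : G)⁻¹ * q'.out = (n⁻¹ * ((q.out : G) * n⁻¹)⁻¹ * n) *
        (n⁻¹ * ((q'.out : G) * n'⁻¹) * n) * (n⁻¹ * n') := by group
    rw [h1]
    exact mul_mem (mul_mem
      (mem_sup_left ((mem_normalizer_iff''.1 (hOn (hnC q.out)) _).1 (inv_mem (hnO q.out))))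
      (mem_sup_left ((mem_normalizer_iff''.1 (hOn (hnC q.out)) _).1 (hnO q'.out)))) (hle hmem)
  have hq : Nat.card (R ⧸ A.subgroupOf R) = 4 := by
    have h2 := Subgroup.card_eq_card_quotient_mul_card_subgroup (A.subgroupOf R)
    have h3 : Nat.card (A.subgroupOf R) = Nat.card (A ⊓ R : Subgroup G) := by
      rw [← Subgroup.inf_subgroupOf_right]
      exact Nat.card_congr (Subgroup.subgroupOfEquivOfLe inf_le_right).toEquiv
    rw [h3, inf_comm, h.inf_card, h.R_card] at h2
    omega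
  refine (Nat.card_le_card_of_injective f hinj).trans (le_of_eq ?_)
  haveI := Fintype.ofFinite (R ⧸ A.subgroupOf R)
  rw [Nat.card_eq_fintype_card, Fintype.card_subtype_compl, Fintype.card_subtype_eq,
    ← Nat.card_eq_fintype_card, hq]

end Shape

end Cfsg.Agent.L34Type
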