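import Cfsg.Agent.Lib.L34Type.Defs
import Cfsg.Prelude

/-!
# Sylow 2-subgroups of type `L₃(4)`: the statements between the pieces

See `notes/s3198-h12.md`.
-/

set_option autoImplicit false

namespace Cfsg.Agent.L34Type

open Subgroup

universe u v

/-- `PGL₃(F)`. -/
abbrev PGL3 (F : Type v) [Field F] [Fintype F] : Type v :=
  GL (Fin 3) F ⧸ Subgroup.center (GL (Fin 3) F)

/-- `G` embeds in `PGL₃(F)`. -/
def EmbedsPGL (G : Type u) [Group G] (F : Type v) [Field F] [Fintype F] : Prop :=
  ∃ f : G →* PGL3 F, Function.Injective f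

/-- The configuration of `PGL₃(4)` in a group without further elements. -/
structure WithOuter {G : Type u} [Group G] (U : Sylow 2 G) (R A : Subgroup G) : Prop where
  shape : Shape (U : Subgroup G) R A
  cent_R : centralizer (R : Set G) = R
  cent_A : centralizer (A : Set G) = A
  norm_R : Nat.card (normalizer (R : Set G)) = 2880
  norm_A : Nat.card (normalizer (A : Set G)) = 2880
  norm_U : Nat.card (normalizer ((U : Subgroup G) : Set G)) = 576
  cent_z : ∀ z ∈ R ⊓ A, z ≠ 1 → Nat.card (centralizer ({z} : Set G)) = 192 ∧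
    centralizer ({z} : Set G) ≤ normalizer ((U : Subgroup G) : Set G)
  one_class : ∀ s t : G, orderOf s = 2 → orderOf t = 2 → IsConj s t

/-- Piece G: no simple group has this configuration. -/
def OuterInput : Prop :=
  ∀ (G : Type u) [Group G] [Finite G] [IsSimpleGroup G] (U : Sylow 2 G) (R A : Subgroup G),
    WithOuter U R A → False

/-- Piece E, first half: one of the two elementary subgroups is normal and self-centralising. -/
def ParabolicInput : Prop :=
  ∀ (F : Type v) [Field F] [Fintype F], Fintype.card F = 4 →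
    ∀ (G : Type u) [Group G] [Finite G] (S : Sylow 2 G) (R A : Subgroup G),
      Shape (S : Subgroup G) R A → R.Normal → centralizer (R : Set G) ≤ R → EmbedsPGL G F

/-- Piece E, second half: `PSL₃(4)` is normal of odd index with trivial centraliser. -/
def AlmostSimpleInput : Prop :=
  ∀ (F : Type v) [Field F] [Fintype F], Fintype.card F = 4 →
    ∀ (G : Type u) [Group G] [Finite G] (L : Subgroup G), L.Normal →
      Nonempty (L ≃* Matrix.ProjectiveSpecialLinearGroup (Fin 3) F) → Odd L.index →
      centralizer (L : Set G) = ⊥ → EmbedsPGL G F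

/-- Piece N: a minimal normal subgroup of a group without odd and without 2-cores is simple and
contains the Sylow subgroup. -/
def NormalInput : Prop :=
  ∀ (G : Type u) [Group G] [Finite G] (S : Sylow 2 G) (R A : Subgroup G),
    Shape (S : Subgroup G) R A → Cfsg.oddCore G = ⊥ →
    (∀ N : Subgroup G, N.Normal → IsPGroup 2 N → N = ⊥) →
    ∀ N : Subgroup G, N.Normal → N ≠ ⊥ → (∀ K : Subgroup G, K.Normal → K ≤ N → K = ⊥ ∨ K = N) →
      (S : Subgroup G) ≤ N ∧ IsSimpleGroup N

/-- Piece K, first half: in a group with a four-group as Sylow 2-subgroup and one class of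
involutions, which is not covered by its core and the normaliser of the Sylow subgroup, the class
of `z` is large against the centraliser of `z`. -/
def KleinIneq : Prop :=
  ∀ (H : Type u) [Group H] [Finite H] (Z : Subgroup H), Nat.card Z = 4 → (∀ x ∈ Z, x * x = 1) →
    Odd Z.index → (∀ s t : H, orderOf s = 2 → orderOf t = 2 → IsConj s t) →
    Cfsg.oddCore H ⊔ normalizer (Z : Set H) ≠ ⊤ → ∀ z ∈ Z, z ≠ 1 →
      3 * ((centralizer (Z : Set H)).relIndex (centralizer ({z} : Set H))) ^ 2 <
        (centralizer ({z} : Set H)).index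

/-- Piece K, second half: a proper subgroup containing the centralisers of the involutions and the
normaliser of a four-group leaves only the alternating group of degree 5. -/
def KleinEmbedded : Prop :=
  ∀ (H : Type u) [Group H] [Finite H] (Z M : Subgroup H), Nat.card Z = 4 → (∀ x ∈ Z, x * x = 1) →
    Odd Z.index → Cfsg.oddCore H = ⊥ → (∀ s t : H, orderOf s = 2 → orderOf t = 2 → IsConj s t) →
    normalizer (Z : Set H) ≤ M → (∀ z ∈ Z, z ≠ 1 → centralizer ({z} : Set H) ≤ M) → M ≠ ⊤ →
      Nat.card H = 60 ∧ (∀ z ∈ Z, z ≠ 1 → centralizer ({z} : Set H) = Z) ∧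
        Nat.card (normalizer (Z : Set H)) = 12

/-- The theorem below the order `n`. -/
def Below (n : ℕ) (F : Type v) [Field F] [Fintype F] : Prop :=
  ∀ (H : Type u) [Group H] [Finite H] (S : Sylow 2 H) (R A : Subgroup H),
    Nat.card H < n → Shape (S : Subgroup H) R A → EmbedsPGL (H ⧸ Cfsg.oddCore H) F

/-- Piece B: a simple group with both sides fused is `PSL₃(4)`. -/
def BothFusedInput : Prop :=
  ∀ (F : Type v) [Field F] [Fintype F], Fintype.card F = 4 →
    ∀ (G : Type u) [Group G] [Finite G] [IsSimpleGroup G] (S : Sylow 2 G) (R A : Subgroup G),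
      Shape (S : Subgroup G) R A → Below.{u, v} (Nat.card G) F →
      (∀ x ∈ R, x ≠ 1 → ∀ y ∈ R, y ≠ 1 → ∃ n ∈ normalizer (R : Set G), n * x * n⁻¹ = y) →
      (∀ x ∈ A, x ≠ 1 → ∀ y ∈ A, y ≠ 1 → ∃ n ∈ normalizer (A : Set G), n * x * n⁻¹ = y) →
      Nonempty (G ≃* Matrix.ProjectiveSpecialLinearGroup (Fin 3) F)

end Cfsg.Agent.L34Type
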