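import Cfsg.Agent.Lib.L34Type.BothBasic
import Cfsg.Agent.Lib.L34Type.Interface
import Cfsg.Agent.Lib.Classical.Linear
import Cfsg.Agent.Lib.Hall.Solvable

/-!
# Sylow 2-subgroups of type `L₃(4)`: twenty-one points, and no element of order 35 in `PGL₃(4)`
-/

set_option autoImplicit false
set_option linter.style.haveILetI false
set_option linter.unusedSectionVars false

namespace Cfsg.Agent.L34Type

open Subgroup Cfsg.Agent.CIT
open scoped Pointwise

universe u v

theorem natCard_fix_modEq {α : Type*} [Finite α] {p : ℕ} [Fact p.Prime] {σ : Equiv.Perm α}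
    (h : σ ^ p = 1) : Nat.card {x : α // σ x = x} % p = Nat.card α % p := by
  classical
  haveI := Fintype.ofFinite α
  have := Equiv.Perm.card_compl_support_modEq (p := p) (n := 1) (σ := σ) (by rwa [pow_one])
  rw [Nat.card_eq_fintype_card, Nat.card_eq_fintype_card, Fintype.card_subtype,
    show (Finset.univ.filter fun x => σ x = x) = σ.supportᶜ by ext; simp]
  exact this

/-- No faithful additive action of a cyclic group of order 35 on a group of order 64. -/
theorem no_thirtyfive_aut {V : Type*} [AddCommGroup V] [Finite V] (hV : Nat.card V = 64)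
    (s t : V ≃+ V) (hst : ∀ v, s (t v) = t (s v)) (hs : ∀ v, s (s (s (s (s v)))) = v)
    (ht : ∀ v, t (t (t (t (t (t (t v)))))) = v) : (∀ v, s v = v) ∨ ∀ v, t v = v := by
  haveI : Fact (Nat.Prime 5) := ⟨by norm_num⟩
  haveI : Fact (Nat.Prime 7) := ⟨by norm_num⟩
  set W : AddSubgroup V := (s.toAddMonoidHom - AddMonoidHom.id V).ker with hW
  set W7 : AddSubgroup V := (t.toAddMonoidHom - AddMonoidHom.id V).ker with hW7
  have hWm : ∀ v, v ∈ W ↔ s v = v := fun v => by
    rw [hW, AddMonoidHom.mem_ker]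
    exact sub_eq_zero
  have hW7m : ∀ v, v ∈ W7 ↔ t v = v := fun v => by
    rw [hW7, AddMonoidHom.mem_ker]
    exact sub_eq_zero
  have hsσ : (s.toEquiv : Equiv.Perm V) ^ 5 = 1 := Equiv.ext fun v => hs v
  have htσ : (t.toEquiv : Equiv.Perm V) ^ 7 = 1 := Equiv.ext fun v => ht v
  have h5 : Nat.card W % 5 = 4 := by
    have := natCard_fix_modEq hsσ
    rw [Nat.card_congr (Equiv.subtypeEquivRight fun v => hWm v)]
    rw [hV] at this
    exact this
  have h7 : Nat.card W7 % 7 = 1 := by
    have := natCard_fix_modEq htσ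
    rw [Nat.card_congr (Equiv.subtypeEquivRight fun v => hW7m v)]
    rw [hV] at this
    exact this
  have hdvd : ∀ X : AddSubgroup V, ∃ k ≤ 6, Nat.card X = 2 ^ k := fun X => by
    have := X.card_addSubgroup_dvd_card
    rw [hV, show (64 : ℕ) = 2 ^ 6 by norm_num] at this
    exact (Nat.dvd_prime_pow Nat.prime_two).1 this
  obtain ⟨i, hi, hWc⟩ := hdvd W
  obtain ⟨j, hj, hW7c⟩ := hdvd W7
  have hi' : i = 2 ∨ i = 6 := by
    rw [hWc] at h5
    interval_cases i <;> simp_all
  have hj' : j = 0 ∨ j = 3 ∨ j = 6 := by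
    rw [hW7c] at h7
    interval_cases j <;> simp_all
  rcases hj' with rfl | rfl | rfl
  rotate_left 2
  · right
    intro v
    rw [← hW7m, AddSubgroup.eq_top_of_card_eq W7 (by rw [hW7c, hV]; norm_num)]
    exact AddSubgroup.mem_top v
  all_goals
    rcases hi' with rfl | rfl
    rotate_left
    · left
      intro v
      rw [← hWm, AddSubgroup.eq_top_of_card_eq W (by rw [hWc, hV]; norm_num)]
      exact AddSubgroup.mem_top v
    exfalso
    -- `t` fixes the four fixed points of `s`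
    let τ : Equiv.Perm W := t.toEquiv.subtypeEquiv fun v => by
      rw [hWm, hWm]
      show s v = v ↔ s (t v) = t v
      rw [hst]
      exact t.injective.eq_iff.symm
    have hτ : τ ^ 7 = 1 := Equiv.ext fun v => Subtype.ext (ht v)
    have h4 := natCard_fix_modEq hτ
    rw [hWc] at h4
    have hle : W ≤ W7 := by
      have hle' : Nat.card {x : W // τ x = x} ≤ 4 :=
        (Nat.card_le_card_of_injective _ Subtype.val_injective).trans (le_of_eq hWc)
      have he : Nat.card {x : W // τ x = x} = Nat.card W := by rw [hWc]; omega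
      intro v hv
      have hb := ((Nat.bijective_iff_injective_and_card
        (Subtype.val : {x : W // τ x = x} → W)).2 ⟨Subtype.val_injective, he⟩).2 ⟨v, hv⟩
      obtain ⟨⟨x, hx⟩, rfl⟩ := hb
      exact (hW7m _).2 (congrArg Subtype.val hx)
    -- and `s` fixes exactly four of the fixed points of `t`
    let σ : Equiv.Perm W7 := s.toEquiv.subtypeEquiv fun v => by
      rw [hW7m, hW7m]
      show t v = v ↔ t (s v) = s v
      rw [← hst]
      exact s.injective.eq_iff.symm
    have hσ : σ ^ 5 = 1 := Equiv.ext fun v => Subtype.ext (hs v)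
    have h8 := natCard_fix_modEq hσ
    have he : {x : W7 // σ x = x} ≃ W :=
      { toFun := fun x => ⟨x.1.1, (hWm _).2 (congrArg Subtype.val x.2)⟩
        invFun := fun x => ⟨⟨x.1, hle x.2⟩, Subtype.ext ((hWm _).1 x.2)⟩
        left_inv := fun _ => rfl
        right_inv := fun _ => rfl }
    rw [Nat.card_congr he, hWc, hW7c] at h8
    norm_num at h8

variable {F : Type v} [Field F] [Fintype F]

theorem natCard_PGL3 (hF : Fintype.card F = 4) : Nat.card (PGL3 F) = 60480 := by
  have h2 := Classical.Linear.natCard_GL_eq_mul (n := Fin 3) (F := F)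
  rw [Matrix.card_GL_field, hF, Fin.prod_univ_three] at h2
  have : Nat.card (Matrix.SpecialLinearGroup (Fin 3) F) = 60480 := by
    norm_num at h2
    omega
  rw [← this, ← Classical.Linear.natCard_PGL]
  rfl

/-- `PGL₃(4)` has no element of order 35. -/
theorem not_orderOf_thirtyfive (hF : Fintype.card F = 4) (x : PGL3 F) : orderOf x ≠ 35 := by
  intro hx
  obtain ⟨g, rfl⟩ := QuotientGroup.mk_surjective x
  have hgc : g ^ 35 ∈ center (GL (Fin 3) F) := by
    rw [← QuotientGroup.eq_one_iff, QuotientGroup.mk_pow, ← hx, pow_orderOf_eq_one]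
  have hc3 : ∀ c ∈ center (GL (Fin 3) F), c ^ 3 = 1 := fun c hc => by
    have h3 : Nat.card (center (GL (Fin 3) F)) = 3 := by
      rw [Classical.Linear.natCard_center_GL, hF]
    exact orderOf_dvd_iff_pow_eq_one.1 ((Subgroup.orderOf_dvd_natCard _ hc).trans (dvd_of_eq h3))
  set h := g ^ 3 with hh
  have h35 : h ^ 35 = 1 := by rw [hh, ← pow_mul, mul_comm, pow_mul, hc3 _ hgc]
  have hne : ∀ k, ¬ 35 ∣ 3 * k → h ^ k ≠ 1 := fun k hk e => hk (by
    rw [← hx, orderOf_dvd_iff_pow_eq_one, ← QuotientGroup.mk_pow, pow_mul, ← hh, e]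
    rfl)
  let act : GL (Fin 3) F → ((Fin 3 → F) ≃+ (Fin 3 → F)) := fun a =>
    { toFun := fun v => (a : Matrix (Fin 3) (Fin 3) F).mulVec v
      invFun := fun v => ((a⁻¹ : GL (Fin 3) F) : Matrix (Fin 3) (Fin 3) F).mulVec v
      left_inv := fun v => by
        show Matrix.mulVec _ (Matrix.mulVec _ v) = v
        rw [Matrix.mulVec_mulVec, Units.inv_mul, Matrix.one_mulVec]
      right_inv := fun v => by
        show Matrix.mulVec _ (Matrix.mulVec _ v) = v
        rw [Matrix.mulVec_mulVec, Units.mul_inv, Matrix.one_mulVec]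
      map_add' := fun v w => Matrix.mulVec_add _ v w }
  have hmul : ∀ a b : GL (Fin 3) F, ∀ v, act a (act b v) = act (a * b) v := fun a b v => by
    show (a : Matrix (Fin 3) (Fin 3) F).mulVec ((b : Matrix (Fin 3) (Fin 3) F).mulVec v) =
      ((a * b : GL (Fin 3) F) : Matrix (Fin 3) (Fin 3) F).mulVec v
    rw [Matrix.mulVec_mulVec, Units.val_mul]
  have hone : ∀ v, act 1 v = v := fun v => Matrix.one_mulVec v
  have hfaith : ∀ a, (∀ v, act a v = v) → a = 1 := fun a ha => by
    refine Units.ext (Matrix.toLin'.injective (LinearMap.ext fun v => ?_))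
    rw [Matrix.toLin'_apply, Units.val_one, Matrix.toLin'_one, LinearMap.id_apply]
    exact ha v
  have hV : Nat.card (Fin 3 → F) = 64 := by
    rw [Nat.card_fun, Nat.card_eq_fintype_card, Nat.card_eq_fintype_card, hF, Fintype.card_fin]
    norm_num
  rcases no_thirtyfive_aut hV (act (h ^ 7)) (act (h ^ 5))
    (fun v => by rw [hmul, hmul, ← pow_add, ← pow_add])
    (fun v => by
      simp only [hmul, ← pow_add]
      rw [show 7 + (7 + (7 + (7 + 7))) = 35 by norm_num, h35, hone])
    (fun v => by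
      simp only [hmul, ← pow_add]
      rw [show 5 + (5 + (5 + (5 + (5 + (5 + 5))))) = 35 by norm_num, h35, hone]) with e | e
  · exact hne 7 (by norm_num) (hfaith _ e)
  · exact hne 5 (by norm_num) (hfaith _ e)

/-- `PGL₃(4)` has no odd subgroup of order divisible by 35. -/
theorem not_dvd_thirtyfive (hF : Fintype.card F = 4) (D : Subgroup (PGL3 F))
    (hD : Odd (Nat.card D)) : ¬ 35 ∣ Nat.card D := by
  intro h35
  haveI : Group.IsSolvable D := S0205.result hD
  obtain ⟨H, hH1, hH2⟩ := Hall.exists_hall ({5, 7} : Set ℕ) D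
  have hcard := H.card_mul_index
  have hdiv : Nat.card H ∣ 60480 :=
    (H.card_subgroup_dvd_card).trans ((natCard_PGL3 hF) ▸ D.card_subgroup_dvd_card)
  have hH : Nat.card H = 35 := by
    have h5 : 5 ∣ Nat.card H := ((by norm_num : Nat.Prime 5).dvd_mul.1
      (hcard.symm ▸ (Dvd.dvd.trans (by norm_num) h35))).resolve_right
      (hH2 5 (by norm_num) (by simp))
    have h7 : 7 ∣ Nat.card H := ((by norm_num : Nat.Prime 7).dvd_mul.1
      (hcard.symm ▸ (Dvd.dvd.trans (by norm_num) h35))).resolve_right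
      (hH2 7 (by norm_num) (by simp))
    have hco : (Nat.card H).Coprime 1728 := by
      refine Nat.coprime_of_dvd fun k hk h1 h2 => ?_
      have := hH1 k hk h1
      simp only [Set.mem_insert_iff, Set.mem_singleton_iff] at this
      rcases this with rfl | rfl <;> norm_num at h2
    have hle : Nat.card H ∣ 35 := hco.dvd_of_dvd_mul_right (by norm_num; exact hdiv)
    exact Nat.dvd_antisymm hle ((by norm_num : Nat.Coprime 5 7).mul_dvd_of_dvd_of_dvd h5 h7)
  haveI : Fact (Nat.Prime 5) := ⟨by norm_num⟩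
  haveI : Fact (Nat.Prime 7) := ⟨by norm_num⟩
  have hnorm : ∀ {p q : ℕ} [Fact p.Prime], p * q = 35 → ¬ p ∣ q → (∀ d, d ∣ q → d % p = 1 % p → d = 1) →
      ∀ P : Sylow p H, (P : Subgroup H).Normal ∧ Nat.card (P : Subgroup H) = p := by
    intro p q _ hpq hnd huniq P
    have hP : Nat.card (P : Subgroup H) = p := by
      rw [P.card_eq_multiplicity, hH, ← hpq, Nat.factorization_mul (NeZero.ne p) (by rintro rfl; simp at hnd),
        Finsupp.add_apply, (Fact.out : p.Prime).factorization_self,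
        Nat.factorization_eq_zero_of_not_dvd hnd, pow_one]
    have hi : (P : Subgroup H).index = q := by
      have := (P : Subgroup H).card_mul_index
      rw [hP, hH, ← hpq] at this
      exact Nat.eq_of_mul_eq_mul_left (Fact.out : p.Prime).pos this
    have h1 : Nat.card (Sylow p H) = 1 := huniq _ (hi ▸ P.card_dvd_index) (card_sylow_modEq_one p H)
    haveI : Subsingleton (Sylow p H) := (Nat.card_eq_one_iff_unique.1 h1).1
    exact ⟨P.normal_of_subsingleton, hP⟩
  obtain ⟨P⟩ := (inferInstance : Nonempty (Sylow 5 H))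
  obtain ⟨Q⟩ := (inferInstance : Nonempty (Sylow 7 H))
  obtain ⟨hPn, hP⟩ := hnorm (p := 5) (q := 7) (by norm_num) (by norm_num) (fun d hd hm => by
    rcases (Nat.dvd_prime (by norm_num)).1 hd with rfl | rfl
    · rfl
    · norm_num at hm) P
  obtain ⟨hQn, hQ⟩ := hnorm (p := 7) (q := 5) (by norm_num) (by norm_num) (fun d hd hm => by
    rcases (Nat.dvd_prime (by norm_num)).1 hd with rfl | rfl
    · rfl
    · norm_num at hm) Q
  obtain ⟨a, ha⟩ := exists_prime_orderOf_dvd_card' (G := (P : Subgroup H)) 5 (by rw [hP])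
  obtain ⟨b, hb⟩ := exists_prime_orderOf_dvd_card' (G := (Q : Subgroup H)) 7 (by rw [hQ])
  have hdis : Disjoint (P : Subgroup H) (Q : Subgroup H) :=
    Subgroup.disjoint_of_coprime_natCard (by rw [hP, hQ]; norm_num)
  have hcomm : Commute (a : H) (b : H) :=
    Subgroup.commute_of_normal_of_disjoint _ _ hPn hQn hdis _ _ a.2 b.2
  rw [← Subgroup.orderOf_coe] at ha hb
  have := hcomm.orderOf_mul_eq_mul_orderOf_of_coprime (by rw [ha, hb]; norm_num)
  rw [ha, hb] at this
  refine not_orderOf_thirtyfive hF ((((a : H) * b : H) : D) : PGL3 F) ?_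
  rw [Subgroup.orderOf_coe, Subgroup.orderOf_coe, this]

variable {G : Type u} [Group G] [Finite G] {S : Sylow 2 G} {R A : Subgroup G}

/-- At least twenty-one conjugates of `R`. -/
theorem Shape.index_norm_ge (h : Shape (S : Subgroup G) R A) (hR : Fused R) (hA : Fused A)
    (hCA : ∀ a ∈ A, a ≠ 1 → centralizer ({a} : Set G) ≤ normalizer (A : Set G)) :
    21 ≤ (normalizer (R : Set G)).index := by
  classical
  haveI : Fact (Nat.Prime 2) := ⟨Nat.prime_two⟩
  haveI := Fintype.ofFinite G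
  set NR := normalizer (R : Set G) with hNR
  set NA := normalizer (A : Set G) with hNA
  have hinv : ∀ {n : G}, n ∈ NR → n ∈ NA → ∀ z ∈ R ⊓ A, n * z * n⁻¹ ∈ R ⊓ A := fun h1 h2 z hz =>
    mem_inf.2 ⟨(mem_normalizer_iff.1 h1 z).1 hz.1, (mem_normalizer_iff.1 h2 z).1 hz.2⟩
  have hfive : ∀ (X Y : Subgroup G), Fused X → X ⊓ Y = R ⊓ A → Nat.card X = 16 →
      5 ≤ (normalizer (X : Set G) ⊓ normalizer (Y : Set G)).relIndex (normalizer (X : Set G)) := by
    intro X Y hX hXY hX16
    set N := normalizer (X : Set G)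
    set K := N ⊓ normalizer (Y : Set G)
    obtain ⟨z, hz, hz1⟩ := h.exists_inf_ne_one
    have hzX : z ∈ X := (hXY.symm ▸ hz : z ∈ X ⊓ Y).1
    -- each coset gives at most three of the fifteen involutions
    let f : (N ⧸ K.subgroupOf N) × {w : (R ⊓ A : Subgroup G) // w ≠ 1} → G :=
      fun p => (p.1.out : G) * (p.2.1 : G) * (p.1.out : G)⁻¹
    have hsurj : ∀ x ∈ X, x ≠ 1 → ∃ p, f p = x := by
      intro x hx hx1
      obtain ⟨n, hn, e⟩ := hX z hzX hz1 x hx hx1
      set q := ((⟨n, hn⟩ : N) : N ⧸ K.subgroupOf N) with hq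
      have hk := mem_subgroupOf.1 (QuotientGroup.eq.1 q.out_eq)
      rw [Subgroup.coe_mul, Subgroup.coe_inv] at hk
      simp only at hk
      have hw : (q.out : G)⁻¹ * n * z * ((q.out : G)⁻¹ * n)⁻¹ ∈ X ⊓ Y := mem_inf.2
        ⟨(mem_normalizer_iff.1 (mem_inf.1 hk).1 z).1 hzX,
          (mem_normalizer_iff.1 (mem_inf.1 hk).2 z).1 (hXY.symm ▸ hz : z ∈ X ⊓ Y).2⟩
      rw [hXY] at hw
      refine ⟨(q, ⟨⟨_, hw⟩, fun e1 => hz1 (conj_eq_one_iff.1 (congrArg Subtype.val e1))⟩), ?_⟩
      show (q.out : G) * ((q.out : G)⁻¹ * n * z * ((q.out : G)⁻¹ * n)⁻¹) * (q.out : G)⁻¹ = x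
      rw [← e]
      group
    have h15 : 15 ≤ Nat.card ((N ⧸ K.subgroupOf N) × {w : (R ⊓ A : Subgroup G) // w ≠ 1}) := by
      choose p hp using hsurj
      have hi : Function.Injective fun x : {x : X // x ≠ 1} =>
          p x.1 x.1.2 (fun e => x.2 (Subtype.ext e)) := fun x y e =>
        Subtype.ext (Subtype.ext (by
          rw [← hp x.1 x.1.2 (fun e => x.2 (Subtype.ext e)), ← hp y.1 y.1.2 (fun e => y.2 (Subtype.ext e))]
          exact congrArg f e))
      refine le_trans (le_of_eq ?_) (Nat.card_le_card_of_injective _ hi)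
      rw [Nat.card_eq_fintype_card, Fintype.card_subtype_compl, Fintype.card_subtype_eq,
        ← Nat.card_eq_fintype_card, hX16]
    rw [Nat.card_prod, Nat.card_eq_fintype_card (α := {w : (R ⊓ A : Subgroup G) // w ≠ 1}),
      Fintype.card_subtype_compl, Fintype.card_subtype_eq, ← Nat.card_eq_fintype_card, h.inf_card]
      at h15
    change 5 ≤ Nat.card (N ⧸ K.subgroupOf N)
    omega
  set K := NR ⊓ NA with hK
  have hlines : 5 ≤ K.relIndex NR := hfive R A hR rfl h.R_card
  have hpts : 5 ≤ K.relIndex NA := by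
    rw [hK, inf_comm]
    exact hfive A R hA (inf_comm A R) h.A_card
  set b : G ⧸ NR := ((1 : G) : G ⧸ NR) with hb
  set e₀ : NA ⧸ K.subgroupOf NA := ((1 : NA) : NA ⧸ K.subgroupOf NA) with he₀
  let f : Option ((NR ⧸ K.subgroupOf NR) × {p : NA ⧸ K.subgroupOf NA // p ≠ e₀}) → G ⧸ NR :=
    fun o => o.elim b fun x => (((x.1.out : G) * x.2.1.out : G) : G ⧸ NR)
  have hout : ∀ p : {p : NA ⧸ K.subgroupOf NA // p ≠ e₀}, (p.1.out : G) ∉ NR := fun p hp =>
    p.2 (by
      refine p.1.out_eq.symm.trans ?_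
      refine QuotientGroup.eq.2 (mem_subgroupOf.2 ?_)
      rw [Subgroup.coe_mul, Subgroup.coe_inv, Subgroup.coe_one, mul_one]
      exact inv_mem (mem_inf.2 ⟨hp, p.1.out.2⟩))
  have hbase : ∀ x : (NR ⧸ K.subgroupOf NR) × {p : NA ⧸ K.subgroupOf NA // p ≠ e₀},
      f (some x) ≠ b := fun x e => by
    have h1 := QuotientGroup.eq.1 e
    rw [mul_one] at h1
    have := mul_mem (inv_mem (x.1.out.2 : (x.1.out : G) ∈ NR)) (inv_mem h1)
    rw [inv_inv, inv_mul_cancel_left] at this
    exact hout x.2 this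
  have hf : Function.Injective f := by
    rintro (_ | x) (_ | y) e
    · rfl
    · exact absurd e.symm (hbase y)
    · exact absurd e (hbase x)
    obtain ⟨q, p⟩ := x
    obtain ⟨q', p'⟩ := y
    have e' : (((q.out : G) * p.1.out)⁻¹ * ((q'.out : G) * p'.1.out)) ∈ NR := QuotientGroup.eq.1 e
    set a : G := (p.1.out : G)
    set a' : G := (p'.1.out : G)
    have ha : a ∈ NA := p.1.out.2
    have ha' : a' ∈ NA := p'.1.out.2
    set m : G := (q'.out : G)⁻¹ * q.out with hm
    have hmR : m ∈ NR := mul_mem (inv_mem q'.out.2) q.out.2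
    have hr : (m * a)⁻¹ * a' ∈ NR := by
      rwa [show (m * a)⁻¹ * a' = ((q.out : G) * a)⁻¹ * ((q'.out : G) * a') by rw [hm]; group]
    by_cases hmA : m ∈ NA
    · have hq : q = q' := by
        rw [← q.out_eq, ← q'.out_eq]
        refine (QuotientGroup.eq.2 (mem_subgroupOf.2 ?_)).symm
        rw [Subgroup.coe_mul, Subgroup.coe_inv]
        exact mem_inf.2 ⟨hmR, hmA⟩
      subst hq
      rw [show m = 1 by rw [hm, inv_mul_cancel], one_mul] at hr
      have hp : p = p' := by
        refine Subtype.ext ?_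
        rw [← p.1.out_eq, ← p'.1.out_eq]
        refine QuotientGroup.eq.2 (mem_subgroupOf.2 ?_)
        rw [Subgroup.coe_mul, Subgroup.coe_inv]
        exact mem_inf.2 ⟨hr, mul_mem (inv_mem ha) ha'⟩
      rw [hp]
    exfalso
    -- the point `a' R a'⁻¹` would lie on the lines `A` and `m A m⁻¹`
    have hAS : A ≤ NR := h.A_le.trans h.le_norm_R
    set X₁ := (R ⊓ A).map (MulAut.conj a').toMonoidHom with hX₁
    set X₂ := (R ⊓ A).map (MulAut.conj (m * a)).toMonoidHom with hX₂
    set R' := R.map (MulAut.conj a').toMonoidHom with hR'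
    have hR'2 : R' = R.map (MulAut.conj (m * a)).toMonoidHom := by
      have hk : a' = m * a * ((m * a)⁻¹ * a') := by group
      rw [hR']
      ext y
      constructor
      · rintro ⟨r, hr', rfl⟩
        refine ⟨((m * a)⁻¹ * a') * r * ((m * a)⁻¹ * a')⁻¹, (mem_normalizer_iff.1 hr r).1 hr', ?_⟩
        show m * a * (((m * a)⁻¹ * a') * r * ((m * a)⁻¹ * a')⁻¹) * (m * a)⁻¹ = a' * r * a'⁻¹
        group
      · rintro ⟨r, hr', rfl⟩
        refine ⟨((m * a)⁻¹ * a')⁻¹ * r * ((m * a)⁻¹ * a'), (mem_normalizer_iff''.1 hr r).1 hr', ?_⟩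
        show a' * (((m * a)⁻¹ * a')⁻¹ * r * ((m * a)⁻¹ * a')) * a'⁻¹ = m * a * r * (m * a)⁻¹
        group
    have h1R' : X₁ ≤ R' := map_mono inf_le_left
    have h2R' : X₂ ≤ R' := hR'2 ▸ map_mono inf_le_left
    have h1A : X₁ ≤ A := by
      rintro _ ⟨w, hw, rfl⟩
      exact (mem_normalizer_iff.1 ha' w).1 hw.2
    have h2A : ∀ w ∈ X₂, m⁻¹ * w * m ∈ A := by
      rintro _ ⟨w, hw, rfl⟩
      show m⁻¹ * (m * a * w * (m * a)⁻¹) * m ∈ A
      rw [show m⁻¹ * (m * a * w * (m * a)⁻¹) * m = a * w * a⁻¹ by group]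
      exact (mem_normalizer_iff.1 ha w).1 hw.2
    have h1N : X₁ ≤ NR := h1A.trans hAS
    have h2N : X₂ ≤ NR := fun w hw => by
      have := mul_mem (mul_mem hmR (hAS (h2A w hw))) (inv_mem hmR)
      rwa [show m * (m⁻¹ * w * m) * m⁻¹ = w by group] at this
    have hdis : X₁ ⊓ X₂ = ⊥ := by
      refine (Subgroup.eq_bot_iff_forall _).2 fun w hw => ?_
      by_contra hw1
      have hwA := h1A hw.1
      have hwm := h2A w hw.2
      have hle : A.map (MulAut.conj m).toMonoidHom ≤ centralizer ({w} : Set G) := by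
        rintro _ ⟨x, hx, rfl⟩
        rw [mem_centralizer_singleton_iff]
        show m * x * m⁻¹ * w = w * (m * x * m⁻¹)
        calc m * x * m⁻¹ * w = m * (x * (m⁻¹ * w * m)) * m⁻¹ := by group
          _ = w * (m * x * m⁻¹) := by rw [h.symm.R_comm hx hwm]; group
      have hle' := hle.trans (hCA w hwA hw1)
      have hodd : Odd ((S : Subgroup G).relIndex NA) := by
        rw [Nat.odd_iff]
        have h1 : ¬ 2 ∣ (S : Subgroup G).relIndex NA := fun e =>
          S.not_dvd_index (e.trans (relIndex_dvd_index_of_le h.le_norm_A))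
        omega
      obtain ⟨k, hk, hkS⟩ := StronglyClosedFour.exists_conj_into (h.symm.R_isPGroup.map _) hle' hodd
      have hkA : k⁻¹ * m ∈ NA := h.symm.conj_R_mem (g := k⁻¹ * m) fun x hx => by
        rw [show k⁻¹ * m * x * (k⁻¹ * m)⁻¹ = k⁻¹ * (m * x * m⁻¹) * k by group]
        exact hkS _ ⟨x, hx, rfl⟩
      exact hmA (by simpa using mul_mem hk hkA)
    have hcard : ∀ g : G, Nat.card ((R ⊓ A).map (MulAut.conj g).toMonoidHom) = 4 := fun g => by
      rw [card_map_of_injective (MulAut.conj g).injective, h.inf_card]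
    have hR'c : Nat.card R' = 16 := by
      rw [hR', card_map_of_injective (MulAut.conj a').injective, h.R_card]
    have hsup : X₁ ⊔ X₂ = R' := by
      refine Subgroup.eq_of_le_of_card_ge (sup_le h1R' h2R') ?_
      rw [hR'c]
      have hcl : Nat.card (X₁ × X₂) ≤ Nat.card (X₁ ⊔ X₂ : Subgroup G) :=
        Nat.card_le_card_of_injective (fun p : X₁ × X₂ => (⟨(p.1 : G) * p.2,
          mul_mem (mem_sup_left p.1.2) (mem_sup_right p.2.2)⟩ : (X₁ ⊔ X₂ : Subgroup G))) fun p p' e => by
          have e' : (p.1 : G) * p.2 = p'.1 * p'.2 := congrArg Subtype.val e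
          have h3 : (p'.1 : G)⁻¹ * p.1 = (p'.2 : G) * (p.2 : G)⁻¹ := by
            rw [eq_mul_inv_iff_mul_eq, mul_assoc, e', inv_mul_cancel_left]
          have h4 : (p'.1 : G)⁻¹ * p.1 ∈ X₁ ⊓ X₂ := mem_inf.2
            ⟨mul_mem (inv_mem p'.1.2) p.1.2, by rw [h3]; exact mul_mem p'.2.2 (inv_mem p.2.2)⟩
          rw [hdis, mem_bot, inv_mul_eq_one] at h4
          exact Prod.ext (Subtype.ext h4.symm) (Subtype.ext (mul_left_cancel (h4 ▸ e')))
      rw [Nat.card_prod, hX₁, hX₂, hcard, hcard] at hcl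
      exact hcl
    have hR'N : R' ≤ NR := hsup ▸ sup_le h1N h2N
    have hodd : Odd ((S : Subgroup G).relIndex NR) := by
      rw [Nat.odd_iff]
      have h1 : ¬ 2 ∣ (S : Subgroup G).relIndex NR := fun e =>
        S.not_dvd_index (e.trans (relIndex_dvd_index_of_le h.le_norm_R))
      omega
    obtain ⟨k, hk, hkS⟩ := StronglyClosedFour.exists_conj_into (h.R_isPGroup.map _) hR'N hodd
    have hkR : k⁻¹ * a' ∈ NR := h.conj_R_mem (g := k⁻¹ * a') fun x hx => by
      rw [show k⁻¹ * a' * x * (k⁻¹ * a')⁻¹ = k⁻¹ * (a' * x * a'⁻¹) * k by group]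
      exact hkS _ ⟨x, hx, rfl⟩
    exact hout p' (by simpa using mul_mem hk hkR)
  have hcount := Nat.card_le_card_of_injective f hf
  rw [Finite.card_option, Nat.card_prod] at hcount
  have hp4 : Nat.card {p : NA ⧸ K.subgroupOf NA // p ≠ e₀} + 1 = K.relIndex NA := by
    haveI := Fintype.ofFinite (NA ⧸ K.subgroupOf NA)
    rw [Nat.card_eq_fintype_card, Fintype.card_subtype_compl, Fintype.card_subtype_eq,
      ← Nat.card_eq_fintype_card]
    show Nat.card (NA ⧸ K.subgroupOf NA) - 1 + 1 = Nat.card (NA ⧸ K.subgroupOf NA)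
    have : 0 < Nat.card (NA ⧸ K.subgroupOf NA) := Nat.card_pos
    omega
  have h4 : 4 ≤ Nat.card {p : NA ⧸ K.subgroupOf NA // p ≠ e₀} := by omega
  have h20 := Nat.mul_le_mul hlines h4
  change K.relIndex NR * _ + 1 ≤ NR.index at hcount
  omega

end Cfsg.Agent.L34Type
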