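import Cfsg.Agent.Lib.L34Type.NormS

/-!
# Sylow 2-subgroups of type `L₃(4)`: the centraliser of a noncentral involution of `R`

When `N(R)` normalises `Z = R ⊓ A`, the centraliser `C` of `r ∈ R \ A` has a normal subgroup `H` with
Sylow 2-subgroup `Z` and `C = H R`.  Either `C` is covered by its core and `N(R)` or `H` has one
class of involutions and is not covered by its core and the normaliser of `Z`.
-/

set_option autoImplicit false
set_option linter.style.haveILetI false
set_option linter.unusedSectionVars false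

namespace Cfsg.Agent.L34Type

open Subgroup Cfsg.Agent.CIT
open Cfsg.Agent.StronglyClosedFour (core burnside le_core core_le_core odd_sup core_le core_odd
  le_normalizer_core normalizer_le_normalizer_core exists_conj_into exists_conj_into_involution
  odd_mem_of_index_two odd_orderOf_of_mem)
open scoped Pointwise

universe u

variable {G : Type u} [Group G] [Finite G]

theorem relIndex_dvd_relIndex {X Y K : Subgroup G} (h₁ : X ≤ Y) (h₂ : Y ≤ K) :
    X.relIndex Y ∣ X.relIndex K :=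
  Dvd.intro _ (relIndex_mul_relIndex X Y K h₁ h₂)

/-- The normal subgroup of `C(r)` cut out by `Z = R ⊓ A`. -/
structure Kernel (R A : Subgroup G) (r : G) (H : Subgroup G) : Prop where
  le : H ≤ centralizer ({r} : Set G)
  norm : centralizer ({r} : Set G) ≤ normalizer (H : Set G)
  mem_iff : ∀ x ∈ R, x ∈ H ↔ x ∈ A
  inf_le : R ⊓ A ≤ H
  odd : Odd ((R ⊓ A).relIndex H)
  two : ∃ j, H.relIndex (centralizer ({r} : Set G)) = 2 ^ j
  mul : ∀ k ∈ centralizer ({r} : Set G), ∃ k₀ ∈ H, ∃ t ∈ R, k = k₀ * t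

/-- `C(r)` is covered by its core and `N(R)`. -/
def Covered (R : Subgroup G) (r : G) : Prop :=
  ∀ k ∈ centralizer ({r} : Set G), ∃ o ∈ core (centralizer ({r} : Set G)),
    ∃ n ∈ normalizer (R : Set G), k = o * n

/-- One class of involutions, and no cover by the core and the normaliser of `Z`. -/
def Wide (R A H : Subgroup G) : Prop :=
  (∀ s t : H, orderOf s = 2 → orderOf t = 2 → IsConj s t) ∧
    Cfsg.oddCore H ⊔ normalizer (((R ⊓ A).subgroupOf H : Subgroup H) : Set H) ≠ ⊤

variable {S : Sylow 2 G} {R A : Subgroup G}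

namespace Shape

variable (h : Shape (S : Subgroup G) R A)
include h

/-- An element of `N(S)` which moves an involution of `R ⊓ A` permutes them transitively. -/
theorem norm_inf_transitive {n z : G} (hn : n ∈ normalizer ((S : Subgroup G) : Set G))
    (hz : z ∈ R ⊓ A) (hz1 : z ≠ 1) (hnz : n * z * n⁻¹ ≠ z) {w : G} (hw : w ∈ R ⊓ A) (hw1 : w ≠ 1) :
    ∃ i : ℕ, n ^ i * z * (n ^ i)⁻¹ = w := by
  have hz' := h.conj_inf hn hz
  have hv1 : n * z * n⁻¹ ≠ 1 := fun e => hz1 (conj_eq_one_iff.1 e)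
  have hz2 : n ^ 2 * z * (n ^ 2)⁻¹ ∈ R ⊓ A := h.conj_inf (pow_mem hn 2) hz
  have h21 : n ^ 2 * z * (n ^ 2)⁻¹ ≠ 1 := fun e => hz1 (conj_eq_one_iff.1 e)
  have h2z : n ^ 2 * z * (n ^ 2)⁻¹ ≠ z := by
    intro e
    have hall := h.norm_fix_inf (pow_mem hn 2) hz hz1 e
    have hpow : ∀ i : ℕ, (n ^ 2) ^ i * z * ((n ^ 2) ^ i)⁻¹ = z := fun i => by
      induction i with
      | zero => simp
      | succ i ih => rw [pow_succ, conj_comp, e, ih]
    obtain ⟨m, hm⟩ := h.exists_odd_pow hn
    rw [pow_succ', pow_mul] at hm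
    have h3 : n * (n ^ 2) ^ m * z * (n * (n ^ 2) ^ m)⁻¹ = z := by
      rw [← h.central z hz _ hm, mul_inv_cancel_right]
    rw [conj_comp, hpow] at h3
    exact hnz h3
  have h2v : n ^ 2 * z * (n ^ 2)⁻¹ ≠ n * z * n⁻¹ := fun e => hnz (by
    rw [pow_two, conj_comp] at e
    exact (MulAut.conj n).injective e)
  rcases h.inf_cases hz hz' hz2 hw hz1 hv1 h21 (Ne.symm hnz) h2z.symm h2v.symm with e | e | e | e
  · exact absurd e hw1
  · exact ⟨0, by rw [e, pow_zero, one_mul, inv_one, mul_one]⟩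
  · exact ⟨1, by rw [e, pow_one]⟩
  · exact ⟨2, by rw [e]⟩

section

variable (hns : ∀ n ∈ normalizer (R : Set G), ∀ z ∈ R ⊓ A, n * z * n⁻¹ ∈ A)
  {r : G} (hr : r ∈ R) (hrA : r ∉ A)
include hns hr hrA

theorem odd_cent : Odd (R.relIndex (centralizer ({r} : Set G))) :=
  h.odd_relIndex_cent hr (h.conj_notMem_of_normalizes hns hr hrA)

/-- An element of `N(R) ∩ C(r)` is an element of `N(S) ∩ C(r)` times one of `C(R)`. -/
theorem norm_cent_split {n : G} (hn : n ∈ normalizer (R : Set G))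
    (hnr : n * r = r * n) : ∃ c ∈ centralizer (R : Set G),
      c * n ∈ normalizer ((S : Subgroup G) : Set G) ∧ c * n * r = r * (c * n) := by
  obtain ⟨c, hc, hcn⟩ := h.exists_mul_mem_norm_S hns hn
  exact ⟨c, hc, hcn, by
    rw [mul_assoc c n r, hnr, ← mul_assoc c r n, ← mem_centralizer_iff.1 hc r hr, mul_assoc]⟩

/-- `N(R) ∩ C(r)` acts trivially on `R` modulo `R ⊓ A`. -/
theorem norm_cent_mod {n : G} (hn : n ∈ normalizer (R : Set G))
    (hnr : n * r = r * n) : ∀ x ∈ R, n * x * n⁻¹ * x ∈ R ⊓ A := by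
  obtain ⟨c, hc, hcn, hcr⟩ := h.norm_cent_split hns hr hrA hn hnr
  intro x hx
  have h1 : c * n * r * (c * n)⁻¹ * r ∈ A := by
    rw [hcr, mul_inv_cancel_right, h.R_sq r hr]; exact one_mem A
  have h2 := h.norm_mod_R hcn hr hrA h1 x hx
  have hnx : n * x * n⁻¹ ∈ R := (mem_normalizer_iff.1 hn x).1 hx
  rwa [conj_comp, ← mem_centralizer_iff.1 hc _ hnx, mul_inv_cancel_right] at h2

theorem exists_kernel : ∃ H : Subgroup G, Kernel R A r H := by
  set C := centralizer ({r} : Set G) with hC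
  have hRC : R ≤ C := h.R_le_centralizer hr
  have hodd := h.odd_cent hns hr hrA
  obtain ⟨K, hKC, hKn, hKmem, hMK, hKodd, hK2, hKmul⟩ :=
    StronglyClosedFour.transfer h.R_isPGroup hRC hodd (inf_le_left : R ⊓ A ≤ R)
      (fun t ht m hm => by
        rw [h.R_comm ht hm.1, mul_inv_cancel_right]; exact hm)
      (fun a ha b hb g hg e => by
        -- Burnside inside `C`
        set D := centralizer ({b} : Set G) ⊓ C with hD
        have hRD : R ≤ D := le_inf (h.R_le_centralizer hb) hRC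
        have hoddD : Odd (R.relIndex D) := hodd.of_dvd_nat (relIndex_dvd_relIndex hRD inf_le_right)
        obtain ⟨c, hc, hcR⟩ := exists_conj_into (B := R.map (MulAut.conj g).toMonoidHom)
          (h.R_isPGroup.map _) (by
            rintro _ ⟨x, hx, rfl⟩
            refine mem_inf.2 ⟨mem_centralizer_singleton_iff.2 ?_, ?_⟩
            · show g * x * g⁻¹ * b = b * (g * x * g⁻¹)
              rw [← e]
              calc g * x * g⁻¹ * (g * a * g⁻¹) = g * (x * a) * g⁻¹ := by group
                _ = g * (a * x) * g⁻¹ := by rw [h.R_comm hx ha]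
                _ = g * a * g⁻¹ * (g * x * g⁻¹) := by group
            · exact mul_mem (mul_mem hg (hRC hx)) (inv_mem hg)) hoddD
        have hn : c⁻¹ * g ∈ normalizer (R : Set G) := CIT.mem_normalizer_of_forall fun x hx => by
          have := hcR _ ⟨x, hx, rfl⟩
          change c⁻¹ * (g * x * g⁻¹) * c ∈ R at this
          rwa [conj_comp, inv_inv]
        have hnr : c⁻¹ * g * r = r * (c⁻¹ * g) :=
          mem_centralizer_singleton_iff.1 (mul_mem (inv_mem (mem_inf.1 hc).2) hg)
        have := h.norm_cent_mod hns hr hrA hn hnr a ha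
        rw [conj_comp, e, inv_inv, mul_assoc c⁻¹ b c,
          ← mem_centralizer_singleton_iff.1 (mem_inf.1 hc).1, inv_mul_cancel_left] at this
        rwa [h.R_inv hb, h.R_comm ha hb])
  exact ⟨K, hKC, hKn, fun x hx => ⟨fun e => ((hKmem x hx).1 e).2, fun e => (hKmem x hx).2 ⟨hx, e⟩⟩,
    hMK, hKodd, hK2, hKmul⟩

/-- Centralising also an involution of `R ⊓ A` leaves `R` and a part of the core. -/
theorem cent_cent_cases {z : G} (hz : z ∈ R ⊓ A) (hz1 : z ≠ 1) {k : G}
    (hk : k ∈ centralizer ({r} : Set G)) (hkz : k ∈ centralizer ({z} : Set G)) :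
    ∃ o ∈ core (centralizer ({z} : Set G)), o ∈ centralizer ({r} : Set G) ∧ ∃ t ∈ R, k = o * t := by
  haveI : Fact (Nat.Prime 2) := ⟨Nat.prime_two⟩
  set C := centralizer ({z} : Set G) with hC
  obtain ⟨o, ho, n, hn, rfl⟩ := h.cent_cover hz hz1 k hkz
  obtain ⟨hnS, hnC⟩ := mem_inf.1 hn
  set r' := n * r * n⁻¹ with hr'
  have hr'R : r' ∈ R := h.conj_R hnS hr
  have hrC : r ∈ C := h.le_centralizer_of_mem_inf hz (h.R_le hr)
  have hkr := mem_centralizer_singleton_iff.1 hk
  have e : r' = o⁻¹ * r * o := by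
    calc r' = o⁻¹ * (o * n * r) * (o * n)⁻¹ * o := by rw [hr']; group
      _ = o⁻¹ * (r * (o * n)) * (o * n)⁻¹ * o := by rw [hkr]
      _ = o⁻¹ * r * o := by group
  have hr'r : r' * r = 1 := by
    refine StronglyClosedFour.eq_one_of_two_group (core_odd C) h.R_isPGroup ?_ (mul_mem hr'R hr)
    rw [e, mul_assoc, mul_assoc]
    refine mul_mem (inv_mem ho) ?_
    have := (mem_normalizer_iff.1 (le_normalizer_core C hrC) o).1 ho
    rwa [h.R_inv hr, mul_assoc] at this
  have hr'eq : r' = r := by rw [eq_inv_of_mul_eq_one_left hr'r, h.R_inv hr]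
  have hnr : n * r = r * n := mul_inv_eq_iff_eq_mul.1 hr'eq
  have hor : o ∈ centralizer ({r} : Set G) := by
    have := mul_mem hk (inv_mem (mem_centralizer_singleton_iff.2 hnr))
    rwa [mul_inv_cancel_right] at this
  have hnz : n * z * n⁻¹ = z := by
    rw [mem_centralizer_singleton_iff.1 hnC, mul_inv_cancel_right]
  have hmem := h.norm_trivial hnS (h.norm_fix_inf hnS hz hz1 hnz) hr hrA (by
    rw [← hr', hr'eq, h.R_sq r hr]; exact one_mem A)
  -- write `n` as an element of the core times one of `S`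
  have hle : centralizer ((S : Subgroup G) : Set G) ⊔ (S : Subgroup G) ≤ core C ⊔ (S : Subgroup G) :=
    sup_le ((h.cent_S_le hz hz1).trans (sup_le_sup_left (inf_le_left.trans h.R_le) _)) le_sup_right
  have hmem' : o * n ∈ core C ⊔ (S : Subgroup G) := mul_mem (mem_sup_left ho) (hle hmem)
  have hSC : (S : Subgroup G) ≤ normalizer (core C : Set G) :=
    (h.le_centralizer_of_mem_inf hz).trans (le_normalizer_core C)
  obtain ⟨p, hp, s, hs, e2⟩ : ∃ p ∈ core C, ∃ s ∈ (S : Subgroup G), o * n = p * s := by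
    have h1 : o * n ∈ (core C : Set G) * ((S : Subgroup G) : Set G) := by
      rw [← Subgroup.coe_mul_of_right_le_normalizer_left _ _ hSC]; exact hmem'
    obtain ⟨p, hp, s, hs, e2⟩ := h1
    exact ⟨p, hp, s, hs, e2.symm⟩
  -- `s` centralises `r`
  have hsr : s * r * s⁻¹ = r := by
    have h1 : s * r * s⁻¹ = p⁻¹ * r * p := by
      calc s * r * s⁻¹ = p⁻¹ * (p * s * r) * (p * s)⁻¹ * p := by group
        _ = p⁻¹ * (r * (p * s)) * (p * s)⁻¹ * p := by rw [← e2, hkr]
        _ = p⁻¹ * r * p := by group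
    have h2 : s * r * s⁻¹ * r = 1 := by
      refine StronglyClosedFour.eq_one_of_two_group (core_odd C) h.R_isPGroup ?_
        (mul_mem ((mem_normalizer_iff.1 (h.le_norm_R hs) r).1 hr) hr)
      rw [h1, mul_assoc, mul_assoc]
      refine mul_mem (inv_mem hp) ?_
      have := (mem_normalizer_iff.1 (le_normalizer_core C hrC) p).1 hp
      rwa [h.R_inv hr, mul_assoc] at this
    rw [eq_inv_of_mul_eq_one_left h2, h.R_inv hr]
  have hsR : s ∈ R := h.cent_R r hr hrA s hs (mul_inv_eq_iff_eq_mul.1 hsr).symm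
  refine ⟨p, hp, ?_, s, hsR, e2⟩
  have := mul_mem hk (inv_mem (mem_centralizer_singleton_iff.2 (h.R_comm hsR hr)))
  rwa [e2, mul_inv_cancel_right] at this

/-- Either `C(r)` is covered by its core and `N(R)`, or `H` is wide. -/
theorem covered_or_wide {H : Subgroup G} (hH : Kernel R A r H) : Covered R r ∨ Wide R A H := by
  haveI : Fact (Nat.Prime 2) := ⟨Nat.prime_two⟩
  set C := centralizer ({r} : Set G) with hC
  have hRC : R ≤ C := h.R_le_centralizer hr
  have hodd := h.odd_cent hns hr hrA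
  by_cases htriv : ∀ n ∈ normalizer (R : Set G), n * r = r * n → ∀ z ∈ R ⊓ A, n * z * n⁻¹ = z
  · -- `N(R) ∩ C(r)` centralises `R`
    left
    intro k hk
    obtain ⟨o, ho, t, ht, e⟩ := burnside (K := C) h.R_isPGroup hRC hodd (fun n hn hnR x hx => by
      have hnr := mem_centralizer_singleton_iff.1 hn
      obtain ⟨c, hc, hcn, hcr⟩ := h.norm_cent_split hns hr hrA hnR hnr
      have hz : ∀ w ∈ R ⊓ A, c * n * w * (c * n)⁻¹ = w := fun w hw => by
        rw [conj_comp, htriv n hnR hnr w hw, ← mem_centralizer_iff.1 hc w hw.1, mul_inv_cancel_right]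
      have hmem := h.norm_trivial hcn hz hr hrA (by
        rw [hcr, mul_inv_cancel_right, h.R_sq r hr]; exact one_mem A)
      -- a part in `C(S)` and a part in `S` centralising `r`
      have hSn : (S : Subgroup G) ≤ normalizer (centralizer ((S : Subgroup G) : Set G) : Set G) :=
        fun s hs => CIT.mem_normalizer_of_forall fun y hy => by
          rw [mem_centralizer_iff] at hy ⊢
          intro u hu
          calc u * (s * y * s⁻¹) = s * ((s⁻¹ * u * s) * y) * s⁻¹ := by group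
            _ = s * (y * (s⁻¹ * u * s)) * s⁻¹ := by rw [hy _ (mul_mem (mul_mem (inv_mem hs) hu) hs)]
            _ = s * y * s⁻¹ * u := by group
      obtain ⟨d, hd, s, hs, e2⟩ : ∃ d ∈ centralizer ((S : Subgroup G) : Set G),
          ∃ s ∈ (S : Subgroup G), c * n = d * s := by
        have h1 : c * n ∈ (centralizer ((S : Subgroup G) : Set G) : Set G) *
            ((S : Subgroup G) : Set G) := by
          rw [← Subgroup.coe_mul_of_right_le_normalizer_left _ _ hSn]; exact hmem
        obtain ⟨d, hd, s, hs, e2⟩ := h1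
        exact ⟨d, hd, s, hs, e2.symm⟩
      have hdr := mem_centralizer_iff.1 hd r (h.R_le hr)
      have hsr : r * s = s * r := by
        refine mul_left_cancel (a := d) ?_
        calc d * (r * s) = r * (d * s) := by rw [← mul_assoc, ← hdr, mul_assoc]
          _ = d * (s * r) := by rw [← e2, ← hcr, e2, mul_assoc]
      have hsR : s ∈ R := h.cent_R r hr hrA s hs hsr
      have h3 : d * s ∈ centralizer (R : Set G) := mul_mem
        (Subgroup.centralizer_le (fun y hy => h.R_le hy) hd)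
        (mem_centralizer_iff.2 fun y hy => h.R_comm hy hsR)
      have h4 : n ∈ centralizer (R : Set G) := by
        rw [← e2] at h3
        exact (Subgroup.mul_mem_cancel_left _ hc).1 h3
      exact (mem_centralizer_iff.1 h4 x hx).symm) k hk
    exact ⟨o, ho, t, Subgroup.le_normalizer ht, e⟩
  push Not at htriv
  obtain ⟨n, hnR, hnr, z₀, hz₀, hnz₀⟩ := htriv
  obtain ⟨c, hc, hcn, hcr⟩ := h.norm_cent_split hns hr hrA hnR hnr
  set m := c * n with hm
  have hmz : m * z₀ * m⁻¹ ≠ z₀ := by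
    have hn' : n * z₀ * n⁻¹ ∈ R := (mem_normalizer_iff.1 hnR z₀).1 hz₀.1
    rw [hm, conj_comp, ← mem_centralizer_iff.1 hc _ hn', mul_inv_cancel_right]
    exact hnz₀
  have hz₀1 : z₀ ≠ 1 := fun e => hmz (by rw [e]; group)
  have hmC : m ∈ C := mem_centralizer_singleton_iff.2 hcr
  by_cases hcore : Cfsg.oddCore H ⊔ normalizer (((R ⊓ A).subgroupOf H : Subgroup H) : Set H) = ⊤
  · -- covered
    left
    set Z := R ⊓ A with hZ
    set D := centralizer (Z : Set G) ⊓ C with hD
    set D₀ := centralizer (Z : Set G) ⊓ H with hD₀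
    have hRD : R ≤ D := le_inf
      (fun t ht => mem_centralizer_iff.2 fun w hw => h.R_comm hw.1 ht) hRC
    have hZD₀ : Z ≤ D₀ := le_inf
      (fun t ht => mem_centralizer_iff.2 fun w hw => h.R_comm hw.1 ht.1) hH.inf_le
    have hcC : core H ≤ core C := core_le_core hH.le (hH.norm.trans (normalizer_le_normalizer_core H))
    -- every element of `H` is a core element times one normalising `Z`
    have hsplit : ∀ k ∈ H, ∃ o ∈ core H, ∃ m' ∈ H, m' ∈ normalizer (Z : Set G) ∧ k = o * m' := by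
      intro k hk
      obtain ⟨o, ho, m', hm', e⟩ := mem_sup_of_normal_left.1
        (hcore.symm ▸ mem_top (⟨k, hk⟩ : H) : (⟨k, hk⟩ : H) ∈ _)
      refine ⟨o, ⟨o, ho, rfl⟩, m', m'.2, CIT.mem_normalizer_of_forall fun w hw => ?_,
        (congrArg Subtype.val e).symm⟩
      have := (mem_normalizer_iff.1 hm' ⟨w, hH.inf_le hw⟩).1 (mem_subgroupOf.2 hw)
      exact mem_subgroupOf.1 this
    have hQ : core D₀ ≤ core H := by
      have hn : ∀ g ∈ normalizer (Z : Set G), g ∈ H → g ∈ normalizer (core D₀ : Set G) := by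
        intro g hg hgH
        refine normalizer_le_normalizer_core _ (CIT.mem_normalizer_of_forall fun y hy => mem_inf.2
          ⟨?_, mul_mem (mul_mem hgH hy.2) (inv_mem hgH)⟩)
        rw [mem_centralizer_iff]
        intro w hw
        calc w * (g * y * g⁻¹) = g * ((g⁻¹ * w * g) * y) * g⁻¹ := by group
          _ = g * (y * (g⁻¹ * w * g)) * g⁻¹ := by
            rw [mem_centralizer_iff.1 hy.1 _ ((mem_normalizer_iff''.1 hg w).1 hw)]
          _ = g * y * g⁻¹ * w := by group
      have hQn : H ≤ normalizer ((core D₀ ⊔ core H : Subgroup G) : Set G) := by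
        intro k hk
        obtain ⟨o, ho, m', hm'H, hm'Z, rfl⟩ := hsplit k hk
        refine mul_mem (Subgroup.le_normalizer (mem_sup_right ho))
          (CIT.mem_normalizer_of_forall fun y hy => ?_)
        have hle : core D₀ ⊔ core H ≤ (core D₀ ⊔ core H).comap (MulAut.conj m').toMonoidHom := sup_le
          (fun x hx => mem_sup_left ((mem_normalizer_iff.1 (hn m' hm'Z hm'H) x).1 hx))
          (fun x hx => mem_sup_right ((mem_normalizer_iff.1 (le_normalizer_core _ hm'H) x).1 hx))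
        exact hle hy
      exact le_sup_left.trans (le_core
        (sup_le ((core_le _).trans inf_le_right) (core_le H)) hQn
        (odd_sup ((core_le _).trans (inf_le_right.trans (le_normalizer_core H))) (core_odd _) (core_odd H)))
    -- the centraliser of `Z`
    have hDmem : ∀ p ∈ D, ∃ o ∈ core C, ∃ t ∈ R, p = o * t := by
      intro p hp
      obtain ⟨k₀, hk₀, t, ht, rfl⟩ := hH.mul p hp.2
      have hk₀Z : k₀ ∈ D₀ := mem_inf.2 ⟨by
        have := mul_mem (mem_inf.1 hp).1 (inv_mem (mem_inf.1 (hRD ht)).1)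
        rwa [mul_inv_cancel_right] at this, hk₀⟩
      obtain ⟨o, ho, w, hw, rfl⟩ := burnside (h.R_isPGroup.to_le inf_le_left) hZD₀
        (hH.odd.of_dvd_nat (relIndex_dvd_relIndex hZD₀ inf_le_right))
        (fun g hg _ w hw => (mem_centralizer_iff.1 hg.1 w hw).symm) k₀ hk₀Z
      exact ⟨o, hcC (hQ ho), w * t, mul_mem hw.1 ht, by group⟩
    intro k hk
    obtain ⟨k₀, hk₀, t, ht, rfl⟩ := hH.mul k hk
    obtain ⟨o, ho, m', hm'H, hm'Z, rfl⟩ := hsplit k₀ hk₀
    -- Frattini in `D`
    have hm'D : ∀ y ∈ D, m' * y * m'⁻¹ ∈ D := fun y hy => mem_inf.2 ⟨by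
      rw [mem_centralizer_iff]
      intro w hw
      calc w * (m' * y * m'⁻¹) = m' * ((m'⁻¹ * w * m') * y) * m'⁻¹ := by group
        _ = m' * (y * (m'⁻¹ * w * m')) * m'⁻¹ := by
          rw [mem_centralizer_iff.1 hy.1 _ ((mem_normalizer_iff''.1 hm'Z w).1 hw)]
        _ = m' * y * m'⁻¹ * w := by group,
      mul_mem (mul_mem (hH.le hm'H) hy.2) (inv_mem (hH.le hm'H))⟩
    obtain ⟨p, hp, hpR⟩ := exists_conj_into (K := D) (B := R.map (MulAut.conj m').toMonoidHom)
      (h.R_isPGroup.map _) (by rintro _ ⟨x, hx, rfl⟩; exact hm'D x (hRD hx))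
      (hodd.of_dvd_nat (relIndex_dvd_relIndex hRD inf_le_right))
    have hn' : p⁻¹ * m' ∈ normalizer (R : Set G) := CIT.mem_normalizer_of_forall fun x hx => by
      have := hpR _ ⟨x, hx, rfl⟩
      change p⁻¹ * (m' * x * m'⁻¹) * p ∈ R at this
      rwa [conj_comp, inv_inv]
    obtain ⟨o', ho', t', ht', rfl⟩ := hDmem p hp
    refine ⟨o * o', mul_mem (hcC ho) ho', t' * ((o' * t')⁻¹ * m') * t,
      mul_mem (mul_mem (Subgroup.le_normalizer ht') hn') (Subgroup.le_normalizer ht), ?_⟩
    group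
  · -- wide
    right
    refine ⟨fun s t hs ht => ?_, hcore⟩
    have hconj : ∀ u : H, orderOf u = 2 → ∃ k ∈ H, k⁻¹ * (u : G) * k ∈ R ⊓ A ∧ k⁻¹ * (u : G) * k ≠ 1 := by
      intro u hu
      have hu' : orderOf (u : G) = 2 := by rw [Subgroup.orderOf_coe, hu]
      obtain ⟨k, hk, hku⟩ := exists_conj_into_involution (Involutions.Basic.inv_sq_one hu') u.2 hH.odd
      refine ⟨k, hk, hku, fun e => Involutions.Basic.ne_one hu' ?_⟩
      calc (u : G) = k * (k⁻¹ * (u : G) * k) * k⁻¹ := by group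
        _ = 1 := by rw [e, mul_one, mul_inv_cancel]
    obtain ⟨k, hk, hks, hks1⟩ := hconj s hs
    obtain ⟨l, hl, hlt, hlt1⟩ := hconj t ht
    obtain ⟨i, hi⟩ := h.norm_inf_transitive hcn hz₀ hz₀1 hmz hks hks1
    obtain ⟨j, hj⟩ := h.norm_inf_transitive hcn hz₀ hz₀1 hmz hlt hlt1
    obtain ⟨g, hg, w, hw, e⟩ := hH.mul (m ^ j * (m ^ i)⁻¹)
      (mul_mem (pow_mem hmC j) (inv_mem (pow_mem hmC i)))
    have hgw : g * (k⁻¹ * s * k) * g⁻¹ = l⁻¹ * t * l := by
      have h1 : w * (k⁻¹ * s * k) * w⁻¹ = k⁻¹ * s * k := by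
        rw [h.R_comm hw hks.1, mul_inv_cancel_right]
      calc g * (k⁻¹ * s * k) * g⁻¹ = g * (w * (k⁻¹ * s * k) * w⁻¹) * g⁻¹ := by rw [h1]
        _ = (g * w) * (k⁻¹ * s * k) * (g * w)⁻¹ := by group
        _ = l⁻¹ * t * l := by rw [← e, ← hj, ← hi]; group
    refine isConj_iff.2 ⟨⟨l * g * k⁻¹, mul_mem (mul_mem hl hg) (inv_mem hk)⟩, Subtype.ext ?_⟩
    show l * g * k⁻¹ * (s : G) * (l * g * k⁻¹)⁻¹ = (t : G)
    calc l * g * k⁻¹ * (s : G) * (l * g * k⁻¹)⁻¹ = l * (g * (k⁻¹ * s * k) * g⁻¹) * l⁻¹ := by group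
      _ = (t : G) := by rw [hgw]; group

end

end Shape

end Cfsg.Agent.L34Type
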