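import Cfsg.Agent.Lib.L34Type.Fused
import Cfsg.Agent.Lib.StronglyClosedFour.General
import Cfsg.Agent.S0215

/-!
# Sylow 2-subgroups of type `L₃(4)`: a central involution

In a group without odd core with a central involution in `R ⊓ A` the Sylow subgroup is normal.
-/

set_option autoImplicit false
set_option linter.style.haveILetI false
set_option linter.unusedSectionVars false

namespace Cfsg.Agent.L34Type

open Subgroup Cfsg.Agent.CIT
open Cfsg.Agent.StronglyClosedFour (exists_conj_into burnside core normalizer_le_normalizer_core core_odd)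

universe u

variable {G : Type u} [Group G] [Finite G] {S : Sylow 2 G} {R A : Subgroup G}

namespace Shape

variable (h : Shape (S : Subgroup G) R A)
include h

/-- An element of `N(S)` fixing `R ⊓ A` and one nontrivial class of `R` modulo it fixes all classes
of `A`. -/
theorem norm_fix_mod {g : G} (hg : g ∈ normalizer ((S : Subgroup G) : Set G))
    (hgz : ∀ z ∈ R ⊓ A, g * z * g⁻¹ = z) {r : G} (hr : r ∈ R) (hrA : r ∉ A)
    (hgr : g * r * g⁻¹ * r ∈ R ⊓ A) {s : G} (hs : s ∈ A) : g * s * g⁻¹ * s ∈ R ⊓ A := by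
  set z := g * r * g⁻¹ * r with hz
  set w := s * r * s⁻¹ * r with hw
  have hwZ : w ∈ R ⊓ A := h.conj_mul_mem hr (h.A_le hs)
  have hgR : g * r * g⁻¹ = z * r := by
    rw [hz, mul_assoc (g * r * g⁻¹), h.R_sq r hr, mul_one]
  have hsA : g * s * g⁻¹ ∈ A := (mem_normalizer_iff.1 (h.norm_S_le_A hg) s).1 hs
  set s' := g * s * g⁻¹ with hs'
  clear_value z
  have e1 : s * r * s⁻¹ = w * r := by
    rw [hw, mul_assoc (s * r * s⁻¹), h.R_sq r hr, mul_one]
  have e2 : s' * r * s'⁻¹ = w * r := by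
    have hzc : z * s' = s' * z := h.central z hgr s' (h.A_le hsA)
    have h1 : g * (s * r * s⁻¹) * g⁻¹ = s' * (z * r) * s'⁻¹ := by rw [← hgR, hs']; group
    have h2 : g * (w * r) * g⁻¹ = w * (z * r) := by
      rw [show g * (w * r) * g⁻¹ = g * w * g⁻¹ * (g * r * g⁻¹) by group, hgz w hwZ, hgR]
    rw [e1, h2] at h1
    refine mul_left_cancel (a := z) ?_
    calc z * (s' * r * s'⁻¹) = z * s' * r * s'⁻¹ := by group
      _ = s' * (z * r) * s'⁻¹ := by rw [hzc]; group
      _ = z * (w * r) := by rw [← h1, ← mul_assoc, ← mul_assoc, h.R_comm hwZ.1 hgr.1]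
  have hcomm : r * (s' * s) = s' * s * r := by
    have e3 : s' * s * r * (s' * s)⁻¹ = r := by
      calc s' * s * r * (s' * s)⁻¹ = s' * (s * r * s⁻¹) * s'⁻¹ := by group
        _ = (s' * w * s'⁻¹) * (s' * r * s'⁻¹) := by rw [e1]; group
        _ = w * (w * r) := by
          rw [e2, ← h.central w hwZ s' (h.A_le hsA), mul_inv_cancel_right]
        _ = r := by rw [← mul_assoc, h.R_sq w hwZ.1, one_mul]
    exact (mul_inv_eq_iff_eq_mul.1 e3).symm
  exact mem_inf.2 ⟨h.cent_R r hr hrA _ (h.A_le (mul_mem hsA hs)) hcomm, mul_mem hsA hs⟩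

/-- An element of `N(S)` fixing `R ⊓ A` pointwise and a nontrivial class of `S` modulo it fixes
all classes. -/
theorem norm_fix_all {g : G} (hg : g ∈ normalizer ((S : Subgroup G) : Set G))
    (hgz : ∀ z ∈ R ⊓ A, g * z * g⁻¹ = z) {x : G} (hx : x ∈ (S : Subgroup G)) (hx1 : x ∉ R ⊓ A)
    (hgx : x⁻¹ * (g * x * g⁻¹) ∈ R ⊓ A) :
    (∀ r ∈ R, g * r * g⁻¹ * r ∈ R ⊓ A) ∧ ∀ a ∈ A, g * a * g⁻¹ * a ∈ R ⊓ A := by
  have hgz' : ∀ z ∈ A ⊓ R, g * z * g⁻¹ = z := fun z hz => hgz z ⟨hz.2, hz.1⟩
  obtain ⟨r, hr, a, ha, rfl⟩ := h.exists_mul_eq hx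
  set r' := g * r * g⁻¹ with hr'
  set a' := g * a * g⁻¹ with ha'
  have hr'R : r' ∈ R := (mem_normalizer_iff.1 (h.norm_S_le_R hg) r).1 hr
  have ha'A : a' ∈ A := (mem_normalizer_iff.1 (h.norm_S_le_A hg) a).1 ha
  set c := (r * a)⁻¹ * (g * (r * a) * g⁻¹) with hc
  have hca : r * r' = a * c * a'⁻¹ := by
    calc r * r' = r⁻¹ * r' := by rw [h.R_inv hr]
      _ = a * c * a'⁻¹ := by rw [hc, hr', ha']; group
  have h1 : r * r' ∈ R ⊓ A := mem_inf.2 ⟨mul_mem hr hr'R, by
    rw [hca]; exact mul_mem (mul_mem ha hgx.2) (inv_mem ha'A)⟩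
  have h2 : r' * r ∈ R ⊓ A := by rwa [h.R_comm hr'R hr]
  by_cases hrA : r ∈ A
  · have haR : a ∉ R := fun e => hx1 ⟨mul_mem hr e, mul_mem hrA ha⟩
    have h3 : a' * a ∈ A ⊓ R := mem_inf.2 ⟨mul_mem ha'A ha, by
      have : a' = r' * r * c * a := by
        have hc' : a * c = c * a := (h.central c hgx a (h.A_le ha)).symm
        calc a' = r'⁻¹ * (r * a * c) := by rw [hc, hr', ha']; group
          _ = r' * r * c * a := by rw [h.R_inv hr'R, mul_assoc r a c, hc']; group
      rw [this, mul_assoc, h.A_sq a ha, mul_one]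
      exact mul_mem h2.1 hgx.1⟩
    have hR : ∀ s ∈ R, g * s * g⁻¹ * s ∈ R ⊓ A := fun s hs => by
      have := h.symm.norm_fix_mod hg hgz' ha haR h3 hs
      exact ⟨this.2, this.1⟩
    obtain ⟨r₀, hr₀, hr₀A⟩ := h.exists_R_notMem_A
    exact ⟨hR, fun s hs => h.norm_fix_mod hg hgz hr₀ hr₀A (hR r₀ hr₀) hs⟩
  · have hA : ∀ s ∈ A, g * s * g⁻¹ * s ∈ R ⊓ A := fun s hs => h.norm_fix_mod hg hgz hr hrA h2 hs
    obtain ⟨a₀, ha₀, ha₀R⟩ := h.symm.exists_R_notMem_A
    refine ⟨fun s hs => ?_, hA⟩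
    have h0 := hA a₀ ha₀
    have := h.symm.norm_fix_mod hg hgz' ha₀ ha₀R ⟨h0.2, h0.1⟩ hs
    exact ⟨this.2, this.1⟩

end Shape

/-- In a group without odd core with a central involution in `R ⊓ A` the Sylow subgroup is normal. -/
theorem normal_of_central (h : Shape (S : Subgroup G) R A) (hO : Cfsg.oddCore G = ⊥) {z : G}
    (hz : z ∈ R ⊓ A) (hz1 : z ≠ 1) (hzc : ∀ g : G, g * z = z * g) : (S : Subgroup G).Normal := by
  haveI : Fact (Nat.Prime 2) := ⟨Nat.prime_two⟩
  have hzfix : ∀ g : G, g * z * g⁻¹ = z := fun g => by rw [hzc g, mul_inv_cancel_right]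
  -- `N(R)` and `N(A)` normalise `R ⊓ A`
  have hnsR : ∀ n ∈ normalizer (R : Set G), ∀ w ∈ R ⊓ A, n * w * n⁻¹ ∈ A := by
    intro n hn w hw
    by_contra hwA
    exact h.conj_notMem_A hn hw hwA hz hz1 ((hzfix n).symm ▸ hz.2)
  have hnsA : ∀ n ∈ normalizer (A : Set G), ∀ w ∈ A ⊓ R, n * w * n⁻¹ ∈ R := by
    intro n hn w hw
    by_contra hwA
    exact h.symm.conj_notMem_A hn hw hwA ⟨hz.2, hz.1⟩ hz1 ((hzfix n).symm ▸ hz.1)
  -- `R ⊓ A` is central
  have hZc : ∀ w ∈ R ⊓ A, ∀ g : G, w * g = g * w := by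
    intro w hw
    rcases eq_or_ne w 1 with rfl | hw1
    · simp
    have hiso : ∀ g : G, g * w * g⁻¹ ∈ S → g * w * g⁻¹ = w := by
      intro g hgS
      set y := g * w * g⁻¹ with hy
      have hy2 : y * y = 1 := by
        rw [hy, show g * w * g⁻¹ * (g * w * g⁻¹) = g * (w * w) * g⁻¹ by group, h.R_sq w hw.1, mul_one,
          mul_inv_cancel]
      have hback : g⁻¹ * y * g⁻¹⁻¹ = w := by rw [hy]; group
      have hyZ : y ∈ R ⊓ A := by
        by_contra hne
        rcases h.involutions y hgS hy2 with hyR | hyA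
        · have hyA : y ∉ A := fun e => hne ⟨hyR, e⟩
          have := (h.exists_norm_conj (g := g⁻¹) hyR (h.conj_notMem_of_normalizes hnsR hyR hyA)
            (by rw [hback]; exact h.R_le hw.1)).2.1
          rw [hback] at this
          exact this hw.2
        · have hyR : y ∉ R := fun e => hne ⟨e, hyA⟩
          have := (h.symm.exists_norm_conj (g := g⁻¹) hyA
            (h.symm.conj_notMem_of_normalizes hnsA hyA hyR) (by rw [hback]; exact h.A_le hw.2)).2.1
          rw [hback] at this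
          exact this hw.1
      -- both are central in `S`, so conjugate in `N(S)`
      have hle : ((g⁻¹ • S : Sylow 2 G) : Subgroup G) ≤ centralizer ({w} : Set G) := by
        intro u hu
        rw [Sylow.coe_subgroup_smul] at hu
        obtain ⟨s, hs, rfl⟩ := hu
        rw [mem_centralizer_singleton_iff]
        show g⁻¹ * s * g⁻¹⁻¹ * w = w * (g⁻¹ * s * g⁻¹⁻¹)
        calc g⁻¹ * s * g⁻¹⁻¹ * w = g⁻¹ * (s * y) * g := by rw [hy]; group
          _ = g⁻¹ * (y * s) * g := by rw [h.central y hyZ s hs]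
          _ = w * (g⁻¹ * s * g⁻¹⁻¹) := by rw [hy]; group
      obtain ⟨c, hc⟩ := MulAction.exists_smul_eq (centralizer ({w} : Set G))
        (S.subtype (h.le_centralizer_of_mem_inf hw)) ((g⁻¹ • S).subtype hle)
      have hc' : (c : G) • S = g⁻¹ • S := by
        simp_rw [Sylow.smul_subtype, Subgroup.smul_def] at hc
        exact Sylow.subtype_injective hc
      have hn : (g * c : G) • S = S := by rw [← smul_smul, hc', smul_inv_smul]
      rw [Sylow.smul_eq_iff_mem_normalizer] at hn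
      set n := g * (c : G) with hndef
      have hnw : n * w * n⁻¹ = y := by
        have := mem_centralizer_singleton_iff.1 c.2
        rw [hndef, conj_comp, this, mul_inv_cancel_right]
      by_contra hyw
      have hy1 : y ≠ 1 := fun e => hw1 (conj_eq_one_iff.1 e)
      have hyz : y ≠ z := fun e => by
        rcases eq_or_ne w z with e' | e'
        · exact hyw (e.trans e'.symm)
        · refine e' ((MulAut.conj g).injective ?_)
          show g * w * g⁻¹ = g * z * g⁻¹
          rw [hzfix g]; exact e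
      have hwz : w ≠ z := fun e => hyw (by rw [hy, e]; exact hzfix g)
      have hzw : y = z * w := by
        by_contra hne
        classical
        have hfive : ({1, z, w, z * w, y} : Finset G).card = 5 := by
          have a1 : z * w ≠ 1 := fun e => hwz (by
            rw [← inv_eq_of_mul_eq_one_right e, h.R_inv hz.1])
          simp [hz1.symm, hw1.symm, a1.symm, hy1.symm, hwz.symm, hyz.symm, Ne.symm hyw, Ne.symm hne,
            hw1, hz1]
        have hsub : (({1, z, w, z * w, y} : Finset G) : Set G) ⊆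
            ((R ⊓ A : Subgroup G) : Set G) := by
          intro u hu
          simp only [Finset.coe_insert, Finset.coe_singleton, Set.mem_insert_iff,
            Set.mem_singleton_iff] at hu
          rcases hu with rfl | rfl | rfl | rfl | rfl <;>
            first | exact one_mem _ | exact mul_mem hz hw | assumption
        have hcard := Set.ncard_le_ncard hsub (Set.toFinite _)
        rw [Set.ncard_coe_finset, hfive, ← Nat.card_coe_set_eq, SetLike.coe_sort_coe,
          h.inf_card] at hcard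
        omega
      have h2 : n ^ 2 * w * (n ^ 2)⁻¹ = w := by
        rw [pow_two, conj_comp, hnw, hzw,
          show n * (z * w) * n⁻¹ = n * z * n⁻¹ * (n * w * n⁻¹) by group, hnw, hzfix, hzw,
          ← mul_assoc, h.R_sq z hz.1, one_mul]
      obtain ⟨m, hm, hmS⟩ : ∃ m, Odd m ∧ n ^ m ∈ (S : Subgroup G) := by
        set N := normalizer ((S : Subgroup G) : Set G)
        have : ((S : Subgroup G).subgroupOf N).Normal := Subgroup.normal_in_normalizer
        refine ⟨((S : Subgroup G).subgroupOf N).index, Nat.odd_iff.2 ?_, ?_⟩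
        · have h1 : ¬ 2 ∣ (S : Subgroup G).relIndex N := fun e =>
            S.not_dvd_index (e.trans (relIndex_dvd_index_of_le Subgroup.le_normalizer))
          show ((S : Subgroup G).relIndex N) % 2 = 1
          omega
        · have := Subgroup.pow_index_mem ((S : Subgroup G).subgroupOf N) ⟨n, hn⟩
          rwa [mem_subgroupOf] at this
      obtain ⟨k, rfl⟩ := hm
      have hfixm : n ^ (2 * k + 1) * w * (n ^ (2 * k + 1))⁻¹ = w := by
        rw [← h.central w hw _ hmS, mul_inv_cancel_right]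
      have hfix2 : ∀ i : ℕ, (n ^ 2) ^ i * w * ((n ^ 2) ^ i)⁻¹ = w := fun i => by
        induction i with
        | zero => simp
        | succ i ih => rw [pow_succ, conj_comp, h2, ih]
      rw [pow_succ', pow_mul, conj_comp, hfix2, hnw] at hfixm
      exact hyw hfixm
    obtain ⟨M, hMn, hModd, hM⟩ :=
      S0215.result S w (orderOf_eq_prime (by rw [pow_two]; exact h.R_sq w hw.1) hw1) (h.R_le hw.1)
        hiso
    intro g
    have hM1 : w * g * w⁻¹ * g⁻¹ = 1 := by
      have h1 := hM g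
      have h2 : M ≤ Cfsg.oddCore G := Cores.le_oddCore hModd
      exact mem_bot.1 (hO ▸ h2 h1)
    calc w * g = w * g * w⁻¹ * g⁻¹ * (g * w) := by group
      _ = g * w := by rw [hM1, one_mul]
  -- pass to the quotient by `R ⊓ A`
  set Z := R ⊓ A with hZ
  haveI hZn : Z.Normal := ⟨fun w hw g => by rw [← hZc w hw g, mul_inv_cancel_right]; exact hw⟩
  have hqm : ∀ x y : G, ((x : G ⧸ Z) = y) ↔ x⁻¹ * y ∈ Z := fun x y => QuotientGroup.eq
  set T := (S : Subgroup G).map (QuotientGroup.mk' Z) with hT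
  have hZS : Z ≤ (S : Subgroup G) := inf_le_left.trans h.R_le
  have hker : (QuotientGroup.mk' Z).ker = Z := QuotientGroup.ker_mk' Z
  have hTcomap : T.comap (QuotientGroup.mk' Z) = (S : Subgroup G) := by
    rw [hT, comap_map_eq_self (hker.le.trans hZS)]
  have hTsq : ∀ u ∈ T, u * u = 1 := by
    rintro _ ⟨s, hs, rfl⟩
    rw [← map_mul]
    exact (QuotientGroup.eq_one_iff _).2 (h.sq s hs)
  have hTcard : Nat.card T = 16 := by
    have h1 : Z.relIndex S = Nat.card T := by
      have := Subgroup.relIndex_ker (S : Subgroup G) (QuotientGroup.mk' Z)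
      rwa [hker] at this
    have h2 : Nat.card Z * Z.relIndex S = Nat.card (S : Subgroup G) := by
      rw [← relIndex_bot_left, ← relIndex_bot_left]
      exact relIndex_mul_relIndex _ _ _ bot_le hZS
    rw [h1, show Nat.card Z = 4 from h.inf_card, h.card_S] at h2
    omega
  have hTp : IsPGroup 2 T := S.2.map _
  have hTidx : Odd T.index := by
    have : T.index = (S : Subgroup G).index := index_map_eq _ (QuotientGroup.mk'_surjective Z)
      (hker.le.trans hZS)
    rw [this, Nat.odd_iff]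
    have := S.not_dvd_index
    omega
  have hTrel : ∀ K : Subgroup (G ⧸ Z), T ≤ K → Odd (T.relIndex K) :=
    fun K hK => hTidx.of_dvd_nat (relIndex_dvd_index_of_le hK)
  have hTcomm : ∀ a ∈ T, ∀ b ∈ T, a * b = b * a := fun a ha b hb => by
    calc a * b = (a * b)⁻¹ := (inv_eq_of_mul_eq_one_right (hTsq _ (mul_mem ha hb))).symm
      _ = b * a := by
        rw [mul_inv_rev, inv_eq_of_mul_eq_one_right (hTsq a ha),
          inv_eq_of_mul_eq_one_right (hTsq b hb)]
  -- the normaliser of `T` comes from `N(S)`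
  have hlift : ∀ g : G, (g : G ⧸ Z) ∈ normalizer (T : Set (G ⧸ Z)) →
      g ∈ normalizer ((S : Subgroup G) : Set G) := by
    intro g hg
    refine CIT.mem_normalizer_of_forall fun s hs => ?_
    rw [← hTcomap, mem_comap]
    exact (mem_normalizer_iff.1 hg _).1 ⟨s, hs, rfl⟩
  have hmain := StronglyClosedFour.General.main T hTsq (by omega) (hTrel _ fun a ha =>
      mem_centralizer_iff.2 fun b hb => hTcomm b hb a ha) ?_ ?_ ?_
  rotate_left
  · -- closure
    intro g u hu hgu
    have hx2 : (g * u * g⁻¹) * (g * u * g⁻¹) = 1 := by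
      rw [show g * u * g⁻¹ * (g * u * g⁻¹) = g * (u * u) * g⁻¹ by group, hTsq u hu, mul_one,
        mul_inv_cancel]
    obtain ⟨k, hk, hkT⟩ := StronglyClosedFour.exists_conj_into_involution hx2 hgu
      (hTrel _ Subgroup.le_normalizer)
    have := (mem_normalizer_iff.1 hk _).1 hkT
    rwa [show k * (k⁻¹ * (g * u * g⁻¹) * k) * k⁻¹ = g * u * g⁻¹ by group] at this
  · -- centralisers
    intro u hu hu1 k hk
    have hTC : T ≤ centralizer ({u} : Set (G ⧸ Z)) := fun a ha =>
      mem_centralizer_singleton_iff.2 (hTcomm a ha u hu)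
    obtain ⟨o, ho, a, ha, e⟩ := burnside (K := centralizer ({u} : Set (G ⧸ Z))) hTp hTC (hTrel _ hTC)
      (fun n hn hnT a ha => by
        obtain ⟨g, rfl⟩ := QuotientGroup.mk_surjective n
        obtain ⟨x, hx, rfl⟩ := hu
        obtain ⟨s, hs, rfl⟩ := ha
        have hgS := hlift g hnT
        have hgz : ∀ w ∈ R ⊓ A, g * w * g⁻¹ = w := fun w hw => by
          rw [← hZc w hw g, mul_inv_cancel_right]
        have hx1 : x ∉ R ⊓ A := fun e => hu1 ((QuotientGroup.eq_one_iff x).2 e)
        have hgx : x⁻¹ * (g * x * g⁻¹) ∈ R ⊓ A := by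
          refine (hqm x (g * x * g⁻¹)).1 ?_
          show (x : G ⧸ Z) = (g : G ⧸ Z) * x * (g : G ⧸ Z)⁻¹
          rw [show (g : G ⧸ Z) * x = x * g from mem_centralizer_singleton_iff.1 hn]
          exact (mul_inv_cancel_right _ _).symm
        obtain ⟨hR, hA⟩ := h.norm_fix_all hgS hgz hx hx1 hgx
        obtain ⟨r, hr, b, hb, rfl⟩ := h.exists_mul_eq hs
        have fix : ∀ y : G, y * y = 1 → g * y * g⁻¹ * y ∈ R ⊓ A →
            (g : G ⧸ Z) * y = (y : G ⧸ Z) * g := by
          intro y hy hym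
          have e1 : ((g * y * g⁻¹ * y : G) : G ⧸ Z) = 1 := (QuotientGroup.eq_one_iff _).2 hym
          have e2 : (y : G ⧸ Z) * y = 1 := by rw [← QuotientGroup.mk_mul, hy]; rfl
          calc (g : G ⧸ Z) * y = ((g * y * g⁻¹ * y : G) : G ⧸ Z) * (y : G ⧸ Z)⁻¹ * g := by
                simp only [QuotientGroup.mk_mul, QuotientGroup.mk_inv]; group
            _ = (y : G ⧸ Z) * g := by rw [e1, one_mul, inv_eq_of_mul_eq_one_right e2]
        show (g : G ⧸ Z) * ((r * b : G) : G ⧸ Z) = ((r * b : G) : G ⧸ Z) * g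
        rw [QuotientGroup.mk_mul, ← mul_assoc, fix r (h.R_sq r hr) (hR r hr), mul_assoc,
          fix b (h.A_sq b hb) (hA b hb), mul_assoc]) k hk
    exact ⟨o, ho, a, Subgroup.le_normalizer ha, e⟩
  · -- two classes
    obtain ⟨r, hr, hrA⟩ := h.exists_R_notMem_A
    obtain ⟨a, ha, haR⟩ := h.symm.exists_R_notMem_A
    have hne : ∀ y : G, y ∉ Z → (y : G ⧸ Z) ≠ 1 := fun y hy e =>
      hy ((QuotientGroup.eq_one_iff y).1 e)
    refine ⟨r, ⟨r, h.R_le hr, rfl⟩, a, ⟨a, h.A_le ha, rfl⟩, hne r (fun e => hrA e.2),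
      hne a (fun e => haR e.1), fun hc => ?_⟩
    obtain ⟨q, hq⟩ := isConj_iff.1 hc
    have hqT : T.map (MulAut.conj q).toMonoidHom ≤ centralizer ({(a : G ⧸ Z)} : Set (G ⧸ Z)) := by
      rintro _ ⟨b, hb, rfl⟩
      rw [mem_centralizer_singleton_iff]
      show q * b * q⁻¹ * (a : G ⧸ Z) = (a : G ⧸ Z) * (q * b * q⁻¹)
      rw [← hq]
      calc q * b * q⁻¹ * (q * (r : G ⧸ Z) * q⁻¹) = q * (b * r) * q⁻¹ := by group
        _ = q * ((r : G ⧸ Z) * b) * q⁻¹ := by rw [hTcomm b hb (r : G ⧸ Z) ⟨r, h.R_le hr, rfl⟩]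
        _ = q * (r : G ⧸ Z) * q⁻¹ * (q * b * q⁻¹) := by group
    obtain ⟨c, hc, hcT⟩ := exists_conj_into (hTp.map _) hqT (hTrel _ fun b hb =>
      mem_centralizer_singleton_iff.2 (hTcomm b hb _ ⟨a, h.A_le ha, rfl⟩))
    obtain ⟨g, hg⟩ := QuotientGroup.mk_surjective (c⁻¹ * q)
    have hgT : (g : G ⧸ Z) ∈ normalizer (T : Set (G ⧸ Z)) := by
      rw [hg]
      refine mem_normalizer_fintype fun b hb => ?_
      have := hcT _ ⟨b, hb, rfl⟩
      change c⁻¹ * (q * b * q⁻¹) * c ∈ T at this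
      rwa [show c⁻¹ * q * b * (c⁻¹ * q)⁻¹ = c⁻¹ * (q * b * q⁻¹) * c by group]
    have hga : ((g * r * g⁻¹ : G) : G ⧸ Z) = a := by
      show (g : G ⧸ Z) * r * (g : G ⧸ Z)⁻¹ = a
      rw [hg, conj_comp, hq, inv_inv, mul_assoc, ← mem_centralizer_singleton_iff.1 hc,
        inv_mul_cancel_left]
    have hgR : g * r * g⁻¹ ∈ R := (mem_normalizer_iff.1 (h.norm_S_le_R (hlift g hgT)) r).1 hr
    have := mul_mem hgR ((hqm _ _).1 hga).1
    rw [mul_inv_cancel_left] at this
    exact haR this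
  -- the core of the quotient is trivial
  set K := (Cfsg.oddCore (G ⧸ Z)).comap (QuotientGroup.mk' Z) with hK
  haveI : K.Normal := by rw [hK]; infer_instance
  have hZK : Z ≤ K := by rw [hK]; exact hker.ge.trans (ker_le_comap _ _)
  have hKrel : Odd (Z.relIndex K) := by
    have := Subgroup.relIndex_ker K (QuotientGroup.mk' Z)
    rw [hker, hK, map_comap_eq_self_of_surjective (QuotientGroup.mk'_surjective Z)] at this
    rw [hK, this]
    exact Cores.oddCore_odd
  have hKcore : core K = ⊥ := by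
    haveI : (core K).Normal := by
      rw [← normalizer_eq_top_iff, eq_top_iff]
      refine le_trans ?_ (normalizer_le_normalizer_core K)
      rw [normalizer_eq_top]
    exact le_bot_iff.1 ((Cores.le_oddCore (core_odd K)).trans hO.le)
  have hKZ : K ≤ Z := by
    intro k hk
    obtain ⟨o, ho, a, ha, rfl⟩ := burnside (h.R_isPGroup.to_le inf_le_left) hZK hKrel
      (fun n _ _ a ha => (hZc a ha n).symm) k hk
    rw [hKcore, mem_bot] at ho
    rw [ho, one_mul]; exact ha
  have hOq : Cfsg.oddCore (G ⧸ Z) = ⊥ := by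
    rw [← map_comap_eq_self_of_surjective (QuotientGroup.mk'_surjective Z) (Cfsg.oddCore (G ⧸ Z)),
      ← hK, ← le_bot_iff]
    refine (map_mono hKZ).trans ?_
    rw [QuotientGroup.map_mk'_self]
  rw [hOq, sup_bot_eq] at hmain
  rw [← hTcomap]
  exact hmain.comap _

end Cfsg.Agent.L34Type
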