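import Cfsg.Agent.Lib.Involutions.OrderFormula
import Cfsg.Agent.Lib.StronglyClosedFour.Basic

/-!
# Counting pairs of involutions

`one_class_count`: pairs from two classes whose middle involutions form one class.
`card_fibre`: the involutions in a coset of an odd subgroup.
`klein_pairs`: the pairs of involutions with product of odd order in a group with a four-group as
Sylow 2-subgroup and one class of involutions.
-/

set_option autoImplicit false
set_option linter.style.haveILetI false
set_option linter.unusedSectionVars false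

namespace Cfsg.Agent.L34Type.Count

open Subgroup Cfsg.Agent.Involutions
open Cfsg.Agent.StronglyClosedFour (core core_le core_odd le_normalizer_core burnside exists_conj_into
  exists_conj_into_involution eq_one_of_two_group odd_orderOf_of_mem)

universe u

variable {G : Type u} [Group G] [Finite G]

theorem orderOf_of_isConj {a u : G} (ha : orderOf a = 2) (h : IsConj a u) : orderOf u = 2 := by
  obtain ⟨g, rfl⟩ := isConj_iff.1 h
  rw [Basic.orderOf_conj, ha]

/-- Pairs from two classes whose middle involutions form one class. -/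
theorem one_class_count {x₁ x₂ y : G} (h₁ : orderOf x₁ = 2) (h₂ : orderOf x₂ = 2) (hy : orderOf y = 2)
    (hnc : ¬ IsConj x₁ x₂)
    (hmid : ∀ p q : G, IsConj x₁ p → IsConj x₂ q → IsConj y ((p * q) ^ (orderOf (p * q) / 2))) :
    Nat.card {u : G // IsConj x₁ u} * Nat.card {u : G // IsConj x₂ u} =
      Nat.card {u : G // IsConj y u} *
        Nat.card {p : G × G // IsConj x₁ p.1 ∧ IsConj x₂ p.2 ∧ y ∈ zpowers (p.1 * p.2)} := by
  classical
  have : Fintype G := Fintype.ofFinite G
  have e : {u : G // IsConj x₁ u} × {u : G // IsConj x₂ u} ≃ Σ v : {u : G // IsConj y u},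
      {p : G × G // IsConj x₁ p.1 ∧ IsConj x₂ p.2 ∧ v.1 ∈ zpowers (p.1 * p.2)} :=
    { toFun := fun p => ⟨⟨_, hmid p.1.1 p.2.1 p.1.2 p.2.2⟩, (p.1.1, p.2.1), p.1.2, p.2.2,
        pow_mem (mem_zpowers _) _⟩
      invFun := fun s => (⟨s.2.1.1, s.2.2.1⟩, ⟨s.2.1.2, s.2.2.2.1⟩)
      left_inv := fun p => rfl
      right_inv := by
        rintro ⟨⟨v, hv⟩, ⟨p, q⟩, hp, hq, hvm⟩
        have := OrderFormula.eq_middle (orderOf_of_isConj hy hv) hvm
        subst this
        rfl }
  rw [← Nat.card_prod, Nat.card_congr e, Nat.card_sigma,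
    Finset.sum_congr rfl fun v _ => OrderFormula.fibre_card x₁ x₂ y v.1 v.2, Finset.sum_const,
    Finset.card_univ, smul_eq_mul, Nat.card_eq_fintype_card (α := {u : G // IsConj y u})]

/-- The involutions in the coset of an element of order two modulo an odd subgroup which it
normalises. -/
theorem card_fibre {Q : Subgroup G} (hQ : Odd (Nat.card Q)) {t : G} (ht : t * t = 1)
    (htQ : t ∈ normalizer (Q : Set G)) :
    Nat.card {u : G // u * u = 1 ∧ u * t ∈ Q} = (centralizer ({t} : Set G) ⊓ Q).relIndex Q := by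
  set L := (centralizer ({t} : Set G) ⊓ Q).subgroupOf Q with hL
  have ht' : t⁻¹ = t := inv_eq_of_mul_eq_one_right ht
  let f : Q ⧸ L → {u : G // u * u = 1 ∧ u * t ∈ Q} := fun c =>
    ⟨(c.out : G) * t * (c.out : G)⁻¹,
      by rw [show (c.out : G) * t * (c.out : G)⁻¹ * ((c.out : G) * t * (c.out : G)⁻¹) =
        (c.out : G) * (t * t) * (c.out : G)⁻¹ by group, ht, mul_one, mul_inv_cancel],
      by
        have := mul_mem c.out.2 ((mem_normalizer_iff.1 htQ _).1 (inv_mem c.out.2))
        rwa [ht', show (c.out : G) * (t * (c.out : G)⁻¹ * t) = (c.out : G) * t * (c.out : G)⁻¹ * t by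
          group] at this⟩
  have hbij : Function.Bijective f := by
    constructor
    · intro c d e
      have e' : (c.out : G) * t * (c.out : G)⁻¹ = (d.out : G) * t * (d.out : G)⁻¹ :=
        congrArg Subtype.val e
      rw [← c.out_eq, ← d.out_eq]
      refine QuotientGroup.eq.2 (mem_subgroupOf.2 ?_)
      rw [Subgroup.coe_mul, Subgroup.coe_inv]
      refine mem_inf.2 ⟨mem_centralizer_singleton_iff.2 ?_, mul_mem (inv_mem c.out.2) d.out.2⟩
      calc (c.out : G)⁻¹ * (d.out : G) * t
          = (c.out : G)⁻¹ * ((d.out : G) * t * (d.out : G)⁻¹) * (d.out : G) := by group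
        _ = t * ((c.out : G)⁻¹ * (d.out : G)) := by rw [← e']; group
    · rintro ⟨u, hu2, hut⟩
      obtain ⟨j, hj⟩ := odd_orderOf_of_mem hQ hut
      set p := u * t with hp
      set q := p ^ (j + 1) with hq
      have hu : u = p * t := by rw [hp, mul_assoc, ht, mul_one]
      have hpi : t * p * t⁻¹ = p⁻¹ := by
        have hu' : u⁻¹ = u := inv_eq_of_mul_eq_one_right hu2
        rw [hp, mul_inv_rev, ht', hu', show t * (u * t) * t = t * u * (t * t) by group, ht, mul_one]
      have hqq : q * q = p := by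
        rw [hq, ← pow_add, show j + 1 + (j + 1) = orderOf p + 1 by omega, pow_succ, pow_orderOf_eq_one,
          one_mul]
      have hqt : t * q * t⁻¹ = q⁻¹ := by
        rw [hq, ← conj_pow, hpi, inv_pow]
      have hqQ : q ∈ Q := pow_mem hut _
      refine ⟨QuotientGroup.mk ⟨q, hqQ⟩, Subtype.ext ?_⟩
      have hmem := mem_subgroupOf.1 (QuotientGroup.eq.1
        (QuotientGroup.mk (s := L) (⟨q, hqQ⟩ : Q)).out_eq)
      rw [Subgroup.coe_mul, Subgroup.coe_inv] at hmem
      have hc := mem_centralizer_singleton_iff.1 (mem_inf.1 hmem).1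
      show ((QuotientGroup.mk (s := L) (⟨q, hqQ⟩ : Q)).out : G) * t * _ = u
      generalize ((QuotientGroup.mk (s := L) (⟨q, hqQ⟩ : Q)).out : G) = d at hc ⊢
      have hqtq : q * t * q⁻¹ = u := by
        calc q * t * q⁻¹ = q * (t * q⁻¹ * t⁻¹) * t := by group
          _ = q * (t * q * t⁻¹)⁻¹ * t := by group
          _ = u := by rw [hqt, inv_inv, hqq, hu]
      calc d * t * d⁻¹ = d * (t * (d⁻¹ * q)) * q⁻¹ := by group
        _ = d * ((d⁻¹ * q) * t) * q⁻¹ := by rw [hc]
        _ = u := by rw [← hqtq]; group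
  rw [← Nat.card_congr (Equiv.ofBijective f hbij)]
  rfl

/-- The order of a subgroup which is the product of two subgroups meeting trivially. -/
theorem card_of_split {Q Z K : Subgroup G} (hQ : Q ≤ K) (hZ : Z ≤ K)
    (hd : ∀ x ∈ Q, x ∈ Z → x = 1) (hK : ∀ k ∈ K, ∃ o ∈ Q, ∃ w ∈ Z, k = o * w) :
    Nat.card K = Nat.card Q * Nat.card Z := by
  rw [← Nat.card_prod]
  let f : Q × Z → K := fun p => ⟨(p.1 : G) * (p.2 : G), mul_mem (hQ p.1.2) (hZ p.2.2)⟩
  refine (Nat.card_congr (Equiv.ofBijective f ⟨?_, ?_⟩)).symm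
  · rintro ⟨o, w⟩ ⟨o', w'⟩ e
    have e' : (o : G) * w = o' * w' := congrArg Subtype.val e
    have h1 : (o' : G)⁻¹ * o = w' * (w : G)⁻¹ := by
      rw [eq_mul_inv_iff_mul_eq, mul_assoc, e', inv_mul_cancel_left]
    have h2 := hd _ (mul_mem (inv_mem o'.2) o.2) (h1 ▸ mul_mem w'.2 (inv_mem w.2))
    have h3 : (o : G) = o' := (inv_mul_eq_one.1 h2).symm
    rw [h3] at e'
    exact Prod.ext (Subtype.ext h3) (Subtype.ext (mul_left_cancel e'))
  · rintro ⟨k, hk⟩
    obtain ⟨o, ho, w, hw, rfl⟩ := hK k hk
    exact ⟨(⟨o, ho⟩, ⟨w, hw⟩), rfl⟩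

section Klein

variable {Z : Subgroup G} (hZ4 : Nat.card Z = 4) (hsq : ∀ x ∈ Z, x * x = 1) (hodd : Odd Z.index)
include hZ4 hsq hodd

theorem klein_comm {a b : G} (ha : a ∈ Z) (hb : b ∈ Z) : a * b = b * a := by
  calc a * b = (a * b)⁻¹ := (inv_eq_of_mul_eq_one_right (hsq _ (mul_mem ha hb))).symm
    _ = b * a := by
      rw [mul_inv_rev, inv_eq_of_mul_eq_one_right (hsq a ha), inv_eq_of_mul_eq_one_right (hsq b hb)]

theorem klein_le_cent {z : G} (hz : z ∈ Z) : Z ≤ centralizer ({z} : Set G) := fun a ha =>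
  mem_centralizer_singleton_iff.2 (klein_comm hZ4 hsq hodd ha hz)

theorem klein_isPGroup : IsPGroup 2 Z := fun x => ⟨1, Subtype.ext (by
  show (x : G) ^ 2 ^ 1 = 1
  rw [pow_one, pow_two]
  exact hsq x x.2)⟩

theorem klein_cases {u v w : G} (hu : u ∈ Z) (hv : v ∈ Z) (hw : w ∈ Z) (hu1 : u ≠ 1) (hv1 : v ≠ 1)
    (huv : u ≠ v) : w = 1 ∨ w = u ∨ w = v ∨ w = u * v := by
  by_contra hne
  push Not at hne
  obtain ⟨h1, h2, h3, h4⟩ := hne
  classical
  have h5 : u * v ≠ 1 := fun e => huv (by
    rw [eq_inv_of_mul_eq_one_left e, inv_eq_of_mul_eq_one_right (hsq v hv)])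
  have hfive : ({1, u, v, u * v, w} : Finset G).card = 5 := by
    simp [hu1.symm, hv1.symm, h5.symm, h1.symm, h2.symm, h3.symm, h4.symm, huv, hu1, hv1]
  have hsub : (({1, u, v, u * v, w} : Finset G) : Set G) ⊆ (Z : Set G) := by
    intro y hy
    simp only [Finset.coe_insert, Finset.coe_singleton, Set.mem_insert_iff,
      Set.mem_singleton_iff] at hy
    rcases hy with rfl | rfl | rfl | rfl | rfl <;>
      first | exact one_mem _ | exact mul_mem hu hv | assumption
  have hcard := Set.ncard_le_ncard hsub (Set.toFinite _)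
  rw [Set.ncard_coe_finset, hfive, ← Nat.card_coe_set_eq, SetLike.coe_sort_coe, hZ4] at hcard
  omega

/-- Centralisers of involutions of `Z` are covered by their cores and `Z`. -/
theorem klein_cent {z : G} (hz : z ∈ Z) (hz1 : z ≠ 1) :
    ∀ k ∈ centralizer ({z} : Set G), ∃ o ∈ core (centralizer ({z} : Set G)), ∃ w ∈ Z, k = o * w := by
  haveI : Fact (Nat.Prime 2) := ⟨Nat.prime_two⟩
  have hrel : ∀ K : Subgroup G, Z ≤ K → Odd (Z.relIndex K) :=
    fun K hK => hodd.of_dvd_nat (relIndex_dvd_index_of_le hK)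
  refine burnside (klein_isPGroup hZ4 hsq hodd) (klein_le_cent hZ4 hsq hodd hz)
    (hrel _ (klein_le_cent hZ4 hsq hodd hz)) fun n hn hnZ a ha => ?_
  -- an odd power of `n` centralises `Z`
  set D := centralizer (Z : Set G) with hD
  set N := normalizer (Z : Set G) with hN
  have hDN : D ≤ N := fun d hd => mem_normalizer_fintype fun x hx => by
    rw [← mem_centralizer_iff.1 hd x hx, mul_inv_cancel_right]; exact hx
  have hZD : Z ≤ D := fun x hx => mem_centralizer_iff.2 fun y hy => klein_comm hZ4 hsq hodd hy hx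
  haveI : (D.subgroupOf N).Normal := normal_subgroupOf_of_le_normalizer fun g hg =>
    mem_normalizer_fintype fun y hy => by
      refine mem_centralizer_iff.2 fun x hx => ?_
      calc x * (g * y * g⁻¹) = g * ((g⁻¹ * x * g) * y) * g⁻¹ := by group
        _ = g * (y * (g⁻¹ * x * g)) * g⁻¹ := by
          rw [mem_centralizer_iff.1 hy _ ((mem_normalizer_iff''.1 hg x).1 hx)]
        _ = g * y * g⁻¹ * x := by group
  obtain ⟨m, hm⟩ := hodd.of_dvd_nat
    ((Dvd.intro_left _ (relIndex_mul_relIndex Z D N hZD hDN)).trans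
      (relIndex_dvd_index_of_le Subgroup.le_normalizer))
  have hpow := Subgroup.pow_index_mem (D.subgroupOf N) ⟨n, hnZ⟩
  rw [show (D.subgroupOf N).index = 2 * m + 1 from hm, mem_subgroupOf] at hpow
  have hpow' : n ^ (2 * m + 1) ∈ D := hpow
  by_contra hne
  have hnz : n * z * n⁻¹ = z := by
    rw [mem_centralizer_singleton_iff.1 hn, mul_inv_cancel_right]
  have ha1 : a ≠ 1 := fun e => hne (by rw [e, mul_one, one_mul])
  have haz : a ≠ z := fun e => hne (by rw [e]; exact mem_centralizer_singleton_iff.1 hn)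
  have hna : n * a * n⁻¹ = z * a := by
    rcases klein_cases hZ4 hsq hodd hz ha ((mem_normalizer_iff.1 hnZ a).1 ha) hz1 ha1 haz.symm with
      e | e | e | e
    · exact absurd (conj_eq_one_iff.1 e) ha1
    · exact absurd ((MulAut.conj n).injective (e.trans hnz.symm)) haz
    · exact absurd (mul_inv_eq_iff_eq_mul.1 e) hne
    · exact e
  have h2 : ∀ i : ℕ, (n ^ 2) ^ i * a * ((n ^ 2) ^ i)⁻¹ = a := fun i => by
    induction i with
    | zero => simp
    | succ i ih =>
      rw [pow_succ, show (n ^ 2) ^ i * n ^ 2 * a * ((n ^ 2) ^ i * n ^ 2)⁻¹ =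
        (n ^ 2) ^ i * (n * (n * a * n⁻¹) * n⁻¹) * ((n ^ 2) ^ i)⁻¹ by rw [pow_two]; group, hna,
        show n * (z * a) * n⁻¹ = n * z * n⁻¹ * (n * a * n⁻¹) by group, hnz, hna,
        ← mul_assoc z z a, hsq z hz, one_mul, ih]
  rw [pow_succ', pow_mul] at hpow'
  have h3 : n * (n ^ 2) ^ m * a * (n * (n ^ 2) ^ m)⁻¹ = a := by
    rw [← mem_centralizer_iff.1 hpow' a ha, mul_inv_cancel_right]
  rw [show n * (n ^ 2) ^ m * a * (n * (n ^ 2) ^ m)⁻¹ =
    n * ((n ^ 2) ^ m * a * ((n ^ 2) ^ m)⁻¹) * n⁻¹ by group, h2, hna] at h3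
  exact hz1 (mul_eq_right.1 h3)

theorem klein_fibre {z w : G} (hz : z ∈ Z) (hz1 : z ≠ 1) (hw : w ∈ Z) (hw1 : w ≠ 1) (hwz : w ≠ z) :
    Nat.card {u : G // u * u = 1 ∧ u * w ∈ core (centralizer ({z} : Set G))} =
      (centralizer (Z : Set G)).relIndex (centralizer ({z} : Set G)) := by
  set C := centralizer ({z} : Set G) with hC
  set Q := core C with hQ
  have hZC : Z ≤ C := klein_le_cent hZ4 hsq hodd hz
  rw [card_fibre (core_odd C) (hsq w hw) (le_normalizer_core C (hZC hw))]
  have hdis : ∀ x ∈ Q, x ∈ Z → x = 1 := fun x hx hxZ =>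
    eq_one_of_two_group (core_odd C) (klein_isPGroup hZ4 hsq hodd) hx hxZ
  have h1 := card_of_split (core_le C) hZC hdis (klein_cent hZ4 hsq hodd hz hz1)
  have hDC : centralizer (Z : Set G) ≤ C := fun d hd =>
    mem_centralizer_singleton_iff.2 ((mem_centralizer_iff.1 hd) z hz).symm
  have h2 := card_of_split (Q := centralizer ({w} : Set G) ⊓ Q) (Z := Z)
    (K := centralizer (Z : Set G)) (fun o ho => by
      rw [mem_centralizer_iff]
      intro x hx
      have hoz : o * z = z * o := mem_centralizer_singleton_iff.1 (core_le C ho.2)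
      have how : o * w = w * o := mem_centralizer_singleton_iff.1 ho.1
      rcases klein_cases hZ4 hsq hodd hz hw hx hz1 hw1 hwz.symm with rfl | rfl | rfl | rfl
      · simp
      · exact hoz.symm
      · exact how.symm
      · rw [mul_assoc, ← how, ← mul_assoc, ← hoz, mul_assoc])
    (fun x hx => mem_centralizer_iff.2 fun y hy => klein_comm hZ4 hsq hodd hy hx)
    (fun x hx hxZ => hdis x hx.2 hxZ) (fun k hk => by
      obtain ⟨o, ho, v, hv, rfl⟩ := klein_cent hZ4 hsq hodd hz hz1 k (hDC hk)
      refine ⟨o, mem_inf.2 ⟨mem_centralizer_singleton_iff.2 ?_, ho⟩, v, hv, rfl⟩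
      have e := mem_centralizer_iff.1 hk w hw
      calc o * w = o * (v * w) * v⁻¹ := by rw [klein_comm hZ4 hsq hodd hv hw]; group
        _ = w * o := by rw [← mul_assoc o v w, ← e]; group)
  have h3 : Nat.card ↥(centralizer ({w} : Set G) ⊓ Q : Subgroup G) *
      (centralizer ({w} : Set G) ⊓ Q).relIndex Q = Nat.card Q := by
    rw [← relIndex_bot_left, ← relIndex_bot_left]
    exact relIndex_mul_relIndex _ _ _ bot_le inf_le_right
  have h4 : Nat.card (centralizer (Z : Set G)) * (centralizer (Z : Set G)).relIndex C =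
      Nat.card C := by
    rw [← relIndex_bot_left, ← relIndex_bot_left]
    exact relIndex_mul_relIndex _ _ _ bot_le hDC
  rw [h1, h2, hZ4, ← h3] at h4
  have hpos : 0 < Nat.card ↥(centralizer ({w} : Set G) ⊓ Q : Subgroup G) := Nat.card_pos
  refine (Nat.eq_of_mul_eq_mul_left hpos ?_).symm
  linarith [h4]

/-- A product of even order with an involution of `Z`, middle element in `Z`: the place of the
other involution. -/
theorem klein_middle {z w u : G} (hz : z ∈ Z) (hz1 : z ≠ 1) (hw : w ∈ Z) (hw1 : w ≠ 1)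
    (hu : orderOf u = 2) (hev : Even (orderOf (z * u)))
    (hmid : (z * u) ^ (orderOf (z * u) / 2) = w) :
    u * (z * w) ∈ core (centralizer ({w} : Set G)) := by
  set C := centralizer ({w} : Set G) with hC
  set Q := core C with hQ
  have hz2 : orderOf z = 2 := Basic.orderOf_two_iff.2 ⟨hsq z hz, hz1⟩
  have hw2 : orderOf w = 2 := Basic.orderOf_two_iff.2 ⟨hsq w hw, hw1⟩
  obtain ⟨-, -, hwu⟩ := Basic.middle_involution hz2 hu hev
  rw [hmid] at hwu
  have huC : u ∈ C := mem_centralizer_singleton_iff.2 hwu.eq.symm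
  have hZC : Z ≤ C := klein_le_cent hZ4 hsq hodd hw
  obtain ⟨o, ho, v, hv, rfl⟩ := klein_cent hZ4 hsq hodd hw hw1 u huC
  have hwQ : w ∉ Q := fun e => hw1
    (eq_one_of_two_group (core_odd C) (klein_isPGroup hZ4 hsq hodd) e hw)
  -- the quotient by the core
  haveI : (Q.subgroupOf C).Normal := normal_subgroupOf_of_le_normalizer (le_normalizer_core C)
  let q := QuotientGroup.mk' (Q.subgroupOf C)
  set d : C := ⟨z * (o * v), mul_mem (hZC hz) huC⟩ with hd
  have hdz : q d = q ⟨z * v, mul_mem (hZC hz) (hZC hv)⟩ := by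
    refine QuotientGroup.eq.2 (mem_subgroupOf.2 ?_)
    show (z * (o * v))⁻¹ * (z * v) ∈ Q
    rw [show (z * (o * v))⁻¹ * (z * v) = v⁻¹ * o⁻¹ * v by group]
    exact (mem_normalizer_iff''.1 (le_normalizer_core C (hZC hv)) _).1 (inv_mem ho)
  have hsq' : q d * q d = 1 := by
    rw [hdz, ← map_mul]
    exact (QuotientGroup.eq_one_iff _).2 (mem_subgroupOf.2 (by
      show z * v * (z * v) ∈ Q
      rw [hsq _ (mul_mem hz hv)]; exact one_mem Q))
  have hmid' : d ^ (orderOf (z * (o * v)) / 2) = ⟨w, hZC hw⟩ := Subtype.ext hmid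
  have hqw : q ⟨w, hZC hw⟩ ≠ 1 := fun e =>
    hwQ (mem_subgroupOf.1 ((QuotientGroup.eq_one_iff _).1 e))
  have hqd : q d = q ⟨w, hZC hw⟩ := by
    rw [← hmid', map_pow]
    rcases Nat.even_or_odd' (orderOf (z * (o * v)) / 2) with ⟨k, hk | hk⟩
    · exfalso
      refine hqw ?_
      rw [← hmid', map_pow, hk, pow_mul, pow_two, hsq', one_pow]
    · rw [hk, pow_succ, pow_mul, pow_two, hsq', one_pow, one_mul]
  have hzvw : z * v = w := by
    have h1 := mem_subgroupOf.1 (QuotientGroup.eq.1 (hdz.symm.trans hqd))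
    exact inv_mul_eq_one.1 (eq_one_of_two_group (core_odd C) (klein_isPGroup hZ4 hsq hodd) h1
      (mul_mem (inv_mem (mul_mem hz hv)) hw))
  rw [← hzvw, ← mul_assoc z, hsq z hz, one_mul, mul_assoc, hsq v hv, mul_one]
  exact ho

/-- Most pairs of involutions have product of odd order. -/
theorem klein_pairs (hone : ∀ s t : G, orderOf s = 2 → orderOf t = 2 → IsConj s t) {z : G}
    (hz : z ∈ Z) (hz1 : z ≠ 1) :
    (centralizer ({z} : Set G)).index * (centralizer ({z} : Set G)).index ≤
      Nat.card {p : G × G // orderOf p.1 = 2 ∧ orderOf p.2 = 2 ∧ Odd (orderOf (p.1 * p.2))} +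
        (centralizer ({z} : Set G)).index *
          (2 * ((centralizer (Z : Set G)).relIndex (centralizer ({z} : Set G))) ^ 2) := by
  classical
  haveI := Fintype.ofFinite G
  set C := centralizer ({z} : Set G) with hC
  set δ := (centralizer (Z : Set G)).relIndex C with hδ
  have hz2 : orderOf z = 2 := Basic.orderOf_two_iff.2 ⟨hsq z hz, hz1⟩
  set I := Finset.univ.filter fun u : G => orderOf u = 2 with hI
  have hIcard : I.card = C.index := by
    have h1 := OrderFormula.class_card_mul z
    have h2 : Nat.card {u : G // IsConj z u} = I.card := by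
      rw [← Nat.card_eq_finsetCard]
      refine Nat.card_congr (Equiv.subtypeEquivRight fun u => ?_)
      simp only [hI, Finset.mem_filter, Finset.mem_univ, true_and]
      exact ⟨orderOf_of_isConj hz2, hone z u hz2⟩
    rw [h2, ← hC, ← C.index_mul_card] at h1
    exact Nat.eq_of_mul_eq_mul_right Nat.card_pos h1
  -- the involutions with even product with `z`
  set E := fun v : G => I.filter fun u => Even (orderOf (v * u)) with hE
  have hEz : (E z).card ≤ 2 * δ ^ 2 := by
    -- the candidates for the middle involution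
    set W := Finset.univ.filter fun w : G => ∃ w₀ ∈ Z, w₀ ≠ 1 ∧ w₀ ≠ z ∧ w * w = 1 ∧
      w * w₀ ∈ core C with hW
    have hWc : W.card ≤ 2 * δ := by
      obtain ⟨a, ha, ha1, haz⟩ : ∃ a ∈ Z, a ≠ 1 ∧ a ≠ z := by
        by_contra hne
        push Not at hne
        have hsub : (Z : Set G) ⊆ {1, z} := fun y hy => by
          rcases eq_or_ne y 1 with e | e
          · exact Or.inl e
          · exact Or.inr (hne y hy e)
        have h4 := Set.ncard_le_ncard hsub (Set.toFinite _)
        rw [← Nat.card_coe_set_eq, SetLike.coe_sort_coe, hZ4] at h4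
        have := Set.ncard_pair hz1.symm
        omega
      have hza1 : z * a ≠ 1 := fun e => haz (by
        rw [← inv_eq_of_mul_eq_one_right e, inv_eq_of_mul_eq_one_right (hsq z hz)])
      have hzaz : z * a ≠ z := fun e => ha1 (mul_eq_left.1 e)
      set F := fun b : G => Finset.univ.filter fun w : G => w * w = 1 ∧ w * b ∈ core C
      have hsub : W ⊆ F a ∪ F (z * a) := by
        intro w hw
        simp only [hW, Finset.mem_filter, Finset.mem_univ, true_and] at hw
        obtain ⟨b, hb, hb1, hbz, hw2, hwb⟩ := hw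
        rcases klein_cases hZ4 hsq hodd hz ha hb hz1 ha1 haz.symm with rfl | rfl | rfl | rfl
        · exact absurd rfl hb1
        · exact absurd rfl hbz
        · exact Finset.mem_union_left _ (by simp [F, hw2, hwb])
        · exact Finset.mem_union_right _ (by simp [F, hw2, hwb])
      have hF : ∀ b ∈ Z, b ≠ 1 → b ≠ z → (F b).card = δ := fun b hb hb1 hbz => by
        rw [hδ, ← klein_fibre hZ4 hsq hodd hz hz1 hb hb1 hbz, ← Nat.card_eq_finsetCard]
        exact Nat.card_congr (Equiv.subtypeEquivRight fun u => by simp [F, hC])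
      refine (Finset.card_le_card hsub).trans ((Finset.card_union_le _ _).trans ?_)
      rw [hF a ha ha1 haz, hF _ (mul_mem hz ha) hza1 hzaz, two_mul]
    set B := fun w : G => (E z).filter fun u => (z * u) ^ (orderOf (z * u) / 2) = w with hB
    have hBc : ∀ w ∈ W, (B w).card ≤ δ := by
      intro w hw
      simp only [hW, Finset.mem_filter, Finset.mem_univ, true_and] at hw
      obtain ⟨b, hb, hb1, hbz, hw2, hwb⟩ := hw
      have hQn := le_normalizer_core C (klein_le_cent hZ4 hsq hodd hz hb)
      -- move the middle involution into `Z`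
      obtain ⟨o, ho, hob⟩ : ∃ o ∈ core C, o⁻¹ * w * o = b := by
        have hle : core C ≤ core C ⊔ Z := le_sup_left
        have hwK : w ∈ core C ⊔ zpowers b := by
          have := mul_mem (mem_sup_left (T := zpowers b) hwb) (mem_sup_right (mem_zpowers b))
          rwa [mul_assoc, hsq b hb, mul_one] at this
        have hbn : zpowers b ≤ normalizer (core C : Set G) := zpowers_le.2 hQn
        haveI hbnorm : ((core C).subgroupOf (core C ⊔ zpowers b)).Normal :=
          normal_subgroupOf_of_le_normalizer (sup_le Subgroup.le_normalizer hbn)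
        have hcard := card_fibre (core_odd C) (hsq b hb) hQn
        set p := w * b with hp
        obtain ⟨j, hj⟩ := odd_orderOf_of_mem (core_odd C) hwb
        set q := p ^ (j + 1) with hq
        have hwp : w = p * b := by rw [hp, mul_assoc, hsq b hb, mul_one]
        have hb' : b⁻¹ = b := inv_eq_of_mul_eq_one_right (hsq b hb)
        have hpi : b * p * b⁻¹ = p⁻¹ := by
          have hw' : w⁻¹ = w := inv_eq_of_mul_eq_one_right hw2
          rw [hp, mul_inv_rev, hb', hw', show b * (w * b) * b = b * w * (b * b) by group, hsq b hb,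
            mul_one]
        have hqq : q * q = p := by
          rw [hq, ← pow_add, show j + 1 + (j + 1) = orderOf p + 1 by omega, pow_succ,
            pow_orderOf_eq_one, one_mul]
        have hqb : b * q * b⁻¹ = q⁻¹ := by rw [hq, ← conj_pow, hpi, inv_pow]
        refine ⟨q, pow_mem hwb _, ?_⟩
        have e : q * b * q⁻¹ = w := by
          calc q * b * q⁻¹ = q * (b * q * b⁻¹)⁻¹ * b := by group
            _ = w := by rw [hqb, inv_inv, hqq, hwp]
        rw [← e]; group
      have hoz : o * z = z * o := mem_centralizer_singleton_iff.1 (core_le C ho)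
      have hbz1 : z * b ≠ 1 := fun e => hbz (by
        rw [← inv_eq_of_mul_eq_one_right e, inv_eq_of_mul_eq_one_right (hsq z hz)])
      have hzbb : z * b ≠ b := fun e => hz1 (mul_eq_right.1 e)
      have hδb : Nat.card {u : G // u * u = 1 ∧ u * (z * b) ∈ core (centralizer ({b} : Set G))} = δ := by
        rw [klein_fibre hZ4 hsq hodd hb hb1 (mul_mem hz hb) hbz1 hzbb, hδ]
        -- all centralisers of involutions of `Z` meet `C(Z)` with the same index
        obtain ⟨g, hg⟩ := isConj_iff.1 (hone z b hz2 (Basic.orderOf_two_iff.2 ⟨hsq b hb, hb1⟩))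
        obtain ⟨c, hc, hcZ⟩ := exists_conj_into (K := centralizer ({b} : Set G)) (T := Z)
          (B := Z.map (MulAut.conj g).toMonoidHom) ((klein_isPGroup hZ4 hsq hodd).map _) (by
            rintro _ ⟨x, hx, rfl⟩
            rw [mem_centralizer_singleton_iff]
            show g * x * g⁻¹ * b = b * (g * x * g⁻¹)
            rw [← hg]
            calc g * x * g⁻¹ * (g * z * g⁻¹) = g * (x * z) * g⁻¹ := by group
              _ = g * (z * x) * g⁻¹ := by rw [klein_comm hZ4 hsq hodd hx hz]
              _ = g * z * g⁻¹ * (g * x * g⁻¹) := by group)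
          (hodd.of_dvd_nat (relIndex_dvd_index_of_le (klein_le_cent hZ4 hsq hodd hb)))
        set n := c⁻¹ * g with hn
        have hnZ : ∀ x ∈ Z, n * x * n⁻¹ ∈ Z := fun x hx => by
          have := hcZ _ ⟨x, hx, rfl⟩
          change c⁻¹ * (g * x * g⁻¹) * c ∈ Z at this
          rwa [hn, show c⁻¹ * g * x * (c⁻¹ * g)⁻¹ = c⁻¹ * (g * x * g⁻¹) * c by group]
        have hnz : n * z * n⁻¹ = b := by
          rw [hn, show c⁻¹ * g * z * (c⁻¹ * g)⁻¹ = c⁻¹ * (g * z * g⁻¹) * c by group, hg, mul_assoc,
            ← mem_centralizer_singleton_iff.1 hc, inv_mul_cancel_left]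
        have hnN : n ∈ normalizer (Z : Set G) := mem_normalizer_fintype hnZ
        have hm1 : (centralizer ({z} : Set G)).map (MulAut.conj n).toMonoidHom =
            centralizer ({b} : Set G) := by
          ext y
          rw [Transfer.Fusion.mem_map_conj, mem_centralizer_singleton_iff, mem_centralizer_singleton_iff,
            ← hnz]
          constructor
          · intro e
            calc y * (n * z * n⁻¹) = n * (n⁻¹ * y * n * z) * n⁻¹ := by group
              _ = n * z * n⁻¹ * y := by rw [e]; group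
          · intro e
            calc n⁻¹ * y * n * z = n⁻¹ * (y * (n * z * n⁻¹)) * n := by group
              _ = z * (n⁻¹ * y * n) := by rw [e]; group
        have hm2 : (centralizer (Z : Set G)).map (MulAut.conj n).toMonoidHom =
            centralizer (Z : Set G) := by
          ext y
          rw [Transfer.Fusion.mem_map_conj, mem_centralizer_iff, mem_centralizer_iff]
          constructor
          · intro e x hx
            have e' := e _ ((mem_normalizer_iff''.1 hnN x).1 hx)
            calc x * y = n * ((n⁻¹ * x * n) * (n⁻¹ * y * n)) * n⁻¹ := by group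
              _ = y * x := by rw [e']; group
          · intro e x hx
            have e' := e _ ((mem_normalizer_iff.1 hnN x).1 hx)
            calc x * (n⁻¹ * y * n) = n⁻¹ * ((n * x * n⁻¹) * y) * n := by group
              _ = n⁻¹ * y * n * x := by rw [e']; group
        have hrel := relIndex_map_map_of_injective (centralizer (Z : Set G)) (centralizer ({z} : Set G))
          (f := (MulAut.conj n).toMonoidHom) (MulAut.conj n).injective
        rw [hm1, hm2] at hrel
        exact hrel
      have hmaps : Set.MapsTo (fun u => o⁻¹ * u * o) (B w : Set G)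
          {u : G | u * u = 1 ∧ u * (z * b) ∈ core (centralizer ({b} : Set G))} := by
        intro u hu
        simp only [hB, hE, hI, Finset.coe_filter, Finset.mem_filter, Finset.mem_univ, true_and,
          Set.mem_ofPred_eq] at hu
        obtain ⟨⟨hu2, hev⟩, hmid⟩ := hu
        have hu' : orderOf (o⁻¹ * u * o) = 2 := by
          rw [show o⁻¹ * u * o = o⁻¹ * u * o⁻¹⁻¹ by group, Basic.orderOf_conj, hu2]
        have hzu : z * (o⁻¹ * u * o) = o⁻¹ * (z * u) * o⁻¹⁻¹ := by
          calc z * (o⁻¹ * u * o) = o⁻¹ * (o * z) * o⁻¹ * u * o := by group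
            _ = o⁻¹ * (z * u) * o⁻¹⁻¹ := by rw [hoz]; group
        refine ⟨Basic.inv_sq_one hu', klein_middle hZ4 hsq hodd hz hz1 hb hb1 hu' ?_ ?_⟩
        · rw [hzu, Basic.orderOf_conj]; exact hev
        · rw [hzu, Basic.orderOf_conj, conj_pow, hmid, inv_inv, hob]
      have hinj : Set.InjOn (fun u => o⁻¹ * u * o) (B w : Set G) := fun u _ u' _ e => by
        simpa using e
      have := Set.ncard_le_ncard_of_injOn _ hmaps hinj (Set.toFinite _)
      rw [Set.ncard_coe_finset] at this
      refine this.trans (le_of_eq ?_)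
      rw [← Nat.card_coe_set_eq, ← hδb]
      rfl
    have hcov : E z ⊆ W.biUnion B := by
      intro u hu
      refine Finset.mem_biUnion.2 ⟨(z * u) ^ (orderOf (z * u) / 2), ?_, by simp [hB, hu]⟩
      simp only [hE, hI, Finset.mem_filter, Finset.mem_univ, true_and] at hu
      obtain ⟨hu2, hev⟩ := hu
      obtain ⟨hm2, hmz, hmu⟩ := Basic.middle_involution hz2 hu2 hev
      set w := (z * u) ^ (orderOf (z * u) / 2) with hw
      have hwC : w ∈ C := mem_centralizer_singleton_iff.2 hmz.eq
      obtain ⟨o, ho, b, hb, e⟩ := klein_cent hZ4 hsq hodd hz hz1 w hwC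
      have hww := Basic.inv_sq_one hm2
      have hwb : w * b ∈ core C := by rw [e, mul_assoc, hsq b hb, mul_one]; exact ho
      simp only [hW, Finset.mem_filter, Finset.mem_univ, true_and]
      refine ⟨b, hb, fun e1 => ?_, fun e1 => ?_, hww, hwb⟩
      · subst e1
        rw [e, mul_one] at hww hm2
        exact Basic.ne_one hm2 (StronglyClosedFour.eq_one_of_sq (odd_orderOf_of_mem (core_odd C) ho) hww)
      · subst e1
        -- then `w` is `b`, and `u` would be the product of `b` and its power
        have hoz : o * b = b * o := mem_centralizer_singleton_iff.1 (core_le C ho)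
        rw [e, show o * b * (o * b) = o * (b * o) * b by group, ← hoz,
          show o * (o * b) * b = o * o * (b * b) by group, hsq b hb, mul_one] at hww
        have ho1 := StronglyClosedFour.eq_one_of_sq (odd_orderOf_of_mem (core_odd C) ho) hww
        rw [ho1, one_mul] at e
        have hmem : b ∈ zpowers (b * u) := by
          have h1 : w ∈ zpowers (b * u) := pow_mem (mem_zpowers _) _
          rwa [e] at h1
        exact Basic.notMem_zpowers_left hz2 hu2 (fun e2 => by
          rw [← e2, hsq b hb, orderOf_one] at hev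
          exact absurd hev (by decide)) hmem
    refine (Finset.card_le_card hcov).trans (Finset.card_biUnion_le.trans ?_)
    refine (Finset.sum_le_card_nsmul _ _ _ hBc).trans ?_
    rw [smul_eq_mul, pow_two, ← mul_assoc]
    exact Nat.mul_le_mul_right _ hWc
  -- every involution has as few
  have hEv : ∀ v ∈ I, (E v).card ≤ 2 * δ ^ 2 := by
    intro v hv
    simp only [hI, Finset.mem_filter, Finset.mem_univ, true_and] at hv
    obtain ⟨g, rfl⟩ := isConj_iff.1 (hone z v hz2 hv)
    refine le_trans (Finset.card_le_card_of_injOn (fun u => g⁻¹ * u * g) ?_ ?_) hEz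
    · intro u hu
      simp only [hE, hI, Finset.coe_filter, Finset.mem_filter, Finset.mem_univ, true_and,
        Set.mem_ofPred_eq] at hu ⊢
      refine ⟨by rw [show g⁻¹ * u * g = g⁻¹ * u * g⁻¹⁻¹ by group, Basic.orderOf_conj]; exact hu.1, ?_⟩
      rw [show z * (g⁻¹ * u * g) = g⁻¹ * (g * z * g⁻¹ * u) * g⁻¹⁻¹ by group, Basic.orderOf_conj]
      exact hu.2
    · intro u _ u' _ e
      simpa using e
  set P := (I ×ˢ I).filter fun p => Odd (orderOf (p.1 * p.2)) with hP
  have hPcard : Nat.card {p : G × G // orderOf p.1 = 2 ∧ orderOf p.2 = 2 ∧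
      Odd (orderOf (p.1 * p.2))} = P.card := by
    rw [← Nat.card_eq_finsetCard]
    exact Nat.card_congr (Equiv.subtypeEquivRight fun p => by simp [hP, hI, and_assoc])
  have hsplit : (I ×ˢ I).card = P.card + ((I ×ˢ I).filter fun p => ¬ Odd (orderOf (p.1 * p.2))).card :=
    (Finset.card_filter_add_card_filter_not _).symm
  have hrest : ((I ×ˢ I).filter fun p => ¬ Odd (orderOf (p.1 * p.2))).card ≤ I.card * (2 * δ ^ 2) := by
    have hsub : ((I ×ˢ I).filter fun p => ¬ Odd (orderOf (p.1 * p.2))) ⊆
        I.biUnion fun v => ({v} : Finset G) ×ˢ E v := by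
      rintro ⟨v, u⟩ hp
      simp only [Finset.mem_filter, Finset.mem_product, Nat.not_odd_iff_even] at hp
      simp only [Finset.mem_biUnion, Finset.mem_product, Finset.mem_singleton, hE, Finset.mem_filter]
      exact ⟨v, hp.1.1, rfl, hp.1.2, hp.2⟩
    refine (Finset.card_le_card hsub).trans (Finset.card_biUnion_le.trans ?_)
    refine (Finset.sum_le_card_nsmul _ _ (2 * δ ^ 2) fun v hv => ?_).trans_eq (smul_eq_mul ..)
    rw [Finset.card_product, Finset.card_singleton, one_mul]
    exact hEv v hv
  rw [hPcard, ← hIcard, ← Finset.card_product, hsplit]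
  omega

end Klein

end Cfsg.Agent.L34Type.Count
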