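import Cfsg.Agent.Lib.L34Type.Central
import Cfsg.Agent.InvChar.Core

/-!
# Sylow 2-subgroups of type `L₃(4)`: centralisers of central involutions

`C(z) = O(C(z)) (N(S) ∩ C(z))` for `z` in `R ⊓ A`, and the same with `N(A)` for every involution of
`A` which `N(A)` carries into `R ⊓ A`.
-/

set_option autoImplicit false
set_option linter.style.haveILetI false
set_option linter.unusedSectionVars false

namespace Cfsg.Agent.L34Type

open Subgroup
open Cfsg.Agent.StronglyClosedFour (core core_le conj_mem_core)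

universe u v

theorem Shape.comap {H : Type v} {G : Type u} [Group H] [Group G] {S R A : Subgroup G}
    (h : Shape S R A) (f : H →* G) (hf : Function.Injective f) (hS : S ≤ f.range) :
    Shape (S.comap f) (R.comap f) (A.comap f) := by
  have hc : ∀ K : Subgroup G, K ≤ S → Nat.card (K.comap f) = Nat.card K := fun K hK => by
    rw [← Subgroup.card_map_of_injective hf, map_comap_eq_self (hK.trans hS)]
  have hinf : R.comap f ⊓ A.comap f = (R ⊓ A).comap f := (comap_inf R A f).symm
  have hone : ∀ x : H, x * x = 1 ↔ f x * f x = 1 := fun x => by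
    rw [← map_mul, map_eq_one_iff f hf]
  exact
    { card_S := (hc S le_rfl).trans h.card_S
      R_le := comap_mono h.R_le
      A_le := comap_mono h.A_le
      R_card := (hc R h.R_le).trans h.R_card
      A_card := (hc A h.A_le).trans h.A_card
      R_sq := fun x hx => (hone x).2 (h.R_sq _ hx)
      A_sq := fun x hx => (hone x).2 (h.A_sq _ hx)
      inf_card := by rw [hinf, hc _ (inf_le_left.trans h.R_le)]; exact h.inf_card
      involutions := fun x hx h2 => h.involutions _ hx ((hone x).1 h2)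
      sq := fun x hx => by
        rw [hinf, mem_comap, map_mul]
        exact h.sq _ hx
      central := fun z hz s hs => hf (by
        rw [map_mul, map_mul]
        exact h.central _ (by rw [hinf] at hz; exact hz) _ hs)
      cent_R := fun r hr hrA s hs e => h.cent_R _ hr hrA _ hs (by rw [← map_mul, e, map_mul])
      cent_A := fun r hr hrA s hs e => h.cent_A _ hr hrA _ hs (by rw [← map_mul, e, map_mul]) }

theorem Shape.map_injOn {H : Type v} {G : Type u} [Group H] [Group G] {S R A : Subgroup G}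
    (h : Shape S R A) (f : G →* H) (hf : ∀ x ∈ S, f x = 1 → x = 1) :
    Shape (S.map f) (R.map f) (A.map f) := by
  have hfi : Function.Injective (f.comp S.subtype) :=
    (injective_iff_map_eq_one _).2 fun x e => Subtype.ext (hf x x.2 e)
  have h2 := (h.comap S.subtype S.subtype_injective S.range_subtype.ge).map _ hfi
  have hK : ∀ K : Subgroup G, K ≤ S → (K.comap S.subtype).map (f.comp S.subtype) = K.map f :=
    fun K hK => by rw [← map_map, map_comap_eq_self (hK.trans S.range_subtype.ge)]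
  rwa [hK S le_rfl, hK R h.R_le, hK A h.A_le] at h2

/-- The Frattini argument, elementwise. -/
theorem frattini {H : Type u} [Group H] [Finite H] (P : Subgroup H) [P.Normal] (T : Sylow 2 H)
    (hT : (T : Subgroup H) ≤ P) (k : H) :
    ∃ p ∈ P, p * k ∈ normalizer ((T : Subgroup H) : Set H) := by
  haveI : Fact (Nat.Prime 2) := ⟨Nat.prime_two⟩
  have hle : ((k • T : Sylow 2 H) : Subgroup H) ≤ P := by
    intro y hy
    rw [Sylow.coe_subgroup_smul] at hy
    obtain ⟨s, hs, rfl⟩ := hy
    exact Normal.conj_mem inferInstance s (hT hs) _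
  obtain ⟨p, hp⟩ := MulAction.exists_smul_eq P ((k • T).subtype hle) (T.subtype hT)
  have hp' : (p : H) • (k • T) = T := by
    simp_rw [Sylow.smul_subtype, Subgroup.smul_def] at hp
    exact Sylow.subtype_injective hp
  rw [smul_smul, Sylow.smul_eq_iff_mem_normalizer] at hp'
  exact ⟨p, p.2, hp'⟩

variable {G : Type u} [Group G] [Finite G] {S : Sylow 2 G} {R A : Subgroup G}

namespace Shape

variable (h : Shape (S : Subgroup G) R A)
include h

/-- `C(z) = O(C(z)) (N(S) ∩ C(z))`. -/
theorem cent_cover {z : G} (hz : z ∈ R ⊓ A) (hz1 : z ≠ 1) :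
    ∀ k ∈ centralizer ({z} : Set G), ∃ o ∈ core (centralizer ({z} : Set G)),
      ∃ n ∈ normalizer ((S : Subgroup G) : Set G) ⊓ centralizer ({z} : Set G), k = o * n := by
  haveI : Fact (Nat.Prime 2) := ⟨Nat.prime_two⟩
  set C := centralizer ({z} : Set G) with hC
  have hSC : (S : Subgroup G) ≤ C := h.le_centralizer_of_mem_inf hz
  set q := QuotientGroup.mk' (Cfsg.oddCore C) with hq
  have hsurj : Function.Surjective q := QuotientGroup.mk'_surjective _
  set T : Sylow 2 (C ⧸ Cfsg.oddCore C) := (S.subtype hSC).mapSurjective hsurj with hT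
  have hTS : (T : Subgroup (C ⧸ Cfsg.oddCore C)) = ((S : Subgroup G).comap C.subtype).map q := by
    rw [hT, Sylow.coe_mapSurjective]; rfl
  have hShape := (h.comap C.subtype C.subtype_injective (hSC.trans C.range_subtype.ge)).map_injOn q
    fun x hx e => StronglyClosedFour.eq_one_of_two_group (X := Cfsg.oddCore C)
      (T := (S : Subgroup G).comap C.subtype) Cores.oddCore_odd
      ((S.subtype hSC).2) ((QuotientGroup.eq_one_iff x).1 e) hx
  rw [← hTS] at hShape
  have hzC : z ∈ C := hSC (h.R_le hz.1)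
  have hnorm := normal_of_central hShape InvChar.Core.oddCore_quotient_oddCore_eq_bot
    (z := q ⟨z, hzC⟩)
    (mem_inf.2 ⟨⟨_, hz.1, rfl⟩, ⟨_, hz.2, rfl⟩⟩)
    (fun e => hz1 (congrArg Subtype.val (StronglyClosedFour.eq_one_of_two_group
      (X := Cfsg.oddCore C) (T := (S : Subgroup G).comap C.subtype) Cores.oddCore_odd
      ((S.subtype hSC).2) ((QuotientGroup.eq_one_iff _).1 e) (h.R_le hz.1))))
    (fun g => by
      obtain ⟨c, rfl⟩ := hsurj g
      rw [← map_mul, ← map_mul]
      exact congrArg q (Subtype.ext (mem_centralizer_singleton_iff.1 c.2)))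
  intro k hk
  -- Frattini in the preimage of the Sylow subgroup
  set P := (T : Subgroup (C ⧸ Cfsg.oddCore C)).comap q with hP
  haveI : P.Normal := by rw [hP]; exact hnorm.comap q
  have hSP : ((S.subtype hSC : Sylow 2 C) : Subgroup C) ≤ P := by
    rw [hP, hT, Sylow.coe_mapSurjective]
    exact le_comap_map _ _
  obtain ⟨p, hpP, hp'⟩ := frattini P (S.subtype hSC) hSP ⟨k, hk⟩
  have hpS : ∃ o ∈ Cfsg.oddCore C, ∃ s ∈ ((S.subtype hSC : Sylow 2 C) : Subgroup C),
      p = o * s := by
    rw [hP, hT, Sylow.coe_mapSurjective, comap_map_eq, QuotientGroup.ker_mk',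
      mem_sup_of_normal_right] at hpP
    obtain ⟨s, hs, o, ho, e⟩ := hpP
    exact ⟨s * o * s⁻¹, Normal.conj_mem inferInstance o ho s, s, hs, by rw [← e]; group⟩
  obtain ⟨o, ho, s, hs, hps⟩ := hpS
  set n := p * (⟨k, hk⟩ : C) with hn
  have hnS : (n : G) ∈ normalizer ((S : Subgroup G) : Set G) :=
    CIT.mem_normalizer_of_forall fun x hx => (mem_normalizer_iff.1 hp' ⟨x, hSC hx⟩).1 hx
  refine ⟨((s⁻¹ * o⁻¹ * s : C) : G), ⟨s⁻¹ * o⁻¹ * s, ?_, rfl⟩, ((s : G))⁻¹ * n,
    mem_inf.2 ⟨mul_mem (inv_mem (Subgroup.le_normalizer hs)) hnS,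
      mul_mem (inv_mem s.2) n.2⟩, ?_⟩
  · have := Normal.conj_mem (inferInstance : (Cfsg.oddCore C).Normal) _ (inv_mem ho) s⁻¹
    rwa [inv_inv] at this
  · rw [hn, hps]
    simp only [Subgroup.coe_mul, Subgroup.coe_inv]
    group

/-- The same in `N(A)`, for an involution of `A` which `N(A)` carries into `R ⊓ A`. -/
theorem cent_cover_A {a n : G} (hn : n ∈ normalizer (A : Set G)) (ha : n * a * n⁻¹ ∈ R ⊓ A)
    (ha1 : a ≠ 1) :
    ∀ k ∈ centralizer ({a} : Set G), ∃ o ∈ core (centralizer ({a} : Set G)),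
      ∃ m ∈ normalizer (A : Set G), k = o * m := by
  intro k hk
  have hmem : ∀ x : G, x ∈ centralizer ({a} : Set G) →
      n * x * n⁻¹ ∈ centralizer ({n * a * n⁻¹} : Set G) := fun x hx => by
    rw [mem_centralizer_singleton_iff] at hx ⊢
    calc n * x * n⁻¹ * (n * a * n⁻¹) = n * (x * a) * n⁻¹ := by group
      _ = n * (a * x) * n⁻¹ := by rw [hx]
      _ = n * a * n⁻¹ * (n * x * n⁻¹) := by group
  obtain ⟨o, ho, m, hm, e⟩ := h.cent_cover ha (fun e => ha1 (conj_eq_one_iff.1 e)) _ (hmem k hk)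
  refine ⟨n⁻¹ * o * n⁻¹⁻¹, conj_mem_core (fun x hx => ?_) (fun x hx => ?_) ho, n⁻¹ * m * n,
    mul_mem (mul_mem (inv_mem hn) (h.norm_S_le_A (mem_inf.1 hm).1)) hn, ?_⟩
  · rw [mem_centralizer_singleton_iff] at hx ⊢
    calc n⁻¹ * x * n⁻¹⁻¹ * a = n⁻¹ * (x * (n * a * n⁻¹)) * n := by group
      _ = n⁻¹ * ((n * a * n⁻¹) * x) * n := by rw [hx]
      _ = a * (n⁻¹ * x * n⁻¹⁻¹) := by group
  · rw [show n⁻¹⁻¹ * x * n⁻¹ = n * x * n⁻¹ by group]
    exact hmem x hx
  · calc k = n⁻¹ * (n * k * n⁻¹) * n := by group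
      _ = _ := by rw [e]; group

end Shape

end Cfsg.Agent.L34Type
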