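import Mathlib.GroupTheory.Index
import Mathlib.GroupTheory.OrderOfElement
import Mathlib.Algebra.Group.Subgroup.Finite
import Mathlib.Algebra.Module.ZMod
import Mathlib.LinearAlgebra.Span.Basic
import Mathlib.Tactic.Module
import Mathlib.Tactic.NoncommRing

/-!
# An invariant structure of an `F₄`-plane on a module of order 16

`V` has order 16 and exponent 2; a four-group of operators (the image of `S`) fixes exactly `Z`
and moves everything into `Z`. We build `Ω` with `Ω² + Ω + 1 = 0` commuting with the whole group: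
first with all conjugates of `S`, then averaged over the cosets of `S`.
-/

set_option autoImplicit false

namespace Cfsg.Agent.L34Type.Embed

universe u v

/-- The hypotheses on the action. -/
structure Action {G : Type u} [Group G] {V : Type v} [AddCommGroup V]
    (ρ : G →* AddMonoid.End V) (S : Subgroup G) (Z : AddSubgroup V) : Prop where
  two : ∀ x : V, x + x = 0
  card_V : Nat.card V = 16
  card_Z : Nat.card Z = 4
  odd_index : Odd S.index
  moved : ∀ g ∈ S, ∀ v, ρ g v + v ∈ Z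
  fixed : ∀ g ∈ S, ∀ z ∈ Z, ρ g z = z
  fixed_only : ∀ g ∈ S, ∀ v, ρ g v = v → v ∉ Z → ρ g = 1
  trans : ∀ v ∉ Z, ∀ z ∈ Z, ∃ g ∈ S, ρ g v = v + z
  mem_of : ∀ g, (∀ v, ρ g v + v ∈ Z) → (∀ z ∈ Z, ρ g z = z) → g ∈ S
  norm_mem : ∀ g, ρ (g * g) = 1 → (∀ s ∈ S, g * s * g⁻¹ ∈ S) → g ∈ S
  into : ∀ g, ρ (g * g) = 1 → ∃ x, x⁻¹ * g * x ∈ S

variable {G : Type u} [Group G] {V : Type v} [AddCommGroup V]
  {ρ : G →* AddMonoid.End V} {S : Subgroup G} {Z : AddSubgroup V}

theorem act_mul (ρ : G →* AddMonoid.End V) (g h : G) (v : V) : ρ (g * h) v = ρ g (ρ h v) := by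
  rw [map_mul]; rfl

theorem act_inv (ρ : G →* AddMonoid.End V) (g : G) (v : V) : ρ g⁻¹ (ρ g v) = v := by
  rw [← act_mul ρ, inv_mul_cancel, map_one]; rfl

theorem act_inv' (ρ : G →* AddMonoid.End V) (g : G) (v : V) : ρ g (ρ g⁻¹ v) = v := by
  rw [← act_mul ρ, mul_inv_cancel, map_one]; rfl

theorem act_inj (ρ : G →* AddMonoid.End V) (g : G) {v w : V} (e : ρ g v = ρ g w) : v = w := by
  rw [← act_inv ρ g v, e, act_inv]

/-- The conjugate of `Z` by `x`. -/
def Zc (ρ : G →* AddMonoid.End V) (Z : AddSubgroup V) (x : G) : AddSubgroup V :=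
  Z.comap (ρ x⁻¹)

theorem mem_Zc {x : G} {v : V} : v ∈ Zc ρ Z x ↔ ρ x⁻¹ v ∈ Z := Iff.rfl

theorem Zc_one : Zc ρ Z (1 : G) = Z := by
  ext v; rw [mem_Zc, inv_one, map_one]; rfl

theorem card_Zc (x : G) : Nat.card (Zc ρ Z x) = Nat.card Z :=
  Nat.card_congr
    { toFun := fun v => ⟨ρ x⁻¹ (v : V), v.2⟩
      invFun := fun z => ⟨ρ x (z : V), by rw [mem_Zc, act_inv]; exact z.2⟩
      left_inv := fun v => Subtype.ext (act_inv' ρ x _)
      right_inv := fun z => Subtype.ext (act_inv ρ x _) }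

/-- In a four-group two distinct non-zero elements and their sum are everything. -/
theorem four_cases (two : ∀ x : V, x + x = 0) {W : AddSubgroup V} (hW : Nat.card W = 4) {a b x : V}
    (ha : a ∈ W) (hb : b ∈ W) (ha0 : a ≠ 0) (hb0 : b ≠ 0) (hab : a ≠ b) (hx : x ∈ W) :
    x = 0 ∨ x = a ∨ x = b ∨ x = a + b := by
  classical
  haveI : Finite W := Nat.finite_of_card_ne_zero (by omega)
  have hab0 : a + b ≠ 0 := fun e => hab (by
    calc a = a + (b + b) := by rw [two, add_zero]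
      _ = b := by rw [← add_assoc, e, zero_add])
  have hc1 : a + b ≠ a := fun e => hb0 (by simpa using e)
  have hc2 : a + b ≠ b := fun e => ha0 (by simpa using e)
  by_contra hne
  push Not at hne
  obtain ⟨h0, h1, h2, h3⟩ := hne
  have hsub : ({0, a, b, a + b, x} : Set V) ⊆ (W : Set V) := by
    intro y hy
    rcases hy with rfl | rfl | rfl | rfl | rfl
    exacts [W.zero_mem, ha, hb, W.add_mem ha hb, hx]
  have hle := Set.ncard_le_ncard hsub (Set.toFinite _)
  rw [← Nat.card_coe_set_eq (W : Set V), SetLike.coe_sort_coe, hW,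
    Set.ncard_insert_of_notMem (by simp [ha0.symm, hb0.symm, hab0.symm, h0.symm]),
    Set.ncard_insert_of_notMem (by simp [hab, hc1.symm, h1.symm]),
    Set.ncard_insert_of_notMem (by simp [hc2.symm, h2.symm]),
    Set.ncard_insert_of_notMem (by simp [h3.symm]), Set.ncard_singleton] at hle
  omega

theorem odd_translate (two : ∀ x : V, x + x = 0) {f : AddMonoid.End V} {a z : V} (hz : f z = z)
    (ha : f a = a + z) {m : ℕ} (hm : Odd m) (h1 : f ^ m = 1) : z = 0 := by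
  obtain ⟨k, rfl⟩ := hm
  have h2 : ∀ k : ℕ, (f ^ (2 * k)) a = a := by
    intro k
    induction k with
    | zero => simp
    | succ k ih =>
      rw [show 2 * (k + 1) = 2 * k + 1 + 1 by omega, pow_succ, pow_succ]
      show (f ^ (2 * k)) (f (f a)) = a
      rw [ha, map_add, ha, hz, add_assoc, two, add_zero, ih]
  have h3 := DFunLike.congr_fun h1 a
  rw [pow_succ'] at h3
  have h3' : f ((f ^ (2 * k)) a) = a := h3
  rw [h2, ha] at h3'
  simpa using h3'

theorem commute_pow_of_involutions {U : Type*} [Group U] {a b : U} (ha : a * a = 1) (hb : b * b = 1)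
    {m : ℕ} (hm : (a * b) ^ m * (a * b) ^ m = 1) :
    a * (a * b) ^ m = (a * b) ^ m * a ∧ b * (a * b) ^ m = (a * b) ^ m * b := by
  have hai : a⁻¹ = a := inv_eq_of_mul_eq_one_right ha
  have hbi : b⁻¹ = b := inv_eq_of_mul_eq_one_right hb
  have hci : ((a * b) ^ m)⁻¹ = (a * b) ^ m := inv_eq_of_mul_eq_one_right hm
  have key : ∀ c : U, c * (a * b) * c⁻¹ = (a * b)⁻¹ → c * (a * b) ^ m = (a * b) ^ m * c := by
    intro c hc
    have h := conj_pow (i := m) (a := c) (b := a * b)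
    rw [hc, inv_pow, hci] at h
    exact (mul_inv_eq_iff_eq_mul.1 h.symm)
  refine ⟨key a ?_, key b ?_⟩
  · rw [mul_inv_rev, hbi, hai, ← mul_assoc a a b, ha, one_mul]
  · rw [mul_inv_rev, hbi, hai, ← mul_assoc b a b, mul_assoc (b * a), hb, mul_one]

namespace Action

variable (H : Action ρ S Z)
include H

theorem sq_of_mem {g : G} (hg : g ∈ S) : ρ (g * g) = 1 := by
  refine AddMonoidHom.ext fun v => ?_
  show ρ (g * g) v = v
  have h1 : ρ g v = (ρ g v + v) + v := by rw [add_assoc, H.two, add_zero]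
  rw [act_mul]
  conv_lhs => rw [h1]
  rw [map_add, H.fixed g hg _ (H.moved g hg v), add_comm (ρ g v) v, add_assoc, H.two, add_zero]

theorem sq_conj {g x : G} (hg : x⁻¹ * g * x ∈ S) : ρ (g * g) = 1 := by
  have h := H.sq_of_mem hg
  rw [show g * g = x * (x⁻¹ * g * x * (x⁻¹ * g * x)) * x⁻¹ by group, map_mul, map_mul, h, mul_one,
    ← map_mul, mul_inv_cancel, map_one]

theorem fixed_conj {g x : G} (hg : x⁻¹ * g * x ∈ S) {v : V} (hv : v ∈ Zc ρ Z x) : ρ g v = v := by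
  refine act_inj ρ x⁻¹ ?_
  have h := H.fixed _ hg _ (mem_Zc.1 hv)
  rw [← act_mul ρ, show x⁻¹ * g * x * x⁻¹ = x⁻¹ * g by group, act_mul] at h
  exact h

theorem moved_conj {g x : G} (hg : x⁻¹ * g * x ∈ S) (v : V) : ρ g v + v ∈ Zc ρ Z x := by
  have h := H.moved _ hg (ρ x⁻¹ v)
  rw [← act_mul ρ, show x⁻¹ * g * x * x⁻¹ = x⁻¹ * g by group, act_mul, ← map_add] at h
  exact h

theorem fixed_only_conj {g x : G} (hg : x⁻¹ * g * x ∈ S) {v : V} (hfix : ρ g v = v)
    (hv : v ∉ Zc ρ Z x) : ρ g = 1 := by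
  have h := H.fixed_only _ hg (ρ x⁻¹ v)
    (by rw [← act_mul ρ, show x⁻¹ * g * x * x⁻¹ = x⁻¹ * g by group, act_mul, hfix]) hv
  rw [show g = x * (x⁻¹ * g * x) * x⁻¹ by group, map_mul, map_mul, h, mul_one, ← map_mul,
    mul_inv_cancel, map_one]

theorem trans_conj (x : G) {v z : V} (hv : v ∉ Zc ρ Z x) (hz : z ∈ Zc ρ Z x) :
    ∃ g, x⁻¹ * g * x ∈ S ∧ ρ g v = v + z := by
  obtain ⟨g, hg, e⟩ := H.trans (ρ x⁻¹ v) hv (ρ x⁻¹ z) hz
  refine ⟨x * g * x⁻¹, by rwa [show x⁻¹ * (x * g * x⁻¹) * x = g by group], ?_⟩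
  rw [act_mul, act_mul, e, ← map_add, act_inv']

theorem mem_conj_of {g x : G} (h1 : ∀ v, ρ g v + v ∈ Zc ρ Z x)
    (h2 : ∀ v ∈ Zc ρ Z x, ρ g v = v) : x⁻¹ * g * x ∈ S := by
  refine H.mem_of _ (fun v => ?_) fun z hz => ?_
  · have h := h1 (ρ x v)
    rw [mem_Zc, map_add, act_inv] at h
    rwa [act_mul, act_mul]
  · rw [act_mul, act_mul, h2 _ (by rwa [mem_Zc, act_inv]), act_inv]

/-- Elements mapping `Zc x` to `Zc y` carry the one conjugate of `S` to the other. -/
theorem conj_mem_of_map {g h x y : G} (hmap : ∀ v, v ∈ Zc ρ Z x ↔ ρ h v ∈ Zc ρ Z y)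
    (hg : x⁻¹ * g * x ∈ S) : y⁻¹ * (h * g * h⁻¹) * y ∈ S := by
  refine H.mem_conj_of (fun v => ?_) fun v hv => ?_
  · have e : ρ (h * g * h⁻¹) v + v = ρ h (ρ g (ρ h⁻¹ v) + ρ h⁻¹ v) := by
      rw [map_add, act_inv', act_mul, act_mul]
    rw [e]
    exact (hmap _).1 (H.moved_conj hg _)
  · rw [act_mul, act_mul, H.fixed_conj hg ((hmap _).2 (by rwa [act_inv'])), act_inv']

variable [Finite G]

/-- An element of order two mod kernel stabilising `Zc x` fixes it. -/
theorem eq_Zc_of_stab {g x y : G} (hg : x⁻¹ * g * x ∈ S) (hne : ρ g ≠ 1)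
    (hst : ∀ v ∈ Zc ρ Z y, ρ g v ∈ Zc ρ Z y) : Zc ρ Z x = Zc ρ Z y := by
  have hsq := H.sq_conj hg
  have hiff : ∀ v, v ∈ Zc ρ Z y ↔ ρ g v ∈ Zc ρ Z y := fun v => ⟨hst v, fun hv => by
    have h2 := hst _ hv
    rwa [← act_mul ρ, hsq] at h2⟩
  have hgy : y⁻¹ * g * y ∈ S := by
    refine H.norm_mem _ ?_ fun s hs => ?_
    · rw [show y⁻¹ * g * y * (y⁻¹ * g * y) = y⁻¹ * (g * g) * y by group, map_mul, map_mul, hsq,
        mul_one, ← map_mul, inv_mul_cancel, map_one]
    · have h := H.conj_mem_of_map (g := y * s * y⁻¹) hiff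
        (by rwa [show y⁻¹ * (y * s * y⁻¹) * y = s by group])
      rwa [show y⁻¹ * g * y * s * (y⁻¹ * g * y)⁻¹ = y⁻¹ * (g * (y * s * y⁻¹) * g⁻¹) * y by group]
  refine le_antisymm (fun v hv => ?_) fun v hv => ?_
  · by_contra hn; exact hne (H.fixed_only_conj hgy (H.fixed_conj hg hv) hn)
  · by_contra hn; exact hne (H.fixed_only_conj hg (H.fixed_conj hgy hv) hn)

/-- Two involutions with different fixed planes have a product of odd order. -/
theorem odd_order {g h x y : G} (hg : x⁻¹ * g * x ∈ S) (hgne : ρ g ≠ 1) (hh : y⁻¹ * h * y ∈ S)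
    (hhne : ρ h ≠ 1) (hxy : Zc ρ Z x ≠ Zc ρ Z y) : ∃ m, Odd m ∧ ρ (g * h) ^ m = 1 := by
  set σ := ρ.toHomUnits with hσ
  have hval : ∀ a, ((σ a : (AddMonoid.End V)ˣ) : AddMonoid.End V) = ρ a := fun a => rfl
  rcases Nat.even_or_odd (orderOf (σ (g * h))) with ⟨m, hm⟩ | ho
  swap
  · refine ⟨_, ho, ?_⟩
    have := congrArg Units.val (pow_orderOf_eq_one (σ (g * h)))
    rwa [Units.val_pow_eq_pow_val, hval, Units.val_one] at this
  exfalso
  have hpos : 0 < orderOf (σ (g * h)) :=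
    (MonoidHom.isOfFinOrder σ (isOfFinOrder_of_finite (g * h))).orderOf_pos
  have h2 : σ (g * h) ^ m * σ (g * h) ^ m = 1 := by rw [← pow_add, ← hm, pow_orderOf_eq_one]
  have hne : σ (g * h) ^ m ≠ 1 := pow_ne_one_of_lt_orderOf (by omega) (by omega)
  obtain ⟨c1, c2⟩ := commute_pow_of_involutions (a := σ g) (b := σ h)
    (by rw [← map_mul]; exact Units.ext (H.sq_conj hg))
    (by rw [← map_mul]; exact Units.ext (H.sq_conj hh))
    (m := m) (by rw [← map_mul σ g h]; exact h2)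
  rw [← map_mul σ g h, ← map_pow, ← map_mul, ← map_mul] at c1 c2
  set c := (g * h) ^ m with hc
  have hcs : ρ (c * c) = 1 := by
    rw [← map_pow, ← map_mul] at h2
    exact congrArg Units.val h2
  have hcne : ρ c ≠ 1 := fun e => hne (by rw [← map_pow]; exact Units.ext e)
  obtain ⟨w, hw⟩ := H.into c hcs
  have key : ∀ a z, z⁻¹ * a * z ∈ S → ρ a ≠ 1 → ρ (a * c) = ρ (c * a) →
      Zc ρ Z z = Zc ρ Z w := fun a z ha hane hcomm => by
    refine H.eq_Zc_of_stab ha hane fun v hv => ?_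
    by_contra hn
    have e : ρ c (ρ a v) = ρ a v := by
      rw [← act_mul ρ, ← hcomm, act_mul, H.fixed_conj hw hv]
    exact hcne (H.fixed_only_conj hw e hn)
  exact hxy ((key g x hg hgne (congrArg Units.val c1)).trans
    (key h y hh hhne (congrArg Units.val c2)).symm)

/-- Different conjugates of `Z` meet trivially. -/
theorem Zc_inf {x y : G} (hxy : Zc ρ Z x ≠ Zc ρ Z y) {z : V} (hzx : z ∈ Zc ρ Z x)
    (hzy : z ∈ Zc ρ Z y) : z = 0 := by
  by_contra hz
  haveI : Finite V := Nat.finite_of_card_ne_zero (by rw [H.card_V]; omega)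
  have hex : ∀ a b : G, Zc ρ Z a ≠ Zc ρ Z b → ∃ v ∈ Zc ρ Z a, v ∉ Zc ρ Z b := fun a b hne => by
    by_contra hall
    push Not at hall
    exact hne (SetLike.coe_injective (Set.eq_of_subset_of_ncard_le hall
      (by rw [← Nat.card_coe_set_eq, ← Nat.card_coe_set_eq]
          exact le_of_eq ((card_Zc b).trans (card_Zc a).symm)) (Set.toFinite _)))
  obtain ⟨a, hax, hay⟩ := hex x y hxy
  obtain ⟨b, hby, hbx⟩ := hex y x (Ne.symm hxy)
  obtain ⟨g, hg, hgb⟩ := H.trans_conj x hbx hzx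
  obtain ⟨h, hh, hha⟩ := H.trans_conj y hay hzy
  have hgne : ρ g ≠ 1 := fun e => hz (by rw [e] at hgb; simpa using hgb.symm)
  have hhne : ρ h ≠ 1 := fun e => hz (by rw [e] at hha; simpa using hha.symm)
  obtain ⟨m, hm, hpow⟩ := H.odd_order hg hgne hh hhne hxy
  refine hz (odd_translate H.two (f := ρ (g * h)) (a := a) ?_ ?_ hm hpow)
  · rw [act_mul, H.fixed_conj hh hzy, H.fixed_conj hg hzx]
  · rw [act_mul, hha, map_add, H.fixed_conj hg hax, H.fixed_conj hg hzx]

end Action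

end Cfsg.Agent.L34Type.Embed
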