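import Cfsg.Agent.Lib.L34Type.EmbedOmega

/-!
# An invariant structure of an `F₄`-plane on a module of order 16, II
-/

set_option autoImplicit false

namespace Cfsg.Agent.L34Type.Embed

universe u v

variable {G : Type u} [Group G] {V : Type v} [AddCommGroup V]
  {ρ : G →* AddMonoid.End V} {S : Subgroup G} {Z : AddSubgroup V}

namespace Action

variable (H : Action ρ S Z)
include H

theorem finite_V : Finite V := Nat.finite_of_card_ne_zero (by rw [H.card_V]; omega)

theorem add_eq_iff {a b c : V} : a + b = c ↔ a = c + b :=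
  ⟨fun e => by rw [← e, add_assoc, H.two, add_zero], fun e => by rw [e, add_assoc, H.two, add_zero]⟩

/-- Two elements of `S` that agree outside `Z` agree. -/
theorem eq_of_agree {g h : G} (hg : g ∈ S) (hh : h ∈ S) {v : V} (hv : v ∉ Z)
    (e : ρ g v = ρ h v) : ρ g = ρ h := by
  have h1 := H.fixed_only (h⁻¹ * g) (S.mul_mem (S.inv_mem hh) hg) v
    (by rw [act_mul, e, act_inv]) hv
  rw [show g = h * (h⁻¹ * g) by group, map_mul, h1, mul_one]

theorem exists_two {W : AddSubgroup V} (hW : Nat.card W = 4) :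
    ∃ a ∈ W, ∃ b ∈ W, a ≠ 0 ∧ b ≠ 0 ∧ a ≠ b := by
  haveI := H.finite_V
  classical
  by_contra hne
  push Not at hne
  have hsub : ∃ a, (W : Set V) ⊆ {0, a} := by
    by_cases h0 : ∀ a ∈ W, a = 0
    · exact ⟨0, fun x hx => Or.inl (h0 x hx)⟩
    · push Not at h0
      obtain ⟨a, ha, ha0⟩ := h0
      refine ⟨a, fun x hx => ?_⟩
      by_cases hx0 : x = 0
      · exact Or.inl hx0
      · exact Or.inr (Set.mem_singleton_iff.2 (hne a ha x hx ha0 hx0).symm)
  obtain ⟨a, ha⟩ := hsub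
  have h := (Set.ncard_le_ncard ha (Set.toFinite _)).trans
    ((Set.ncard_insert_le 0 {a}).trans_eq (by rw [Set.ncard_singleton]))
  rw [← Nat.card_coe_set_eq, SetLike.coe_sort_coe, hW] at h
  omega

/-- Decomposition along a complement of `Z`. -/
theorem exists_decomp {W : AddSubgroup V} (hW : Nat.card W = 4) (hdis : ∀ x ∈ W, x ∈ Z → x = 0) :
    ∃ e : W × Z ≃+ V, ∀ p : W × Z, e p = (p.1 : V) + p.2 := by
  haveI := H.finite_V
  let f : W × Z →+ V := (W.subtype.comp (AddMonoidHom.fst W Z)) + Z.subtype.comp (AddMonoidHom.snd W Z)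
  have hinj : Function.Injective f := by
    refine (injective_iff_map_eq_zero f).2 fun p hp => ?_
    have e : (p.1 : V) = p.2 := (H.add_eq_iff.1 hp).trans (zero_add _)
    have h0 := hdis _ p.1.2 (e ▸ p.2.2)
    exact Prod.ext (Subtype.ext h0) (Subtype.ext (e.symm.trans h0))
  exact ⟨AddEquiv.ofBijective f ((Nat.bijective_iff_injective_and_card f).2
    ⟨hinj, by rw [Nat.card_prod, hW, H.card_Z, H.card_V]⟩), fun p => rfl⟩

theorem exists_complement : ∃ W : AddSubgroup V, Nat.card W = 4 ∧ ∀ x ∈ W, x ∈ Z → x = 0 := by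
  classical
  haveI := H.finite_V
  have hcV : (Set.univ : Set V).ncard = 16 := by rw [Set.ncard_univ, H.card_V]
  have hcZ : (Z : Set V).ncard = 4 := by rw [← Nat.card_coe_set_eq]; exact H.card_Z
  obtain ⟨a, ha⟩ : ∃ a, a ∉ Z := by
    by_contra hall
    push Not at hall
    have h := Set.ncard_le_ncard (s := (Set.univ : Set V)) (t := (Z : Set V)) (fun x _ => hall x)
      (Set.toFinite _)
    omega
  obtain ⟨b, hb, hab⟩ : ∃ b, b ∉ Z ∧ a + b ∉ Z := by
    by_contra hall
    push Not at hall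
    have hsub : (Set.univ : Set V) ⊆ (Z : Set V) ∪ (fun z => a + z) '' (Z : Set V) := fun x _ => by
      by_cases hx : x ∈ Z
      · exact Or.inl hx
      · exact Or.inr ⟨a + x, hall x hx, show a + (a + x) = x by rw [← add_assoc, H.two, zero_add]⟩
    have h := (Set.ncard_le_ncard hsub (Set.toFinite _)).trans
      ((Set.ncard_union_le _ _).trans (Nat.add_le_add le_rfl (Set.ncard_image_le (Set.toFinite _))))
    omega
  have ha0 : a ≠ 0 := fun e => ha (e ▸ Z.zero_mem)
  have hb0 : b ≠ 0 := fun e => hb (e ▸ Z.zero_mem)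
  have hab0 : a + b ≠ 0 := fun e => hab (e ▸ Z.zero_mem)
  have e1 : a + (a + b) = b := by rw [← add_assoc, H.two, zero_add]
  have e2 : b + (a + b) = a := by rw [add_left_comm, H.two, add_zero]
  have hc1 : a ≠ b := fun e => hab0 (by rw [e, H.two])
  have hc2 : a ≠ a + b := fun e => hb0 (left_eq_add.1 e)
  have hc3 : b ≠ a + b := fun e => ha0 (right_eq_add.1 e)
  let W : AddSubgroup V :=
    { carrier := {0, a, b, a + b}
      zero_mem' := Or.inl rfl
      add_mem' := by
        intro x y hx hy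
        simp only [Set.mem_insert_iff, Set.mem_singleton_iff] at hx hy ⊢
        rcases hx with hx | hx | hx | hx <;> rcases hy with hy | hy | hy | hy <;> rw [hx, hy] <;>
          simp [H.two, e1, e2, add_comm b a, add_comm (a + b) a, add_comm (a + b) b]
      neg_mem' := by
        intro x hx
        rwa [neg_eq_of_add_eq_zero_left (H.two x)] }
  refine ⟨W, ?_, fun x hx hxZ => ?_⟩
  · show Nat.card ↥({0, a, b, a + b} : Set V) = 4
    rw [Nat.card_coe_set_eq, Set.ncard_insert_of_notMem (by simp [ha0.symm, hb0.symm, hab0.symm]),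
      Set.ncard_insert_of_notMem (by simp [hc1, hc2]),
      Set.ncard_insert_of_notMem (by simp [hc3]), Set.ncard_singleton]
  · rcases hx with rfl | rfl | rfl | rfl
    exacts [rfl, absurd hxZ ha, absurd hxZ hb, absurd hxZ hab]

/-- On a complement `W` of `Z`: the operator `Ω`. -/
theorem exists_omega {W : AddSubgroup V} (hW : Nat.card W = 4) (hdis : ∀ x ∈ W, x ∈ Z → x = 0) :
    ∃ Ω : AddMonoid.End V, (∀ v, Ω (Ω v) + Ω v + v = 0) ∧ (∀ g ∈ S, ∀ v, ρ g (Ω v) = Ω (ρ g v)) ∧
      (∀ w ∈ W, Ω w ∈ W) ∧ ∀ z ∈ Z, Ω z ∈ Z := by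
  haveI := H.finite_V
  obtain ⟨a₀, ha₀, -, -, ha0, -, -⟩ := H.exists_two hW
  obtain ⟨z₁, hz₁, z₂, hz₂, hz10, hz20, hz12⟩ := H.exists_two H.card_Z
  have hanZ : a₀ ∉ Z := fun e => ha0 (hdis _ ha₀ e)
  obtain ⟨s₁, hs₁, e₁⟩ := H.trans a₀ hanZ z₁ hz₁
  obtain ⟨s₂, hs₂, e₂⟩ := H.trans a₀ hanZ z₂ hz₂
  let N : ∀ g ∈ S, W →+ Z := fun g hg =>
    AddMonoidHom.mk' (fun w => ⟨ρ g (w : V) + w, H.moved g hg _⟩) fun a b => Subtype.ext (by
      show ρ g ((a : V) + b) + (a + b) = (ρ g a + a) + (ρ g b + b)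
      rw [map_add]; exact add_add_add_comm _ _ _ _)
  have hNinj : ∀ g (hg : g ∈ S), ρ g ≠ 1 → Function.Injective (N g hg) := fun g hg hne =>
    (injective_iff_map_eq_zero _).2 fun w hw => by
      have e : ρ g (w : V) = w := by
        simpa using (H.add_eq_iff (a := ρ g (w : V)) (b := w)).1 (congrArg Subtype.val hw)
      by_contra hw0
      exact hne (H.fixed_only g hg _ e fun hz => hw0 (Subtype.ext (hdis _ w.2 hz)))
  have hne1 : ρ s₁ ≠ 1 := fun e => hz10 (by rw [e] at e₁; simpa using e₁.symm)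
  have hne2 : ρ s₂ ≠ 1 := fun e => hz20 (by rw [e] at e₂; simpa using e₂.symm)
  let E₁ : W ≃+ Z := AddEquiv.ofBijective (N s₁ hs₁) ((Nat.bijective_iff_injective_and_card _).2
    ⟨hNinj _ hs₁ hne1, by rw [hW, H.card_Z]⟩)
  let T : W →+ W := (E₁.symm : Z →+ W).comp (N s₂ hs₂)
  have hTN : ∀ w, N s₁ hs₁ (T w) = N s₂ hs₂ w := fun w => E₁.apply_symm_apply _
  have hTfix : ∀ w, T w = w → w = 0 := fun w hw => by
    by_contra hw0
    have e := congrArg Subtype.val (hTN w)
    rw [hw] at e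
    have e' : ρ s₁ (w : V) + w = ρ s₂ (w : V) + w := e
    have h := H.eq_of_agree hs₁ hs₂ (fun hz => hw0 (Subtype.ext (hdis _ w.2 hz)))
      (add_right_cancel e')
    exact hz12 (add_left_cancel (e₁.symm.trans ((DFunLike.congr_fun h a₀).trans e₂)))
  have hTinj : Function.Injective T := E₁.symm.injective.comp (hNinj _ hs₂ hne2)
  have hT : ∀ w, T (T w) + T w + w = 0 := fun w => by
    by_cases hw : w = 0
    · simp [hw]
    have hTw : T w ≠ 0 := fun e => hw (hTinj (e.trans (map_zero T).symm))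
    have hsum : T w + w ≠ 0 := fun e => hw (hTfix w
      (Subtype.ext (by
        have := (H.add_eq_iff (a := (T w : V)) (b := w) (c := 0)).1 (congrArg Subtype.val e)
        simpa using this)))
    refine Subtype.ext ?_
    show ((T (T w) : W) : V) + (T w : W) + (w : W) = 0
    rcases four_cases H.two hW w.2 (T w).2 (Subtype.coe_ne_coe.2 hw) (Subtype.coe_ne_coe.2 hTw)
      (fun e => hw (hTfix w (Subtype.ext e.symm))) (T (T w)).2 with h | h | h | h
    · exact absurd (hTinj ((Subtype.ext h : T (T w) = 0).trans (map_zero T).symm)) hTw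
    · exfalso
      refine hsum (hTfix _ ?_)
      rw [map_add, (Subtype.ext h : T (T w) = w)]
      exact add_comm _ _
    · exact absurd (hTfix _ (Subtype.ext h)) hTw
    · rw [h, add_assoc, add_comm ((T w : W) : V) (w : V), H.two]
  obtain ⟨e, he⟩ := H.exists_decomp hW hdis
  let T' : Z →+ Z := (E₁ : W →+ Z).comp (T.comp (E₁.symm : Z →+ W))
  let Ω : AddMonoid.End V :=
    (e : W × Z →+ V).comp ((AddMonoidHom.prodMap T T').comp (e.symm : V →+ W × Z))
  have hΩ : ∀ p : W × Z, Ω ((p.1 : V) + p.2) = (T p.1 : V) + T' p.2 := fun p => by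
    show e (AddMonoidHom.prodMap T T' (e.symm ((p.1 : V) + p.2))) = _
    rw [← he p, e.symm_apply_apply, he]
    rfl
  have hΩW : ∀ w : W, Ω w = T w := fun w => by simpa using hΩ (w, 0)
  have hΩZ : ∀ z : Z, Ω z = T' z := fun z => by simpa using hΩ (0, z)
  have hsurj : ∀ v : V, ∃ (w : W) (z : Z), v = (w : V) + z := fun v =>
    ⟨(e.symm v).1, (e.symm v).2, (e.apply_symm_apply v).symm.trans (he _)⟩
  have hT' : ∀ w, T' (N s₁ hs₁ w) = N s₁ hs₁ (T w) := fun w => by
    show E₁ (T (E₁.symm (E₁ w))) = E₁ (T w)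
    rw [E₁.symm_apply_apply]
  -- commutation
  have hN : ∀ g (hg : g ∈ S), (∀ w : W, T' (N g hg w) = N g hg (T w)) →
      ∀ v, ρ g (Ω v) = Ω (ρ g v) := fun g hg hc v => by
    obtain ⟨w, z, rfl⟩ := hsurj v
    have h1 : ρ g (w : V) = (w : V) + (N g hg w : Z) := by
      show _ = (w : V) + (ρ g (w : V) + w)
      rw [add_left_comm, H.two, add_zero]
    have h2 : ρ g ((T w : W) : V) = (T w : V) + (T' (N g hg w) : Z) := by
      rw [hc]
      show _ = (T w : V) + (ρ g (T w : V) + (T w : V))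
      rw [add_left_comm, H.two, add_zero]
    rw [hΩ (w, z)]
    dsimp only
    simp only [map_add]
    rw [h1, H.fixed g hg _ z.2, H.fixed g hg _ (T' z).2, h2, map_add, hΩW, hΩZ, hΩZ]
  have hc1 : ∀ w, T' (N s₁ hs₁ w) = N s₁ hs₁ (T w) := hT'
  have hc2 : ∀ w, T' (N s₂ hs₂ w) = N s₂ hs₂ (T w) := fun w => by
    rw [← hTN w, hT', hTN]
  have hb1 := hN s₁ hs₁ hc1
  have hb2 := hN s₂ hs₂ hc2
  refine ⟨Ω, fun v => ?_, fun g hg => ?_, fun w hw => ?_, fun z hz => ?_⟩
  · obtain ⟨w, z, rfl⟩ := hsurj v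
    obtain ⟨u, hu⟩ := E₁.surjective z
    have hz' : T' z = E₁ (T u) := by rw [← hu]; exact hT' u
    have hz'' : T' (T' z) = E₁ (T (T u)) := by rw [hz']; exact hT' (T u)
    rw [hΩ (w, z), hΩ (T w, T' z)]
    have hA : ((T (T w) : W) : V) + (T w : V) + w = 0 := congrArg Subtype.val (hT w)
    have hB : ((T' (T' z) : Z) : V) + (T' z : V) + z = 0 := by
      refine congrArg Subtype.val (a₁ := T' (T' z) + T' z + z) (a₂ := 0) ?_
      rw [hz'', hz', ← hu, ← map_add, ← map_add, hT, map_zero]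
    calc ((T (T w) : W) : V) + (T' (T' z) : Z) + (((T w : W) : V) + (T' z : Z)) + ((w : V) + z)
        = ((T (T w) : W) : V) + (T w : V) + w +
            (((T' (T' z) : Z) : V) + (T' z : V) + z) := by abel
      _ = 0 := by rw [hA, hB, add_zero]
  · have hga := H.moved g hg a₀
    rcases four_cases H.two H.card_Z hz₁ hz₂ hz10 hz20 hz12 hga with h | h | h | h <;>
      have h' : ρ g a₀ = _ := H.add_eq_iff.1 h <;>
      rw [add_comm] at h'
    · rw [add_zero] at h'
      rw [show ρ g = 1 from H.fixed_only g hg a₀ h' hanZ]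
      exact fun v => rfl
    · rw [H.eq_of_agree hg hs₁ hanZ (h'.trans e₁.symm)]; exact hb1
    · rw [H.eq_of_agree hg hs₂ hanZ (h'.trans e₂.symm)]; exact hb2
    · rw [H.eq_of_agree hg (S.mul_mem hs₁ hs₂) hanZ (v := a₀) (by
        rw [h', act_mul, e₂, map_add, e₁, H.fixed _ hs₁ _ hz₂]; abel)]
      intro v
      rw [act_mul, act_mul, hb2, hb1]
  · rw [hΩW ⟨w, hw⟩]; exact (T _).2
  · rw [hΩZ ⟨z, hz⟩]; exact (T' _).2

/-- Conjugates of `S` commute with an operator commuting with `S` and fixing a second plane. -/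
theorem commute_second [Finite G] {x g : G} (hg : x⁻¹ * g * x ∈ S) (hxZ : Zc ρ Z x ≠ Z)
    {Ω : AddMonoid.End V} (heq : ∀ v, Ω (Ω v) + Ω v + v = 0)
    (hcomm : ∀ s ∈ S, ∀ v, ρ s (Ω v) = Ω (ρ s v))
    (hΩx : ∀ w ∈ Zc ρ Z x, Ω w ∈ Zc ρ Z x) : ∀ v, ρ g (Ω v) = Ω (ρ g v) := by
  haveI := H.finite_V
  by_cases hg1 : ρ g = 1
  · intro v; rw [hg1]; rfl
  set W := Zc ρ Z x with hWdef
  have hW : Nat.card W = 4 := (card_Zc x).trans H.card_Z
  have hdis : ∀ w ∈ W, w ∈ Z → w = 0 := fun w hw hz =>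
    H.Zc_inf (x := x) (y := 1) (by rwa [Zc_one]) hw (by rwa [Zc_one])
  obtain ⟨a₀, ha₀, -, -, ha0, -, -⟩ := H.exists_two hW
  obtain ⟨z₁, hz₁, -, -, hz10, -, -⟩ := H.exists_two H.card_Z
  have hanZ : a₀ ∉ Z := fun e => ha0 (hdis _ ha₀ e)
  obtain ⟨s, hs, es⟩ := H.trans a₀ hanZ z₁ hz₁
  have hs1 : ρ s ≠ 1 := fun e => hz10 (by rw [e] at es; simpa using es.symm)
  have hgx : ∀ w ∈ W, ρ g w = w := fun w hw => H.fixed_conj hg hw
  -- `γ = (g + 1) (s + 1)` on `W`
  let γ : AddMonoid.End V := (ρ g + 1) * (ρ s + 1)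
  have hγ : ∀ w, γ w = ρ g (ρ s w + w) + (ρ s w + w) := fun w => rfl
  have hγW : ∀ w, γ w ∈ W := fun w => H.moved_conj hg _
  have hγ0 : ∀ w ∈ W, γ w = 0 → w = 0 := fun w hw h0 => by
    by_contra hw0
    rw [hγ, H.add_eq_iff, zero_add] at h0
    by_cases hz : ρ s w + w ∈ W
    · have h := hdis _ hz (H.moved s hs w)
      rw [H.add_eq_iff, zero_add] at h
      exact hs1 (H.fixed_only s hs w h fun e => hw0 (hdis _ hw e))
    · exact hg1 (H.fixed_only_conj hg h0 hz)
  -- a transvection pattern is impossible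
  have hbad : ∀ a ∈ W, ∀ b ∈ W, a ≠ 0 → γ a = a → γ b = b + a → False := by
    intro a ha b hb ha0 ea eb
    obtain ⟨m, hm, hpow⟩ := H.odd_order (x := x) (y := 1) hg hg1
      (by rwa [inv_one, one_mul, mul_one]) hs1 (by rwa [Zc_one])
    have hp : ∀ u ∈ W, ρ (g * s) u = u + (ρ s u + u) + γ u := fun u hu => by
      rw [hγ, act_mul]
      conv_lhs => rw [show ρ s u = u + (ρ s u + u) by rw [add_left_comm, H.two, add_zero]]
      rw [map_add, hgx u hu,
        show ρ g (ρ s u + u) + (ρ s u + u) = (ρ s u + u) + ρ g (ρ s u + u) from add_comm _ _,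
        ← add_assoc, add_assoc u (ρ s u + u) (ρ s u + u), H.two, add_zero]
    have hp' : ∀ u ∈ W, ρ (g * s) (ρ s u + u) = (ρ s u + u) + γ u := fun u _ => by
      rw [hγ, act_mul, H.fixed s hs _ (H.moved s hs u), add_left_comm, H.two, add_zero]
    have p1 : ρ (g * s) a = ρ s a + a := by
      rw [hp a ha, ea, add_right_comm, H.two, zero_add]
    have p2 : ρ (g * s) (ρ s a + a) = (ρ s a + a) + a := by rw [hp' a ha, ea]
    have q1 : ρ (g * s) b = (ρ s b + b) + a := by
      rw [hp b hb, eb, add_assoc, add_left_comm (ρ s b + b) b a, ← add_assoc, H.two, zero_add]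
    have q2 : ρ (g * s) (ρ s b + b) = (ρ s b + b) + (b + a) := by rw [hp' b hb, eb]
    have h3 : (ρ (g * s) ^ 3) ^ m = 1 := by rw [← pow_mul, mul_comm, pow_mul, hpow, one_pow]
    have hf : ∀ u, (ρ (g * s) ^ 3) u = ρ (g * s) (ρ (g * s) (ρ (g * s) u)) := fun u => by
      rw [pow_succ, pow_succ, pow_one]; rfl
    refine ha0 (odd_translate H.two (f := ρ (g * s) ^ 3) (a := b) ?_ ?_ hm h3)
    · rw [hf, p1, p2, map_add (ρ (g * s)), p2, p1, add_right_comm, H.two, zero_add]
    · generalize hA : ρ s a + a = A at p1 p2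
      generalize hB : ρ s b + b = B at q1 q2
      rw [hf, q1, map_add (ρ (g * s)), q2, p1]
      simp only [map_add (ρ (g * s))]
      rw [q2, q1, p1, p2]
      calc B + (b + a) + (B + a + A) + (A + a)
          = (B + B) + (A + A) + (a + a) + (b + a) := by abel
        _ = b + a := by simp only [H.two, zero_add]
  -- `γ` commutes with `Ω` on `W`
  have hΩ0 : ∀ w, Ω w = 0 → w = 0 := fun w e => by
    have h := heq w
    rw [e, map_zero, zero_add, zero_add] at h
    exact h
  have hΩne : ∀ w, Ω w = w → w = 0 := fun w e => by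
    have h := heq w
    rw [e, e, H.two, zero_add] at h
    exact h
  set a := a₀
  set t := Ω a with ht
  have htW : t ∈ W := hΩx a ha₀
  have ht0 : t ≠ 0 := fun e => ha0 (hΩ0 a e)
  have hat : a ≠ t := fun e => ha0 (hΩne a e.symm)
  have hΩt : Ω t = a + t := by
    have h := heq a
    rw [← ht, add_assoc, H.add_eq_iff, zero_add, add_comm] at h
    exact h
  have h4 : ∀ w ∈ W, w = 0 ∨ w = a ∨ w = t ∨ w = a + t := fun w hw =>
    four_cases H.two hW ha₀ htW ha0 ht0 hat hw
  have e1 : a + (a + t) = t := by rw [← add_assoc, H.two, zero_add]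
  have e2 : t + (a + t) = a := by rw [add_left_comm, H.two, add_zero]
  have hat0 : a + t ≠ 0 := fun e => hat (by rw [H.add_eq_iff, zero_add] at e; exact e)
  have hlin : Ω (γ a) = γ t ∧ Ω (γ t) = γ (a + t) := by
    have hne : γ a ≠ γ t := fun e => hat0 (hγ0 _ (W.add_mem ha₀ htW) (by
      rw [map_add, e, H.two]))
    rcases h4 _ (hγW a) with h | h | h | h
    · exact absurd (hγ0 a ha₀ h) ha0
    all_goals rcases h4 _ (hγW t) with h' | h' | h' | h'
    all_goals first
      | exact absurd (hγ0 t htW h') ht0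
      | exact absurd (h.trans h'.symm) hne
      | skip
    · exact ⟨by rw [h, h'], by rw [h', hΩt, map_add, h, h']⟩
    · exact (hbad a ha₀ t htW ha0 h (by rw [h', add_comm a t])).elim
    · exfalso
      refine hbad (a + t) (W.add_mem ha₀ htW) a ha₀ hat0 ?_ ?_
      · rw [map_add, h, h', add_comm t a]
      · rw [h, e1]
    · exact ⟨by rw [h, h', hΩt], by rw [h', map_add, map_add, h, h', ← ht, hΩt]⟩
    · exact ⟨by rw [h, h', map_add, ← ht, hΩt, e2],
        by rw [h', map_add, h, h', ← ht, add_right_comm, H.two, zero_add]⟩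
    · exact (hbad t htW a ha₀ ht0 h' h).elim
  have hcW : ∀ w ∈ W, γ (Ω w) = Ω (γ w) := fun w hw => by
    rcases h4 w hw with h | h | h | h <;> rw [h]
    · simp only [map_zero]
    · exact hlin.1.symm
    · rw [hΩt]; exact hlin.2.symm
    · rw [map_add Ω a t, ← ht, hΩt, map_add γ a t, map_add Ω, hlin.1, hlin.2, map_add γ t]
  intro v
  obtain ⟨e, he⟩ := H.exists_decomp hW hdis
  obtain ⟨⟨w, z⟩, rfl⟩ := e.surjective v
  -- `N = s + 1` is a bijection of `W` onto `Z`
  let N : W → Z := fun u => ⟨ρ s (u : V) + u, H.moved s hs _⟩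
  have hNinj : Function.Injective N := fun u u' h => by
    refine Subtype.ext ?_
    by_contra hne
    have h' : ρ s (u : V) + u = ρ s (u' : V) + u' := congrArg Subtype.val h
    have hd : (u : V) + u' ∈ W := W.add_mem u.2 u'.2
    refine hs1 (H.fixed_only s hs ((u : V) + u') ?_ fun hz => hne ?_)
    · rw [map_add, H.add_eq_iff.1 h']
      calc _ = (ρ s (u' : V) + ρ s (u' : V)) + ((u : V) + u') := by abel
        _ = (u : V) + u' := by rw [H.two, zero_add]
    · have h0 := hdis _ hd hz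
      rwa [H.add_eq_iff, zero_add] at h0
  obtain ⟨u, hu⟩ := ((Nat.bijective_iff_injective_and_card N).2
    ⟨hNinj, by rw [hW, H.card_Z]⟩).2 z
  rw [he]
  subst hu
  show ρ g (Ω ((w : V) + (ρ s (u : V) + u))) = Ω (ρ g ((w : V) + (ρ s (u : V) + u)))
  have hNΩ : Ω (ρ s (u : V) + u) = ρ s (Ω u) + Ω u := by rw [map_add, hcomm s hs]
  have hgN : ∀ y, ρ g (ρ s y + y) = γ y + (ρ s y + y) := fun y => by
    rw [hγ, add_assoc, H.two, add_zero]
  rw [map_add Ω (w : V), map_add (ρ g), hgx _ (hΩx _ w.2), hNΩ, hgN, hcW _ u.2,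
    map_add (ρ g) (w : V), hgx _ w.2, hgN, map_add Ω (w : V), map_add Ω (γ (u : V)), hNΩ]

end Action

end Cfsg.Agent.L34Type.Embed
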