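import Cfsg.Agent.Lib.L34Type.EmbedOmega2
import Mathlib.Algebra.BigOperators.GroupWithZero.Action
import Mathlib.GroupTheory.GroupAction.Quotient

/-!
# An invariant structure of an `F₄`-plane on a module of order 16, III: averaging
-/

set_option autoImplicit false
set_option linter.style.haveILetI false

namespace Cfsg.Agent.L34Type.Embed

universe u v

variable {G : Type u} [Group G] {V : Type v} [AddCommGroup V]
  {ρ : G →* AddMonoid.End V} {S : Subgroup G} {Z : AddSubgroup V}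

namespace Action

variable (H : Action ρ S Z)
include H

/-- The differences of the admissible operators, without the scalar part. -/
def diffs (Ω : AddMonoid.End V) : AddSubgroup (AddMonoid.End V) where
  carrier := {D | (∀ z ∈ Z, D z = 0) ∧ (∀ v, D v ∈ Z) ∧ ∀ v, Ω (D v) + D (Ω v) + D v = 0}
  zero_mem' := ⟨fun _ _ => rfl, fun _ => Z.zero_mem, fun v => by
    show Ω 0 + 0 + 0 = 0
    rw [map_zero, add_zero, add_zero]⟩
  add_mem' {D D'} h h' := ⟨fun z hz => by show D z + D' z = 0; rw [h.1 z hz, h'.1 z hz, add_zero],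
    fun v => Z.add_mem (h.2.1 v) (h'.2.1 v), fun v => by
      show Ω (D v + D' v) + (D (Ω v) + D' (Ω v)) + (D v + D' v) = 0
      rw [map_add]
      calc _ = (Ω (D v) + D (Ω v) + D v) + (Ω (D' v) + D' (Ω v) + D' v) := by abel
        _ = 0 := by rw [h.2.2, h'.2.2, add_zero]⟩
  neg_mem' {D} h := by
    have : -D = D := neg_eq_of_add_eq_zero_left (AddMonoidHom.ext fun v => H.two (D v))
    rwa [this]

/-- The differences of the admissible operators. -/
def diffs' (Ω : AddMonoid.End V) : AddSubgroup (AddMonoid.End V) where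
  carrier := {E | E ∈ H.diffs Ω ∨ E + 1 ∈ H.diffs Ω}
  zero_mem' := Or.inl (zero_mem _)
  add_mem' {E E'} h h' := by
    have h11 : (1 : AddMonoid.End V) + 1 = 0 := AddMonoidHom.ext fun v => H.two v
    rcases h with h | h <;> rcases h' with h' | h'
    · exact Or.inl (add_mem h h')
    · exact Or.inr (by rw [add_assoc]; exact add_mem h h')
    · exact Or.inr (by rw [add_right_comm]; exact add_mem h h')
    · refine Or.inl ?_
      have := add_mem h h'
      rwa [add_add_add_comm, h11, add_zero] at this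
  neg_mem' {E} h := by
    have : -E = E := neg_eq_of_add_eq_zero_left (AddMonoidHom.ext fun v => H.two (E v))
    rwa [this]

theorem expand0 (Ω D : AddMonoid.End V) (hD : ∀ v, D (D v) = 0) (v : V) :
    (Ω + D) ((Ω + D) v) + (Ω + D) v + v =
      (Ω (Ω v) + Ω v + v) + (Ω (D v) + D (Ω v) + D v) := by
  show Ω (Ω v + D v) + D (Ω v + D v) + (Ω v + D v) + v = _
  rw [map_add, map_add, hD]
  abel

theorem expand1 (Ω D : AddMonoid.End V) (hD : ∀ v, D (D v) = 0) (v : V) :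
    (Ω + 1 + D) ((Ω + 1 + D) v) + (Ω + 1 + D) v + v =
      (Ω (Ω v) + Ω v + v) + (Ω (D v) + D (Ω v) + D v) := by
  show Ω (Ω v + v + D v) + (Ω v + v + D v) + D (Ω v + v + D v) + (Ω v + v + D v) + v = _
  simp only [map_add, hD]
  calc _ = (Ω (Ω v) + Ω v + v) + (Ω (D v) + D (Ω v) + D v) +
        ((Ω v + Ω v) + (v + v) + (D v + D v)) := by abel
    _ = _ := by simp only [H.two, add_zero]

theorem eq_of_diffs' {Ω E : AddMonoid.End V} (heq : ∀ v, Ω (Ω v) + Ω v + v = 0)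
    (hE : E ∈ H.diffs' Ω) (v : V) : (Ω + E) ((Ω + E) v) + (Ω + E) v + v = 0 := by
  rcases hE with h | h
  · rw [H.expand0 Ω E (fun w => h.1 _ (h.2.1 w)), heq, h.2.2, add_zero]
  · have e : Ω + E = Ω + 1 + (E + 1) := by
      refine AddMonoidHom.ext fun w => ?_
      show Ω w + E w = Ω w + w + (E w + w)
      rw [add_add_add_comm, H.two, add_zero]
    rw [e, H.expand1 Ω (E + 1) (fun w => h.1 _ (h.2.1 w)), heq, h.2.2, add_zero]

theorem sub_mem_diffs' {W : AddSubgroup V} (hW : Nat.card W = 4)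
    (hdis : ∀ x ∈ W, x ∈ Z → x = 0) {Ω Ω' : AddMonoid.End V}
    (heq : ∀ v, Ω (Ω v) + Ω v + v = 0) (hc : ∀ g ∈ S, ∀ v, ρ g (Ω v) = Ω (ρ g v))
    (hΩW : ∀ w ∈ W, Ω w ∈ W) (heq' : ∀ v, Ω' (Ω' v) + Ω' v + v = 0)
    (hc' : ∀ g ∈ S, ∀ v, ρ g (Ω' v) = Ω' (ρ g v)) : Ω' + Ω ∈ H.diffs' Ω := by
  haveI := H.finite_V
  obtain ⟨a, ha, -, -, ha0, -, -⟩ := H.exists_two hW
  have haZ : a ∉ Z := fun e => ha0 (hdis _ ha e)
  have himg : ∀ z ∈ Z, ∃ g ∈ S, z = ρ g a + a := fun z hz => by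
    obtain ⟨g, hg, e⟩ := H.trans a haZ z hz
    exact ⟨g, hg, by rw [e, add_right_comm, H.two, zero_add]⟩
  obtain ⟨e, he⟩ := H.exists_decomp hW hdis
  set t := Ω a with ht
  have htW : t ∈ W := hΩW a ha
  have ht0 : t ≠ 0 := fun h => ha0 (by
    have := heq a; rw [← ht, h, map_zero, zero_add, zero_add] at this; exact this)
  have hat : a ≠ t := fun h => ha0 (by
    have := heq a; rw [← ht, ← h, ← ht, ← h, H.two, zero_add] at this; exact this)
  have hZ' : ∀ z ∈ Z, Ω' z ∈ Z := fun z hz => by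
    obtain ⟨g, hg, rfl⟩ := himg z hz
    rw [map_add, ← hc' g hg]
    exact H.moved g hg _
  -- an operator commuting with `S` and sending `a` into `Z` lies in `Hom(V/Z, Z)`
  have hsmall : ∀ E : AddMonoid.End V, (∀ g ∈ S, ∀ v, ρ g (E v) = E (ρ g v)) → E a ∈ Z →
      (∀ z ∈ Z, E z = 0) ∧ ∀ v, E v ∈ Z := fun E hEc hEa => by
    have hN : ∀ g ∈ S, ∀ v, E (ρ g v + v) = ρ g (E v) + E v := fun g hg v => by
      rw [map_add, hEc g hg]
    have h0 : ∀ z ∈ Z, E z = 0 := fun z hz => by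
      obtain ⟨g, hg, rfl⟩ := himg z hz
      rw [hN g hg, H.fixed g hg _ hEa, H.two]
    have hEt : E t ∈ Z := by
      by_contra hn
      obtain ⟨z₁, hz₁, -, -, hz10, -, -⟩ := H.exists_two H.card_Z
      obtain ⟨s, hs, es⟩ := H.trans a haZ z₁ hz₁
      have hs1 : ρ s ≠ 1 := fun h => hz10 (by rw [h] at es; simpa using es.symm)
      refine hs1 (H.fixed_only s hs (E t) ?_ hn)
      have h := h0 _ (H.moved s hs t)
      rwa [hN s hs, H.add_eq_iff, zero_add] at h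
    refine ⟨h0, fun v => ?_⟩
    obtain ⟨⟨w, z⟩, rfl⟩ := e.surjective v
    rw [he, map_add, h0 _ z.2, add_zero]
    rcases four_cases H.two hW ha htW ha0 ht0 hat w.2 with h | h | h | h <;>
      show E (w : V) ∈ Z <;> rw [h]
    · rw [map_zero]; exact Z.zero_mem
    · exact hEa
    · exact hEt
    · rw [map_add]; exact Z.add_mem hEa hEt
  have hΩZ : ∀ g ∈ S, ∀ v, ρ g ((Ω' + Ω) v) = (Ω' + Ω) (ρ g v) := fun g hg v => by
    show ρ g (Ω' v + Ω v) = Ω' (ρ g v) + Ω (ρ g v)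
    rw [map_add, hc g hg, hc' g hg]
  have hΩ1 : ∀ g ∈ S, ∀ v, ρ g ((Ω' + Ω + 1) v) = (Ω' + Ω + 1) (ρ g v) := fun g hg v => by
    show ρ g ((Ω' + Ω) v + v) = (Ω' + Ω) (ρ g v) + ρ g v
    rw [map_add, hΩZ g hg]
  obtain ⟨⟨w, z⟩, hwz⟩ := e.surjective (Ω' a)
  rw [he] at hwz
  rcases four_cases H.two hW ha htW ha0 ht0 hat w.2 with h | h | h | h <;>
    have hwz' : Ω' a = _ + (z : V) := hwz.symm.trans (congrArg (· + (z : V)) h)
  · exfalso
    refine haZ ?_
    rw [zero_add] at hwz'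
    have h2 := hZ' _ z.2
    have h3 := heq' a
    rw [hwz', H.add_eq_iff, zero_add] at h3
    exact h3 ▸ Z.add_mem h2 z.2
  · exfalso
    refine haZ ?_
    have h3 := heq' a
    rw [hwz', map_add, hwz'] at h3
    have : a = Ω' (z : V) := by
      calc a = a + (a + (z : V) + Ω' (z : V) + (a + (z : V)) + a) := by rw [h3, add_zero]
        _ = (a + a) + (a + a) + ((z : V) + z) + Ω' (z : V) := by abel
        _ = Ω' (z : V) := by simp only [H.two, zero_add]
    exact this ▸ hZ' _ z.2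
  · left
    have hEa : (Ω' + Ω) a ∈ Z := by
      show Ω' a + t ∈ Z
      rw [hwz', add_right_comm, H.two, zero_add]; exact z.2
    obtain ⟨hD0, hDZ⟩ := hsmall (Ω' + Ω) hΩZ hEa
    refine ⟨hD0, hDZ, fun v => ?_⟩
    have hx := H.expand0 Ω (Ω' + Ω) (fun w => hD0 _ (hDZ w)) v
    rw [heq, zero_add] at hx
    rw [← hx]
    have : Ω + (Ω' + Ω) = Ω' := AddMonoidHom.ext fun w => by
      show Ω w + (Ω' w + Ω w) = Ω' w
      rw [add_left_comm, H.two, add_zero]
    rw [this]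
    exact heq' v
  · right
    have hEa : (Ω' + Ω + 1) a ∈ Z := by
      show Ω' a + t + a ∈ Z
      rw [hwz']
      rw [show a + t + (z : V) + t + a = (a + a) + (t + t) + z by abel, H.two, H.two, zero_add,
        zero_add]
      exact z.2
    obtain ⟨hD0, hDZ⟩ := hsmall (Ω' + Ω + 1) hΩ1 hEa
    refine ⟨hD0, hDZ, fun v => ?_⟩
    have hx := H.expand1 Ω (Ω' + Ω + 1) (fun w => hD0 _ (hDZ w)) v
    rw [heq, zero_add] at hx
    rw [← hx]
    have : Ω + 1 + (Ω' + Ω + 1) = Ω' := AddMonoidHom.ext fun w => by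
      show Ω w + w + (Ω' w + Ω w + w) = Ω' w
      rw [show Ω w + w + (Ω' w + Ω w + w) = (Ω w + Ω w) + (w + w) + Ω' w by abel, H.two, H.two,
        zero_add, zero_add]
    rw [this]
    exact heq' v

/-- An operator commuting with all conjugates of `S`. -/
theorem exists_omega_all [Finite G] :
    ∃ (W : AddSubgroup V) (Ω : AddMonoid.End V), Nat.card W = 4 ∧ (∀ x ∈ W, x ∈ Z → x = 0) ∧
      (∀ v, Ω (Ω v) + Ω v + v = 0) ∧ (∀ w ∈ W, Ω w ∈ W) ∧
      ∀ y g, y⁻¹ * g * y ∈ S → ∀ v, ρ g (Ω v) = Ω (ρ g v) := by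
  have inS : ∀ y g, Zc ρ Z y = Z → y⁻¹ * g * y ∈ S → g ∈ S := fun y g e hg =>
    H.mem_of g (fun v => e ▸ H.moved_conj hg v) fun z hz => H.fixed_conj hg (e.symm ▸ hz)
  by_cases hall : ∀ y, Zc ρ Z y = Z
  · obtain ⟨W, hW, hdis⟩ := H.exists_complement
    obtain ⟨Ω, h1, h2, h3, -⟩ := H.exists_omega hW hdis
    exact ⟨W, Ω, hW, hdis, h1, h3, fun y g hg => h2 g (inS y g (hall y) hg)⟩
  push Not at hall
  obtain ⟨x, hx⟩ := hall
  have hW : Nat.card (Zc ρ Z x) = 4 := (card_Zc x).trans H.card_Z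
  have hdis : ∀ w ∈ Zc ρ Z x, w ∈ Z → w = 0 := fun w hw hz =>
    H.Zc_inf (x := x) (y := 1) (by rwa [Zc_one]) hw (by rwa [Zc_one])
  obtain ⟨Ω, h1, h2, h3, -⟩ := H.exists_omega hW hdis
  refine ⟨_, Ω, hW, hdis, h1, h3, fun y g hg => ?_⟩
  have inX : ∀ y' g', Zc ρ Z y' = Zc ρ Z x → y'⁻¹ * g' * y' ∈ S →
      ∀ v, ρ g' (Ω v) = Ω (ρ g' v) := fun y' g' e hg' =>
    H.commute_second (H.mem_conj_of (fun v => e ▸ H.moved_conj hg' v)
      fun v hv => H.fixed_conj hg' (e.symm ▸ hv)) hx h1 h2 h3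
  by_cases hyZ : Zc ρ Z y = Z
  · exact h2 g (inS y g hyZ hg)
  by_cases hyx : Zc ρ Z y = Zc ρ Z x
  · exact inX y g hyx hg
  haveI := H.finite_V
  obtain ⟨w, hw, -, -, hw0, -, -⟩ := H.exists_two ((card_Zc y).trans H.card_Z)
  obtain ⟨e, he⟩ := H.exists_decomp hW hdis
  obtain ⟨⟨a, z⟩, haz⟩ := e.surjective w
  rw [he] at haz
  have ha0 : (a : V) ≠ 0 := fun h => by
    refine hw0 (H.Zc_inf (x := y) (y := 1) (by rwa [Zc_one]) hw ?_)
    rw [Zc_one, ← haz]
    show (a : V) + z ∈ Z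
    rw [h, zero_add]
    exact z.2
  obtain ⟨s, hs, es⟩ := H.trans (a : V) (fun hz => ha0 (hdis _ a.2 hz)) z z.2
  have hsy : (a : V) ∈ Zc ρ Z (s * y) := by
    have e1 : ρ s w = a := by
      rw [← haz]
      show ρ s ((a : V) + z) = a
      rw [map_add, es, H.fixed s hs _ z.2, add_assoc, H.two, add_zero]
    rw [mem_Zc, mul_inv_rev, act_mul, ← e1, act_inv]
    exact hw
  have heqx : Zc ρ Z (s * y) = Zc ρ Z x := by
    by_contra hne
    exact ha0 (H.Zc_inf hne hsy a.2)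
  have hc := inX (s * y) (s * g * s⁻¹) heqx
    (by rwa [show (s * y)⁻¹ * (s * g * s⁻¹) * (s * y) = y⁻¹ * g * y by group])
  have hsg : ∀ u, ρ (s * g * s⁻¹) (ρ s u) = ρ s (ρ g u) := fun u => by
    rw [act_mul, act_mul, act_inv]
  intro v
  refine act_inj ρ s ?_
  rw [← hsg, h2 s hs v, hc, hsg, h2 s hs]

/-- Main result: an operator commuting with the whole group. -/
theorem exists_invariant [Finite G] :
    ∃ Ω : AddMonoid.End V, (∀ v, Ω (Ω v) + Ω v + v = 0) ∧ ∀ g v, ρ g (Ω v) = Ω (ρ g v) := by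
  classical
  obtain ⟨W, Ω, hW, hdis, heq, hΩW, hall⟩ := H.exists_omega_all
  have hc : ∀ g ∈ S, ∀ v, ρ g (Ω v) = Ω (ρ g v) := fun g hg => hall 1 g (by simpa using hg)
  haveI := Fintype.ofFinite (G ⧸ S)
  let f : G ⧸ S → AddMonoid.End V := fun q => Quotient.liftOn' q (fun x => ρ x * Ω * ρ x⁻¹)
    fun x y hxy => by
      have hs := QuotientGroup.leftRel_apply.1 hxy
      refine AddMonoidHom.ext fun v => ?_
      show ρ x (Ω (ρ x⁻¹ v)) = ρ y (Ω (ρ y⁻¹ v))
      have e : ρ x⁻¹ v = ρ (x⁻¹ * y) (ρ y⁻¹ v) := by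
        rw [← act_mul ρ (x⁻¹ * y) y⁻¹, show x⁻¹ * y * y⁻¹ = x⁻¹ by group]
      rw [e, ← hc _ hs, ← act_mul ρ x (x⁻¹ * y), show x * (x⁻¹ * y) = y by group]
  have hf : ∀ (x : G) v, f x v = ρ x (Ω (ρ x⁻¹ v)) := fun x v => rfl
  have hmem : ∀ q, f q + Ω ∈ H.diffs' Ω := fun q => by
    induction q using QuotientGroup.induction_on with | H x => ?_
    refine H.sub_mem_diffs' hW hdis heq hc hΩW (fun v => ?_) fun s hs v => ?_
    · rw [hf, hf, act_inv, ← map_add, ← act_inv' ρ x v, act_inv, ← map_add, heq, map_zero]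
    · have hs' := hall x⁻¹ (x⁻¹ * s * x)
        (by rwa [show x⁻¹⁻¹ * (x⁻¹ * s * x) * x⁻¹ = s by group]) (ρ x⁻¹ v)
      have e2 : ρ (x⁻¹ * s * x) (ρ x⁻¹ v) = ρ x⁻¹ (ρ s v) := by
        rw [act_mul, act_mul, act_inv']
      rw [e2] at hs'
      rw [hf, hf, ← hs', act_mul, act_mul, act_inv']
  refine ⟨∑ q, f q, fun v => ?_, fun g v => ?_⟩
  · have hSum : ∑ q, f q = Ω + ∑ q, (f q + Ω) := by
      rw [Finset.sum_add_distrib, Finset.sum_const, Finset.card_univ, ← Nat.card_eq_fintype_card]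
      obtain ⟨k, hk⟩ := H.odd_index
      have h2 : (2 : ℕ) • Ω = 0 := by rw [two_nsmul]; exact AddMonoidHom.ext fun w => H.two _
      rw [show Nat.card (G ⧸ S) = k * 2 + 1 from hk.trans (by omega), add_nsmul, one_nsmul, mul_nsmul',
        h2, nsmul_zero, zero_add, add_left_comm,
        show Ω + Ω = 0 from AddMonoidHom.ext fun w => H.two _, add_zero]
    rw [hSum]
    exact H.eq_of_diffs' heq (sum_mem fun q _ => hmem q) v
  · have hsum : ∀ (F : G ⧸ S → AddMonoid.End V) (u : V), (∑ q, F q) u = ∑ q, F q u :=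
      fun F u => AddMonoidHom.finsetSum_apply _ _ _
    rw [hsum, hsum, map_sum]
    refine Fintype.sum_equiv (MulAction.toPerm g) _ _ fun q => ?_
    induction q using QuotientGroup.induction_on with | H x => ?_
    show ρ g (f (x : G ⧸ S) v) = f ((g * x : G) : G ⧸ S) (ρ g v)
    rw [hf, hf, mul_inv_rev, act_mul ρ x⁻¹ g⁻¹, act_inv, ← act_mul]

end Action

end Cfsg.Agent.L34Type.Embed
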