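import Cfsg.Agent.Lib.L34Type.Local

/-!
# Sylow 2-subgroups of type `L₃(4)`: the two kinds of automizer of `R`

Either `N(R)` is transitive on the involutions of `R`, or it normalises `R ⊓ A` and is covered by
`C(R)` and `N(S)`.
-/

set_option autoImplicit false
set_option linter.style.haveILetI false
set_option linter.unusedSectionVars false

namespace Cfsg.Agent.L34Type

open Subgroup Cfsg.Agent.CIT
open scoped Pointwise

universe u

variable {G : Type u} [Group G] [Finite G]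

/-- `N(R)` is transitive on the involutions of `R`. -/
def Fused (R : Subgroup G) : Prop :=
  ∀ x ∈ R, x ≠ 1 → ∀ y ∈ R, y ≠ 1 → ∃ n ∈ normalizer (R : Set G), n * x * n⁻¹ = y

namespace Shape

variable {S : Sylow 2 G} {R A : Subgroup G} (h : Shape (S : Subgroup G) R A)
include h

/-- No Sylow 2-subgroup centralises an element of `R \ A` and one of `(R ⊓ A) \ 1`. -/
theorem not_both_central {x w : G} (hx : x ∈ R) (hxA : x ∉ A) (hw : w ∈ R ⊓ A) (hw1 : w ≠ 1)
    (g : G) (hgx : ∀ s ∈ (S : Subgroup G), g * s * g⁻¹ * x = x * (g * s * g⁻¹))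
    (hgw : ∀ s ∈ (S : Subgroup G), g * s * g⁻¹ * w = w * (g * s * g⁻¹)) : False := by
  haveI : Fact (Nat.Prime 2) := ⟨Nat.prime_two⟩
  obtain ⟨v, hv, hvx⟩ := h.exists_conj_eq hx hxA hw
  set K := centralizer ({x, w} : Set G) with hK
  have hKmem : ∀ k, k ∈ K ↔ k * x = x * k ∧ k * w = w * k := fun k => by
    rw [hK, mem_centralizer_iff]
    simp only [Set.mem_insert_iff, Set.mem_singleton_iff, forall_eq_or_imp, forall_eq]
    exact and_congr eq_comm eq_comm
  have hvw : v * w * v⁻¹ = w := by rw [← h.central w hw v hv, mul_inv_cancel_right]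
  have hvn : v ∈ normalizer (K : Set G) := CIT.mem_normalizer_of_forall fun k hk => by
    obtain ⟨h1, h2⟩ := (hKmem k).1 hk
    have h3 : k * (x * w) = x * w * k := by rw [← mul_assoc, h1, mul_assoc, h2, mul_assoc]
    -- `v` maps the pair to another generating pair of the same four-group
    refine (hKmem _).2 ?_
    have hw' : v * k * v⁻¹ * w = w * (v * k * v⁻¹) := by
      calc v * k * v⁻¹ * w = v * k * v⁻¹ * (v * w * v⁻¹) := by rw [hvw]
        _ = v * (k * w) * v⁻¹ := by group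
        _ = v * (w * k) * v⁻¹ := by rw [h2]
        _ = (v * w * v⁻¹) * (v * k * v⁻¹) := by group
        _ = w * (v * k * v⁻¹) := by rw [hvw]
    have hxw : v * k * v⁻¹ * (x * w) = x * w * (v * k * v⁻¹) := by
      calc v * k * v⁻¹ * (x * w) = v * k * v⁻¹ * (v * x * v⁻¹) := by rw [hvx]
        _ = v * (k * x) * v⁻¹ := by group
        _ = v * (x * k) * v⁻¹ := by rw [h1]
        _ = (v * x * v⁻¹) * (v * k * v⁻¹) := by group
        _ = x * w * (v * k * v⁻¹) := by rw [hvx]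
    refine ⟨mul_right_cancel (b := w) ?_, hw'⟩
    calc v * k * v⁻¹ * x * w = v * k * v⁻¹ * (x * w) := by group
      _ = x * (w * (v * k * v⁻¹)) := by rw [hxw]; group
      _ = x * (v * k * v⁻¹) * w := by rw [← hw']; group
  set P := K ⊔ zpowers v with hP
  have hKP : K ≤ P := le_sup_left
  have hPn : P ≤ normalizer (K : Set G) := sup_le Subgroup.le_normalizer (zpowers_le.2 hvn)
  haveI : (K.subgroupOf P).Normal := normal_subgroupOf_of_le_normalizer hPn
  have hodd : ¬ 2 ∣ (K.subgroupOf P).index := fun e => by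
    have hle : ((g • S : Sylow 2 G) : Subgroup G) ≤ K := by
      intro y hy
      rw [Sylow.coe_subgroup_smul] at hy
      obtain ⟨s, hs, rfl⟩ := hy
      exact (hKmem _).2 ⟨hgx s hs, hgw s hs⟩
    exact (g • S).not_dvd_index
      (e.trans ((relIndex_dvd_index_of_le hKP).trans (index_dvd_of_le hle)))
  have hvP : v ∈ P := mem_sup_right (mem_zpowers v)
  have hpow := Subgroup.pow_index_mem (K.subgroupOf P) ⟨v, hvP⟩
  rw [mem_subgroupOf] at hpow
  obtain ⟨m, hm⟩ := S.2 ⟨v, hv⟩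
  have hm' : v ^ (2 ^ m) = 1 := congrArg Subtype.val hm
  obtain ⟨d, -, hd⟩ := (Nat.dvd_prime_pow Nat.prime_two).1 (orderOf_dvd_of_pow_eq_one hm')
  have hco : Nat.Coprime (K.subgroupOf P).index (orderOf v) := by
    rw [hd]
    exact Nat.Coprime.pow_right _ ((Nat.Prime.coprime_iff_not_dvd Nat.prime_two).2 hodd).symm
  obtain ⟨j, hj⟩ := exists_pow_eq_self_of_coprime hco
  have hvK : v ∈ K := by rw [← hj]; exact pow_mem hpow j
  refine hw1 (mul_left_cancel (a := x) ?_)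
  rw [← hvx, ((hKmem v).1 hvK).1, mul_inv_cancel_right, mul_one]

/-- If one involution of `R ⊓ A` is moved out of `A` by `n ∈ N(R)`, all are. -/
theorem conj_notMem_A {n z w : G} (hn : n ∈ normalizer (R : Set G)) (hz : z ∈ R ⊓ A)
    (hzA : n * z * n⁻¹ ∉ A) (hw : w ∈ R ⊓ A) (hw1 : w ≠ 1) : n * w * n⁻¹ ∉ A := by
  intro hwA
  have hc : ∀ u ∈ R ⊓ A, ∀ s ∈ (S : Subgroup G),
      n * s * n⁻¹ * (n * u * n⁻¹) = n * u * n⁻¹ * (n * s * n⁻¹) := fun u hu s hs => by
    calc n * s * n⁻¹ * (n * u * n⁻¹) = n * (s * u) * n⁻¹ := by group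
      _ = n * (u * s) * n⁻¹ := by rw [h.central u hu s hs]
      _ = n * u * n⁻¹ * (n * s * n⁻¹) := by group
  exact h.not_both_central ((mem_normalizer_iff.1 hn z).1 hz.1) hzA
    (mem_inf.2 ⟨(mem_normalizer_iff.1 hn w).1 hw.1, hwA⟩)
    (fun e => hw1 (conj_eq_one_iff.1 e)) n (hc z hz) (hc w hw)

/-- If `N(R)` moves `R ⊓ A`, every element of `R \ A` comes from `R ⊓ A`. -/
theorem exists_conj_mem_inf {n z : G} (hn : n ∈ normalizer (R : Set G)) (hz : z ∈ R ⊓ A)
    (hzA : n * z * n⁻¹ ∉ A) {r : G} (hr : r ∈ R) (hrA : r ∉ A) :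
    ∃ m ∈ normalizer (R : Set G), ∃ w ∈ R ⊓ A, w ≠ 1 ∧ m * w * m⁻¹ = r ∧
      n * w * n⁻¹ * r ∈ R ⊓ A := by
  -- the three images lie in the three cosets
  let f : (R ⊓ A : Subgroup G) → R ⧸ A.subgroupOf R := fun w =>
    QuotientGroup.mk ⟨n * w * n⁻¹, (mem_normalizer_iff.1 hn w).1 w.2.1⟩
  have hinj : Function.Injective f := by
    intro w w' e
    have e' := mem_subgroupOf.1 (QuotientGroup.eq.1 e)
    rw [Subgroup.coe_mul, Subgroup.coe_inv] at e'
    by_contra hne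
    refine h.conj_notMem_A hn hz hzA (mem_inf.2
      ⟨mul_mem (inv_mem w.2.1) w'.2.1, mul_mem (inv_mem w.2.2) w'.2.2⟩) (fun e1 => hne ?_) ?_
    · exact Subtype.ext (inv_mul_eq_one.1 e1)
    · rwa [show n * ((w : G)⁻¹ * (w' : G)) * n⁻¹ = (n * w * n⁻¹)⁻¹ * (n * w' * n⁻¹) by group]
  have hq : Nat.card (R ⧸ A.subgroupOf R) = 4 := by
    have h2 := Subgroup.card_eq_card_quotient_mul_card_subgroup (A.subgroupOf R)
    have h3 : Nat.card (A.subgroupOf R) = Nat.card (A ⊓ R : Subgroup G) := by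
      rw [← Subgroup.inf_subgroupOf_right]
      exact Nat.card_congr (Subgroup.subgroupOfEquivOfLe inf_le_right).toEquiv
    rw [h3, inf_comm, h.inf_card, h.R_card] at h2
    omega
  have hbij : Function.Bijective f := (Nat.bijective_iff_injective_and_card f).2
    ⟨hinj, by rw [hq, h.inf_card]⟩
  obtain ⟨w, hw⟩ := hbij.2 (QuotientGroup.mk ⟨r, hr⟩)
  have hx : n * w * n⁻¹ ∈ R := (mem_normalizer_iff.1 hn w).1 w.2.1
  have hxr : n * w * n⁻¹ * r ∈ R ⊓ A := by
    have e' := mem_subgroupOf.1 (QuotientGroup.eq.1 hw)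
    rw [Subgroup.coe_mul, Subgroup.coe_inv] at e'
    simp only at e'
    rw [h.R_inv hx] at e'
    exact mem_inf.2 ⟨mul_mem hx hr, e'⟩
  have hw1 : (w : G) ≠ 1 := fun e => hrA (by
    have := hxr.2
    rwa [e, mul_one, mul_inv_cancel, one_mul] at this)
  have hxA : n * w * n⁻¹ ∉ A := h.conj_notMem_A hn hz hzA w.2 hw1
  obtain ⟨s, hs, hse⟩ := h.exists_conj_eq hx hxA hxr
  refine ⟨s * n, mul_mem (h.le_norm_R hs) hn, w, w.2, hw1, ?_, hxr⟩
  rw [conj_comp, hse, ← mul_assoc, h.R_sq _ hx, one_mul]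

/-- Either `N(R)` is transitive on the involutions of `R` or it normalises `R ⊓ A`. -/
theorem fused_or_normalizes :
    Fused R ∨ ∀ n ∈ normalizer (R : Set G), ∀ z ∈ R ⊓ A, n * z * n⁻¹ ∈ A := by
  by_contra hne
  push Not at hne
  obtain ⟨hnf, n, hn, z₀, hz₀, hz₀A⟩ := hne
  set N := normalizer (R : Set G) with hN
  -- `N(R)`-classes of the involutions of `R ⊓ A`
  have hcov : ∀ x ∈ R, x ≠ 1 → ∃ m ∈ N, ∃ w ∈ R ⊓ A, w ≠ 1 ∧ m * w * m⁻¹ = x := by
    intro x hx hx1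
    by_cases hxA : x ∈ A
    · exact ⟨1, one_mem _, x, ⟨hx, hxA⟩, hx1, by group⟩
    · obtain ⟨m, hm, w, hw, hw1, he, -⟩ := h.exists_conj_mem_inf hn hz₀ hz₀A hx hxA
      exact ⟨m, hm, w, hw, hw1, he⟩
  -- some involution of `R ⊓ A` is alone in its class there
  obtain ⟨z, hz, hz1, hzu⟩ : ∃ z ∈ R ⊓ A, z ≠ 1 ∧
      ∀ w ∈ R ⊓ A, (∃ m ∈ N, m * z * m⁻¹ = w) → w = z := by
    by_contra hall
    push Not at hall
    refine hnf fun x hx hx1 y hy hy1 => ?_
    obtain ⟨m₁, hm₁, w₁, hw₁, hw₁1, e₁⟩ := hcov x hx hx1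
    obtain ⟨m₂, hm₂, w₂, hw₂, hw₂1, e₂⟩ := hcov y hy hy1
    suffices hconn : ∃ m ∈ N, m * w₁ * m⁻¹ = w₂ by
      obtain ⟨m, hm, e⟩ := hconn
      refine ⟨m₂ * m * m₁⁻¹, mul_mem (mul_mem hm₂ hm) (inv_mem hm₁), ?_⟩
      rw [← e₂, ← e, ← e₁]
      group
    rcases eq_or_ne w₁ w₂ with rfl | h12
    · exact ⟨1, one_mem _, by group⟩
    by_contra hnc
    -- three elements, a relation without isolated point is connected
    obtain ⟨u, hu, ⟨m, hm, em⟩, hu1⟩ := hall w₁ hw₁ hw₁1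
    obtain ⟨u', hu', ⟨m', hm', em'⟩, hu'1⟩ := hall w₂ hw₂ hw₂1
    have hune : u ≠ 1 := fun e => hw₁1 (conj_eq_one_iff.1 (em.trans e))
    have hu'ne : u' ≠ 1 := fun e => hw₂1 (conj_eq_one_iff.1 (em'.trans e))
    have huw : u ≠ w₂ := fun e => hnc ⟨m, hm, em.trans e⟩
    have hu'w : u' ≠ w₁ := fun e => hnc ⟨m'⁻¹, inv_mem hm', by rw [← e, ← em']; group⟩
    have huu : u = u' := by
      by_contra h3
      classical
      have hfive : ({1, w₁, w₂, u, u'} : Finset G).card = 5 := by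
        simp [hw₁1.symm, hw₂1.symm, hune.symm, hu'ne.symm, h12, hu1.symm, hu'w.symm, huw.symm,
          hu'1.symm, h3]
      have hsub : (({1, w₁, w₂, u, u'} : Finset G) : Set G) ⊆ ((R ⊓ A : Subgroup G) : Set G) := by
        intro y hy
        simp only [Finset.coe_insert, Finset.coe_singleton, Set.mem_insert_iff,
          Set.mem_singleton_iff] at hy
        rcases hy with rfl | rfl | rfl | rfl | rfl <;> first | exact one_mem _ | assumption
      have hle := Set.ncard_le_ncard hsub (Set.toFinite _)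
      rw [Set.ncard_coe_finset, hfive, ← Nat.card_coe_set_eq, SetLike.coe_sort_coe, h.inf_card] at hle
      omega
    refine hnc ⟨m'⁻¹ * m, mul_mem (inv_mem hm') hm, ?_⟩
    rw [conj_comp, em, huu, ← em']
    group
  -- the class of `z`
  have hxA : n * z * n⁻¹ ∉ A := h.conj_notMem_A hn hz₀ hz₀A hz hz1
  set x := n * z * n⁻¹ with hxdef
  have hxR : x ∈ R := (mem_normalizer_iff.1 hn z).1 hz.1
  obtain ⟨z', hz', hz'1, hz'z⟩ : ∃ z' ∈ R ⊓ A, z' ≠ 1 ∧ z' ≠ z := by
    by_contra hne'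
    push Not at hne'
    have hsub : ((R ⊓ A : Subgroup G) : Set G) ⊆ {1, z} := fun y hy => by
      rcases eq_or_ne y 1 with e | e
      · exact Or.inl e
      · exact Or.inr (hne' y hy e)
    have h4 := Set.ncard_le_ncard hsub (Set.toFinite _)
    rw [← Nat.card_coe_set_eq, SetLike.coe_sort_coe, h.inf_card] at h4
    have := Set.ncard_pair hz1.symm
    omega
  -- `x z'` is in the class, so is its product with `x`
  obtain ⟨s, hs, hse⟩ := h.exists_conj_eq hxR hxA hz'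
  set q := n⁻¹ * (x * z') * n with hq
  have hqR : q ∈ R := (mem_normalizer_iff''.1 hn _).1 (mul_mem hxR hz'.1)
  have hqclass : n⁻¹ * s * n * z * (n⁻¹ * s * n)⁻¹ = q := by
    rw [hq, ← hse, hxdef]
    group
  have hqA : q ∉ A := by
    intro hqA
    have h1 := hzu q ⟨hqR, hqA⟩
      ⟨n⁻¹ * s * n, mul_mem (mul_mem (inv_mem hn) (h.le_norm_R hs)) hn, hqclass⟩
    refine hz'1 (mul_left_cancel (a := x) ?_)
    calc x * z' = n * q * n⁻¹ := by rw [hq]; group
      _ = x * 1 := by rw [h1, hxdef, mul_one]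
  -- `z q` is again in the class
  obtain ⟨t, ht, hte⟩ := h.exists_conj_eq hqR hqA hz
  refine hz'z (hzu z' hz' ⟨n * (t * (n⁻¹ * s * n)), mul_mem hn (mul_mem (h.le_norm_R ht)
    (mul_mem (mul_mem (inv_mem hn) (h.le_norm_R hs)) hn)), ?_⟩)
  rw [conj_comp, conj_comp, hqclass, hte]
  calc n * (q * z) * n⁻¹ = (n * q * n⁻¹) * (n * z * n⁻¹) := by group
    _ = x * z' * x := by rw [hq, ← hxdef]; group
    _ = z' := by rw [h.R_comm hxR hz'.1, mul_assoc, h.R_sq x hxR, mul_one]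

/-- An element of `N(R)` centralising `R ⊓ A` and `R/(R ⊓ A)` lies in `C(R) S`. -/
theorem stab_eq : ∀ g ∈ normalizer (R : Set G), (∀ z ∈ R ⊓ A, g * z * g⁻¹ = z) →
    (∀ r ∈ R, g * r * g⁻¹ * r ∈ R ⊓ A) → g ∈ centralizer (R : Set G) ⊔ (S : Subgroup G) := by
  intro g hg hgz hgr
  set C := centralizer (R : Set G) with hC
  set M := C ⊔ (S : Subgroup G) with hM
  have hR : ∀ {y}, y ∈ normalizer (R : Set G) → ∀ r ∈ R, y * r * y⁻¹ ∈ R :=
    fun hy r hr => (mem_normalizer_iff.1 hy r).1 hr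
  have hact : ∀ y ∈ normalizer (R : Set G), (∀ z ∈ R ⊓ A, y * z * y⁻¹ = z) →
      ∀ r ∈ R, ∀ z ∈ R ⊓ A, y * (r * z) * y⁻¹ = y * r * y⁻¹ * z := by
    intro y _ hyz r _ z hz
    rw [show y * (r * z) * y⁻¹ = y * r * y⁻¹ * (y * z * y⁻¹) by group, hyz z hz]
  have hcent : ∀ y, (∀ r ∈ R, y * r * y⁻¹ = r) → y ∈ M := fun y hy =>
    mem_sup_left (mem_centralizer_iff.2 fun r hr => by
      have e := hy r hr
      rw [mul_inv_eq_iff_eq_mul] at e
      exact e.symm)
  have hg2 : g ^ 2 ∈ M := hcent _ fun r hr => by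
    rw [pow_two, conj_comp]
    have e : g * r * g⁻¹ = r * (g * r * g⁻¹ * r) := by
      rw [h.R_comm (hR hg r hr) hr, ← mul_assoc, h.R_sq r hr, one_mul]
    conv_lhs => rw [e]
    rw [hact g hg hgz r hr _ (hgr r hr), ← mul_assoc,
      h.R_sq _ (hR hg r hr), one_mul]
  have hgM : g ∈ normalizer (M : Set G) := CIT.mem_normalizer_of_forall fun y hy => by
    have hle : M ≤ M.comap (MulAut.conj g).toMonoidHom := sup_le
      (fun c hc => mem_comap.2 (mem_sup_left (by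
        rw [hC, mem_centralizer_iff] at hc ⊢
        intro r hr
        show r * (g * c * g⁻¹) = g * c * g⁻¹ * r
        calc r * (g * c * g⁻¹) = g * ((g⁻¹ * r * g) * c) * g⁻¹ := by group
          _ = g * (c * (g⁻¹ * r * g)) * g⁻¹ := by rw [hc _ ((mem_normalizer_iff''.1 hg r).1 hr)]
          _ = g * c * g⁻¹ * r := by group)))
      (fun s hs => mem_comap.2 (by
        show g * s * g⁻¹ ∈ M
        have hsN := h.le_norm_R hs
        have hsz : ∀ z ∈ R ⊓ A, s * z * s⁻¹ = z := fun z hz => by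
          rw [← h.central z hz s hs, mul_inv_cancel_right]
        have hk : g * s * g⁻¹ * s⁻¹ ∈ M := hcent _ fun r hr => by
          -- both act by translations by `R ⊓ A`
          obtain ⟨ρ, rfl⟩ : ∃ ρ, r = s * (g * ρ * g⁻¹) * s⁻¹ :=
            ⟨g⁻¹ * (s⁻¹ * r * s) * g, by group⟩
          have hρ : ρ ∈ R := by
            have h1 := hR (inv_mem (mul_mem hsN hg)) _ hr
            rwa [show (s * g)⁻¹ * (s * (g * ρ * g⁻¹) * s⁻¹) * (s * g)⁻¹⁻¹ = ρ by group] at h1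
          have eg : g * ρ * g⁻¹ = ρ * (g * ρ * g⁻¹ * ρ) := by
            rw [h.R_comm (hR hg ρ hρ) hρ, ← mul_assoc, h.R_sq ρ hρ, one_mul]
          have es : s * ρ * s⁻¹ = ρ * (s * ρ * s⁻¹ * ρ) := by
            rw [h.R_comm (hR hsN ρ hρ) hρ, ← mul_assoc, h.R_sq ρ hρ, one_mul]
          have c1 : s * (g * ρ * g⁻¹) * s⁻¹ = s * ρ * s⁻¹ * (g * ρ * g⁻¹ * ρ) := by
            conv_lhs => rw [eg]
            exact hact s hsN hsz ρ hρ _ (hgr ρ hρ)
          have c2 : g * (s * ρ * s⁻¹) * g⁻¹ = g * ρ * g⁻¹ * (s * ρ * s⁻¹ * ρ) := by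
            conv_lhs => rw [es]
            exact hact g hg hgz ρ hρ _ (h.conj_mul_mem hρ hs)
          calc g * s * g⁻¹ * s⁻¹ * (s * (g * ρ * g⁻¹) * s⁻¹) * (g * s * g⁻¹ * s⁻¹)⁻¹
              = g * (s * ρ * s⁻¹) * g⁻¹ := by group
            _ = s * (g * ρ * g⁻¹) * s⁻¹ := by
              rw [c1, c2]
              generalize ea : g * ρ * g⁻¹ = a
              generalize eb : s * ρ * s⁻¹ = b
              have ha : a ∈ R := by rw [← ea]; exact hR hg ρ hρ
              have hb : b ∈ R := by rw [← eb]; exact hR hsN ρ hρ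
              rw [← mul_assoc, ← mul_assoc, h.R_comm ha hb]
        have := mul_mem hk (mem_sup_right (S := C) hs)
        rwa [show g * s * g⁻¹ * s⁻¹ * s = g * s * g⁻¹ by group] at this))
    exact hle hy
  set P := M ⊔ zpowers g with hP
  have hMP : M ≤ P := le_sup_left
  haveI : (M.subgroupOf P).Normal :=
    normal_subgroupOf_of_le_normalizer (sup_le Subgroup.le_normalizer (zpowers_le.2 hgM))
  have hodd : ¬ 2 ∣ (M.subgroupOf P).index := fun e => S.not_dvd_index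
    (e.trans ((relIndex_dvd_index_of_le hMP).trans (index_dvd_of_le le_sup_right)))
  obtain ⟨k, hk⟩ := Nat.odd_iff.2 (show (M.subgroupOf P).index % 2 = 1 by omega)
  have hpow := Subgroup.pow_index_mem (M.subgroupOf P) ⟨g, mem_sup_right (mem_zpowers g)⟩
  rw [mem_subgroupOf, hk] at hpow
  have hpow' : g ^ (2 * k + 1) ∈ M := hpow
  rw [pow_succ, pow_mul] at hpow'
  exact (Subgroup.mul_mem_cancel_left _ (pow_mem hg2 k)).1 hpow'

/-- If `N(R)` normalises `R ⊓ A`, it is covered by `C(R)` and `N(S)`. -/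
theorem exists_mul_mem_norm_S (hns : ∀ n ∈ normalizer (R : Set G), ∀ z ∈ R ⊓ A, n * z * n⁻¹ ∈ A)
    {n : G} (hn : n ∈ normalizer (R : Set G)) :
    ∃ c ∈ centralizer (R : Set G), c * n ∈ normalizer ((S : Subgroup G) : Set G) := by
  haveI : Fact (Nat.Prime 2) := ⟨Nat.prime_two⟩
  set C := centralizer (R : Set G) with hC
  have hR : ∀ {y}, y ∈ normalizer (R : Set G) → ∀ r ∈ R, y * r * y⁻¹ ∈ R :=
    fun hy r hr => (mem_normalizer_iff.1 hy r).1 hr
  have hSC : (S : Subgroup G) ≤ normalizer (C : Set G) := fun s hs =>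
    CIT.mem_normalizer_of_forall fun c hc => by
      rw [hC, mem_centralizer_iff] at hc ⊢
      intro r hr
      calc r * (s * c * s⁻¹) = s * ((s⁻¹ * r * s) * c) * s⁻¹ := by group
        _ = s * (c * (s⁻¹ * r * s)) * s⁻¹ := by
          rw [hc _ ((mem_normalizer_iff''.1 (h.le_norm_R hs) r).1 hr)]
        _ = s * c * s⁻¹ * r := by group
  set M := C ⊔ (S : Subgroup G) with hM
  have hmul : ∀ m ∈ M, ∃ c ∈ C, ∃ s ∈ (S : Subgroup G), m = c * s := by
    intro m hm
    have : m ∈ (C : Set G) * ((S : Subgroup G) : Set G) := by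
      rw [← Subgroup.coe_mul_of_right_le_normalizer_left C (S : Subgroup G) hSC]
      exact hm
    obtain ⟨c, hc, s, hs, e⟩ := this
    exact ⟨c, hc, s, hs, e.symm⟩
  have hle : ((n • S : Sylow 2 G) : Subgroup G) ≤ M := by
    intro y hy
    rw [Sylow.coe_subgroup_smul] at hy
    obtain ⟨s, hs, rfl⟩ := hy
    refine h.stab_eq _ (mul_mem (mul_mem hn (h.le_norm_R hs)) (inv_mem hn)) (fun z hz => ?_)
      fun r hr => ?_
    · show n * s * n⁻¹ * z * (n * s * n⁻¹)⁻¹ = z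
      have hw : n⁻¹ * z * n ∈ R ⊓ A := by
        refine mem_inf.2 ⟨(mem_normalizer_iff''.1 hn z).1 hz.1, ?_⟩
        have := hns n⁻¹ (inv_mem hn) z hz
        rwa [inv_inv] at this
      calc n * s * n⁻¹ * z * (n * s * n⁻¹)⁻¹ = n * (s * (n⁻¹ * z * n)) * s⁻¹ * n⁻¹ := by group
        _ = n * ((n⁻¹ * z * n) * s) * s⁻¹ * n⁻¹ := by rw [h.central _ hw s hs]
        _ = z := by group
    · show n * s * n⁻¹ * r * (n * s * n⁻¹)⁻¹ * r ∈ R ⊓ A
      have hρ : n⁻¹ * r * n ∈ R := (mem_normalizer_iff''.1 hn r).1 hr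
      have hm := h.conj_mul_mem hρ hs
      rw [show n * s * n⁻¹ * r * (n * s * n⁻¹)⁻¹ * r =
        n * (s * (n⁻¹ * r * n) * s⁻¹ * (n⁻¹ * r * n)) * n⁻¹ by group]
      exact mem_inf.2 ⟨hR hn _ hm.1, hns n hn _ hm⟩
  obtain ⟨m, hm⟩ := MulAction.exists_smul_eq M ((n • S).subtype hle) (S.subtype le_sup_right)
  have hm' : (m : G) • (n • S) = S := by
    simp_rw [Sylow.smul_subtype, Subgroup.smul_def] at hm
    exact Sylow.subtype_injective hm
  rw [smul_smul, Sylow.smul_eq_iff_mem_normalizer] at hm'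
  obtain ⟨c, hc, s, hs, hcs⟩ := hmul m m.2
  refine ⟨s⁻¹ * c * s, ?_, ?_⟩
  · have := (mem_normalizer_iff''.1 (hSC hs) c).1 hc
    exact this
  · rw [hcs] at hm'
    have := mul_mem (inv_mem (Subgroup.le_normalizer hs)) hm'
    rwa [show s⁻¹ * (c * s * n) = s⁻¹ * c * s * n by group] at this

/-- In the second case the elements of `R \ A` stay out of `A` under `N(R)`. -/
theorem conj_notMem_of_normalizes
    (hns : ∀ n ∈ normalizer (R : Set G), ∀ z ∈ R ⊓ A, n * z * n⁻¹ ∈ A) {r : G} (hr : r ∈ R)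
    (hrA : r ∉ A) : ∀ n ∈ normalizer (R : Set G), n * r * n⁻¹ ∉ A := fun n hn hA => hrA (by
  have := hns n⁻¹ (inv_mem hn) _ (mem_inf.2 ⟨(mem_normalizer_iff.1 hn r).1 hr, hA⟩)
  rwa [show n⁻¹ * (n * r * n⁻¹) * n⁻¹⁻¹ = r by group] at this)

/-- In the first case `N(R)` carries every involution of `R` into `A`. -/
theorem exists_conj_mem_of_fused (hf : Fused R) {r : G} (hr : r ∈ R) :
    ∃ n ∈ normalizer (R : Set G), n * r * n⁻¹ ∈ A := by
  rcases eq_or_ne r 1 with rfl | hr1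
  · exact ⟨1, one_mem _, by simp⟩
  · obtain ⟨z, hz, hz1⟩ := h.exists_inf_ne_one
    obtain ⟨n, hn, e⟩ := hf r hr hr1 z hz.1 hz1
    exact ⟨n, hn, e.symm ▸ hz.2⟩

end Shape


end Cfsg.Agent.L34Type
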