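import Cfsg.Agent.Lib.L34Type.CentR
import Cfsg.Agent.Lib.L34Type.Count

/-!
# Sylow 2-subgroups of type `L₃(4)`: the involutions of the centraliser of a central involution

Modulo the core the involutions of `C(z)` are those of `S`.
-/

set_option autoImplicit false
set_option linter.style.haveILetI false
set_option linter.unusedSectionVars false

namespace Cfsg.Agent.L34Type

open Subgroup Cfsg.Agent.CIT Cfsg.Agent.Involutions
open Cfsg.Agent.StronglyClosedFour (core core_le core_odd le_normalizer_core eq_one_of_two_group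
  eq_one_of_sq odd_orderOf_of_mem)

universe u

variable {G : Type u} [Group G] [Finite G] {S : Sylow 2 G} {R A : Subgroup G}

/-- An involution in the coset of a second one modulo an odd subgroup is a conjugate of it. -/
theorem exists_conj_of_fibre {Q : Subgroup G} (hQ : Odd (Nat.card Q)) {u t : G} (hu : u * u = 1)
    (ht : t * t = 1) (hut : u * t ∈ Q) : ∃ q ∈ Q, q * t * q⁻¹ = u := by
  obtain ⟨j, hj⟩ := odd_orderOf_of_mem hQ hut
  set p := u * t with hp
  set q := p ^ (j + 1) with hq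
  have ht' : t⁻¹ = t := inv_eq_of_mul_eq_one_right ht
  have hup : u = p * t := by rw [hp, mul_assoc, ht, mul_one]
  have hpi : t * p * t⁻¹ = p⁻¹ := by
    have hu' : u⁻¹ = u := inv_eq_of_mul_eq_one_right hu
    rw [hp, mul_inv_rev, ht', hu', show t * (u * t) * t = t * u * (t * t) by group, ht, mul_one]
  have hqq : q * q = p := by
    rw [hq, ← pow_add, show j + 1 + (j + 1) = orderOf p + 1 by omega, pow_succ, pow_orderOf_eq_one,
      one_mul]
  have hqt : t * q * t⁻¹ = q⁻¹ := by rw [hq, ← conj_pow, hpi, inv_pow]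
  refine ⟨q, pow_mem hut _, ?_⟩
  calc q * t * q⁻¹ = q * (t * q * t⁻¹)⁻¹ * t := by group
    _ = u := by rw [hqt, inv_inv, hqq, hup]

namespace Shape

variable (h : Shape (S : Subgroup G) R A) {z : G}
include h

/-- A power of a product of two elements of `C(z)` is the same power of their images in `S`. -/
theorem pow_mod_core (hz : z ∈ R ⊓ A) {p q s t w : G}
    (hs : s ∈ (S : Subgroup G)) (ht : t ∈ (S : Subgroup G))
    (hp : p * s⁻¹ ∈ core (centralizer ({z} : Set G)))
    (hq : q * t⁻¹ ∈ core (centralizer ({z} : Set G))) {k : ℕ} (hk : (p * q) ^ k = w)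
    (hw : w ∈ (S : Subgroup G)) : (s * t) ^ k = w := by
  set C := centralizer ({z} : Set G) with hC
  have hSC := h.le_centralizer_of_mem_inf hz
  have hpC : p ∈ C := by
    have := mul_mem (core_le C hp) (hSC hs); rwa [inv_mul_cancel_right] at this
  have hqC : q ∈ C := by
    have := mul_mem (core_le C hq) (hSC ht); rwa [inv_mul_cancel_right] at this
  haveI : ((core C).subgroupOf C).Normal :=
    normal_subgroupOf_of_le_normalizer (le_normalizer_core C)
  let φ := QuotientGroup.mk' ((core C).subgroupOf C)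
  have hsame : ∀ {x y : G} (hx : x ∈ C) (hy : y ∈ C), x * y⁻¹ ∈ core C →
      φ ⟨x, hx⟩ = φ ⟨y, hy⟩ := fun {x y} hx hy hxy => by
    refine QuotientGroup.eq.2 (mem_subgroupOf.2 ?_)
    show x⁻¹ * y ∈ core C
    have := (mem_normalizer_iff''.1 (le_normalizer_core C hx) _).1 (inv_mem hxy)
    rwa [show x⁻¹ * (x * y⁻¹)⁻¹ * x = x⁻¹ * y by group] at this
  have e1 : φ ⟨(s * t) ^ k, pow_mem (mul_mem (hSC hs) (hSC ht)) k⟩ = φ ⟨w, hSC hw⟩ := by
    have e2 : φ (⟨s, hSC hs⟩ * ⟨t, hSC ht⟩) = φ (⟨p, hpC⟩ * ⟨q, hqC⟩) := by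
      rw [map_mul, map_mul, hsame hpC (hSC hs) hp, hsame hqC (hSC ht) hq]
    have e3 : φ ((⟨s, hSC hs⟩ * ⟨t, hSC ht⟩) ^ k) = φ ((⟨p, hpC⟩ * ⟨q, hqC⟩) ^ k) := by
      rw [map_pow, map_pow, e2]
    calc φ ⟨(s * t) ^ k, _⟩ = φ ((⟨s, hSC hs⟩ * ⟨t, hSC ht⟩) ^ k) := rfl
      _ = φ ((⟨p, hpC⟩ * ⟨q, hqC⟩) ^ k) := e3
      _ = φ ⟨w, hSC hw⟩ := congrArg φ (Subtype.ext hk)
  have h1 := mem_subgroupOf.1 (QuotientGroup.eq.1 e1)
  exact inv_mul_eq_one.1 (eq_one_of_two_group (core_odd C) S.2 h1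
    (mul_mem (inv_mem (pow_mem (mul_mem hs ht) k)) hw))

/-- An involution of `C(z)` is congruent and conjugate to one of `S`. -/
theorem cent_involution (hz : z ∈ R ⊓ A) (hz1 : z ≠ 1) {u : G} (hu : orderOf u = 2)
    (huC : u ∈ centralizer ({z} : Set G)) :
    ∃ t ∈ (S : Subgroup G), orderOf t = 2 ∧ u * t⁻¹ ∈ core (centralizer ({z} : Set G)) ∧
      ∃ q ∈ core (centralizer ({z} : Set G)), q * t * q⁻¹ = u := by
  set C := centralizer ({z} : Set G) with hC
  set Q := core C with hQ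
  obtain ⟨o, ho, n, hn, rfl⟩ := h.cent_cover hz hz1 u huC
  obtain ⟨hnS, hnC⟩ := mem_inf.1 hn
  have hQn : ∀ x ∈ C, ∀ y ∈ Q, x * y * x⁻¹ ∈ Q := fun x hx y hy =>
    (mem_normalizer_iff.1 (le_normalizer_core C hx) y).1 hy
  have hu2 := Basic.inv_sq_one hu
  have hnn : n * n ∈ Q := by
    have e : n * n = (o * (n * o * n⁻¹))⁻¹ := by
      refine eq_inv_of_mul_eq_one_right ?_
      rw [show o * (n * o * n⁻¹) * (n * n) = o * n * (o * n) by group, hu2]
    rw [e]
    exact inv_mem (mul_mem ho (hQn n hnC o ho))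
  obtain ⟨m, hm⟩ := h.exists_odd_pow hnS
  set t := n ^ (2 * m + 1) with htdef
  have hpow : ∀ i : ℕ, (n * n) ^ i ∈ Q := fun i => pow_mem hnn i
  have htn : t = (n * n) ^ m * n := by rw [htdef, pow_succ, pow_mul, pow_two]
  have ht2 : t * t = 1 := by
    refine eq_one_of_two_group (core_odd C) S.2 ?_ (mul_mem hm hm)
    rw [htdef, ← pow_add, show 2 * m + 1 + (2 * m + 1) = 2 * (2 * m + 1) by ring, pow_mul, pow_two]
    exact hpow _
  have hut : o * n * t⁻¹ ∈ Q := by
    rw [htn, show o * n * ((n * n) ^ m * n)⁻¹ = o * ((n * n) ^ m)⁻¹ by group]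
    exact mul_mem ho (inv_mem (hpow m))
  have ht1 : t ≠ 1 := fun e => by
    rw [e, inv_one, mul_one] at hut
    exact Basic.ne_one hu (eq_one_of_sq (odd_orderOf_of_mem (core_odd C) hut) hu2)
  obtain ⟨q, hq, e⟩ := exists_conj_of_fibre (core_odd C) hu2 ht2 (by
    rwa [inv_eq_of_mul_eq_one_right ht2] at hut)
  exact ⟨t, hm, Basic.orderOf_two_iff.2 ⟨ht2, ht1⟩, hut, q, hq, e⟩

/-- An involution of `S` is in `R` or `A`. -/
theorem mem_R_or_A {t : G} (ht : t ∈ (S : Subgroup G)) (ht2 : orderOf t = 2) : t ∈ R ∨ t ∈ A :=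
  h.involutions t ht (Basic.inv_sq_one ht2)

/-- A noncommuting pair from `R` and `A`: the powers of the product in `R ⊓ A`. -/
theorem mixed_pow_cases {r a : G} (hr : r ∈ R) (hrA : r ∉ A) (ha : a ∈ A) {k : ℕ} {w : G}
    (hw : w ∈ R ⊓ A) (hk : (r * a) ^ k = w) :
    w = 1 ∨ w = r * a * (r * a) := by
  have hsq := h.sq (r * a) (mul_mem (h.R_le hr) (h.A_le ha))
  have h4 : ∀ i : ℕ, (r * a * (r * a)) ^ i = 1 ∨ (r * a * (r * a)) ^ i = r * a * (r * a) := fun i => by
    induction i with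
    | zero => exact Or.inl (pow_zero _)
    | succ i ih =>
      rcases ih with e | e
      · exact Or.inr (by rw [pow_succ, e, one_mul])
      · exact Or.inl (by rw [pow_succ, e, h.R_sq _ hsq.1])
  rcases Nat.even_or_odd' k with ⟨i, hi | hi⟩
  · rw [hi, pow_mul, pow_two] at hk
    rcases h4 i with e | e
    · exact Or.inl (hk.symm.trans e)
    · exact Or.inr (hk.symm.trans e)
  · exfalso
    rw [hi, pow_succ, pow_mul, pow_two] at hk
    refine hrA ?_
    have hz : (r * a * (r * a)) ^ i ∈ R ⊓ A := pow_mem hsq i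
    have : r * a ∈ A := by
      have := mul_mem (inv_mem (mem_inf.1 hz).2) (mem_inf.1 hw).2
      rwa [← hk, inv_mul_cancel_left] at this
    have := mul_mem this (inv_mem ha)
    rwa [mul_inv_cancel_right] at this

end Shape

end Cfsg.Agent.L34Type
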