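import Cfsg.Agent.Lib.StronglyClosedFour.Basic
import Cfsg.Agent.InvChar.Core

/-!
# Automorphisms fixing a four-group pointwise

In a group of order 60 with a self-centralising four-group `Z` and `|N(Z)| = 12`, an automorphism
fixing `Z` pointwise is conjugation by an element of `Z`.
-/

set_option autoImplicit false
set_option linter.style.haveILetI false
set_option linter.unusedSectionVars false

namespace Cfsg.Agent.L34Type

open Subgroup
open scoped Pointwise

universe u

variable {Q : Type u} [Group Q] [Finite Q] {Z : Subgroup Q}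

theorem klein_aut (hZ4 : Nat.card Z = 4) (hsq : ∀ x ∈ Z, x * x = 1) (h60 : Nat.card Q = 60)
    (hcent : ∀ z ∈ Z, z ≠ 1 → centralizer ({z} : Set Q) = Z)
    (h12 : Nat.card (normalizer (Z : Set Q)) = 12) (hO : Cfsg.oddCore Q = ⊥)
    (α : MulAut Q) (hα : ∀ z ∈ Z, α z = z) :
    ∃ w ∈ Z, ∀ x, α x = w * x * w⁻¹ := by
  haveI : Fact (Nat.Prime 2) := ⟨Nat.prime_two⟩
  set N := normalizer (Z : Set Q) with hN
  have hcomm : ∀ a ∈ Z, ∀ b ∈ Z, a * b = b * a := fun a ha b hb => by
    calc a * b = (a * b)⁻¹ := (inv_eq_of_mul_eq_one_right (hsq _ (mul_mem ha hb))).symm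
      _ = b * a := by
        rw [mul_inv_rev, inv_eq_of_mul_eq_one_right (hsq a ha), inv_eq_of_mul_eq_one_right (hsq b hb)]
  have hNidx : N.index = 5 := by
    have h := N.card_mul_index
    rw [h60, h12] at h
    omega
  have hZrel : Z.relIndex N = 3 := by
    have h := relIndex_mul_relIndex (⊥ : Subgroup Q) Z N bot_le Subgroup.le_normalizer
    rw [relIndex_bot_left, relIndex_bot_left, hZ4, h12] at h
    omega
  haveI : (Z.subgroupOf N).Normal := Subgroup.normal_in_normalizer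
  -- involutions of `N(Z)` lie in `Z`
  have hinv : ∀ y ∈ N, y * y = 1 → y ∈ Z := by
    intro y hy hy2
    have h := Subgroup.pow_index_mem (Z.subgroupOf N) ⟨y, hy⟩
    rw [show (Z.subgroupOf N).index = 3 from hZrel, mem_subgroupOf] at h
    have h' : y ^ 3 ∈ Z := h
    rwa [pow_succ, pow_two, hy2, one_mul] at h'
  -- a conjugate of `Z` meeting `Z` is `Z`
  have hstab : ∀ g : Q, ∀ z ∈ Z, z ≠ 1 → g⁻¹ * z * g ∈ N → g ∈ N := by
    intro g z hz hz1 hgz
    have hw := hinv _ hgz (by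
      rw [show g⁻¹ * z * g * (g⁻¹ * z * g) = g⁻¹ * (z * z) * g by group, hsq z hz, mul_one,
        inv_mul_cancel])
    have hw1 : g⁻¹ * z * g ≠ 1 := fun e => hz1 (by
      calc z = g * (g⁻¹ * z * g) * g⁻¹ := by group
        _ = 1 := by rw [e, mul_one, mul_inv_cancel])
    have hmem : g⁻¹ ∈ N := mem_normalizer_fintype fun u hu => by
      show g⁻¹ * u * g⁻¹⁻¹ ∈ Z
      rw [← hcent _ hw hw1, mem_centralizer_singleton_iff]
      calc g⁻¹ * u * g⁻¹⁻¹ * (g⁻¹ * z * g) = g⁻¹ * (u * z) * g := by group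
        _ = g⁻¹ * (z * u) * g := by rw [hcomm u hu z hz]
        _ = g⁻¹ * z * g * (g⁻¹ * u * g⁻¹⁻¹) := by group
    simpa using inv_mem hmem
  obtain ⟨g, hg⟩ : ∃ g : Q, g ∉ N := by
    by_contra hall
    push Not at hall
    rw [(eq_top_iff' N).2 hall, Subgroup.index_top] at hNidx
    omega
  -- `Z` is regular on the cosets other than `N`
  let f : Z → {c : Q ⧸ N // c ≠ ((1 : Q) : Q ⧸ N)} := fun v => ⟨(((v : Q) * g : Q) : Q ⧸ N), fun e => by
    have h := QuotientGroup.eq.1 e
    rw [mul_one] at h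
    have h' := inv_mem h
    rw [inv_inv] at h'
    exact hg ((Subgroup.mul_mem_cancel_left _ (Subgroup.le_normalizer v.2)).1 h')⟩
  have hf : Function.Bijective f := by
    refine (Nat.bijective_iff_injective_and_card f).2 ⟨fun v v' e => ?_, ?_⟩
    · have e' := QuotientGroup.eq.1 (congrArg Subtype.val e)
      rw [show ((v : Q) * g)⁻¹ * ((v' : Q) * g) = g⁻¹ * ((v : Q)⁻¹ * (v' : Q)) * g by group] at e'
      by_contra hne
      exact hg (hstab g _ (mul_mem (inv_mem v.2) v'.2)
        (fun e1 => hne (Subtype.ext (inv_mul_eq_one.1 e1))) e')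
    · classical
      haveI := Fintype.ofFinite (Q ⧸ N)
      rw [hZ4, Nat.card_eq_fintype_card, Fintype.card_subtype_compl, Fintype.card_subtype_eq,
        ← Nat.card_eq_fintype_card, show Nat.card (Q ⧸ N) = 5 from hNidx]
  have hcoset : ∀ h, h ∉ N → ∃ v ∈ Z, ∃ n ∈ N, h = v * g * n := by
    intro h hh
    obtain ⟨v, hv⟩ := hf.2 ⟨((h : Q) : Q ⧸ N), fun e => by
      have h1 := QuotientGroup.eq.1 e
      rw [mul_one] at h1
      exact hh (by simpa using inv_mem h1)⟩
    refine ⟨v, v.2, ((v : Q) * g)⁻¹ * h, QuotientGroup.eq.1 (congrArg Subtype.val hv), by group⟩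
  have hαN : ∀ n ∈ N, α n ∈ N := fun n hn => mem_normalizer_fintype fun u hu => by
    show α n * u * (α n)⁻¹ ∈ Z
    have hu' := (mem_normalizer_iff.1 hn u).1 hu
    rw [← hα u hu, ← map_inv, ← map_mul, ← map_mul, hα _ hu']
    exact hu'
  have hαg : α g ∉ N := by
    intro e
    refine hg (mem_normalizer_fintype fun u hu => ?_)
    show g * u * g⁻¹ ∈ Z
    have hu' := (mem_normalizer_iff.1 e u).1 hu
    have h1 : α (g * u * g⁻¹) = α g * u * (α g)⁻¹ := by rw [map_mul, map_mul, map_inv, hα u hu]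
    rw [← hα _ hu'] at h1
    rw [α.injective h1]
    exact hu'
  obtain ⟨w, hw, n₀, hn₀, he⟩ := hcoset _ hαg
  refine ⟨w, hw, ?_⟩
  -- `d` measures the difference
  set d : Q → Q := fun x => x⁻¹ * (w⁻¹ * α x * w) with hd
  have hdmul : ∀ h k, k⁻¹ * d h * k = d (h * k) * (d k)⁻¹ := fun h k => by
    simp only [hd, map_mul]
    group
  have hdN : ∀ h, d h ∈ N := by
    intro h
    have hwN : w ∈ N := Subgroup.le_normalizer hw
    by_cases hh : h ∈ N
    · exact mul_mem (inv_mem hh) (mul_mem (mul_mem (inv_mem hwN) (hαN h hh)) hwN)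
    obtain ⟨v, hv, n, hn, rfl⟩ := hcoset h hh
    have hdg : g⁻¹ * (w⁻¹ * α g) ∈ N := by
      rw [he, show g⁻¹ * (w⁻¹ * (w * g * n₀)) = n₀ by group]; exact hn₀
    have e : d (v * g * n) = n⁻¹ * (g⁻¹ * (w⁻¹ * α g)) * α n * w := by
      simp only [hd, map_mul, hα v hv]
      have hvw : w⁻¹ * v = v * w⁻¹ := hcomm _ (inv_mem hw) v hv
      calc (v * g * n)⁻¹ * (w⁻¹ * (v * α g * α n) * w)
          = n⁻¹ * g⁻¹ * v⁻¹ * (w⁻¹ * v) * α g * α n * w := by group
        _ = _ := by rw [hvw]; group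
    rw [e]
    exact mul_mem (mul_mem (mul_mem (inv_mem hn) hdg) (hαN n hn)) hwN
  -- the normal core of `N(Z)` is trivial
  have hcore : N.normalCore = ⊥ := by
    set X := N.normalCore with hX
    have hXZ : X ⊓ Z = ⊥ := (Subgroup.eq_bot_iff_forall _).2 fun z hz => by
      by_contra hz1
      have hall : ∀ x : Q, x ∈ N := fun x => hstab x z hz.2 hz1 (by
        have h := Subgroup.normalCore_le N (Normal.conj_mem (Subgroup.normalCore_normal N) z hz.1 x⁻¹)
        rwa [inv_inv] at h)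
      exact hg (hall g)
    have hodd : Odd (Nat.card X) := by
      by_contra hev
      rw [Nat.not_odd_iff_even, even_iff_two_dvd] at hev
      obtain ⟨⟨y, hy⟩, hy2⟩ := exists_prime_orderOf_dvd_card' 2 hev
      rw [Subgroup.orderOf_mk] at hy2
      have hyy : y * y = 1 := by rw [← pow_two, ← hy2, pow_orderOf_eq_one]
      have h0 : y ∈ (⊥ : Subgroup Q) :=
        hXZ ▸ mem_inf.2 ⟨hy, hinv y (Subgroup.normalCore_le N hy) hyy⟩
      rw [Subgroup.mem_bot] at h0
      rw [h0, orderOf_one] at hy2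
      omega
    exact le_bot_iff.1 (hO ▸ InvChar.Core.le_oddCore (Subgroup.normalCore_normal N) hodd)
  intro x
  have hdx : d x ∈ N.normalCore := by
    intro b
    show b * d x * b⁻¹ ∈ N
    have e := hdmul x b⁻¹
    rw [inv_inv] at e
    rw [e]
    exact mul_mem (hdN _) (inv_mem (hdN _))
  rw [hcore, Subgroup.mem_bot] at hdx
  have e2 : w⁻¹ * α x * w = x := (inv_mul_eq_one.1 hdx).symm
  calc α x = w * (w⁻¹ * α x * w) * w⁻¹ := by group
    _ = w * x * w⁻¹ := by rw [e2]

end Cfsg.Agent.L34Type
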