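import Cfsg.Agent.Lib.L34Type.KleinFree
import Cfsg.Agent.S0811
import Cfsg.Agent.S0812

/-!
# For `q ≠ 5` the centralisers of the involutions of `PSL₂(q)` are maximal and dihedral
-/

set_option autoImplicit false
set_option linter.style.haveILetI false
set_option linter.unusedSectionVars false

namespace Cfsg.Agent.L34Type.Klein

open Subgroup

universe u

/-- A nontrivial central element of a dihedral group of twice even degree. -/
theorem dihedral_central {m : ℕ} (hm : 3 ≤ m) (x : DihedralGroup (2 * m))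
    (hx : ∀ y, x * y = y * x) : x = 1 ∨ x = DihedralGroup.r (m : ZMod (2 * m)) := by
  haveI : NeZero (2 * m) := ⟨by omega⟩
  rcases x with i | i
  · have h := hx (DihedralGroup.sr 0)
    rw [DihedralGroup.r_mul_sr, DihedralGroup.sr_mul_r] at h
    have hi : i + i = 0 := by
      have h1 : (0 : ZMod (2 * m)) - i = 0 + i := by simpa using h
      linear_combination -h1
    have hv := congrArg ZMod.val hi
    rw [ZMod.val_add, ZMod.val_zero] at hv
    have hlt := ZMod.val_lt i
    obtain ⟨c, hc⟩ : (2 * m) ∣ i.val + i.val := Nat.dvd_of_mod_eq_zero hv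
    have hc2 : c < 2 := by
      by_contra hne
      have := Nat.mul_le_mul_left (2 * m) (not_lt.1 hne)
      omega
    interval_cases c
    · left
      rw [(ZMod.val_eq_zero i).1 (by omega)]
      rfl
    · right
      rw [← ZMod.natCast_zmod_val i, show i.val = m by omega]
  · exfalso
    have h := hx (DihedralGroup.r 1)
    rw [DihedralGroup.sr_mul_r, DihedralGroup.r_mul_sr] at h
    have h1 : i + 1 = i - 1 := by simpa using h
    have h2 : ((2 : ℕ) : ZMod (2 * m)) = 0 := by push_cast; linear_combination h1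
    rw [ZMod.natCast_eq_zero_iff] at h2
    have := Nat.le_of_dvd (by norm_num) h2
    omega

theorem dihedral_r_central (m : ℕ) (y : DihedralGroup (2 * m)) :
    DihedralGroup.r (m : ZMod (2 * m)) * y = y * DihedralGroup.r (m : ZMod (2 * m)) := by
  have h2 : (m : ZMod (2 * m)) + m = 0 := by
    rw [← Nat.cast_add, ← two_mul, ZMod.natCast_self]
  rcases y with i | i
  · rw [DihedralGroup.r_mul_r, DihedralGroup.r_mul_r, add_comm]
  · rw [DihedralGroup.r_mul_sr, DihedralGroup.sr_mul_r]
    congr 1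
    linear_combination -h2

variable {G : Type u} [Group G] [Finite G] {Z L : Subgroup G} {F : Type} [Field F] [Fintype F]
  {e : L ≃* Matrix.ProjectiveSpecialLinearGroup (Fin 2) F}

/-- Centralisers of involutions in `PSL₂(q)`, `q ≡ 3, 5 (mod 8)`, `q ≥ 11`. -/
theorem exists_maximal_cent (hodd : Odd (Fintype.card F))
    (h8 : Fintype.card F % 8 = 3 ∨ Fintype.card F % 8 = 5) (h11 : 11 ≤ Fintype.card F) :
    ∃ (m : ℕ) (s : Matrix.ProjectiveSpecialLinearGroup (Fin 2) F), 3 ≤ m ∧ orderOf s = 2 ∧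
      IsCoatom (centralizer ({s} : Set (Matrix.ProjectiveSpecialLinearGroup (Fin 2) F))) ∧
      Nonempty (centralizer ({s} : Set (Matrix.ProjectiveSpecialLinearGroup (Fin 2) F)) ≃*
        DihedralGroup (2 * m)) := by
  set q := Fintype.card F with hq
  have hg : Nat.gcd 2 (q - 1) = 2 :=
    Nat.gcd_eq_left (Nat.dvd_of_mod_eq_zero (by obtain ⟨k, hk⟩ := hodd; omega))
  obtain ⟨m, hm, D, hD, ⟨ed⟩, hcase⟩ : ∃ m : ℕ, 3 ≤ m ∧
      ∃ D : Subgroup (Matrix.ProjectiveSpecialLinearGroup (Fin 2) F), IsCoatom D ∧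
      Nonempty (D ≃* DihedralGroup (2 * m)) ∧
      ((q % 8 = 3 ∧ q + 1 = 4 * m) ∨ (q % 8 = 5 ∧ q = 4 * m + 1)) := by
    rcases h8 with h | h
    · obtain ⟨D, hD, hed⟩ := S0811.result (F := F) (q := q) rfl
        (by simp only [Finset.mem_insert, Finset.mem_singleton]; omega)
      rw [hg, show (q + 1) / 2 = 2 * ((q + 1) / 4) by omega] at hed
      exact ⟨(q + 1) / 4, by omega, D, hD, hed, Or.inl ⟨h, by omega⟩⟩
    · obtain ⟨D, hD, hed⟩ := S0812.result (F := F) (q := q) rfl
        (by simp only [Finset.mem_insert, Finset.mem_singleton]; omega)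
      rw [hg, show (q - 1) / 2 = 2 * ((q - 1) / 4) by omega] at hed
      exact ⟨(q - 1) / 4, by omega, D, hD, hed, Or.inr ⟨h, by omega⟩⟩
  haveI : NeZero (2 * m) := ⟨by omega⟩
  set s₀ : D := ed.symm (DihedralGroup.r (m : ZMod (2 * m))) with hs₀
  set s : Matrix.ProjectiveSpecialLinearGroup (Fin 2) F := Subtype.val s₀ with hs
  have hso : orderOf s = 2 := by
    rw [hs, Subgroup.orderOf_coe, hs₀, MulEquiv.orderOf_eq, DihedralGroup.orderOf_r,
      ZMod.val_natCast, Nat.mod_eq_of_lt (by omega), Nat.gcd_mul_left_left,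
      Nat.mul_div_cancel _ (by omega : 0 < m)]
  have hle : D ≤ centralizer ({s} : Set (Matrix.ProjectiveSpecialLinearGroup (Fin 2) F)) := by
    intro x hx
    rw [mem_centralizer_singleton_iff]
    refine (congrArg Subtype.val (ed.injective ?_ : s₀ * ⟨x, hx⟩ = ⟨x, hx⟩ * s₀)).symm
    rw [map_mul, map_mul, hs₀, ed.apply_symm_apply]
    exact dihedral_r_central m _
  obtain ⟨δ, hδ, hc, h4, -⟩ := GW.KleinPSL.centralizers hodd hso
  have hD4 : Nat.card D = 4 * m := by
    rw [Nat.card_congr ed.toEquiv, DihedralGroup.nat_card]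
    ring
  have hcard : Nat.card (centralizer ({s} : Set (Matrix.ProjectiveSpecialLinearGroup (Fin 2) F))) ≤
      Nat.card D := by
    rw [hD4]
    obtain ⟨k, hk⟩ := h4
    rcases hδ with rfl | rfl <;> rcases hcase with ⟨_, _⟩ | ⟨_, _⟩ <;> omega
  have he := Subgroup.eq_of_le_of_card_ge hle hcard
  exact ⟨m, s, hm, hso, he ▸ hD, ⟨(MulEquiv.subgroupCongr he.symm).trans ed⟩⟩

/-- For `q ≥ 11` a proper subgroup of `L` cannot contain the centralisers of two involutions of
`Z`. -/
theorem Lin.not_two_cents (d : Lin Z L F e) (h : Setting Z) (h11 : 11 ≤ Fintype.card F)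
    {K : Subgroup L} (hK : K ≠ ⊤)
    (hcent : ∀ z ∈ Z, z ≠ 1 → (centralizer ({z} : Set G)).subgroupOf L ≤ K) : False := by
  haveI := d.normal
  obtain ⟨m, s, hm, hso, hco, hed⟩ := exists_maximal_cent d.odd_q d.mod_eight h11
  set s' : L := e.symm s with hs'
  have h' : ∀ z ∈ Z, z ≠ 1 → IsCoatom ((centralizer ({z} : Set G)).subgroupOf L) ∧
      Nonempty ((centralizer ({z} : Set G)).subgroupOf L ≃* DihedralGroup (2 * m)) := by
    intro z hz hz1
    obtain ⟨g, hg⟩ := isConj_iff.1 (h.one_class s' z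
      (by rw [Subgroup.orderOf_coe, hs', MulEquiv.orderOf_eq, hso])
      (order_two (h.sq z hz) hz1))
    set φ : L ≃* L := MulAut.conjNormal g with hφ
    set ψ : Matrix.ProjectiveSpecialLinearGroup (Fin 2) F ≃* L := e.symm.trans φ with hψ
    have hmap : (centralizer ({s} : Set (Matrix.ProjectiveSpecialLinearGroup (Fin 2) F))).map
        ψ.toMonoidHom = (centralizer ({z} : Set G)).subgroupOf L := by
      have hzL : z ∈ L := d.le hz
      ext y
      rw [mem_subgroupOf, mem_centralizer_singleton_iff]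
      have hψs : ψ s = ⟨z, hzL⟩ := Subtype.ext (by
        rw [hψ, MulEquiv.trans_apply, ← hs', hφ, MulAut.conjNormal_apply, hg])
      constructor
      · rintro ⟨x, hx, rfl⟩
        have := congrArg ψ (mem_centralizer_singleton_iff.1 hx)
        rw [map_mul, map_mul, hψs] at this
        exact congrArg Subtype.val this
      · intro hy
        refine ⟨ψ.symm y, mem_centralizer_singleton_iff.2 (ψ.injective ?_), ψ.apply_symm_apply y⟩
        rw [map_mul, map_mul, hψs, ψ.apply_symm_apply]
        exact Subtype.ext hy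
    rw [← hmap]
    exact ⟨(OrderIso.isCoatom_iff ψ.mapSubgroup _).2 hco,
      hed.map (ψ.subgroupMap _).symm.trans⟩
  obtain ⟨a, ha, ha1⟩ := h.exists_mem_ne_one
  obtain ⟨b, hb, hb1, hba, -⟩ := h.exists_others ha ha1
  have heq : ∀ z ∈ Z, z ≠ 1 → (centralizer ({z} : Set G)).subgroupOf L = K := fun z hz hz1 =>
    ((h' z hz hz1).1.le_iff.1 (hcent z hz hz1)).resolve_left hK |>.symm
  obtain ⟨-, ⟨ed⟩⟩ := h' a ha ha1
  have hcen : ∀ z (hz : z ∈ Z), z ≠ 1 →
      ed ⟨⟨z, d.le hz⟩, mem_subgroupOf.2 (h.le_centralizer_singleton ha hz)⟩ =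
        DihedralGroup.r (m : ZMod (2 * m)) := by
    intro z hz hz1
    refine (dihedral_central hm _ fun y => ?_).resolve_left fun e1 => hz1 ?_
    · obtain ⟨y, rfl⟩ := ed.surjective y
      rw [← map_mul, ← map_mul]
      refine congrArg ed (Subtype.ext (Subtype.ext ?_))
      have hy : y.1 ∈ (centralizer ({z} : Set G)).subgroupOf L := by
        rw [heq z hz hz1, ← heq a ha ha1]
        exact y.2
      exact (mem_centralizer_singleton_iff.1 (mem_subgroupOf.1 hy)).symm
    · rw [← map_one ed] at e1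
      exact congrArg (fun w : (centralizer ({a} : Set G)).subgroupOf L => ((w : L) : G))
        (ed.injective e1)
  exact hba (congrArg (fun w : (centralizer ({a} : Set G)).subgroupOf L => ((w : L) : G))
    (ed.injective ((hcen b hb hb1).trans (hcen a ha ha1).symm)))

end Cfsg.Agent.L34Type.Klein
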