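import Cfsg.Agent.Lib.L34Type.KleinDihedral
import Cfsg.Agent.Lib.TimesPSLTwo.PSLFacts

/-!
# The embedded case: only the alternating group of degree five is left
-/

set_option autoImplicit false
set_option linter.style.haveILetI false
set_option linter.unusedSectionVars false

namespace Cfsg.Agent.L34Type.Klein

open Subgroup
open Cfsg.Agent.StronglyClosedFour (exists_conj_into core core_odd)

universe u

variable {G : Type u} [Group G] [Finite G] {Z L : Subgroup G} {F : Type} [Field F] [Fintype F]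
  {e : L ≃* Matrix.ProjectiveSpecialLinearGroup (Fin 2) F}

theorem Setting.sup_normalizer (h : Setting Z) [L.Normal] (hZL : Z ≤ L) :
    L ⊔ normalizer (Z : Set G) = ⊤ := by
  refine top_le_iff.1 fun g _ => ?_
  have hle : Z.map (MulAut.conj g).toMonoidHom ≤ L := by
    rintro _ ⟨a, ha, rfl⟩
    exact Subgroup.Normal.conj_mem inferInstance _ (hZL ha) g
  obtain ⟨k, hk, hkc⟩ := exists_conj_into (h.isPGroup.map _) hle (h.odd_relIndex hZL)
  have hn : k⁻¹ * g ∈ normalizer (Z : Set G) := CIT.mem_normalizer_of_forall fun a ha => by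
    rw [show k⁻¹ * g * a * (k⁻¹ * g)⁻¹ = k⁻¹ * (g * a * g⁻¹) * k by group]
    exact hkc _ ⟨a, ha, rfl⟩
  simpa using mul_mem (mem_sup_left hk : k ∈ L ⊔ normalizer (Z : Set G)) (mem_sup_right hn)

/-- A subgroup between `C(Z)` and `N(Z)` transitive or not has index at most three over `C(Z)`. -/
theorem Setting.relIndex_le_three (h : Setting Z) {A : Subgroup G}
    (hA : A ≤ normalizer (Z : Set G)) : (centralizer (Z : Set G)).relIndex A ≤ 3 := by
  classical
  obtain ⟨z, hz, hz1⟩ := h.exists_mem_ne_one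
  haveI := Fintype.ofFinite G
  let f : A ⧸ (centralizer (Z : Set G)).subgroupOf A → {x : Z // x ≠ 1} := fun c =>
    ⟨⟨(c.out : G) * z * (c.out : G)⁻¹, (mem_normalizer_iff.1 (hA c.out.2) z).1 hz⟩, fun e1 =>
      hz1 (conj_eq_one_iff.1 (congrArg Subtype.val e1))⟩
  have hf : Function.Injective f := by
    intro c d hcd
    have h1 : (c.out : G) * z * (c.out : G)⁻¹ = (d.out : G) * z * (d.out : G)⁻¹ :=
      congrArg (fun x : {x : Z // x ≠ 1} => ((x : Z) : G)) hcd
    rw [← c.out_eq, ← d.out_eq]
    refine QuotientGroup.eq.2 (mem_subgroupOf.2 ?_)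
    refine h.mem_centralizer_of_fix hz hz1 (mul_mem (inv_mem (hA c.out.2)) (hA d.out.2)) ?_
    rw [Subgroup.coe_mul, Subgroup.coe_inv]
    calc (c.out : G)⁻¹ * d.out * z
        = (c.out : G)⁻¹ * ((d.out : G) * z * (d.out : G)⁻¹) * d.out := by group
      _ = z * ((c.out : G)⁻¹ * d.out) := by rw [← h1]; group
  refine (Nat.card_le_card_of_injective f hf).trans (le_of_eq ?_)
  rw [Nat.card_eq_fintype_card, Fintype.card_subtype_compl, Fintype.card_subtype_eq,
    ← Nat.card_eq_fintype_card, h.card]

theorem Setting.odd_relIndex_cent (h : Setting Z) (A : Subgroup G) (hA : Z ≤ A) :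
    Odd ((centralizer (Z : Set G)).relIndex A) :=
  (h.odd_relIndex hA).of_dvd_nat (by
    rw [← Subgroup.inf_relIndex_right (centralizer (Z : Set G)) A]
    exact Dvd.intro_left _ (Subgroup.relIndex_mul_relIndex Z _ A
      (le_inf h.le_centralizer hA) inf_le_right))

/-- The order of the normaliser of `Z` against that of its centraliser. -/
theorem Setting.card_normalizer (h : Setting Z) :
    Nat.card (normalizer (Z : Set G)) = 3 * Nat.card (centralizer (Z : Set G)) := by
  have hCN : centralizer (Z : Set G) ≤ normalizer (Z : Set G) := centralizer_le_normalizer _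
  have h1 := card_mul_relIndex hCN
  have h3 := h.relIndex_le_three (le_refl (normalizer (Z : Set G)))
  obtain ⟨k, hk⟩ := h.odd_relIndex_cent _ Subgroup.le_normalizer
  have hne : (centralizer (Z : Set G)).relIndex (normalizer (Z : Set G)) ≠ 1 := fun e1 => by
    rw [Subgroup.relIndex_eq_one] at e1
    obtain ⟨z, hz, hz1⟩ := h.exists_mem_ne_one
    obtain ⟨w, hw, hw1, hwz, -⟩ := h.exists_others hz hz1
    obtain ⟨n, hn, hnz⟩ := h.exists_conj_normalizer hz hz1 hw hw1
    rw [← mem_centralizer_iff.1 (e1 hn) z hz, mul_inv_cancel_right] at hnz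
    exact hwz hnz.symm
  rw [show (centralizer (Z : Set G)).relIndex (normalizer (Z : Set G)) = 3 by omega] at h1
  omega

/-- The final case `q = 5`. -/
theorem Lin.five (d : Lin Z L F e) (h : Setting Z) (hO : Cfsg.oddCore G = ⊥)
    (h5 : Fintype.card F = 5) :
    Nat.card G = 60 ∧ (∀ z ∈ Z, z ≠ 1 → centralizer ({z} : Set G) = Z) ∧
      Nat.card (normalizer (Z : Set G)) = 12 := by
  haveI := d.normal
  have hL : Nat.card L = 60 := by
    have := d.card_L
    rw [h5] at this
    omega
  have hcl : ∀ z ∈ Z, z ≠ 1 → L ⊓ centralizer ({z} : Set G) = Z := by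
    intro z hz hz1
    obtain ⟨δ, hδ, hc, h4⟩ := d.psl_facts h hz hz1
    refine (Subgroup.eq_of_le_of_card_ge (le_inf d.le (h.le_centralizer_singleton hz)) ?_).symm
    rw [h.card]
    rw [h5] at hc h4
    rcases hδ with rfl | rfl <;> omega
  have hcz : ∀ z ∈ Z, z ≠ 1 → centralizer ({z} : Set G) = centralizer (Z : Set G) := fun z hz hz1 => by
    refine le_antisymm ?_ (h.cent_le_cent hz)
    conv_lhs => rw [h.centralizer_eq_sup hz hz1 d.le, hcl z hz hz1]
    exact sup_le h.le_centralizer le_rfl
  set A := L ⊓ normalizer (Z : Set G) with hA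
  have hZA : Z ≤ A := le_inf d.le Subgroup.le_normalizer
  have hAC : A ⊓ centralizer (Z : Set G) = Z := by
    obtain ⟨z, hz, hz1⟩ := h.exists_mem_ne_one
    refine le_antisymm ?_ (le_inf hZA h.le_centralizer)
    refine (le_inf (inf_le_left.trans inf_le_left) (inf_le_right.trans (h.cent_le_cent hz))).trans
      (hcl z hz hz1).le
  have hA12 : Nat.card A = 12 := by
    have hrel : (centralizer (Z : Set G)).relIndex A = Z.relIndex A := by
      rw [← Subgroup.inf_relIndex_right (centralizer (Z : Set G)) A, inf_comm, hAC]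
    have h3 := h.relIndex_le_three (inf_le_right : A ≤ normalizer (Z : Set G))
    obtain ⟨k, hk⟩ := h.odd_relIndex hZA
    rw [hrel] at h3
    have hne : Z.relIndex A ≠ 1 := by
      intro e1
      have hAZ : A ≤ Z := Subgroup.relIndex_eq_one.1 e1
      have hb := StronglyClosedFour.burnside h.isPGroup d.le (h.odd_relIndex d.le) fun n hn hn' a ha =>
        h.comm (hAZ (mem_inf.2 ⟨hn, hn'⟩)) ha
      have hn : (core L).Normal :=
        Cores.normal_map_subtype L (Cfsg.oddCore L)
      have hcore : core L = ⊥ := le_bot_iff.1 (hO ▸ Cores.le_oddCore (core_odd L))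
      have hLZ : L ≤ Z := fun x hx => by
        obtain ⟨o, ho, a, ha, rfl⟩ := hb x hx
        rw [hcore, mem_bot] at ho
        rwa [ho, one_mul]
      have := Subgroup.card_dvd_of_le hLZ
      rw [hL, h.card] at this
      omega
    have h1 := card_mul_relIndex hZA
    rw [h.card, show Z.relIndex A = 3 by omega] at h1
    omega
  -- an element of odd order centralising `Z` centralises `L`
  have hodd : ∀ x ∈ centralizer (Z : Set G), Odd (orderOf x) → x = 1 := by
    intro x hx hxo
    have hxN : x ∈ normalizer (Z : Set G) := centralizer_le_normalizer _ hx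
    have hxA : ∀ a ∈ A, x * a * x⁻¹ ∈ A := fun a ha => mem_inf.2
      ⟨d.normal.conj_mem a (mem_inf.1 ha).1 x,
        mul_mem (mul_mem hxN (mem_inf.1 ha).2) (inv_mem hxN)⟩
    -- the action on the five cosets
    have hfix : ∀ g ∈ L, ∀ w ∈ Z, g⁻¹ * w * g ∈ A → g ∈ A ∨ w = 1 := by
      intro g hg w hw hgw
      by_cases hw1 : w = 1
      · exact Or.inr hw1
      left
      have hmem : g⁻¹ * w * g ∈ Z := h.mem_of_two (mem_inf.1 hgw).2 (k := 1) (by
        rw [pow_one, pow_two, show g⁻¹ * w * g * (g⁻¹ * w * g) = g⁻¹ * (w * w) * g by group,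
          h.sq w hw]
        group)
      have hne : g⁻¹ * w * g ≠ 1 := fun e1 => hw1 (by
        calc w = g * (g⁻¹ * w * g) * g⁻¹ := by group
          _ = 1 := by rw [e1]; group)
      obtain ⟨n, hn, hnw⟩ := h.exists_conj_normalizer hmem hne hw hw1
      have hc : n⁻¹ * g ∈ centralizer ({g⁻¹ * w * g} : Set G) := by
        rw [mem_centralizer_singleton_iff]
        have h2 : n * (g⁻¹ * w * g) = w * n := mul_inv_eq_iff_eq_mul.1 hnw
        calc n⁻¹ * g * (g⁻¹ * w * g) = n⁻¹ * (w * n) * (n⁻¹ * g) := by group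
          _ = g⁻¹ * w * g * (n⁻¹ * g) := by rw [← h2]; group
      rw [hcz _ hmem hne] at hc
      exact mem_inf.2 ⟨hg, by simpa using mul_mem hn (centralizer_le_normalizer _ hc)⟩
    have hcover : ∀ g ∈ L, g ∉ A → ∀ u ∈ L, u ∈ A ∨ ∃ w ∈ Z, (w * g)⁻¹ * u ∈ A := by
      intro g hg hgA
      classical
      haveI := Fintype.ofFinite G
      let f : Option Z → L ⧸ A.subgroupOf L := fun o => o.elim ((1 : L) : L ⧸ A.subgroupOf L)
        fun w => ((⟨(w : G) * g, mul_mem (d.le w.2) hg⟩ : L) : L ⧸ A.subgroupOf L)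
      have hnot : ∀ w : Z, (w : G) * g ∉ A := fun w hw =>
        hgA (by simpa using mul_mem (inv_mem (hZA w.2)) hw)
      have hfi : Function.Injective f := by
        rintro (_ | w) (_ | w') he
        · rfl
        · exfalso
          have := mem_subgroupOf.1 (QuotientGroup.eq.1 he)
          exact hnot w' (by simpa using this)
        · exfalso
          have := mem_subgroupOf.1 (QuotientGroup.eq.1 he.symm)
          exact hnot w (by simpa using this)
        · have h1 := mem_subgroupOf.1 (QuotientGroup.eq.1 he)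
          have h2 : g⁻¹ * ((w : G)⁻¹ * w') * g ∈ A := by
            simpa [mul_assoc] using h1
          have h3 := (hfix g hg _ (mul_mem (inv_mem w.2) w'.2) h2).resolve_left hgA
          rw [inv_mul_eq_one] at h3
          exact congrArg some (Subtype.ext h3)
      have hq : Nat.card (L ⧸ A.subgroupOf L) = 5 := by
        have h1 := card_mul_relIndex (inf_le_left : A ≤ L)
        rw [hA12, hL] at h1
        show A.relIndex L = 5
        exact Nat.eq_of_mul_eq_mul_left (by norm_num : 0 < 12) (h1.trans (by norm_num))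
      have hb : Function.Bijective f := (Nat.bijective_iff_injective_and_card f).2
        ⟨hfi, by
          rw [hq, Nat.card_eq_fintype_card, Fintype.card_option, ← Nat.card_eq_fintype_card,
            h.card]⟩
      intro u hu
      obtain ⟨o, ho⟩ := hb.2 ((⟨u, hu⟩ : L) : L ⧸ A.subgroupOf L)
      rcases o with _ | w
      · left
        simpa using mem_subgroupOf.1 (QuotientGroup.eq.1 ho)
      · exact Or.inr ⟨w, w.2, mem_subgroupOf.1 (QuotientGroup.eq.1 ho)⟩
    have hkey : ∀ g ∈ L, g⁻¹ * (x * g * x⁻¹) ∈ A := by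
      intro g hg
      by_cases hgA : g ∈ A
      · exact mul_mem (inv_mem hgA) (hxA g hgA)
      rcases hcover g hg hgA (x * g * x⁻¹) (d.normal.conj_mem g hg x) with h1 | ⟨w, hw, h1⟩
      · exfalso
        have hxA' : ∀ a ∈ A, x⁻¹ * a * x ∈ A := fun a ha => mem_inf.2
          ⟨by simpa using d.normal.conj_mem a (mem_inf.1 ha).1 x⁻¹,
            mul_mem (mul_mem (inv_mem hxN) (mem_inf.1 ha).2) hxN⟩
        exact hgA (by simpa [mul_assoc] using hxA' _ h1)
      · have hxw : x * w = w * x := (mem_centralizer_iff.1 hx w hw).symm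
        have hiter : ∀ k : ℕ, (w ^ k * g)⁻¹ * (x ^ k * g * (x ^ k)⁻¹) ∈ A := by
          intro k
          induction k with
          | zero => simp [one_mem]
          | succ k ih =>
            have h2 := hxA _ ih
            have hcomm : x * w ^ k = w ^ k * x := ((show Commute x w from hxw).pow_right k).eq
            have e2 : x * ((w ^ k * g)⁻¹ * (x ^ k * g * (x ^ k)⁻¹)) * x⁻¹ =
                (x * g * x⁻¹)⁻¹ * (w ^ k)⁻¹ * (x ^ (k + 1) * g * (x ^ (k + 1))⁻¹) := by
              rw [pow_succ' x k, mul_inv_rev (w ^ k) g,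
                show x * (g⁻¹ * (w ^ k)⁻¹ * (x ^ k * g * (x ^ k)⁻¹)) * x⁻¹ =
                  x * g⁻¹ * ((w ^ k)⁻¹ * x⁻¹) * (x * (x ^ k) * g * (x * x ^ k)⁻¹) by group,
                ← mul_inv_rev x, hcomm]
              group
            rw [e2] at h2
            have := mul_mem h1 h2
            rw [show (w * g)⁻¹ * (x * g * x⁻¹) * ((x * g * x⁻¹)⁻¹ * (w ^ k)⁻¹ *
              (x ^ (k + 1) * g * (x ^ (k + 1))⁻¹)) =
              (w ^ k * w * g)⁻¹ * (x ^ (k + 1) * g * (x ^ (k + 1))⁻¹) by group] at this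
            rwa [pow_succ]
        obtain ⟨j, hj⟩ := hxo
        have h2 := hiter (orderOf x)
        rw [pow_orderOf_eq_one, hj, pow_succ, pow_mul, pow_two, h.sq w hw, one_pow, one_mul,
          one_mul, inv_one, mul_one, mul_inv_rev] at h2
        rcases hfix g hg w hw (by rw [h.inv hw] at h2; simpa [mul_assoc] using h2) with h3 | rfl
        · exact absurd h3 hgA
        · rwa [one_mul] at h1
    -- the element `g⁻¹ x g x⁻¹` lies in the core of `A` in `L`
    haveI := TimesPSLTwo.psl_simple (F := F) (by omega)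
    haveI : IsSimpleGroup L := e.isSimpleGroup
    have hK : (A.subgroupOf L).normalCore = ⊥ := by
      refine (IsSimpleGroup.eq_bot_or_eq_top_of_normal _ inferInstance).resolve_right fun e1 => ?_
      have hle := (Subgroup.subgroupOf_eq_top).1 (top_le_iff.1 (e1 ▸ Subgroup.normalCore_le _))
      have := Subgroup.card_dvd_of_le hle
      rw [hA12, hL] at this
      omega
    refine mem_bot.1 (d.cent ▸ mem_centralizer_iff.2 fun g hg => ?_)
    have hc : (⟨g, hg⟩ : L)⁻¹ * ⟨x * g * x⁻¹, d.normal.conj_mem g hg x⟩ ∈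
        (A.subgroupOf L).normalCore := by
      intro l
      rw [mem_subgroupOf]
      show (l : G) * (g⁻¹ * (x * g * x⁻¹)) * (l : G)⁻¹ ∈ A
      have h1 := hkey _ (mul_mem hg (inv_mem l.2))
      have h2 := inv_mem (hkey _ (inv_mem l.2))
      have := mul_mem h1 h2
      rw [show (g * (l : G)⁻¹)⁻¹ * (x * (g * (l : G)⁻¹) * x⁻¹) *
        ((l : G)⁻¹⁻¹ * (x * (l : G)⁻¹ * x⁻¹))⁻¹ = (l : G) * (g⁻¹ * (x * g * x⁻¹)) * (l : G)⁻¹ by
          group] at this
      exact this
    rw [hK, mem_bot] at hc
    have he : g⁻¹ * (x * g * x⁻¹) = 1 := congrArg Subtype.val hc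
    rw [inv_mul_eq_one] at he
    exact (eq_mul_inv_iff_mul_eq.1 he)
  have hCZ : centralizer (Z : Set G) = Z := by
    refine le_antisymm (fun x hx => ?_) h.le_centralizer
    obtain ⟨k, m, hm, hkm⟩ := Nat.exists_eq_two_pow_mul_odd (orderOf_pos x).ne'
    refine h.mem_of_two (centralizer_le_normalizer _ hx) (k := k)
      (hodd _ (pow_mem hx _) ?_)
    rw [orderOf_pow' x (pow_ne_zero k two_ne_zero), hkm, Nat.gcd_mul_right_left,
      Nat.mul_div_cancel_left _ (Nat.two_pow_pos k)]
    exact hm
  have hN : Nat.card (normalizer (Z : Set G)) = 12 := by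
    rw [h.card_normalizer, hCZ, h.card]
  refine ⟨?_, fun z hz hz1 => (hcz z hz hz1).trans hCZ, hN⟩
  have he : A = normalizer (Z : Set G) :=
    Subgroup.eq_of_le_of_card_ge inf_le_right (by rw [hN, hA12])
  have hsup := h.sup_normalizer (L := L) d.le
  rw [sup_eq_left.2 (he ▸ inf_le_left)] at hsup
  rw [← Subgroup.card_top (G := G), ← hsup, hL]

end Cfsg.Agent.L34Type.Klein
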