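import Cfsg.Agent.Lib.L34Type.KleinBasic
import Cfsg.Agent.Lib.GW.MainFinal
import Cfsg.Agent.Lib.GW.ConsFull
import Cfsg.Agent.Lib.GW.KleinPSL
import Cfsg.Agent.Solvable.Fitting

/-!
# A four-group as Sylow 2-subgroup, one class of involutions, no core
-/

set_option autoImplicit false
set_option linter.style.haveILetI false
set_option linter.unusedSectionVars false

namespace Cfsg.Agent.L34Type.Klein

open Subgroup

universe u

variable {G : Type u} [Group G] [Finite G] {Z : Subgroup G}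

theorem Setting.not_solvable (h : Setting Z) (hO : Cfsg.oddCore G = ⊥)
    (hN : normalizer (Z : Set G) ≠ ⊤) : ¬ Group.IsSolvable G := by
  intro hsol
  haveI : Fact (Nat.Prime 2) := ⟨Nat.prime_two⟩
  haveI := hsol
  obtain ⟨z, hz, hz1⟩ := h.exists_mem_ne_one
  have hF : Cfsg.pCore 2 G ≠ ⊥ := by
    intro e
    have hle := Solvable.Fitting.centralizer_pCore_le 2 hO
    rw [e] at hle
    have : z ∈ centralizer ((⊥ : Subgroup G) : Set G) :=
      mem_centralizer_iff.2 fun x hx => by
        rw [show x = 1 from mem_bot.1 hx, one_mul, mul_one]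
    exact hz1 (mem_bot.1 (hle this))
  have hp : IsPGroup 2 (Cfsg.pCore 2 G) := Cores.pCore_isPGroup 2
  obtain ⟨n, hn⟩ := IsPGroup.iff_card.1 hp
  have h2 : 2 ∣ Nat.card (Cfsg.pCore 2 G) := by
    rw [hn]
    refine dvd_pow_self 2 fun e => hF ?_
    rw [e, pow_zero] at hn
    exact Subgroup.card_eq_one.1 hn
  obtain ⟨t, ht⟩ := exists_prime_orderOf_dvd_card' 2 h2
  have hle : Z ≤ Cfsg.pCore 2 G := fun x hx => by
    by_cases hx1 : x = 1
    · exact hx1 ▸ one_mem _
    obtain ⟨g, hg⟩ := isConj_iff.1 (h.one_class t x (by rw [Subgroup.orderOf_coe, ht])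
      (order_two (h.sq x hx) hx1))
    rw [← hg]
    exact (Cores.pCore_normal 2).conj_mem _ t.2 g
  obtain ⟨P, hP⟩ := h.exists_sylow
  have he : Cfsg.pCore 2 G = Z := le_antisymm (hP ▸ Cores.pCore_le_sylow P) hle
  refine hN ((Subgroup.normalizer_eq_top_iff).2 ?_)
  rw [← he]
  exact Cores.pCore_normal 2

/-- The simple normal subgroup `PSL₂(q)`. -/
structure Lin (Z L : Subgroup G) (F : Type) [Field F] [Fintype F]
    (e : L ≃* Matrix.ProjectiveSpecialLinearGroup (Fin 2) F) : Prop where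
  normal : L.Normal
  cent : centralizer (L : Set G) = ⊥
  le : Z ≤ L
  odd_q : Odd (Fintype.card F)
  three_lt : 3 < Fintype.card F
  mod_eight : Fintype.card F % 8 = 3 ∨ Fintype.card F % 8 = 5

theorem mod_eight_of {q N : ℕ} (hodd : Odd q) (hN : 2 * (N : ℤ) = (q : ℤ) * ((q : ℤ) ^ 2 - 1))
    (h8 : ¬ 8 ∣ N) : q % 8 = 3 ∨ q % 8 = 5 := by
  by_contra hne
  obtain ⟨k, hk⟩ := hodd
  have h17 : q % 8 = 1 ∨ q % 8 = 7 := by omega
  refine h8 ?_
  rw [← Int.natCast_dvd_natCast]
  obtain ⟨j, rfl | rfl⟩ : ∃ j, q = 8 * j + 1 ∨ q = 8 * j + 7 := ⟨q / 8, by omega⟩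
  · exact ⟨((8 * j + 1 : ℤ) * j * (4 * j + 1)), by push_cast at hN ⊢; nlinarith⟩
  · exact ⟨((8 * j + 7 : ℤ) * (j + 1) * (4 * j + 3)), by push_cast at hN ⊢; nlinarith⟩

theorem Setting.exists_lin (h : Setting Z) (hO : Cfsg.oddCore G = ⊥)
    (hN : normalizer (Z : Set G) ≠ ⊤) :
    ∃ (L : Subgroup G) (F : Type) (_ : Field F) (_ : Fintype F)
      (e : L ≃* Matrix.ProjectiveSpecialLinearGroup (Fin 2) F), Lin Z L F e := by
  haveI : Fact (Nat.Prime 2) := ⟨Nat.prime_two⟩
  obtain ⟨P, hP⟩ := h.exists_sylow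
  haveI hk : IsKleinFour (P : Subgroup G) :=
    (Involutions.TwoGroups.isKleinFour_iff _).2 ⟨by rw [hP]; exact h.card, by rw [hP]; exact h.sq⟩
  obtain ⟨eP⟩ : Nonempty ((P : Subgroup G) ≃* DihedralGroup 2) := IsKleinFour.nonempty_mulEquiv
  obtain ⟨L, hLn, hC, -, -, ⟨F, iF, iT, hodd, h3, ⟨e⟩⟩ | ⟨⟨e⟩⟩⟩ :=
    GW.Cons.full_gw GW.perfectGW hO P le_rfl eP (h.not_solvable hO hN)
  swap
  · refine absurd ((Dvd.intro 315 ?_).trans L.card_subgroup_dvd_card) h.not_eight
    rw [Nat.card_congr e.toEquiv, nat_card_alternatingGroup, Nat.card_fin]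
    norm_num [Nat.factorial]
  have hcard := GW.KleinPSL.two_mul_card (F := F) hodd
  rw [← Nat.card_congr e.toEquiv] at hcard
  have hm := mod_eight_of hodd hcard fun h' => h.not_eight (h'.trans L.card_subgroup_dvd_card)
  have h2 : 2 ∣ Nat.card L := by
    rw [← Int.natCast_dvd_natCast]
    obtain ⟨k, hk⟩ := hodd
    rw [hk] at hcard
    push_cast at hcard ⊢
    obtain ⟨j, hj⟩ := Int.even_mul_succ_self (k : ℤ)
    exact ⟨(2 * (k : ℤ) + 1) * j * 2, by nlinarith⟩
  obtain ⟨l, hl⟩ := exists_prime_orderOf_dvd_card' 2 h2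
  refine ⟨L, F, iF, iT, e, hLn, hC, fun x hx => ?_, hodd, h3, hm⟩
  by_cases hx1 : x = 1
  · exact hx1 ▸ one_mem _
  obtain ⟨g, hg⟩ := isConj_iff.1 (h.one_class l x (by rw [Subgroup.orderOf_coe, hl])
    (order_two (h.sq x hx) hx1))
  rw [← hg]
  exact hLn.conj_mem _ l.2 g

variable {L : Subgroup G} {F : Type} [Field F] [Fintype F]
  {e : L ≃* Matrix.ProjectiveSpecialLinearGroup (Fin 2) F}

theorem map_cent (e : L ≃* Matrix.ProjectiveSpecialLinearGroup (Fin 2) F) (z : L) :
    ((centralizer ({(z : G)} : Set G)).subgroupOf L).map e.toMonoidHom =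
      centralizer ({e z} : Set (Matrix.ProjectiveSpecialLinearGroup (Fin 2) F)) := by
  ext y
  constructor
  · rintro ⟨x, hx, rfl⟩
    rw [mem_centralizer_singleton_iff]
    show e x * e z = e z * e x
    rw [← map_mul, ← map_mul]
    exact congrArg e (Subtype.ext (mem_centralizer_singleton_iff.1 (mem_subgroupOf.1 hx)))
  · intro hy
    refine ⟨e.symm y, mem_subgroupOf.2 (mem_centralizer_singleton_iff.2 ?_), e.apply_symm_apply y⟩
    refine congrArg Subtype.val (e.injective ?_ : e.symm y * z = z * e.symm y)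
    rw [map_mul, map_mul, e.apply_symm_apply]
    exact mem_centralizer_singleton_iff.1 hy

theorem card_cent (e : L ≃* Matrix.ProjectiveSpecialLinearGroup (Fin 2) F) (z : L) :
    Nat.card (L ⊓ centralizer ({(z : G)} : Set G) : Subgroup G) =
      Nat.card (centralizer ({e z} : Set (Matrix.ProjectiveSpecialLinearGroup (Fin 2) F))) := by
  rw [← map_cent e z, Subgroup.card_map_of_injective e.injective, inf_comm,
    ← Subgroup.subgroupOf_map_subtype, Subgroup.card_map_of_injective L.subtype_injective]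

theorem Lin.psl_facts (d : Lin Z L F e) (h : Setting Z) {z : G} (hz : z ∈ Z) (hz1 : z ≠ 1) :
    ∃ δ : ℤ, (δ = 1 ∨ δ = -1) ∧
      (Nat.card (L ⊓ centralizer ({z} : Set G) : Subgroup G) : ℤ) = Fintype.card F - δ ∧
      4 ∣ (Fintype.card F : ℤ) - δ := by
  have ho : orderOf (e ⟨z, d.le hz⟩) = 2 := by
    rw [MulEquiv.orderOf_eq, Subgroup.orderOf_mk]
    exact order_two (h.sq z hz) hz1
  obtain ⟨δ, hδ, hc, h4, -⟩ := GW.KleinPSL.centralizers d.odd_q ho
  exact ⟨δ, hδ, by rw [← hc, ← card_cent e ⟨z, d.le hz⟩], h4⟩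

theorem Lin.card_L (d : Lin Z L F e) :
    2 * (Nat.card L : ℤ) = (Fintype.card F : ℤ) * ((Fintype.card F : ℤ) ^ 2 - 1) := by
  rw [Nat.card_congr e.toEquiv]
  exact GW.KleinPSL.two_mul_card d.odd_q

/-- The inequality in a group without core. -/
theorem Setting.ineq_free (h : Setting Z) (hO : Cfsg.oddCore G = ⊥)
    (hN : normalizer (Z : Set G) ≠ ⊤) {z : G} (hz : z ∈ Z) (hz1 : z ≠ 1) :
    3 * ((centralizer (Z : Set G)).relIndex (centralizer ({z} : Set G))) ^ 2 <
      (centralizer ({z} : Set G)).index := by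
  obtain ⟨L, F, _, _, e, d⟩ := h.exists_lin hO hN
  haveI := d.normal
  obtain ⟨δ, hδ, hc, -⟩ := d.psl_facts h hz hz1
  have hL := d.card_L
  have h3 := d.three_lt
  set K := L ⊓ centralizer ({z} : Set G) with hK
  set r := (centralizer (Z : Set G)).relIndex (centralizer ({z} : Set G)) with hr
  have hCK : 4 * r ≤ Nat.card K := by
    have h1 : r * Nat.card (centralizer (Z : Set G) ⊓ K : Subgroup G) = Nat.card K := by
      have hn : (K.subgroupOf (centralizer ({z} : Set G))).Normal := by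
        rw [hK, Subgroup.inf_subgroupOf_right]
        exact Subgroup.normal_subgroupOf
      have hrel : K.relIndex (centralizer ({z} : Set G)) = K.relIndex (centralizer (Z : Set G)) := by
        have h3' := Subgroup.relIndex_sup_right
          (H := (centralizer (Z : Set G)).subgroupOf (centralizer ({z} : Set G)))
          (K := K.subgroupOf (centralizer ({z} : Set G)))
        rw [← Subgroup.subgroupOf_sup (h.cent_le_cent hz) inf_le_right, sup_comm,
          ← h.centralizer_eq_sup hz hz1 d.le, Subgroup.relIndex_subgroupOf le_rfl,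
          Subgroup.relIndex_subgroupOf (h.cent_le_cent hz)] at h3'
        exact h3'
      have hA := card_mul_relIndex (h.cent_le_cent hz)
      have hB := card_mul_relIndex (inf_le_right : K ≤ centralizer ({z} : Set G))
      have hD := card_mul_relIndex (inf_le_left : centralizer (Z : Set G) ⊓ K ≤ centralizer (Z : Set G))
      rw [Subgroup.inf_relIndex_left, ← hrel] at hD
      apply Nat.eq_of_mul_eq_mul_left (Nat.card_pos : 0 < Nat.card (centralizer (Z : Set G)))
      rw [← mul_assoc, hr, hA, ← hB, mul_assoc, mul_comm (K.relIndex _), hD, mul_comm]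
    have h4 : 4 ≤ Nat.card (centralizer (Z : Set G) ⊓ K : Subgroup G) := by
      rw [← h.card]
      exact Nat.card_le_card_of_injective
        (Subgroup.inclusion (le_inf h.le_centralizer (le_inf d.le (h.le_centralizer_singleton hz))))
        (Subgroup.inclusion_injective _)
    nlinarith
  have hi : Nat.card K * (centralizer ({z} : Set G)).relIndex L = Nat.card L := by
    have h2 := card_mul_relIndex (inf_le_left : K ≤ L)
    have e1 : K.relIndex L = (centralizer ({z} : Set G)).relIndex L := by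
      rw [hK, inf_comm, Subgroup.inf_relIndex_right]
    rwa [e1] at h2
  have hle : (centralizer ({z} : Set G)).relIndex L ≤ (centralizer ({z} : Set G)).index :=
    Nat.le_of_dvd (Nat.pos_of_ne_zero Subgroup.index_ne_zero_of_finite)
      (Cores.relIndex_dvd_index_right_normal _ L)
  refine lt_of_lt_of_le ?_ hle
  set i := (centralizer ({z} : Set G)).relIndex L with hidef
  set q := Fintype.card F
  have hq : (Nat.card K : ℤ) ≤ (q : ℤ) + 1 := by rcases hδ with rfl | rfl <;> omega
  have h3' : (3 : ℤ) < q := by exact_mod_cast h3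
  have hCK' : (4 : ℤ) * r ≤ Nat.card K := by exact_mod_cast hCK
  have hi' : (Nat.card K : ℤ) * i = Nat.card L := by exact_mod_cast hi
  have hKpos : (0 : ℤ) < Nat.card K := by exact_mod_cast Nat.card_pos
  have hb : 3 * (Nat.card K : ℤ) ^ 3 < 16 * Nat.card L := by
    have h1 : (Nat.card K : ℤ) ^ 3 ≤ ((q : ℤ) + 1) ^ 3 := pow_le_pow_left₀ hKpos.le hq 3
    have h2 : 3 * ((q : ℤ) + 1) ^ 2 < 8 * q * (q - 1) := by nlinarith
    have h4 : 3 * ((q : ℤ) + 1) ^ 2 * (q + 1) < 8 * q * (q - 1) * (q + 1) :=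
      mul_lt_mul_of_pos_right h2 (by linarith)
    nlinarith
  have : (3 : ℤ) * r ^ 2 < i := by
    by_contra hne
    push Not at hne
    have h1 : (4 * (r : ℤ)) ^ 2 ≤ (Nat.card K : ℤ) ^ 2 := pow_le_pow_left₀ (by positivity) hCK' 2
    have h2 : 16 * ((Nat.card K : ℤ) * i) ≤ 3 * ((Nat.card K : ℤ) * (4 * r) ^ 2) := by
      have := mul_le_mul_of_nonneg_left hne hKpos.le
      nlinarith
    have h5 := mul_le_mul_of_nonneg_left h1 hKpos.le
    nlinarith
  exact_mod_cast this

end Cfsg.Agent.L34Type.Klein
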