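import Cfsg.Agent.Lib.L34Type.Invol
import Cfsg.Agent.Lib.L34Type.Interface

/-!
# Sylow 2-subgroups of type `L₃(4)`: one side without fusion

`N(R)` and `N(A)` normalise `Z = R ⊓ A`.  For an element `r` of `R \ A` with a wide kernel: one class
on `Z`, the orders of the centralisers, and the bound on the class of `z`.
-/

set_option autoImplicit false
set_option linter.style.haveILetI false
set_option linter.unusedSectionVars false

namespace Cfsg.Agent.L34Type

open Subgroup Cfsg.Agent.CIT Cfsg.Agent.Involutions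
open Cfsg.Agent.StronglyClosedFour (core core_le core_odd le_normalizer_core eq_one_of_two_group
  eq_one_of_sq exists_conj_into exists_conj_into_involution odd_mem_of_index_two odd_orderOf_of_mem)

universe u

variable {G : Type u} [Group G] [Finite G] {S : Sylow 2 G} {R A : Subgroup G}

theorem card_eq_card_mul_relIndex {H K : Subgroup G} (hHK : H ≤ K) :
    Nat.card K = Nat.card H * H.relIndex K := by
  rw [← relIndex_bot_left, ← relIndex_bot_left]
  exact (relIndex_mul_relIndex _ _ _ bot_le hHK).symm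

namespace Shape

variable (h : Shape (S : Subgroup G) R A)
include h

theorem inf_card_two_pow {H : Subgroup G} {r : G}
    (hH : Kernel R A r H) (hodd : Odd (R.relIndex (centralizer ({r} : Set G)))) (hr : r ∈ R) :
    Nat.card (centralizer ({r} : Set G)) = 4 * Nat.card H := by
  set C := centralizer ({r} : Set G)
  have h1 := card_eq_card_mul_relIndex (h.R_le_centralizer hr)
  have h2 := card_eq_card_mul_relIndex hH.inf_le
  have h3 := card_eq_card_mul_relIndex hH.le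
  obtain ⟨j, hj⟩ := hH.two
  obtain ⟨a, ha⟩ := hodd
  obtain ⟨b, hb⟩ := hH.odd
  rw [h.R_card] at h1
  rw [h.inf_card, hb] at h2
  rw [hj, h2] at h3
  have hj2 : j = 2 := by
    rcases j with _ | _ | _ | j
    · rw [pow_zero] at h3; omega
    · rw [pow_one] at h3; omega
    · rfl
    · exfalso
      rw [show 2 ^ (j + 1 + 1 + 1) = 8 * 2 ^ j by ring] at h3
      have h5 : 16 * (2 * a + 1) = 32 * ((2 * b + 1) * 2 ^ j) := by
        rw [← ha, ← h1, h3]; ring
      omega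
  rw [h3, hj2, h2]
  ring

section

variable (hnsR : ∀ n ∈ normalizer (R : Set G), ∀ z ∈ R ⊓ A, n * z * n⁻¹ ∈ A)
  (hnsA : ∀ n ∈ normalizer (A : Set G), ∀ z ∈ A ⊓ R, n * z * n⁻¹ ∈ R)
include hnsR hnsA

/-- `R ⊓ A` is strongly closed. -/
theorem conj_mem_inf {z g : G} (hz : z ∈ R ⊓ A) (hg : g * z * g⁻¹ ∈ (S : Subgroup G)) :
    g * z * g⁻¹ ∈ R ⊓ A := by
  have h2 : g * z * g⁻¹ * (g * z * g⁻¹) = 1 := by
    rw [show g * z * g⁻¹ * (g * z * g⁻¹) = g * (z * z) * g⁻¹ by group, h.R_sq z hz.1, mul_one,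
      mul_inv_cancel]
  have hback : g⁻¹ * (g * z * g⁻¹) * g⁻¹⁻¹ = z := by group
  by_contra hne
  rcases h.involutions _ hg h2 with hR | hA
  · have hA : g * z * g⁻¹ ∉ A := fun e => hne ⟨hR, e⟩
    have := (h.exists_norm_conj (g := g⁻¹) hR (h.conj_notMem_of_normalizes hnsR hR hA)
      (by rw [hback]; exact h.R_le hz.1)).2.1
    rw [hback] at this
    exact this hz.2
  · have hR : g * z * g⁻¹ ∉ R := fun e => hne ⟨e, hA⟩
    have := (h.symm.exists_norm_conj (g := g⁻¹) hA (h.symm.conj_notMem_of_normalizes hnsA hA hR)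
      (by rw [hback]; exact h.A_le hz.2)).2.1
    rw [hback] at this
    exact this hz.1

theorem not_isConj_of_notMem {z x : G} (hz : z ∈ R ⊓ A) (hx : x ∈ (S : Subgroup G))
    (hxZ : x ∉ R ⊓ A) : ¬ IsConj z x := fun hc => by
  obtain ⟨g, hg⟩ := isConj_iff.1 hc
  exact hxZ (hg ▸ h.conj_mem_inf hnsR hnsA hz (hg.symm ▸ hx))

end

section

variable (hnsR : ∀ n ∈ normalizer (R : Set G), ∀ z ∈ R ⊓ A, n * z * n⁻¹ ∈ A)
  {r : G} (hr : r ∈ R) (hrA : r ∉ A) {H : Subgroup G} (hH : Kernel R A r H) (hW : Wide R A H)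
include hnsR hr hrA hH hW

/-- `N(S) ∩ C(r)` is transitive on `(R ⊓ A) \ 1`. -/
theorem wide_norm {z w : G} (hz : z ∈ R ⊓ A) (hz1 : z ≠ 1) (hw : w ∈ R ⊓ A) (hw1 : w ≠ 1) :
    ∃ m ∈ normalizer ((S : Subgroup G) : Set G), m * r = r * m ∧ m * z * m⁻¹ = w := by
  have oz : ∀ {x : G} (hx : x ∈ R ⊓ A), x ≠ 1 → orderOf (⟨x, hH.inf_le hx⟩ : H) = 2 :=
    fun {x} hx hx1 => by
      rw [Subgroup.orderOf_mk]; exact Basic.orderOf_two_iff.2 ⟨h.R_sq x hx.1, hx1⟩
  obtain ⟨k, hk⟩ := isConj_iff.1 (hW.1 _ _ (oz hz hz1) (oz hw hw1))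
  have hk' : (k : G) * z * (k : G)⁻¹ = w := congrArg Subtype.val hk
  set D := centralizer ({w} : Set G) ⊓ centralizer ({r} : Set G) with hD
  have hRD : R ≤ D := le_inf (h.R_le_centralizer hw.1) (h.R_le_centralizer hr)
  obtain ⟨c, hc, hcR⟩ := exists_conj_into (K := D) (B := R.map (MulAut.conj (k : G)).toMonoidHom)
    (h.R_isPGroup.map _) (by
      rintro _ ⟨x, hx, rfl⟩
      refine mem_inf.2 ⟨mem_centralizer_singleton_iff.2 ?_, mul_mem (mul_mem (hH.le k.2)
        (h.R_le_centralizer hr hx)) (inv_mem (hH.le k.2))⟩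
      show (k : G) * x * (k : G)⁻¹ * w = w * ((k : G) * x * (k : G)⁻¹)
      rw [← hk']
      calc (k : G) * x * (k : G)⁻¹ * ((k : G) * z * (k : G)⁻¹) = k * (x * z) * (k : G)⁻¹ := by group
        _ = k * (z * x) * (k : G)⁻¹ := by rw [h.R_comm hx hz.1]
        _ = (k : G) * z * (k : G)⁻¹ * ((k : G) * x * (k : G)⁻¹) := by group)
    ((h.odd_cent hnsR hr hrA).of_dvd_nat (relIndex_dvd_relIndex hRD inf_le_right))
  have hn : c⁻¹ * (k : G) ∈ normalizer (R : Set G) := CIT.mem_normalizer_of_forall fun x hx => by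
    have := hcR _ ⟨x, hx, rfl⟩
    change c⁻¹ * ((k : G) * x * (k : G)⁻¹) * c ∈ R at this
    rwa [conj_comp, inv_inv]
  have hnr : c⁻¹ * (k : G) * r = r * (c⁻¹ * k) :=
    mem_centralizer_singleton_iff.1 (mul_mem (inv_mem (mem_inf.1 hc).2) (hH.le k.2))
  obtain ⟨d, hd, hdn, hdr⟩ := h.norm_cent_split hnsR hr hrA hn hnr
  refine ⟨d * (c⁻¹ * k), hdn, hdr, ?_⟩
  rw [conj_comp, conj_comp, hk', inv_inv, mul_assoc c⁻¹ w c,
    ← mem_centralizer_singleton_iff.1 (mem_inf.1 hc).1, inv_mul_cancel_left,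
    ← mem_centralizer_iff.1 hd w hw.1, mul_inv_cancel_right]

/-- The order of `C(r)`. -/
theorem wide_card {z : G} (hz : z ∈ R ⊓ A) (hz1 : z ≠ 1) :
    Nat.card (centralizer ({r} : Set G)) =
      16 * Nat.card ↥(centralizer ({r} : Set G) ⊓ core (centralizer ({z} : Set G)) : Subgroup G) *
        (centralizer ({(⟨z, hH.inf_le hz⟩ : H)} : Set H)).index := by
  set Q := centralizer ({r} : Set G) ⊓ core (centralizer ({z} : Set G)) with hQ
  set X := centralizer ({(⟨z, hH.inf_le hz⟩ : H)} : Set H) with hX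
  have hQH : Q ≤ H := fun o ho => by
    obtain ⟨j, hj⟩ := hH.two
    exact odd_mem_of_index_two hH.norm hj (odd_orderOf_of_mem (core_odd _) ho.2) ho.1
  have hsplit := Count.card_of_split (Q := Q) (Z := R ⊓ A) (K := X.map H.subtype)
    (fun o ho => ⟨⟨o, hQH ho⟩, mem_centralizer_singleton_iff.2 (Subtype.ext
      (mem_centralizer_singleton_iff.1 (core_le _ ho.2))), rfl⟩)
    (fun w hw => ⟨⟨w, hH.inf_le hw⟩, mem_centralizer_singleton_iff.2 (Subtype.ext
      (h.R_comm hw.1 hz.1)), rfl⟩)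
    (fun o ho hoZ => eq_one_of_two_group (core_odd _) h.R_isPGroup ho.2 hoZ.1)
    (by
      rintro _ ⟨⟨k, hkH⟩, hk, rfl⟩
      have hkz : k ∈ centralizer ({z} : Set G) := mem_centralizer_singleton_iff.2
        (congrArg Subtype.val (mem_centralizer_singleton_iff.1 hk))
      obtain ⟨o, ho, hor, t, ht, rfl⟩ := h.cent_cent_cases hnsR hr hrA hz hz1 (hH.le hkH) hkz
      refine ⟨o, mem_inf.2 ⟨hor, ho⟩, t, mem_inf.2 ⟨ht, (hH.mem_iff t ht).1 ?_⟩, rfl⟩
      have := mul_mem (inv_mem (hQH (mem_inf.2 ⟨hor, ho⟩))) hkH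
      rwa [inv_mul_cancel_left] at this)
  rw [Subgroup.card_subtype, h.inf_card] at hsplit
  rw [h.inf_card_two_pow hH (h.odd_cent hnsR hr hrA) hr, ← X.card_mul_index, hsplit]
  ring

/-- Every element of the class of `r` in `S` has as many involutions above it in `C(z)`. -/
theorem wide_fibre {z : G} (hz : z ∈ R ⊓ A) (hz1 : z ≠ 1) {t : G} (ht : t ∈ (S : Subgroup G))
    (hrt : IsConj r t) :
    Nat.card {u : G // u * u = 1 ∧ u * t ∈ core (centralizer ({z} : Set G))} =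
      (centralizer ({r} : Set G) ⊓ core (centralizer ({z} : Set G))).relIndex
        (core (centralizer ({z} : Set G))) := by
  set C := centralizer ({z} : Set G) with hC
  obtain ⟨g, rfl⟩ := isConj_iff.1 hrt
  obtain ⟨htR, -, n, hn, hne⟩ :=
    h.exists_norm_conj hr (h.conj_notMem_of_normalizes hnsR hr hrA) ht
  obtain ⟨c, hc, hcn⟩ := h.exists_mul_mem_norm_S hnsR hn
  have hm1 : c * n * r * (c * n)⁻¹ = g * r * g⁻¹ := by
    rw [conj_comp, hne, ← mem_centralizer_iff.1 hc _ htR, mul_inv_cancel_right]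
  have hw : (c * n)⁻¹ * z * (c * n) ∈ R ⊓ A := by
    have := h.conj_inf (inv_mem hcn) hz
    rwa [inv_inv] at this
  obtain ⟨m, hm, hmr, hmz⟩ := h.wide_norm hnsR hr hrA hH hW hz hz1 hw (fun e => hz1 (by
    calc z = c * n * ((c * n)⁻¹ * z * (c * n)) * (c * n)⁻¹ := by group
      _ = 1 := by rw [e, mul_one, mul_inv_cancel]))
  set f := c * n * m with hf
  have hfz : f * z * f⁻¹ = z := by rw [hf, conj_comp, hmz]; group
  have hfr : f * r * f⁻¹ = g * r * g⁻¹ := by rw [hf, conj_comp, hmr, mul_inv_cancel_right, hm1]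
  have hfC : f ∈ C := mem_centralizer_singleton_iff.2 (mul_inv_eq_iff_eq_mul.1 hfz)
  have hrC : r ∈ C := h.le_centralizer_of_mem_inf hz (h.R_le hr)
  rw [← Count.card_fibre (core_odd C) (h.R_sq r hr) (le_normalizer_core C hrC)]
  have hQ : ∀ x, f * x * f⁻¹ ∈ core C ↔ x ∈ core C := fun x =>
    ((mem_normalizer_iff.1 (le_normalizer_core C hfC)) x).symm
  refine (Nat.card_congr ((MulAut.conj f).toEquiv.subtypeEquiv fun x => ?_)).symm
  show x * x = 1 ∧ x * r ∈ core C ↔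
    f * x * f⁻¹ * (f * x * f⁻¹) = 1 ∧ f * x * f⁻¹ * (g * r * g⁻¹) ∈ core C
  rw [← hfr, show f * x * f⁻¹ * (f * x * f⁻¹) = f * (x * x) * f⁻¹ by group, conj_eq_one_iff,
    show f * x * f⁻¹ * (f * r * f⁻¹) = f * (x * r) * f⁻¹ by group, hQ]

/-- The class of `z` is at least the number of pairs in `H` with product of odd order. -/
theorem wide_bound (hnsA : ∀ n ∈ normalizer (A : Set G), ∀ z ∈ A ⊓ R, n * z * n⁻¹ ∈ R)
    (hK : KleinIneq.{u}) {z : G} (hz : z ∈ R ⊓ A) (hz1 : z ≠ 1) :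
    ∃ δ : ℕ, 3 * δ ^ 2 < (centralizer ({(⟨z, hH.inf_le hz⟩ : H)} : Set H)).index ∧
      (centralizer ({(⟨z, hH.inf_le hz⟩ : H)} : Set H)).index *
          (centralizer ({(⟨z, hH.inf_le hz⟩ : H)} : Set H)).index ≤
        Nat.card {u : G // IsConj z u} +
          (centralizer ({(⟨z, hH.inf_le hz⟩ : H)} : Set H)).index * (2 * δ ^ 2) := by
  haveI : Fact (Nat.Prime 2) := ⟨Nat.prime_two⟩
  set Z₀ := (R ⊓ A).subgroupOf H with hZ₀
  have hZ4 : Nat.card Z₀ = 4 := by
    rw [Nat.card_congr (subgroupOfEquivOfLe hH.inf_le).toEquiv, h.inf_card]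
  have hZsq : ∀ x ∈ Z₀, x * x = 1 := fun x hx => Subtype.ext (h.R_sq _ (mem_subgroupOf.1 hx).1)
  have hzZ : (⟨z, hH.inf_le hz⟩ : H) ∈ Z₀ := mem_subgroupOf.2 hz
  have hz1' : (⟨z, hH.inf_le hz⟩ : H) ≠ 1 := fun e => hz1 (congrArg Subtype.val e)
  refine ⟨_, hK H Z₀ hZ4 hZsq hH.odd hW.1 hW.2 _ hzZ hz1', ?_⟩
  refine (Count.klein_pairs hZ4 hZsq hH.odd hW.1 hzZ hz1').trans (Nat.add_le_add_right ?_ _)
  -- the class of `z` is the set of pairs with middle involution `r`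
  have oz : orderOf z = 2 := Basic.orderOf_two_iff.2 ⟨h.R_sq z hz.1, hz1⟩
  have or₂ : orderOf r = 2 := Basic.orderOf_two_iff.2 ⟨h.R_sq r hr, fun e => hrA (e ▸ one_mem A)⟩
  have hrZ : r ∉ R ⊓ A := fun e => hrA e.2
  have hnc := h.not_isConj_of_notMem hnsR hnsA hz (h.R_le hr) hrZ
  have hcr := h.odd_cent hnsR hr hrA
  have hcount := Count.one_class_count oz or₂ or₂ hnc (fun p q hp hq => by
    have op := Count.orderOf_of_isConj oz hp
    have oq := Count.orderOf_of_isConj or₂ hq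
    obtain ⟨oi, cip, ciq⟩ := Basic.middle_involution op oq
      (Basic.even_orderOf_mul_of_not_isConj op oq fun hc => hnc (hp.trans (hc.trans hq.symm)))
    set k := orderOf (p * q) / 2
    set i := (p * q) ^ k with hi
    obtain ⟨g, rfl⟩ := isConj_iff.1 hq
    -- move `q` to `r` and `i` into `R`
    have hirC : g⁻¹ * i * g ∈ centralizer ({r} : Set G) := mem_centralizer_singleton_iff.2 (by
      calc g⁻¹ * i * g * r = g⁻¹ * (i * (g * r * g⁻¹)) * g := by group
        _ = g⁻¹ * ((g * r * g⁻¹) * i) * g := by rw [ciq.eq]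
        _ = r * (g⁻¹ * i * g) := by group)
    obtain ⟨c, hc, hcR⟩ := exists_conj_into_involution (by
      rw [show g⁻¹ * i * g * (g⁻¹ * i * g) = g⁻¹ * (i * i) * g by group, Basic.inv_sq_one oi, mul_one,
        inv_mul_cancel]) hirC hcr
    set t := c⁻¹ * (g⁻¹ * i * g) * c with htdef
    set p' := c⁻¹ * g⁻¹ * p * (c⁻¹ * g⁻¹)⁻¹ with hp'def
    have hzp' : IsConj z p' := hp.trans (isConj_iff.2 ⟨c⁻¹ * g⁻¹, rfl⟩)
    have op' : orderOf p' = 2 := Count.orderOf_of_isConj oz hzp'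
    have hct : c⁻¹ * r * c = r := by
      rw [mul_assoc, ← mem_centralizer_singleton_iff.1 hc, inv_mul_cancel_left]
    have ht' : t = (p' * r) ^ k := by
      rw [htdef, hp'def]
      conv_rhs => rw [← hct]
      rw [show c⁻¹ * g⁻¹ * p * (c⁻¹ * g⁻¹)⁻¹ * (c⁻¹ * r * c) =
        c⁻¹ * g⁻¹ * (p * (g * r * g⁻¹)) * (c⁻¹ * g⁻¹)⁻¹ by group, conj_pow, ← hi]
      group
    have hti : IsConj t i := isConj_iff.2 ⟨g * c, by rw [htdef]; group⟩
    have ot : orderOf t = 2 := by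
      rw [htdef, show c⁻¹ * (g⁻¹ * i * g) * c = (c⁻¹ * g⁻¹) * i * (c⁻¹ * g⁻¹)⁻¹ by group,
        Basic.orderOf_conj, oi]
    have hp't : p' ∈ centralizer ({t} : Set G) := mem_centralizer_singleton_iff.2 (by
      rw [htdef, hp'def]
      calc c⁻¹ * g⁻¹ * p * (c⁻¹ * g⁻¹)⁻¹ * (c⁻¹ * (g⁻¹ * i * g) * c)
          = c⁻¹ * g⁻¹ * (p * i) * (c⁻¹ * g⁻¹)⁻¹ := by group
        _ = c⁻¹ * g⁻¹ * (i * p) * (c⁻¹ * g⁻¹)⁻¹ := by rw [cip.eq]
        _ = _ := by group)
    have htA : t ∉ A := by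
      intro htA
      have htZ : t ∈ R ⊓ A := mem_inf.2 ⟨hcR, htA⟩
      obtain ⟨s, hs, -, hps, q', -, hq'⟩ := h.cent_involution htZ (Basic.ne_one ot) op' hp't
      have hzs : IsConj z s := hzp'.trans (isConj_iff.2 ⟨q', hq'⟩).symm
      obtain ⟨y, hy⟩ := isConj_iff.1 hzs
      have hsZ : s ∈ R ⊓ A := hy ▸ h.conj_mem_inf hnsR hnsA hz (hy.symm ▸ hs)
      have e := h.pow_mod_core htZ hs (h.R_le hr) hps
        (by rw [mul_inv_cancel]; exact one_mem _) ht'.symm (h.R_le hcR)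
      rcases Nat.even_or_odd' k with ⟨j, hj | hj⟩
      · rw [hj, pow_mul, pow_two, h.R_sq _ (mul_mem hsZ.1 hr), one_pow] at e
        exact Basic.ne_one ot e.symm
      · rw [hj, pow_succ, pow_mul, pow_two, h.R_sq _ (mul_mem hsZ.1 hr), one_pow, one_mul] at e
        refine hrA ?_
        have := mul_mem (inv_mem (mem_inf.1 hsZ).2) htA
        rwa [← e, inv_mul_cancel_left] at this
    obtain ⟨K, hK'⟩ := h.exists_kernel hnsR hcR htA
    haveI hKn : (K.subgroupOf (centralizer ({t} : Set G))).Normal :=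
      normal_subgroupOf_of_le_normalizer hK'.norm
    have hp'K : p' ∈ K := by
      obtain ⟨d, hd, hdR⟩ :=
        exists_conj_into_involution (Basic.inv_sq_one op') hp't (h.odd_cent hnsR hcR htA)
      have hz' : IsConj z (d⁻¹ * p' * d) := hzp'.trans (isConj_iff.2 ⟨d⁻¹, by group⟩)
      obtain ⟨y, hy⟩ := isConj_iff.1 hz'
      have hdZ := h.conj_mem_inf hnsR hnsA hz (g := y) (hy.symm ▸ h.R_le hdR)
      have := (mem_normalizer_iff.1 (hK'.norm hd) _).1 (hK'.inf_le (hy ▸ hdZ))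
      rwa [show d * (d⁻¹ * p' * d) * d⁻¹ = p' by group] at this
    have hrC : r ∈ centralizer ({t} : Set G) := h.R_le_centralizer hcR hr
    let φ := QuotientGroup.mk' (K.subgroupOf (centralizer ({t} : Set G)))
    have hφp : φ ⟨p', hp't⟩ = 1 := (QuotientGroup.eq_one_iff _).2 (mem_subgroupOf.2 hp'K)
    have e1 : φ ⟨t, mem_centralizer_singleton_iff.2 rfl⟩ = φ ⟨r, hrC⟩ ^ k := by
      rw [show (⟨t, mem_centralizer_singleton_iff.2 rfl⟩ : centralizer ({t} : Set G)) =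
        (⟨p', hp't⟩ * ⟨r, hrC⟩) ^ k from Subtype.ext ht', map_pow, map_mul, hφp, one_mul]
    have hrr : φ ⟨r, hrC⟩ ^ 2 = 1 := by
      rw [← map_pow, show (⟨r, hrC⟩ : centralizer ({t} : Set G)) ^ 2 = 1 from
        Subtype.ext (by rw [pow_two]; exact h.R_sq r hr), map_one]
    have htr : t⁻¹ * r ∈ R ⊓ A := by
      rcases Nat.even_or_odd' k with ⟨j, hj | hj⟩
      · rw [hj, pow_mul, hrr, one_pow] at e1
        exact absurd ((hK'.mem_iff t hcR).1 (mem_subgroupOf.1 ((QuotientGroup.eq_one_iff _).1 e1))) htA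
      · rw [hj, pow_succ, pow_mul, hrr, one_pow, one_mul] at e1
        have h1 := mem_subgroupOf.1 (QuotientGroup.eq.1 e1)
        have hmem : t⁻¹ * r ∈ R := mul_mem (inv_mem hcR) hr
        exact mem_inf.2 ⟨hmem, (hK'.mem_iff _ hmem).1 h1⟩
    obtain ⟨s, -, hse⟩ := h.exists_conj_eq hcR htA htr
    rw [mul_inv_cancel_left] at hse
    exact (isConj_iff.2 ⟨s, hse⟩).symm.trans hti)
  have hpos : 0 < Nat.card {u : G // IsConj r u} := by
    haveI : Nonempty {u : G // IsConj r u} := ⟨⟨r, IsConj.refl r⟩⟩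
    exact Nat.card_pos
  rw [mul_comm] at hcount
  rw [Nat.eq_of_mul_eq_mul_left hpos hcount]
  have hrcomm : ∀ x ∈ H, Commute x r := fun x hx => mem_centralizer_singleton_iff.1 (hH.le hx)
  -- `(v, u)` goes to `(u, r v)`
  let f : {p : H × H // orderOf p.1 = 2 ∧ orderOf p.2 = 2 ∧ Odd (orderOf (p.1 * p.2))} →
      {p : G × G // IsConj z p.1 ∧ IsConj r p.2 ∧ r ∈ zpowers (p.1 * p.2)} := fun p =>
    ⟨((p.1.2 : G), r * (p.1.1 : G)), by
      have hH1 : ∀ x : H, orderOf x = 2 → IsConj (⟨z, hH.inf_le hz⟩ : H) x := fun x hx =>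
        hW.1 _ _ (by rw [Subgroup.orderOf_mk]; exact oz) hx
      refine ⟨?_, ?_, ?_⟩
      · exact MonoidHom.map_isConj H.subtype (hH1 p.1.2 p.2.2.1)
      · obtain ⟨k, hk⟩ := isConj_iff.1 (hH1 p.1.1 p.2.1)
        obtain ⟨s, -, hse⟩ := h.exists_conj_eq hr hrA hz
        have hk' : (k : G) * z * (k : G)⁻¹ = (p.1.1 : G) := congrArg Subtype.val hk
        refine isConj_iff.2 ⟨(k : G) * s, ?_⟩
        rw [conj_comp, hse, ← hk', show (k : G) * (r * z) * (k : G)⁻¹ =
          (k : G) * r * (k : G)⁻¹ * ((k : G) * z * (k : G)⁻¹) by group, (hrcomm k k.2).eq,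
          mul_inv_cancel_right]
      · set d := (p.1.2 : G) * (p.1.1 : G) with hd
        have hdodd : Odd (orderOf d) := by
          have h1 : Odd (orderOf ((p.1.1 : G) * (p.1.2 : G))) := by
            rw [← Subgroup.coe_mul, Subgroup.orderOf_coe]; exact p.2.2.2
          have e : d = (p.1.1 : G)⁻¹ * ((p.1.1 : G) * (p.1.2 : G)) * (p.1.1 : G)⁻¹⁻¹ := by
            rw [hd]; group
          rwa [e, Basic.orderOf_conj]
        obtain ⟨j, hj⟩ := hdodd
        have hdr : Commute r d := ((hrcomm _ p.1.2.2).mul_left (hrcomm _ p.1.1.2)).symm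
        have e1 : (p.1.2 : G) * (r * (p.1.1 : G)) = r * d := by
          rw [← mul_assoc, (hrcomm _ p.1.2.2).eq, mul_assoc]
        rw [e1]
        refine ⟨((2 * j + 1 : ℕ) : ℤ), ?_⟩
        show (r * d) ^ ((2 * j + 1 : ℕ) : ℤ) = r
        rw [zpow_natCast, hdr.mul_pow, ← hj, pow_orderOf_eq_one, mul_one, hj, pow_succ, pow_mul,
          pow_two, h.R_sq r hr, one_pow, one_mul]⟩
  refine Nat.card_le_card_of_injective f fun p q e => ?_
  have e1 := congrArg (fun x : {p : G × G // _} => x.1.1) e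
  have e2 := congrArg (fun x : {p : G × G // _} => x.1.2) e
  exact Subtype.ext (Prod.ext (Subtype.ext (mul_left_cancel e2)) (Subtype.ext e1))

end

end Shape

end Cfsg.Agent.L34Type
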