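import Cfsg.Agent.Lib.L34Type.Local

/-!
# Sylow 2-subgroups of type `L₃(4)`: consequences of the shape

`comm r a` runs through the centre, and the subgroups of order eight between the centre and `R` or
`A` have a normaliser normalising the centre.
-/

set_option autoImplicit false
set_option linter.unusedSectionVars false

namespace Cfsg.Agent.L34Type

open Subgroup

variable {G : Type*} [Group G] [Finite G] {S R A : Subgroup G}

namespace Shape

theorem Z_le_S (h : Shape S R A) : R ⊓ A ≤ S := inf_le_left.trans h.R_le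

/-- The commutator of an element of `R` and an element of `S` is central. -/
theorem comm_mem (h : Shape S R A) {s r : G} (hs : s ∈ S) (hr : r ∈ R) :
    s * r * s⁻¹ * r ∈ R ⊓ A :=
  h.conj_mul_mem hr hs

theorem conj_mem (h : Shape S R A) {s r : G} (hs : s ∈ S) (hr : r ∈ R) : s * r * s⁻¹ ∈ R := by
  have := mul_mem (h.comm_mem hs hr).1 hr
  rwa [mul_assoc, h.R_sq r hr, mul_one] at this

/-- `r ↦ [s, r]` on `R`. -/
def commHom (h : Shape S R A) {s : G} (hs : s ∈ S) : R →* ↥(R ⊓ A) where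
  toFun r := ⟨s * (r : G) * s⁻¹ * r, h.comm_mem hs r.2⟩
  map_one' := Subtype.ext (by simp)
  map_mul' x y := Subtype.ext (by
    show s * ((x : G) * y) * s⁻¹ * ((x : G) * y) =
      (s * x * s⁻¹ * x) * (s * y * s⁻¹ * y)
    calc s * ((x : G) * y) * s⁻¹ * ((x : G) * y)
        = (s * x * s⁻¹) * (s * y * s⁻¹) * ((x : G) * y) := by group
      _ = (s * x * s⁻¹) * ((s * y * s⁻¹) * x) * y := by group
      _ = (s * x * s⁻¹) * ((x : G) * (s * y * s⁻¹)) * y := by
          rw [h.R_comm (h.conj_mem hs y.2) x.2]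
      _ = (s * x * s⁻¹ * x) * (s * y * s⁻¹ * y) := by group)

theorem exists_comm_left (h : Shape S R A) {s : G} (hs : s ∈ S) (hsR : s ∉ R) {z : G}
    (hz : z ∈ R ⊓ A) : ∃ r ∈ R, s * r * s⁻¹ * r = z := by
  have hk : Nat.card (h.commHom hs).ker ≤ 4 := by
    rw [← h.inf_card]
    refine Nat.card_le_card_of_injective
      (fun x => (⟨((x : R) : G), (x : R).2, ?_⟩ : ↥(R ⊓ A))) fun x y e => ?_
    · by_contra hxA
      have e1 : s * ((x : R) : G) * s⁻¹ * (x : R) = 1 := congrArg Subtype.val (MonoidHom.mem_ker.1 x.2)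
      have e2 : s * ((x : R) : G) * s⁻¹ = (x : R) :=
        (eq_inv_of_mul_eq_one_left e1).trans (h.R_inv (x : R).2)
      exact hsR (h.cent_R _ (x : R).2 hxA s hs (mul_inv_eq_iff_eq_mul.1 e2).symm)
    · exact Subtype.ext (Subtype.ext (Subtype.mk.inj e))
  have hr : (h.commHom hs).range = ⊤ := by
    refine Subgroup.eq_of_le_of_card_ge le_top ?_
    have h1 := Subgroup.card_eq_card_quotient_mul_card_subgroup (h.commHom hs).ker
    rw [Nat.card_congr (QuotientGroup.quotientKerEquivRange (h.commHom hs)).toEquiv, h.R_card] at h1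
    rw [Subgroup.card_top, h.inf_card]
    nlinarith
  obtain ⟨r, hr'⟩ := MonoidHom.mem_range.1 (hr ▸ mem_top (⟨z, hz⟩ : ↥(R ⊓ A)))
  exact ⟨r, r.2, congrArg Subtype.val hr'⟩

theorem exists_comm_right (h : Shape S R A) {r : G} (hr : r ∈ R) (hrA : r ∉ A) {z : G}
    (hz : z ∈ R ⊓ A) : ∃ a ∈ A, a * r * a⁻¹ * r = z := by
  obtain ⟨a, ha, e⟩ := h.symm.exists_comm_left (h.R_le hr) hrA (inf_comm R A ▸ hz)
  refine ⟨a, ha, ?_⟩
  rw [h.R_inv hr] at e
  rw [h.symm.R_inv ha]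
  have hzz : z⁻¹ = z := h.R_inv hz.1
  calc a * r * a * r = (r⁻¹ * a⁻¹ * r⁻¹ * a⁻¹)⁻¹ := by group
    _ = (r * a * r * a)⁻¹ := by rw [h.R_inv hr, h.symm.R_inv ha]
    _ = z := by rw [e, hzz]

/-- A normal subgroup of `S` not inside the centre contains it. -/
theorem Z_le_of_normal (h : Shape S R A) {T : Subgroup G} (hTS : T ≤ S)
    (hT : ∀ s ∈ S, ∀ t ∈ T, s * t * s⁻¹ ∈ T) (hTZ : ¬ T ≤ R ⊓ A) : R ⊓ A ≤ T := by
  obtain ⟨u, hu, huZ⟩ := SetLike.not_le_iff_exists.1 hTZ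
  suffices H : ∀ R' A' : Subgroup G, Shape S R' A' → R' ⊓ A' = R ⊓ A → u ∉ R' → R ⊓ A ≤ T by
    by_cases hR : u ∈ R
    · exact H A R h.symm (inf_comm A R) fun hA => huZ ⟨hR, hA⟩
    · exact H R A h rfl hR
  intro R' A' h' e hu' z hz
  rw [← e] at hz
  obtain ⟨r, hr, rfl⟩ := h'.exists_comm_left (hTS hu) hu' hz
  have h1 : r * u⁻¹ * r⁻¹ ∈ T := hT r (h'.R_le hr) _ (inv_mem hu)
  rw [h'.R_inv hr] at h1
  rw [show u * r * u⁻¹ * r = u * (r * u⁻¹ * r) by group]
  exact mul_mem hu h1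

/-- An elementary subgroup of `S` lies in `R` or in `A`. -/
theorem le_R_or_le_A (h : Shape S R A) {E : Subgroup G} (hE : E ≤ S) (hsq : ∀ x ∈ E, x * x = 1) :
    E ≤ R ∨ E ≤ A := by
  by_contra hne
  rw [not_or, SetLike.not_le_iff_exists, SetLike.not_le_iff_exists] at hne
  obtain ⟨⟨a, ha, haR⟩, b, hb, hbA⟩ := hne
  have haA : a ∈ A := (h.involutions a (hE ha) (hsq a ha)).resolve_left haR
  have hbR : b ∈ R := (h.involutions b (hE hb) (hsq b hb)).resolve_right hbA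
  rcases h.involutions _ (hE (mul_mem ha hb)) (hsq _ (mul_mem ha hb)) with h1 | h1
  · exact haR ((Subgroup.mul_mem_cancel_right R hbR).1 h1)
  · exact hbA ((Subgroup.mul_mem_cancel_left A haA).1 h1)

end Shape

/-- A subgroup of order eight between the centre and `R`. -/
structure Eight (S R A E : Subgroup G) : Prop where
  shape : Shape S R A
  Z_le : R ⊓ A ≤ E
  le_R : E ≤ R
  card : Nat.card E = 8

namespace Eight

variable {E : Subgroup G}

theorem not_le (h : Eight S R A E) : ¬ E ≤ A := fun hle => by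
  have h1 := Subgroup.card_le_card_group (H := (E.subgroupOf (R ⊓ A)))
  have h2 : E ≤ R ⊓ A := le_inf h.le_R hle
  have h3 := Nat.le_of_dvd Nat.card_pos (Subgroup.card_dvd_of_le h2)
  rw [h.card, h.shape.inf_card] at h3
  omega

/-- The product of two elements outside the centre lies in it. -/
theorem mul_mem_Z (h : Eight S R A E) {x y : G} (hx : x ∈ E) (hxA : x ∉ A) (hy : y ∈ E)
    (hyA : y ∉ A) : x * y ∈ R ⊓ A := by
  have hidx : ((R ⊓ A).subgroupOf E).index = 2 := by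
    have h1 := ((R ⊓ A).subgroupOf E).card_mul_index
    rw [Nat.card_congr (subgroupOfEquivOfLe h.Z_le).toEquiv, h.shape.inf_card, h.card] at h1
    omega
  have hout : ∀ (u : G) (hu : u ∈ E), u ∉ A → (⟨u, hu⟩ : E) ∉ (R ⊓ A).subgroupOf E :=
    fun u _ huA e => huA (mem_subgroupOf.1 e).2
  exact mem_subgroupOf.1
    ((Subgroup.mul_mem_iff_of_index_two hidx (a := ⟨x, hx⟩) (b := ⟨y, hy⟩)).2
      (iff_of_false (hout x hx hxA) (hout y hy hyA)))

theorem exists_eq_mul (h : Eight S R A E) {r x : G} (hr : r ∈ E) (hrA : r ∉ A) (hx : x ∈ E)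
    (hxA : x ∉ A) : ∃ z ∈ R ⊓ A, x = z * r :=
  ⟨x * r, h.mul_mem_Z hx hxA hr hrA, by rw [mul_assoc, h.shape.R_sq r (h.le_R hr), mul_one]⟩

theorem conj_mem (h : Eight S R A E) {s x : G} (hs : s ∈ S) (hx : x ∈ E) : s * x * s⁻¹ ∈ E := by
  have := mul_mem (h.Z_le (h.shape.comm_mem hs (h.le_R hx))) hx
  rwa [mul_assoc, h.shape.R_sq x (h.le_R hx), mul_one] at this

theorem S_le_normalizer (h : Eight S R A E) : S ≤ normalizer (E : Set G) := by
  intro s hs
  refine mem_normalizer_iff.2 fun x => ⟨fun hx => h.conj_mem hs hx, fun hx => ?_⟩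
  simpa [mul_assoc] using h.conj_mem (inv_mem hs) hx

/-- A 2-element normalising `E` and the centre centralises the centre. -/
theorem mem_centralizer_Z {S : Sylow 2 G} (h : Eight (S : Subgroup G) R A E) {v : G}
    (hvE : v ∈ normalizer (E : Set G)) (hvZ : v ∈ normalizer ((R ⊓ A : Subgroup G) : Set G))
    (hv : ∃ k, v ^ 2 ^ k = 1) : v ∈ centralizer ((R ⊓ A : Subgroup G) : Set G) := by
  haveI : Fact (Nat.Prime 2) := ⟨Nat.prime_two⟩
  set Z := R ⊓ A
  set K := normalizer (E : Set G) ⊓ normalizer (Z : Set G)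
  set L := normalizer (E : Set G) ⊓ centralizer (Z : Set G)
  have hLK : L ≤ K := fun g hg => ⟨hg.1, mem_normalizer_iff.2 fun x =>
    ⟨fun hx => by rwa [← hg.2 x hx, mul_inv_cancel_right], fun hx => by
      have e1 : x = g * x * g⁻¹ := by
        have e2 := hg.2 _ hx
        rw [show g * (g * x * g⁻¹) = g * g * x * g⁻¹ by group,
          show g * x * g⁻¹ * g = g * x by group] at e2
        exact mul_left_cancel (e2.trans (by group : g * g * x * g⁻¹ = g * (g * x * g⁻¹)))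
      rwa [e1]⟩⟩
  have hSL : (S : Subgroup G) ≤ L := fun s hs => ⟨h.S_le_normalizer hs, fun z hz =>
    h.shape.central z hz s hs⟩
  have hodd : ¬ 2 ∣ L.relIndex K := fun hd => S.not_dvd_index
    ((hd.trans (Dvd.intro _ (relIndex_mul_index hLK))).trans (Subgroup.index_dvd_of_le hSL))
  haveI hn : (L.subgroupOf K).Normal := ⟨fun l hl g => by
    rw [mem_subgroupOf] at hl ⊢
    obtain ⟨g, hg⟩ := g
    refine ⟨(normalizer (E : Set G)).mul_mem ((normalizer (E : Set G)).mul_mem hg.1 hl.1)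
      ((normalizer (E : Set G)).inv_mem hg.1), fun z hz => ?_⟩
    have hz' : g⁻¹ * z * g ∈ Z := (mem_normalizer_iff''.1 hg.2 z).1 hz
    have e := hl.2 _ hz'
    show z * (g * (l : G) * g⁻¹) = g * (l : G) * g⁻¹ * z
    calc z * (g * (l : G) * g⁻¹) = g * ((g⁻¹ * z * g) * l) * g⁻¹ := by group
      _ = g * ((l : G) * (g⁻¹ * z * g)) * g⁻¹ := by rw [e]
      _ = g * (l : G) * g⁻¹ * z := by group⟩
  obtain ⟨k, hk⟩ := hv
  have h1 : (⟨v, hvE, hvZ⟩ : K) ^ L.relIndex K ∈ L.subgroupOf K :=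
    Subgroup.pow_index_mem (L.subgroupOf K) _
  have h2 : (⟨v, hvE, hvZ⟩ : K) ^ 2 ^ k ∈ L.subgroupOf K := by
    rw [show (⟨v, hvE, hvZ⟩ : K) ^ 2 ^ k = 1 from Subtype.ext hk]; exact one_mem _
  have hcop : Nat.gcd (L.relIndex K) (2 ^ k) = 1 :=
    Nat.Coprime.pow_right k ((Nat.prime_two.coprime_iff_not_dvd.2 hodd).symm)
  have h3 : (⟨v, hvE, hvZ⟩ : K) ∈ L.subgroupOf K := by
    rw [← QuotientGroup.eq_one_iff]
    rw [← QuotientGroup.eq_one_iff, QuotientGroup.mk_pow] at h1 h2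
    simpa [hcop] using pow_gcd_eq_one.2 ⟨h1, h2⟩
  exact (mem_subgroupOf.1 h3).2

/-- The normaliser of `E` normalises the centre. -/
theorem normalizer_le {S : Sylow 2 G} (h : Eight (S : Subgroup G) R A E) :
    normalizer (E : Set G) ≤ normalizer ((R ⊓ A : Subgroup G) : Set G) := by
  intro g hg
  suffices H : ∀ z ∈ R ⊓ A, g * z * g⁻¹ ∈ R ⊓ A by
    have hle : (R ⊓ A).map (MulAut.conj g).toMonoidHom ≤ R ⊓ A := by
      rintro _ ⟨x, hx, rfl⟩
      exact H x hx
    have heq := Subgroup.eq_of_le_of_card_ge hle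
      (Subgroup.card_map_of_injective (MulAut.conj g).injective).ge
    refine mem_normalizer_iff.2 fun x => ⟨H x, fun hx => ?_⟩
    rw [← heq] at hx
    obtain ⟨y, hy, e⟩ := hx
    exact (MulAut.conj g).injective e ▸ hy
  by_contra hne
  push Not at hne
  obtain ⟨z₀, hz₀, hz₀'⟩ := hne
  have hin : ∀ x ∈ E, g * x * g⁻¹ ∈ E := fun x hx => (mem_normalizer_iff.1 hg x).1 hx
  -- a non-trivial central element with central image
  obtain ⟨c, hc, hc1, hgc⟩ : ∃ c ∈ R ⊓ A, c ≠ 1 ∧ g * c * g⁻¹ ∈ R ⊓ A := by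
    by_contra hno
    push Not at hno
    have houtside : ∀ z ∈ R ⊓ A, z ≠ 1 → g * z * g⁻¹ ∈ E ∧ g * z * g⁻¹ ∉ A := fun z hz hz1 =>
      ⟨hin z (h.Z_le hz), fun e => hno z hz hz1 ⟨h.le_R (hin z (h.Z_le hz)), e⟩⟩
    haveI : Nontrivial ↥(R ⊓ A) :=
      Finite.one_lt_card_iff_nontrivial.1 (by rw [h.shape.inf_card]; norm_num)
    obtain ⟨⟨z, hz⟩, hz1⟩ := exists_ne (1 : ↥(R ⊓ A))
    have hz1' : z ≠ 1 := fun e => hz1 (Subtype.ext e)
    obtain ⟨z', hz', hz'1, hz'z⟩ : ∃ z' ∈ R ⊓ A, z' ≠ 1 ∧ z' ≠ z := by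
      by_contra hall
      push Not at hall
      have : Nat.card ↥(R ⊓ A) ≤ Nat.card ({1, z} : Set G) := by
        refine Nat.card_mono (Set.toFinite _) fun x hx => ?_
        by_cases hx1 : x = 1
        · simp [hx1]
        · simp [hall x hx hx1]
      rw [h.shape.inf_card, Nat.card_coe_set_eq] at this
      exact absurd (this.trans (Set.ncard_insert_le 1 {z})) (by simp)
    obtain ⟨ha, haA⟩ := houtside z hz hz1'
    obtain ⟨hb, hbA⟩ := houtside z' hz' hz'1
    have hzz : z * z' ∈ R ⊓ A := mul_mem hz hz'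
    have h1 : z * z' ≠ 1 := fun e => hz'z (by
      rw [← inv_eq_of_mul_eq_one_right e, h.shape.R_inv hz.1])
    exact (houtside _ hzz h1).2 (by
      rw [show g * (z * z') * g⁻¹ = (g * z * g⁻¹) * (g * z' * g⁻¹) by group]
      exact (h.mul_mem_Z ha haA hb hbA).2)
  -- an element outside the centre with central image
  obtain ⟨r, hr, hrA, hgr⟩ : ∃ r ∈ E, r ∉ A ∧ g * r * g⁻¹ ∈ R ⊓ A := by
    by_contra hno
    push Not at hno
    obtain ⟨r₀, hr₀, hr₀A⟩ := SetLike.not_le_iff_exists.1 h.not_le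
    have houtside : ∀ r ∈ E, r ∉ A → g * r * g⁻¹ ∉ A := fun r hr hrA e =>
      hno r hr hrA ⟨h.le_R (hin r hr), e⟩
    have hz₀A : z₀ * r₀ ∉ A := fun e => hr₀A ((Subgroup.mul_mem_cancel_left A hz₀.2).1 e)
    have ha : g * z₀ * g⁻¹ ∈ E := hin z₀ (h.Z_le hz₀)
    have haA : g * z₀ * g⁻¹ ∉ A := fun e => hz₀' ⟨h.le_R ha, e⟩
    refine houtside _ (mul_mem (h.Z_le hz₀) hr₀) hz₀A ?_
    rw [show g * (z₀ * r₀) * g⁻¹ = (g * z₀ * g⁻¹) * (g * r₀ * g⁻¹) by group]
    exact (h.mul_mem_Z ha haA (hin r₀ hr₀) (houtside r₀ hr₀ hr₀A)).2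
  obtain ⟨a, ha, hac⟩ := h.shape.exists_comm_right (h.le_R hr) hrA hc
  have haS := h.shape.A_le ha
  set v := g * a * g⁻¹ with hv
  have hvE : v ∈ normalizer (E : Set G) :=
    mul_mem (mul_mem hg (h.S_le_normalizer haS)) (inv_mem hg)
  -- `a` moves elements of `E` by at most `c`
  have hmove : ∀ x ∈ E, a * x * a⁻¹ * x = 1 ∨ a * x * a⁻¹ * x = c := by
    intro x hx
    by_cases hxA : x ∈ A
    · left
      have e : a * x = x * a := (h.shape.central x ⟨h.le_R hx, hxA⟩ a haS).symm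
      rw [e, mul_inv_cancel_right, h.shape.R_sq x (h.le_R hx)]
    · right
      obtain ⟨z, hz, rfl⟩ := h.exists_eq_mul hr hrA hx hxA
      have e : a * z = z * a := (h.shape.central z hz a haS).symm
      calc a * (z * r) * a⁻¹ * (z * r) = (a * z) * r * a⁻¹ * z * r := by group
        _ = (z * a) * r * a⁻¹ * z * r := by rw [e]
        _ = z * (a * r * a⁻¹) * z * r := by group
        _ = z * ((a * r * a⁻¹) * z) * r := by group
        _ = z * (z * (a * r * a⁻¹)) * r := by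
            rw [h.shape.R_comm (h.shape.conj_mem haS (h.le_R hr)) hz.1]
        _ = (z * z) * (a * r * a⁻¹ * r) := by group
        _ = c := by rw [h.shape.R_sq z hz.1, one_mul, hac]
  have hvmove : ∀ y ∈ E, v * y * v⁻¹ * y = 1 ∨ v * y * v⁻¹ * y = g * c * g⁻¹ := by
    intro y hy
    have hx : g⁻¹ * y * g ∈ E := (mem_normalizer_iff''.1 hg y).1 hy
    have e : v * y * v⁻¹ * y = g * (a * (g⁻¹ * y * g) * a⁻¹ * (g⁻¹ * y * g)) * g⁻¹ := by
      rw [hv]; group
    rcases hmove _ hx with e' | e' <;> rw [e, e']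
    · left; group
    · right; rfl
  have hvZ : v ∈ normalizer ((R ⊓ A : Subgroup G) : Set G) := by
    have H : ∀ y ∈ R ⊓ A, v * y * v⁻¹ ∈ R ⊓ A := by
      intro y hy
      have hyy := h.shape.R_sq y hy.1
      rcases hvmove y (h.Z_le hy) with e | e
      · rw [eq_inv_of_mul_eq_one_left e]; exact inv_mem hy
      · rw [show v * y * v⁻¹ = (g * c * g⁻¹) * y by
          rw [← e, mul_assoc _ y y, hyy, mul_one]]
        exact mul_mem hgc hy
    have hle : (R ⊓ A).map (MulAut.conj v).toMonoidHom ≤ R ⊓ A := by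
      rintro _ ⟨x, hx, rfl⟩
      exact H x hx
    have heq := Subgroup.eq_of_le_of_card_ge hle
      (Subgroup.card_map_of_injective (MulAut.conj v).injective).ge
    refine mem_normalizer_iff.2 fun x => ⟨H x, fun hx => ?_⟩
    rw [← heq] at hx
    obtain ⟨y, hy, e⟩ := hx
    exact (MulAut.conj v).injective e ▸ hy
  obtain ⟨k, hk⟩ := S.isPGroup' ⟨a, haS⟩
  have hv2 : ∃ k, v ^ 2 ^ k = 1 := ⟨k, by
    rw [hv, conj_pow, show a ^ 2 ^ k = 1 from congrArg Subtype.val hk, mul_one, mul_inv_cancel]⟩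
  have hcomm := h.mem_centralizer_Z hvE hvZ hv2 _ hgr
  refine hc1 ?_
  rw [← hac]
  have e : v * (g * r * g⁻¹) = g * r * g⁻¹ * v := hcomm.symm
  have e' : a * r = r * a := by
    rw [hv] at e
    have : g * (a * r) * g⁻¹ = g * (r * a) * g⁻¹ := by
      calc g * (a * r) * g⁻¹ = g * a * g⁻¹ * (g * r * g⁻¹) := by group
        _ = g * r * g⁻¹ * (g * a * g⁻¹) := e
        _ = g * (r * a) * g⁻¹ := by group
    simpa using this
  rw [e', mul_inv_cancel_right, h.shape.R_sq r (h.le_R hr)]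

end Eight

end Cfsg.Agent.L34Type
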