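import Cfsg.Agent.Lib.L34Type.NormalRotation
import Cfsg.Agent.S0111

/-!
# Minimal normal subgroups for Sylow 2-subgroups of type `L₃(4)`: the possible intersections

Either `N` contains `R` and `A`, or one of them, meeting the other in the centre only.
-/

set_option autoImplicit false
set_option linter.unusedSectionVars false
set_option linter.style.haveILetI false

namespace Cfsg.Agent.L34Type

open Subgroup

variable {G : Type*} [Group G] [Finite G] {S : Sylow 2 G} {R A N : Subgroup G}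

namespace MinData

/-- If `R ≤ N` then `A ⊓ N` does not have order eight. -/
theorem not_R_eight (h : MinData S R A N) (hR : R ≤ N) (hA : Nat.card ↥(A ⊓ N) = 8) : False := by
  haveI : Fact (Nat.Prime 2) := ⟨Nat.prime_two⟩
  have hF := h.symm.eight hA
  obtain ⟨a, ha, haR⟩ := SetLike.not_le_iff_exists.1 hF.not_le
  obtain ⟨P, hP⟩ := h.exists_sylow
  have hmP : ∀ x : N, x ∈ (P : Subgroup N) ↔ (x : G) ∈ (S : Subgroup G) := fun x => by
    rw [hP, mem_subgroupOf]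
  have hQP : R.subgroupOf N ≤ (P : Subgroup N) := fun x hx => (hmP x).2 (h.shape.R_le hx)
  have hQ2 : (R.subgroupOf N).relIndex (P : Subgroup N) = 2 := by
    refine relIndex_eq_two_iff.2 ⟨⟨a, ha.2⟩, (hmP _).2 (h.shape.A_le ha.1), fun b hb => ?_⟩
    rw [mem_subgroupOf, mem_subgroupOf, Subgroup.coe_mul]
    by_cases hbR : (b : G) ∈ R
    · exact Or.inr ⟨hbR, fun e => haR ((Subgroup.mul_mem_cancel_left R hbR).1 e)⟩
    · refine Or.inl ⟨?_, hbR⟩
      obtain ⟨r, hr, a', ha', e⟩ := h.shape.exists_mul_eq ((hmP b).1 hb)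
      have ha'N : a' ∈ N := by
        rw [show a' = r⁻¹ * (b : G) by rw [← e]; group]
        exact N.mul_mem (N.inv_mem (hR hr)) b.2
      have ha'R : a' ∉ R := fun e' => hbR (e ▸ R.mul_mem hr e')
      rw [← e, mul_assoc]
      exact R.mul_mem hr (hF.mul_mem_Z ⟨ha', ha'N⟩ ha'R ha haR).2
  have ha2 : (⟨a, ha.2⟩ : N) * ⟨a, ha.2⟩ = 1 := Subtype.ext (h.shape.A_sq a ha.1)
  rcases S0111.result P (R.subgroupOf N) hQP hQ2 ⟨a, ha.2⟩
    (orderOf_eq_prime (by rw [sq, ha2]) fun e => haR (by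
      rw [show a = 1 from congrArg Subtype.val e]; exact one_mem _))
    ((hmP _).2 (h.shape.A_le ha.1)) (fun e => haR (mem_subgroupOf.1 e)) with
    ⟨M, -, hM, -⟩ | ⟨g, hg⟩
  · exact h.no_index_two M hM
  · set x := (g : G) * a * (g : G)⁻¹ with hx
    have hxR : x ∈ R := mem_subgroupOf.1 hg
    refine h.symm.fusion_eight hA ha haR (P := R.map (MulAut.conj (g : G)⁻¹).toMonoidHom) ?_
      ((IsPGroup.of_card (n := 4) (by rw [h.shape.R_card]; norm_num)).map _) ?_ ?_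
    · rintro _ ⟨y, hy, rfl⟩
      exact h.normal.conj_mem y (hR hy) _
    · rintro _ ⟨y, hy, rfl⟩
      simp only [MulEquiv.coe_toMonoidHom, MulAut.conj_apply, inv_inv]
      calc (g : G)⁻¹ * y * g * a = (g : G)⁻¹ * (y * x) * g := by rw [hx]; group
        _ = (g : G)⁻¹ * (x * y) * g := by rw [h.shape.R_comm hy hxR]
        _ = a * ((g : G)⁻¹ * y * g) := by rw [hx]; group
    · rw [Subgroup.card_map_of_injective (MulAut.conj _).injective, h.shape.R_card]

/-- The Sylow 2-subgroup of `N` is not inside `R` if `R ⊓ N` has order eight. -/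
theorem not_le_R (h : MinData S R A N) (hc : Nat.card ↥(R ⊓ N) = 8) :
    ¬ (S : Subgroup G) ⊓ N ≤ R := by
  intro hle
  haveI : Fact (Nat.Prime 2) := ⟨Nat.prime_two⟩
  have hE := h.eight hc
  obtain ⟨P, hP⟩ := h.exists_sylow
  have hPE : (P : Subgroup N) = (R ⊓ N).subgroupOf N := by
    rw [hP]
    ext x
    rw [mem_subgroupOf, mem_subgroupOf]
    exact ⟨fun hx => ⟨hle ⟨hx, x.2⟩, x.2⟩, fun hx => h.shape.R_le hx.1⟩
  refine not_normalizer_le h.no_odd h.center_eq_bot P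
    (fun x hx => Subtype.ext (h.shape.R_sq x (by
      rw [hPE, mem_subgroupOf] at hx; exact hx.1))) ((R ⊓ A).subgroupOf N) ?_ fun g hg => ?_
  · rw [hPE, relIndex_subgroupOf inf_le_right]
    have h1 := ((R ⊓ A).subgroupOf (R ⊓ N)).card_mul_index
    rw [Nat.card_congr (subgroupOfEquivOfLe (le_inf inf_le_left h.Z_le)).toEquiv,
      h.shape.inf_card, hc] at h1
    rw [Subgroup.relIndex]
    omega
  · rw [hPE] at hg
    have hgE : (g : G) ∈ normalizer ((R ⊓ N : Subgroup G) : Set G) := by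
      refine mem_normalizer_iff.2 fun x => ⟨fun hx => ?_, fun hx => ?_⟩
      · exact mem_subgroupOf.1
          ((mem_normalizer_iff.1 hg ⟨x, hx.2⟩).1 (mem_subgroupOf.2 hx))
      · have hxN : x ∈ N := by
          have := N.mul_mem (N.mul_mem (N.inv_mem g.2) hx.2) g.2
          simpa [mul_assoc] using this
        exact mem_subgroupOf.1
          ((mem_normalizer_iff.1 hg ⟨x, hxN⟩).2 (mem_subgroupOf.2 hx))
    have hgZ := hE.normalizer_le hgE
    refine mem_normalizer_iff.2 fun x => ?_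
    rw [mem_subgroupOf, mem_subgroupOf]
    exact mem_normalizer_iff.1 hgZ x

/-- An element normalising `S ⊓ N` squares into the normaliser of `R ⊓ N`. -/
theorem sq_conj_mem (h : MinData S R A N) (hR : Nat.card ↥(R ⊓ N) = 8)
    (hA : Nat.card ↥(A ⊓ N) = 4 ∨ Nat.card ↥(A ⊓ N) = 8) {b : G}
    (hb : ∀ t ∈ (S : Subgroup G) ⊓ N, b * t * b⁻¹ ∈ (S : Subgroup G) ⊓ N) :
    ∀ x ∈ R ⊓ N, b ^ 2 * x * (b ^ 2)⁻¹ ∈ R ⊓ N := by
  have key : ∀ E : Subgroup G, E ≤ (S : Subgroup G) ⊓ N → Nat.card E = 8 →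
      (∀ x ∈ E, x * x = 1) → E.map (MulAut.conj b).toMonoidHom = R ⊓ N ∨
        (Nat.card ↥(A ⊓ N) = 8 ∧ E.map (MulAut.conj b).toMonoidHom = A ⊓ N) := by
    intro E hES hEc hEsq
    set E' := E.map (MulAut.conj b).toMonoidHom with hE'
    have hc : Nat.card E' = 8 := by
      rw [hE', Subgroup.card_map_of_injective (MulAut.conj b).injective, hEc]
    have hS : E' ≤ (S : Subgroup G) ⊓ N := by
      rintro _ ⟨x, hx, rfl⟩
      exact hb x (hES hx)
    have hsq : ∀ x ∈ E', x * x = 1 := by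
      rintro _ ⟨x, hx, rfl⟩
      rw [← map_mul, hEsq x hx, map_one]
    rcases h.shape.le_R_or_le_A (hS.trans inf_le_left) hsq with hle | hle
    · exact Or.inl (Subgroup.eq_of_le_of_card_ge (le_inf hle (hS.trans inf_le_right))
        (by rw [hc, hR]))
    · rcases hA with hA | hA
      · have := Subgroup.card_le_of_le (le_inf hle (hS.trans inf_le_right))
        omega
      · exact Or.inr ⟨hA, Subgroup.eq_of_le_of_card_ge (le_inf hle (hS.trans inf_le_right))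
          (by rw [hc, hA])⟩
  intro x hx
  rw [show b ^ 2 * x * (b ^ 2)⁻¹ = b * (b * x * b⁻¹) * b⁻¹ by rw [_root_.sq]; group]
  have hx1 : b * x * b⁻¹ ∈ (R ⊓ N).map (MulAut.conj b).toMonoidHom := ⟨x, hx, rfl⟩
  rcases key (R ⊓ N) (le_inf (inf_le_left.trans h.shape.R_le) inf_le_right) hR
    (fun y hy => h.shape.R_sq y hy.1) with e | ⟨hA8, e⟩
  · rw [← e]; exact Subgroup.mem_map_of_mem _ (e ▸ hx1)
  · rcases key (A ⊓ N) (le_inf (inf_le_left.trans h.shape.A_le) inf_le_right) hA8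
      (fun y hy => h.shape.A_sq y hy.1) with e' | ⟨-, e'⟩
    · rw [← e']; exact Subgroup.mem_map_of_mem _ (e ▸ hx1)
    · exfalso
      have heq : R ⊓ N = A ⊓ N :=
        Subgroup.map_injective (MulAut.conj b).injective (e.trans e'.symm)
      exact (h.eight hR).not_le (heq.le.trans inf_le_left)

/-- `R ⊓ N` does not have order eight unless `A ≤ N`. -/
theorem not_eight_small (h : MinData S R A N) (hR : Nat.card ↥(R ⊓ N) = 8)
    (hA : Nat.card ↥(A ⊓ N) = 4 ∨ Nat.card ↥(A ⊓ N) = 8) : False := by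
  haveI : Fact (Nat.Prime 2) := ⟨Nat.prime_two⟩
  have hE := h.eight hR
  set T := (S : Subgroup G) ⊓ N with hT
  obtain ⟨t₀, ht₀, ht₀R⟩ := SetLike.not_le_iff_exists.1 (h.not_le_R hR)
  have hET : R ⊓ N ≤ T := le_inf (inf_le_left.trans h.shape.R_le) inf_le_right
  have hT16 : 16 ≤ Nat.card T := by
    have hd : Nat.card T ∣ 2 ^ 6 := by
      have := Subgroup.card_dvd_of_le (inf_le_left : T ≤ (S : Subgroup G))
      rwa [h.shape.card_S] at this
    obtain ⟨k, -, hk⟩ := (Nat.dvd_prime_pow Nat.prime_two).1 hd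
    have hlt : 8 < Nat.card T := by
      refine lt_of_le_of_ne (hR ▸ Subgroup.card_le_of_le hET) fun e => ht₀R ?_
      have := Subgroup.eq_of_le_of_card_ge hET (by rw [hR]; exact e.symm.le)
      exact (this ▸ ht₀ : t₀ ∈ R ⊓ N).1
    rw [hk] at hlt ⊢
    have h4 : 3 < k := (Nat.pow_lt_pow_iff_right (by norm_num : 1 < 2)).1 (by simpa using hlt)
    calc 16 = 2 ^ 4 := by norm_num
      _ ≤ 2 ^ k := Nat.pow_le_pow_right (by norm_num) h4
  have hfus : ∀ z ∈ R ⊓ A, z ≠ 1 → ∀ g ∈ N, g * z * g⁻¹ ∈ (S : Subgroup G) →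
      g * z * g⁻¹ ∈ R ⊓ A := by
    intro z hz _ g hg hgS
    have hP : T.map (MulAut.conj g).toMonoidHom ≤ N := by
      rintro _ ⟨y, hy, rfl⟩
      exact h.normal.conj_mem y hy.2 g
    have hPp : IsPGroup 2 (T.map (MulAut.conj g).toMonoidHom) :=
      (S.isPGroup'.to_le inf_le_left).map _
    have hPc : ∀ p ∈ T.map (MulAut.conj g).toMonoidHom,
        p * (g * z * g⁻¹) = g * z * g⁻¹ * p := by
      rintro _ ⟨y, hy, rfl⟩
      show MulAut.conj g y * MulAut.conj g z = MulAut.conj g z * MulAut.conj g y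
      rw [← map_mul, ← map_mul, h.shape.central z hz y hy.1]
    have hP16 : 16 ≤ Nat.card (T.map (MulAut.conj g).toMonoidHom) := by
      rwa [Subgroup.card_map_of_injective (MulAut.conj g).injective]
    have hxN : g * z * g⁻¹ ∈ N := h.normal.conj_mem z (h.Z_le hz) g
    have hx2 : (g * z * g⁻¹) * (g * z * g⁻¹) = 1 := by
      rw [show (g * z * g⁻¹) * (g * z * g⁻¹) = g * (z * z) * g⁻¹ by group,
        h.shape.R_sq z hz.1, mul_one, mul_inv_cancel]
    by_contra hne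
    rcases h.shape.involutions _ hgS hx2 with hxR | hxA
    · exact h.fusion_eight hR ⟨hxR, hxN⟩ (fun e => hne ⟨hxR, e⟩) hP hPp hPc hP16
    · rcases hA with hA | hA
      · refine hne ?_
        have := h.symm.inf_eq_of_card hA
        rw [inf_comm R A, ← this]
        exact ⟨hxA, hxN⟩
      · exact h.symm.fusion_eight hA ⟨hxA, hxN⟩ (fun e => hne ⟨e, hxA⟩) hP hPp hPc hP16
  obtain ⟨b₀, hb₀⟩ := h.exists_rotation hfus
  have hb := hb₀.sq
  have hbE := h.sq_conj_mem hR hA hb₀.conj_T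
  obtain ⟨r', hr', hr'A, hr'fix⟩ := hb.exists_fixed hE hbE
  have hr'R := hE.le_R hr'
  let f : T →* ↥(R ⊓ A) :=
    { toFun := fun t => ⟨(t : G) * r' * (t : G)⁻¹ * r', h.shape.comm_mem t.2.1 hr'R⟩
      map_one' := Subtype.ext (by simp [h.shape.R_sq r' hr'R])
      map_mul' := fun t u => Subtype.ext (by
        have hu := h.shape.comm_mem u.2.1 hr'R
        show (t : G) * u * r' * ((t : G) * u)⁻¹ * r' =
          (t * r' * (t : G)⁻¹ * r') * (u * r' * (u : G)⁻¹ * r')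
        have e := h.shape.central _ hu (t : G) t.2.1
        have e' := h.shape.central _ hu ((t : G) * r' * (t : G)⁻¹ * r')
          (h.shape.Z_le_S (h.shape.comm_mem t.2.1 hr'R))
        calc (t : G) * u * r' * ((t : G) * u)⁻¹ * r'
            = (t : G) * ((u : G) * r' * (u : G)⁻¹ * r') * (r'⁻¹ * (t : G)⁻¹ * r') := by group
          _ = ((u : G) * r' * (u : G)⁻¹ * r') * (t : G) * (r'⁻¹ * (t : G)⁻¹ * r') := by rw [e]
          _ = ((u : G) * r' * (u : G)⁻¹ * r') * ((t : G) * r' * (t : G)⁻¹ * r') := by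
              rw [h.shape.R_inv hr'R]; group
          _ = _ := e') }
  have hfv : ∀ t : T, ((f t : ↥(R ⊓ A)) : G) = (t : G) * r' * (t : G)⁻¹ * r' := fun t => rfl
  have hrange : f.range = ⊤ := by
    refine hb.eq_top_of_invariant (fun e => ht₀R ?_) ?_
    · have e1 : f ⟨t₀, ht₀⟩ = 1 := Subgroup.mem_bot.1 (e ▸ MonoidHom.mem_range.2 ⟨_, rfl⟩)
      have e2 : t₀ * r' * t₀⁻¹ * r' = 1 := congrArg Subtype.val e1
      have e3 : t₀ * r' * t₀⁻¹ = r' :=
        (eq_inv_of_mul_eq_one_left e2).trans (h.shape.R_inv hr'R)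
      exact h.shape.cent_R r' hr'R hr'A t₀ ht₀.1 (mul_inv_eq_iff_eq_mul.1 e3).symm
    · rintro _ ⟨t, rfl⟩
      refine ⟨f ⟨b₀ ^ 2 * (t : G) * (b₀ ^ 2)⁻¹, hb.conj_T t t.2⟩, ⟨_, rfl⟩, ?_⟩
      rw [hfv, hfv]
      calc b₀ ^ 2 * (t : G) * (b₀ ^ 2)⁻¹ * r' * (b₀ ^ 2 * (t : G) * (b₀ ^ 2)⁻¹)⁻¹ * r'
          = b₀ ^ 2 * (t : G) * (b₀ ^ 2)⁻¹ * (b₀ ^ 2 * r' * (b₀ ^ 2)⁻¹) *
            (b₀ ^ 2 * (t : G) * (b₀ ^ 2)⁻¹)⁻¹ * (b₀ ^ 2 * r' * (b₀ ^ 2)⁻¹) := by rw [hr'fix]
        _ = b₀ ^ 2 * ((t : G) * r' * (t : G)⁻¹ * r') * (b₀ ^ 2)⁻¹ := by group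
  have hT32 : 32 ≤ Nat.card T := by
    have h1 := Subgroup.card_eq_card_quotient_mul_card_subgroup f.ker
    rw [Nat.card_congr (QuotientGroup.quotientKerEquivRange f).toEquiv, hrange,
      Subgroup.card_top, h.shape.inf_card] at h1
    have h2 : Nat.card ↥(R ⊓ N) ≤ Nat.card f.ker := by
      refine Nat.card_le_card_of_injective (fun x => ⟨⟨x, hET x.2⟩, ?_⟩) fun x y e => ?_
      · rw [MonoidHom.mem_ker]
        refine Subtype.ext ((hfv _).trans ?_)
        show (x : G) * r' * (x : G)⁻¹ * r' = ((1 : ↥(R ⊓ A)) : G)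
        rw [h.shape.R_comm (show (x : G) ∈ R from x.2.1) hr'R, mul_inv_cancel_right,
          h.shape.R_sq r' hr'R, Subgroup.coe_one]
      · exact Subtype.ext (congrArg (fun w : f.ker => ((w : T) : G)) e)
    omega
  have hA8 : Nat.card ↥(A ⊓ N) = 8 := by
    refine hA.resolve_left fun hA4 => ?_
    have h1 := relIndex_mul_relIndex ⊥ (A ⊓ T) T bot_le inf_le_right
    rw [inf_relIndex_right, relIndex_bot_left, relIndex_bot_left] at h1
    have h2 : A.relIndex T ≤ A.relIndex (S : Subgroup G) :=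
      relIndex_le_of_le_right inf_le_left Subgroup.index_ne_zero_of_finite
    have h3 : A.relIndex (S : Subgroup G) = 4 := by
      have := relIndex_mul_relIndex ⊥ A (S : Subgroup G) bot_le h.shape.A_le
      rw [relIndex_bot_left, relIndex_bot_left, h.shape.A_card, h.shape.card_S] at this
      omega
    have h4 : Nat.card ↥(A ⊓ T) ≤ 4 :=
      hA4 ▸ Subgroup.card_le_of_le (le_inf inf_le_left (inf_le_right.trans inf_le_right))
    nlinarith
  have hF := h.symm.eight hA8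
  have hbZ' : Rotation S A R N (b₀ ^ 2) :=
    ⟨h.shape.symm, hb.mem, hb.odd, hb.conj_T, fun z hz => inf_comm R A ▸ hb.conj_Z z (inf_comm A R ▸ hz),
      fun z hz => hb.move z (inf_comm A R ▸ hz)⟩
  obtain ⟨a', ha', ha'R, ha'fix⟩ :=
    hbZ'.exists_fixed hF (h.symm.sq_conj_mem hA8 (Or.inr hR) hb₀.conj_T)
  have hz1 : a' * r' * a'⁻¹ * r' ≠ 1 := fun e2 => by
    have e3 : a' * r' * a'⁻¹ = r' :=
      (eq_inv_of_mul_eq_one_left e2).trans (h.shape.R_inv hr'R)
    exact ha'R (h.shape.cent_R r' hr'R hr'A a' (h.shape.A_le ha'.1) (mul_inv_eq_iff_eq_mul.1 e3).symm)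
  refine hb.move _ (h.shape.comm_mem (h.shape.A_le ha'.1) hr'R) hz1 ?_
  calc b₀ ^ 2 * (a' * r' * a'⁻¹ * r') * (b₀ ^ 2)⁻¹
      = (b₀ ^ 2 * a' * (b₀ ^ 2)⁻¹) * (b₀ ^ 2 * r' * (b₀ ^ 2)⁻¹) *
        (b₀ ^ 2 * a' * (b₀ ^ 2)⁻¹)⁻¹ * (b₀ ^ 2 * r' * (b₀ ^ 2)⁻¹) := by group
    _ = a' * r' * a'⁻¹ * r' := by rw [ha'fix, hr'fix]

end MinData

end Cfsg.Agent.L34Type
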