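import Cfsg.Agent.Lib.L34Type.NormalSub

/-!
# Minimal normal subgroups for Sylow 2-subgroups of type `L₃(4)`: the rotation of the centre

If no involution of the centre is isolated in `N`, some element of odd order of the normaliser of
the Sylow 2-subgroup of `N` permutes the three involutions of the centre cyclically.
-/

set_option autoImplicit false
set_option linter.unusedSectionVars false
set_option linter.style.haveILetI false

namespace Cfsg.Agent.L34Type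

open Subgroup

variable {G : Type*} [Group G] [Finite G] {S : Sylow 2 G} {R A N : Subgroup G}

/-- An element mapping a finite subgroup into itself maps only it there. -/
theorem mem_of_conj_mem {H : Subgroup G} {b : G} (hb : ∀ x ∈ H, b * x * b⁻¹ ∈ H) {x : G}
    (hx : b * x * b⁻¹ ∈ H) : x ∈ H := by
  have hle : H.map (MulAut.conj b).toMonoidHom ≤ H := by
    rintro _ ⟨y, hy, rfl⟩
    exact hb y hy
  have heq := Subgroup.eq_of_le_of_card_ge hle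
    (Subgroup.card_map_of_injective (MulAut.conj b).injective).ge
  rw [← heq] at hx
  obtain ⟨y, hy, e⟩ := hx
  exact (MulAut.conj b).injective e ▸ hy

/-- `b` rotates the centre and normalises the Sylow 2-subgroup of `N`. -/
structure Rotation (S : Sylow 2 G) (R A N : Subgroup G) (b : G) : Prop where
  shape : Shape (S : Subgroup G) R A
  mem : b ∈ N
  odd : Odd (orderOf b)
  conj_T : ∀ t ∈ (S : Subgroup G) ⊓ N, b * t * b⁻¹ ∈ (S : Subgroup G) ⊓ N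
  conj_Z : ∀ z ∈ R ⊓ A, b * z * b⁻¹ ∈ R ⊓ A
  move : ∀ z ∈ R ⊓ A, z ≠ 1 → b * z * b⁻¹ ≠ z

namespace Rotation

variable {b : G} (hb : Rotation S R A N b)
include hb

theorem sq : Rotation S R A N (b ^ 2) where
  shape := hb.shape
  mem := pow_mem hb.mem 2
  odd := hb.odd.of_dvd_nat (orderOf_pow_dvd 2)
  conj_T t ht := by
    rw [show b ^ 2 * t * (b ^ 2)⁻¹ = b * (b * t * b⁻¹) * b⁻¹ by rw [_root_.sq]; group]
    exact hb.conj_T _ (hb.conj_T t ht)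
  conj_Z t ht := by
    rw [show b ^ 2 * t * (b ^ 2)⁻¹ = b * (b * t * b⁻¹) * b⁻¹ by rw [_root_.sq]; group]
    exact hb.conj_Z _ (hb.conj_Z t ht)
  move z hz hz1 e :=
    hb.move z hz hz1 (mul_inv_eq_iff_eq_mul.2 (fix_of_sq_fix hb.odd (mul_inv_eq_iff_eq_mul.1 e)))

theorem ne_one {z : G} (hz1 : z ≠ 1) : b * z * b⁻¹ ≠ 1 := fun e => hz1 (conj_eq_one_iff.1 e)

/-- The second image. -/
theorem image_two {z : G} (hz : z ∈ R ⊓ A) (hz1 : z ≠ 1) :
    b * (b * z * b⁻¹) * b⁻¹ = z * (b * z * b⁻¹) := by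
  rcases four_elems hb.shape hz hz1 (hb.conj_Z z hz) (hb.ne_one hz1) (hb.move z hz hz1)
    (hb.conj_Z _ (hb.conj_Z z hz)) with e | e | e | e
  · exact absurd e (hb.ne_one (hb.ne_one hz1))
  · refine absurd (mul_inv_eq_iff_eq_mul.2 (fix_of_sq_fix hb.odd (mul_inv_eq_iff_eq_mul.1 ?_)))
      (hb.move z hz hz1)
    rw [_root_.sq]
    exact (by group : b * b * z * (b * b)⁻¹ = b * (b * z * b⁻¹) * b⁻¹).trans e
  · exact absurd e (hb.move _ (hb.conj_Z z hz) (hb.ne_one hz1))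
  · exact e

theorem cube_fix {z : G} (hz : z ∈ R ⊓ A) : b ^ 3 * z * (b ^ 3)⁻¹ = z := by
  by_cases hz1 : z = 1
  · simp [hz1]
  have hw := hb.conj_Z z hz
  calc b ^ 3 * z * (b ^ 3)⁻¹ = b * (b * (b * z * b⁻¹) * b⁻¹) * b⁻¹ := by
        rw [pow_succ, _root_.sq]; group
    _ = b * (z * (b * z * b⁻¹)) * b⁻¹ := by rw [hb.image_two hz hz1]
    _ = (b * z * b⁻¹) * (b * (b * z * b⁻¹) * b⁻¹) := by group
    _ = (b * z * b⁻¹) * (z * (b * z * b⁻¹)) := by rw [hb.image_two hz hz1]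
    _ = ((b * z * b⁻¹) * (b * z * b⁻¹)) * z := by
        rw [hb.shape.R_comm hz.1 hw.1, ← mul_assoc]
    _ = z := by rw [hb.shape.R_sq _ hw.1, one_mul]

/-- The only invariant subgroup of the centre with more than one element is the whole. -/
theorem eq_top_of_invariant {Sg : Subgroup ↥(R ⊓ A)} (hSg : Sg ≠ ⊥)
    (hinv : ∀ c ∈ Sg, ∃ d ∈ Sg, (d : G) = b * (c : G) * b⁻¹) : Sg = ⊤ := by
  obtain ⟨⟨⟨c, hc⟩, hcSg⟩, hc1⟩ :=
    @exists_ne _ (Sg.nontrivial_iff_ne_bot.2 hSg) (1 : Sg)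
  have hc1' : c ≠ 1 := fun e => hc1 (Subtype.ext (Subtype.ext e))
  obtain ⟨d, hd, hde⟩ := hinv _ hcSg
  simp only at hde
  refine Subgroup.eq_top_iff' Sg |>.2 fun ⟨x, hx⟩ => ?_
  rcases four_elems hb.shape hc hc1' (hb.conj_Z c hc) (hb.ne_one hc1') (hb.move c hc hc1') hx with
    e | e | e | e
  · rw [show (⟨x, hx⟩ : ↥(R ⊓ A)) = 1 from Subtype.ext e]; exact one_mem _
  · rw [show (⟨x, hx⟩ : ↥(R ⊓ A)) = ⟨c, hc⟩ from Subtype.ext e]; exact hcSg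
  · rw [show (⟨x, hx⟩ : ↥(R ⊓ A)) = d from Subtype.ext (e.trans hde.symm)]; exact hd
  · rw [show (⟨x, hx⟩ : ↥(R ⊓ A)) = ⟨c, hc⟩ * d from
      Subtype.ext (e.trans (by rw [Subgroup.coe_mul, hde]))]
    exact mul_mem hcSg hd

/-- An invariant subgroup of order eight between the centre and `R` has a fixed point outside
the centre. -/
theorem exists_fixed {E : Subgroup G} (hE : Eight (S : Subgroup G) R A E)
    (hbE : ∀ x ∈ E, b * x * b⁻¹ ∈ E) : ∃ r ∈ E, r ∉ A ∧ b * r * b⁻¹ = r := by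
  obtain ⟨r, hr, hrA⟩ := SetLike.not_le_iff_exists.1 hE.not_le
  have hout : ∀ x ∈ E, x ∉ A → b * x * b⁻¹ ∉ A := fun x hx hxA e =>
    hxA (mem_of_conj_mem hb.conj_Z ⟨hE.le_R (hbE x hx), e⟩).2
  have h1 := hbE r hr
  have h1A := hout r hr hrA
  have h2 := hbE _ h1
  have h2A := hout _ h1 h1A
  have hcube : b ^ 3 * r * (b ^ 3)⁻¹ = r := by
    have h3 := hbE _ h2
    have h3A := hout _ h2 h2A
    have e : b ^ 3 * r * (b ^ 3)⁻¹ = b * (b * (b * r * b⁻¹) * b⁻¹) * b⁻¹ := by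
      rw [pow_succ, _root_.sq]; group
    obtain ⟨z, hz, hz'⟩ := hE.exists_eq_mul hr hrA h3 h3A
    have he : b ^ 3 * r * (b ^ 3)⁻¹ = z * r := e.trans hz'
    have h6 : (b ^ 3) ^ 2 * r * ((b ^ 3) ^ 2)⁻¹ = r := by
      calc (b ^ 3) ^ 2 * r * ((b ^ 3) ^ 2)⁻¹ = b ^ 3 * (b ^ 3 * r * (b ^ 3)⁻¹) * (b ^ 3)⁻¹ := by
            rw [_root_.sq (b ^ 3)]; group
        _ = b ^ 3 * (z * r) * (b ^ 3)⁻¹ := by rw [he]
        _ = (b ^ 3 * z * (b ^ 3)⁻¹) * (b ^ 3 * r * (b ^ 3)⁻¹) := by group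
        _ = z * (z * r) := by rw [hb.cube_fix hz, he]
        _ = r := by rw [← mul_assoc, hb.shape.R_sq z hz.1, one_mul]
    exact mul_inv_eq_iff_eq_mul.2 (fix_of_sq_fix (hb.odd.of_dvd_nat (orderOf_pow_dvd 3))
      (mul_inv_eq_iff_eq_mul.1 h6))
  refine ⟨r * (b * r * b⁻¹) * (b * (b * r * b⁻¹) * b⁻¹), mul_mem (mul_mem hr h1) h2, fun e => ?_, ?_⟩
  · exact h2A ((Subgroup.mul_mem_cancel_left A (hE.mul_mem_Z hr hrA h1 h1A).2).1 e)
  · have e3 : b * (b * (b * r * b⁻¹) * b⁻¹) * b⁻¹ = r :=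
      (by rw [pow_succ, _root_.sq]; group :
        b * (b * (b * r * b⁻¹) * b⁻¹) * b⁻¹ = b ^ 3 * r * (b ^ 3)⁻¹).trans hcube
    calc b * (r * (b * r * b⁻¹) * (b * (b * r * b⁻¹) * b⁻¹)) * b⁻¹
        = (b * r * b⁻¹) * (b * (b * r * b⁻¹) * b⁻¹) * (b * (b * (b * r * b⁻¹) * b⁻¹) * b⁻¹) := by
          group
      _ = (b * r * b⁻¹) * (b * (b * r * b⁻¹) * b⁻¹) * r := by rw [e3]
      _ = r * ((b * r * b⁻¹) * (b * (b * r * b⁻¹) * b⁻¹)) :=
          hb.shape.R_comm (mul_mem (hE.le_R h1) (hE.le_R h2)) (hE.le_R hr)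
      _ = _ := (mul_assoc _ _ _).symm

end Rotation

namespace MinData

/-- If conjugates of central involutions in `S ⊓ N` are central, some element rotates the
centre. -/
theorem exists_rotation (h : MinData S R A N)
    (hfus : ∀ z ∈ R ⊓ A, z ≠ 1 → ∀ g ∈ N, g * z * g⁻¹ ∈ (S : Subgroup G) →
      g * z * g⁻¹ ∈ R ⊓ A) : ∃ b, Rotation S R A N b := by
  haveI : Fact (Nat.Prime 2) := ⟨Nat.prime_two⟩
  haveI : Nontrivial ↥(R ⊓ A) :=
    Finite.one_lt_card_iff_nontrivial.1 (by rw [h.shape.inf_card]; norm_num)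
  obtain ⟨⟨z₀, hz₀⟩, hz₀1⟩ := exists_ne (1 : ↥(R ⊓ A))
  have hz₀1' : z₀ ≠ 1 := fun e => hz₀1 (Subtype.ext e)
  obtain ⟨P, hP⟩ := h.exists_sylow
  have hmP : ∀ x : N, x ∈ (P : Subgroup N) ↔ (x : G) ∈ (S : Subgroup G) := fun x => by
    rw [hP, mem_subgroupOf]
  obtain ⟨n, hn, hnz⟩ := exists_normalizer_move h.no_odd h.center_eq_bot P
    (u := ⟨z₀, h.Z_le hz₀⟩) ((hmP _).2 (h.shape.Z_le_S hz₀))
    (Subtype.ext (h.shape.R_sq z₀ hz₀.1)) (fun e => hz₀1' (congrArg Subtype.val e))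
    (fun g hg => fun y hy => Subtype.ext (h.shape.central _
      (hfus z₀ hz₀ hz₀1' g g.2 ((hmP _).1 hg)) y ((hmP y).1 hy)).symm)
  have hnz' : (n : G) * z₀ * (n : G)⁻¹ ≠ z₀ := fun e => hnz (Subtype.ext e)
  have hnT : ∀ t ∈ (S : Subgroup G) ⊓ N, (n : G) * t * (n : G)⁻¹ ∈ (S : Subgroup G) ⊓ N :=
    fun t ht => ⟨(hmP _).1 ((mem_normalizer_iff.1 hn ⟨t, ht.2⟩).1 ((hmP _).2 ht.1)),
      N.mul_mem (N.mul_mem n.2 ht.2) (N.inv_mem n.2)⟩
  have hnZ : ∀ z ∈ R ⊓ A, (n : G) * z * (n : G)⁻¹ ∈ R ⊓ A := by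
    intro z hz
    by_cases hz1 : z = 1
    · simp [hz1]
    · exact hfus z hz hz1 n n.2 (hnT z ⟨h.shape.Z_le_S hz, h.Z_le hz⟩).1
  have hpow : ∀ k : ℕ, (∀ t ∈ (S : Subgroup G) ⊓ N,
      (n : G) ^ k * t * ((n : G) ^ k)⁻¹ ∈ (S : Subgroup G) ⊓ N) ∧
      ∀ z ∈ R ⊓ A, (n : G) ^ k * z * ((n : G) ^ k)⁻¹ ∈ R ⊓ A := by
    intro k
    induction k with
    | zero => simp
    | succ k ih =>
      refine ⟨fun t ht => ?_, fun z hz => ?_⟩
      · rw [show (n : G) ^ (k + 1) * t * ((n : G) ^ (k + 1))⁻¹ =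
          n ^ k * (n * t * (n : G)⁻¹) * ((n : G) ^ k)⁻¹ by rw [pow_succ]; group]
        exact ih.1 _ (hnT t ht)
      · rw [show (n : G) ^ (k + 1) * z * ((n : G) ^ (k + 1))⁻¹ =
          n ^ k * (n * z * (n : G)⁻¹) * ((n : G) ^ k)⁻¹ by rw [pow_succ]; group]
        exact ih.2 _ (hnZ z hz)
  obtain ⟨e, m, hm, hem⟩ := Nat.exists_eq_two_pow_mul_odd (orderOf_pos n).ne'
  have hb1 : ((n : G) ^ 2 ^ e) ^ m = 1 := by
    rw [← pow_mul, ← hem, ← Subgroup.coe_pow, pow_orderOf_eq_one, Subgroup.coe_one]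
  have hodd : Odd (orderOf ((n : G) ^ 2 ^ e)) := hm.of_dvd_nat (orderOf_dvd_of_pow_eq_one hb1)
  refine ⟨(n : G) ^ 2 ^ e, h.shape, pow_mem n.2 _, hodd, (hpow _).1, (hpow _).2, fun z hz hz1 hfix => ?_⟩
  have hb0 : (n : G) ^ 2 ^ e * z₀ * ((n : G) ^ 2 ^ e)⁻¹ = z₀ :=
    centralizes_Z h.shape hodd (hpow _).2 hz hz1 hfix hz₀
  have ha : n ^ m ∈ (P : Subgroup N) := by
    have hp : IsPGroup 2 (zpowers (n ^ m)) := by
      refine IsPGroup.of_card_dvd_pow (n := e) ?_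
      rw [Nat.card_zpowers]
      exact orderOf_dvd_of_pow_eq_one (by rw [← pow_mul, mul_comm, ← hem, pow_orderOf_eq_one])
    have h1 := hp.inf_normalizer_sylow P
    exact (h1.le ⟨mem_zpowers _, pow_mem hn m⟩).2
  have hcz : (n : G) ∈ centralizer ({z₀} : Set G) := by
    have h1 : (n : G) ^ m ∈ centralizer ({z₀} : Set G) := mem_centralizer_singleton_iff.2
      (h.shape.central z₀ hz₀ _ (by rw [← Subgroup.coe_pow]; exact (hmP _).1 ha)).symm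
    have h2 : (n : G) ^ 2 ^ e ∈ centralizer ({z₀} : Set G) :=
      mem_centralizer_singleton_iff.2 (mul_inv_eq_iff_eq_mul.1 hb0)
    have hg : Nat.gcd m (2 ^ e) = 1 :=
      Nat.Coprime.pow_right e (Nat.coprime_two_right.2 hm)
    have hbez := Nat.gcd_eq_gcd_ab m (2 ^ e)
    rw [hg] at hbez
    have e1 : (n : G) = (((n : G) ^ m) ^ Nat.gcdA m (2 ^ e)) * (((n : G) ^ 2 ^ e) ^ Nat.gcdB m (2 ^ e)) := by
      rw [← zpow_natCast (n : G) m, ← zpow_natCast (n : G) (2 ^ e), ← zpow_mul, ← zpow_mul,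
        ← zpow_add, ← hbez]
      simp
    rw [e1]
    exact mul_mem (zpow_mem h1 _) (zpow_mem h2 _)
  exact hnz' (mul_inv_eq_iff_eq_mul.2 (mem_centralizer_singleton_iff.1 hcz))

end MinData

end Cfsg.Agent.L34Type
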