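import Cfsg.Agent.S0215
import Cfsg.Agent.S0949
import Cfsg.Prelude

/-!
# Fusion in a group without odd core and centre

The forms of Burnside's fusion lemma and of the `Z*`-theorem used for the minimal normal subgroups
of a group with Sylow 2-subgroups of type `L₃(4)`.
-/

set_option autoImplicit false
set_option linter.unusedSectionVars false
set_option linter.style.haveILetI false

namespace Cfsg.Agent.L34Type

open Subgroup

variable {G : Type*} [Group G] [Finite G]

/-- The index of `P ⊓ C` in a normal `C` divides the index of `P`. -/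
theorem relIndex_dvd_index {G : Type*} [Group G] [Finite G] (P C : Subgroup G) [C.Normal] :
    P.relIndex C ∣ P.index := by
  have key : P.relIndex C = P.relIndex (P ⊔ C) := by
    have h1 := relIndex_sup_right P C
    have a1 := relIndex_mul_relIndex ⊥ C (P ⊔ C) bot_le le_sup_right
    have a2 := relIndex_mul_relIndex ⊥ P (P ⊔ C) bot_le le_sup_left
    have a3 := relIndex_mul_relIndex ⊥ (P ⊓ C) P bot_le inf_le_left
    have a4 := relIndex_mul_relIndex ⊥ (P ⊓ C) C bot_le inf_le_right
    rw [inf_relIndex_right] at a4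
    rw [inf_comm, inf_relIndex_right] at a3
    rw [h1, ← a4, inf_comm] at a1
    simp only [relIndex_bot_left] at a1 a2 a3
    rw [← a3, ← a1] at a2
    refine Nat.eq_of_mul_eq_mul_left (Nat.card_pos (α := ↥(C ⊓ P)))
      (Nat.eq_of_mul_eq_mul_right (m := C.relIndex P) ?_ ?_)
    · exact Nat.pos_of_ne_zero Subgroup.index_ne_zero_of_finite
    · linarith
  rw [key]
  exact relIndex_dvd_index_of_le le_sup_left

/-- The index of `P ⊓ C` in `C` divides that of `P` in `K`, for `C` normal in `K`. -/
theorem relIndex_dvd_relIndex_of_normalizer {G : Type*} [Group G] [Finite G] (P : Subgroup G) {C K : Subgroup G}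
    (hCK : C ≤ K) (hn : K ≤ normalizer (C : Set G)) : P.relIndex C ∣ P.relIndex K := by
  haveI : (C.subgroupOf K).Normal := (normal_subgroupOf_iff_le_normalizer hCK).2 hn
  have h := relIndex_dvd_index (P.subgroupOf K) (C.subgroupOf K)
  rwa [relIndex_subgroupOf hCK] at h

variable (hO : ∀ M : Subgroup G, M.Normal → Odd (Nat.card M) → M = ⊥) (hZ : center G = ⊥)
include hO hZ

/-- No involution is isolated in a Sylow 2-subgroup. -/
theorem exists_conj_ne (P : Sylow 2 G) {u : G} (hu : u ∈ (P : Subgroup G)) (hu2 : u * u = 1)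
    (hu1 : u ≠ 1) : ∃ g : G, g * u * g⁻¹ ∈ (P : Subgroup G) ∧ g * u * g⁻¹ ≠ u := by
  by_contra hne
  push Not at hne
  obtain ⟨M, hM, hodd, hcomm⟩ := S0215.result P u
    (orderOf_eq_prime (p := 2) (hp := ⟨Nat.prime_two⟩) (by rw [sq, hu2]) hu1) hu hne
  have : u ∈ center G := mem_center_iff.2 fun g => by
    have h := hcomm g
    rw [hO M hM hodd, mem_bot] at h
    have e := mul_inv_eq_one.1 h
    rw [mul_inv_eq_iff_eq_mul] at e
    exact e.symm
  rw [hZ, mem_bot] at this
  exact hu1 this

/-- A central involution of a Sylow 2-subgroup is moved by the normaliser, provided its conjugates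
in the Sylow 2-subgroup are central. -/
theorem exists_normalizer_move (P : Sylow 2 G) {u : G} (hu : u ∈ (P : Subgroup G))
    (hu2 : u * u = 1) (hu1 : u ≠ 1)
    (hc : ∀ g : G, g * u * g⁻¹ ∈ (P : Subgroup G) →
      g * u * g⁻¹ ∈ centralizer ((P : Subgroup G) : Set G)) :
    ∃ n ∈ normalizer ((P : Subgroup G) : Set G), n * u * n⁻¹ ≠ u := by
  haveI : Fact (Nat.Prime 2) := ⟨Nat.prime_two⟩
  obtain ⟨g, hg, hgu⟩ := exists_conj_ne hO hZ P hu hu2 hu1
  have h1 : u ∈ centralizer ((P : Subgroup G) : Set G) := by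
    have := hc 1 (by simpa using hu)
    simpa using this
  obtain ⟨n, hn, e⟩ := P.conj_eq_normalizer_conj_of_mem_centralizer u g⁻¹ h1
    (by simpa using hc g hg)
  refine ⟨n⁻¹, inv_mem hn, ?_⟩
  rw [inv_inv]
  simp only [inv_inv] at e
  rwa [← e]

/-- An elementary Sylow 2-subgroup has no hyperplane normalised by its normaliser. -/
theorem not_normalizer_le (P : Sylow 2 G) (hsq : ∀ x ∈ (P : Subgroup G), x * x = 1)
    (Z : Subgroup G) (hidx : Z.relIndex (P : Subgroup G) = 2)
    (hN : normalizer ((P : Subgroup G) : Set G) ≤ normalizer (Z : Set G)) : False := by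
  classical
  haveI : Fact (Nat.Prime 2) := ⟨Nat.prime_two⟩
  have hcomm : ∀ a b : (P : Subgroup G), a * b = b * a := fun a b => Subtype.ext (by
    have hab := hsq _ (mul_mem a.2 b.2)
    have ha := hsq _ a.2
    have hb := hsq _ b.2
    show (a : G) * b = b * a
    calc (a : G) * b = (a : G) * (((a : G) * b) * (a * b)) * b := by rw [hab, mul_one]
      _ = ((a : G) * a) * (b * a) * (b * b) := by group
      _ = b * a := by rw [ha, hb, one_mul, mul_one])
  letI : CommGroup (P : Subgroup G) := { (inferInstance : Group (P : Subgroup G)) with mul_comm := hcomm }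
  set Z' : Subgroup (P : Subgroup G) := Z.subgroupOf P with hZ'
  have hZidx : Z'.index = 2 := hidx
  obtain ⟨r, hr⟩ : ∃ r : (P : Subgroup G), r ∉ Z' := by
    by_contra! h
    rw [Subgroup.eq_top_iff' Z' |>.2 h, index_top] at hZidx
    omega
  let φ := (P : Subgroup G).normalizerMonoidHom
  have hodd : Odd (Nat.card φ.range) := by
    rw [← Nat.card_congr (QuotientGroup.quotientKerEquivRange φ).toEquiv]
    refine Nat.odd_iff.2 (Nat.two_dvd_ne_zero.1 fun hd => P.not_dvd_index ?_)
    refine hd.trans ?_
    have hle : (P : Subgroup G).subgroupOf (normalizer ((P : Subgroup G) : Set G)) ≤ φ.ker := by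
      rw [show φ.ker = _ from (P : Subgroup G).normalizerMonoidHom_ker]
      intro x hx
      rw [mem_subgroupOf] at hx ⊢
      exact fun y hy => congrArg Subtype.val (hcomm ⟨y, hy⟩ ⟨x, hx⟩)
    exact (index_dvd_of_le hle).trans (relIndex_dvd_index_of_le le_normalizer)
  haveI : Fintype φ.range := Fintype.ofFinite _
  have hpres : ∀ (σ : φ.range) (x : (P : Subgroup G)), (σ : MulAut (P : Subgroup G)) x ∈ Z' ↔ x ∈ Z' := by
    rintro ⟨_, n, rfl⟩ x
    rw [mem_subgroupOf, mem_subgroupOf]
    exact (mem_normalizer_iff.1 (hN n.2) x).symm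
  set w : (P : Subgroup G) := ∏ σ : φ.range, (σ : MulAut (P : Subgroup G)) r with hw
  have hpar : ∀ s : Finset φ.range,
      (∏ σ ∈ s, (σ : MulAut (P : Subgroup G)) r) ∈ Z' ↔ Even s.card := by
    intro s
    induction s using Finset.induction with
    | empty => simp
    | insert a t ha ih =>
      rw [Finset.prod_insert ha, mul_mem_iff_of_index_two hZidx, ih, hpres,
        Finset.card_insert_of_notMem ha, Nat.even_add_one]
      exact ⟨fun h h' => hr (h.2 h'), fun h => iff_of_false hr h⟩
  have hwZ : w ∉ Z' := by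
    rw [hw, hpar, Finset.card_univ, ← Nat.card_eq_fintype_card]
    exact Nat.not_even_iff_odd.2 hodd
  have hfix : ∀ n : normalizer ((P : Subgroup G) : Set G), φ n w = w := by
    intro n
    rw [hw, map_prod]
    exact Fintype.prod_equiv (Equiv.mulLeft ⟨φ n, n, rfl⟩) _ _ fun σ => rfl
  obtain ⟨n, hn, hne⟩ := exists_normalizer_move hO hZ P w.2 (hsq _ w.2)
    (fun e => hwZ (by rw [show w = 1 from Subtype.ext e]; exact one_mem _))
    (fun g hg => fun y hy => congrArg Subtype.val (hcomm ⟨y, hy⟩ ⟨_, hg⟩))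
  exact hne (congrArg Subtype.val (hfix ⟨n, hn⟩))

end Cfsg.Agent.L34Type
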