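import Cfsg.Agent.Lib.L34Type.NormalBasic
import Cfsg.Agent.Lib.L34Type.NormalTools
import Cfsg.Agent.Lib.Cores.Basic

/-!
# Minimal normal subgroups for Sylow 2-subgroups of type `L₃(4)`: generalities

`N` is a normal subgroup which is perfect, without odd and without abelian normal subgroups.
-/

set_option autoImplicit false
set_option linter.unusedSectionVars false
set_option linter.style.haveILetI false

namespace Cfsg.Agent.L34Type

open Subgroup

/-- The hypotheses on a normal subgroup `N`. -/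
structure MinData {G : Type*} [Group G] (S : Sylow 2 G) (R A N : Subgroup G) : Prop where
  shape : Shape (S : Subgroup G) R A
  normal : N.Normal
  perfect : ⁅(⊤ : Subgroup N), (⊤ : Subgroup N)⁆ = ⊤
  ne_bot : N ≠ ⊥
  no_odd : ∀ M : Subgroup N, M.Normal → Odd (Nat.card M) → M = ⊥
  no_comm : ∀ M : Subgroup N, M.Normal → IsMulCommutative M → M = ⊥
  core : Cfsg.oddCore G = ⊥

variable {G : Type*} [Group G] [Finite G] {S : Sylow 2 G} {R A N : Subgroup G}

/-- An element of odd order fixes what its square fixes. -/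
theorem fix_of_sq_fix {b w : G} (hb : Odd (orderOf b)) (h : b ^ 2 * w = w * b ^ 2) :
    b * w = w * b := by
  obtain ⟨k, hk⟩ := hb
  have h1 : b = (b ^ 2) ^ (k + 1) := by
    rw [← pow_mul, show 2 * (k + 1) = 2 * k + 1 + 1 by ring, pow_succ, ← hk, pow_orderOf_eq_one,
      one_mul]
  rw [h1]
  exact (Commute.pow_left h (k + 1)).eq

/-- The elements of the centre. -/
theorem four_elems {S R A : Subgroup G} (h : Shape S R A) {z w : G} (hz : z ∈ R ⊓ A) (hz1 : z ≠ 1)
    (hw : w ∈ R ⊓ A) (hw1 : w ≠ 1) (hzw : w ≠ z) {x : G} (hx : x ∈ R ⊓ A) :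
    x = 1 ∨ x = z ∨ x = w ∨ x = z * w := by
  have hzz : z * z = 1 := h.R_sq z hz.1
  have h1 : z * w ≠ 1 := fun e => hzw (mul_left_cancel (e.trans hzz.symm))
  have h2 : z * w ≠ z := fun e => hw1 (mul_eq_left.1 e)
  have h3 : z * w ≠ w := fun e => hz1 (mul_eq_right.1 e)
  have hsub : ({1, z, w, z * w} : Set G) ⊆ ↑(R ⊓ A) := by
    simp only [Set.insert_subset_iff, Set.singleton_subset_iff, SetLike.mem_coe]
    exact ⟨one_mem _, hz, hw, mul_mem hz hw⟩
  have heq : ({1, z, w, z * w} : Set G) = ↑(R ⊓ A) := by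
    refine Set.eq_of_subset_of_ncard_le hsub ?_
    rw [← Nat.card_coe_set_eq]
    refine le_of_eq (h.inf_card.trans ?_)
    rw [Set.ncard_insert_of_notMem, Set.ncard_insert_of_notMem, Set.ncard_pair h3.symm]
    · simp [hzw.symm, h2.symm]
    · simp [hz1.symm, hw1.symm, h1.symm]
  have : x ∈ ({1, z, w, z * w} : Set G) := heq ▸ hx
  simpa using this

/-- An element of odd order normalising the centre and fixing one of its involutions
centralises it. -/
theorem centralizes_Z {S R A : Subgroup G} (h : Shape S R A) {b z : G} (hb : Odd (orderOf b))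
    (hbZ : ∀ x ∈ R ⊓ A, b * x * b⁻¹ ∈ R ⊓ A) (hz : z ∈ R ⊓ A) (hz1 : z ≠ 1)
    (hfix : b * z * b⁻¹ = z) {w : G} (hw : w ∈ R ⊓ A) : b * w * b⁻¹ = w := by
  by_cases hw1 : w = 1
  · simp [hw1]
  by_cases hwz : w = z
  · rw [hwz, hfix]
  rcases four_elems h hz hz1 hw hw1 hwz (hbZ w hw) with e | e | e | e
  · exact absurd (conj_eq_one_iff.1 e) hw1
  · exact absurd ((MulAut.conj b).injective (e.trans hfix.symm)) hwz
  · exact e
  · have h2 : b ^ 2 * w * (b ^ 2)⁻¹ = w := by
      calc b ^ 2 * w * (b ^ 2)⁻¹ = b * (b * w * b⁻¹) * b⁻¹ := by rw [sq]; group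
        _ = b * (z * w) * b⁻¹ := by rw [e]
        _ = (b * z * b⁻¹) * (b * w * b⁻¹) := by group
        _ = (z * z) * w := by rw [hfix, e, mul_assoc]
        _ = w := by rw [h.R_sq z hz.1, one_mul]
    exact mul_inv_eq_iff_eq_mul.2 (fix_of_sq_fix hb (mul_inv_eq_iff_eq_mul.1 h2))

namespace MinData

theorem symm (h : MinData S R A N) : MinData S A R N where
  shape := h.shape.symm
  normal := h.normal
  perfect := h.perfect
  ne_bot := h.ne_bot
  no_odd := h.no_odd
  no_comm := h.no_comm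
  core := h.core

theorem center_eq_bot (h : MinData S R A N) : center N = ⊥ :=
  h.no_comm _ inferInstance inferInstance

theorem exists_sylow (h : MinData S R A N) :
    ∃ P : Sylow 2 N, (P : Subgroup N) = (S : Subgroup G).subgroupOf N := by
  haveI : Fact (Nat.Prime 2) := ⟨Nat.prime_two⟩
  haveI := h.normal
  have hp : IsPGroup 2 ((S : Subgroup G).subgroupOf N) :=
    S.isPGroup'.comap_of_injective N.subtype N.subtype_injective
  have hi : ¬ 2 ∣ ((S : Subgroup G).subgroupOf N).index := fun hd =>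
    S.not_dvd_index (hd.trans (relIndex_dvd_index (S : Subgroup G) N))
  exact ⟨hp.toSylow hi, rfl⟩

theorem conj_mem_inf (h : MinData S R A N) {s t : G} (hs : s ∈ (S : Subgroup G))
    (ht : t ∈ (S : Subgroup G) ⊓ N) : s * t * s⁻¹ ∈ (S : Subgroup G) ⊓ N :=
  ⟨(S : Subgroup G).mul_mem ((S : Subgroup G).mul_mem hs ht.1) ((S : Subgroup G).inv_mem hs),
    h.normal.conj_mem t ht.2 s⟩

/-- No subgroup of index two. -/
theorem no_index_two (h : MinData S R A N) (M : Subgroup N) : M.index ≠ 2 := by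
  intro hM
  have hle : ⁅(⊤ : Subgroup N), (⊤ : Subgroup N)⁆ ≤ M := commutator_le.2 fun a _ b _ => by
    rw [commutatorElement_def]
    simp only [mul_mem_iff_of_index_two hM, inv_mem_iff]
    tauto
  rw [h.perfect, top_le_iff] at hle
  rw [hle, index_top] at hM
  omega

theorem Z_le (h : MinData S R A N) : R ⊓ A ≤ N := by
  haveI : Fact (Nat.Prime 2) := ⟨Nat.prime_two⟩
  set T := (S : Subgroup G) ⊓ N with hT
  by_cases hle : T ≤ R ⊓ A
  · have hdvd : Nat.card T ∣ 4 := h.shape.inf_card ▸ Subgroup.card_dvd_of_le hle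
    have hne : Nat.card T ≠ 3 := fun e => by rw [e] at hdvd; norm_num at hdvd
    have hpos : 0 < Nat.card T := Nat.card_pos
    have hle4 : Nat.card T ≤ 4 := Nat.le_of_dvd (by norm_num) hdvd
    obtain ⟨P, hP⟩ := h.exists_sylow
    have hcard : Nat.card (P : Subgroup N) = Nat.card T := by
      rw [hP, hT, ← Subgroup.inf_subgroupOf_right (S : Subgroup G) N]
      exact Nat.card_congr (subgroupOfEquivOfLe inf_le_right).toEquiv
    rcases Nat.lt_or_ge 1 (Nat.card T) with h1 | h1
    · rcases Nat.lt_or_ge 2 (Nat.card T) with h2 | h2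
      · have e : T = R ⊓ A := Subgroup.eq_of_le_of_card_ge hle (by rw [h.shape.inf_card]; omega)
        exact e ▸ inf_le_right
      · exfalso
        have hP2 : Nat.card (P : Subgroup N) = 2 := by omega
        obtain ⟨u, hu⟩ := (Nat.card_eq_two_iff' (1 : (P : Subgroup N))).1 hP2
        have hu1 : (u : N) ≠ 1 := fun e => hu.1 (Subtype.ext e)
        have husq : (u : N) * u = 1 := by
          have := pow_card_eq_one' (G := (P : Subgroup N)) (x := u)
          rw [hP2, sq] at this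
          exact congrArg Subtype.val this
        obtain ⟨g, hg, hgu⟩ := exists_conj_ne h.no_odd h.center_eq_bot P u.2 husq hu1
        have hg1 : (⟨g * (u : N) * g⁻¹, hg⟩ : (P : Subgroup N)) ≠ 1 := fun e =>
          hu1 (conj_eq_one_iff.1 (congrArg Subtype.val e))
        exact hgu (congrArg Subtype.val (hu.2 _ hg1))
    · exfalso
      have hP1 : Nat.card (P : Subgroup N) = 1 := by omega
      have hmul := (P : Subgroup N).card_mul_index
      rw [hP1, one_mul] at hmul
      have hodd : Odd (Nat.card N) :=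
        Nat.odd_iff.2 (Nat.two_dvd_ne_zero.1 (hmul ▸ P.not_dvd_index))
      have htop := h.no_odd ⊤ inferInstance (by rwa [Subgroup.card_top])
      haveI : Nontrivial N := N.nontrivial_iff_ne_bot.2 h.ne_bot
      exact bot_ne_top htop.symm
  · exact (h.shape.Z_le_of_normal inf_le_left (fun s hs t ht => h.conj_mem_inf hs ht) hle).trans
      inf_le_right

theorem centralizer_eq_bot (h : MinData S R A N) : centralizer (N : Set G) = ⊥ := by
  haveI : Fact (Nat.Prime 2) := ⟨Nat.prime_two⟩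
  haveI := h.normal
  set C := centralizer (N : Set G)
  haveI : C.Normal := inferInstance
  have hCN : ∀ x ∈ C, x ∈ N → x = 1 := fun x hx hxN => by
    have : (⟨x, hxN⟩ : N) ∈ center N := mem_center_iff.2 fun g => Subtype.ext (hx _ g.2)
    rw [h.center_eq_bot, mem_bot] at this
    exact congrArg Subtype.val this
  have hSC : (S : Subgroup G) ⊓ C = ⊥ := by
    rw [eq_bot_iff]
    intro x hx
    rw [mem_bot]
    by_cases hle : (S : Subgroup G) ⊓ C ≤ R ⊓ A
    · exact hCN x hx.2 (h.Z_le (hle hx))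
    · exfalso
      have hZC : R ⊓ A ≤ C := (h.shape.Z_le_of_normal inf_le_left
        (fun s hs t ht => ⟨(S : Subgroup G).mul_mem ((S : Subgroup G).mul_mem hs ht.1)
          ((S : Subgroup G).inv_mem hs),
          (inferInstance : C.Normal).conj_mem t ht.2 s⟩) hle).trans inf_le_right
      haveI : Nontrivial ↥(R ⊓ A) :=
        Finite.one_lt_card_iff_nontrivial.1 (by rw [h.shape.inf_card]; norm_num)
      obtain ⟨⟨z, hz⟩, hz1⟩ := exists_ne (1 : ↥(R ⊓ A))
      exact hz1 (Subtype.ext (hCN z (hZC hz) (h.Z_le hz)))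
  have hodd : Odd (Nat.card C) := by
    have h1 : (S : Subgroup G).relIndex C = Nat.card C := by
      rw [← inf_relIndex_right, hSC, relIndex_bot_left]
    exact Nat.odd_iff.2 (Nat.two_dvd_ne_zero.1 fun hd =>
      S.not_dvd_index ((h1 ▸ hd).trans (relIndex_dvd_index _ C)))
  exact le_bot_iff.1 ((Cores.le_oddCore hodd).trans h.core.le)

/-- `R ⊓ N` between the centre and `R`. -/
theorem card_inf (h : MinData S R A N) :
    Nat.card ↥(R ⊓ N) = 4 ∨ Nat.card ↥(R ⊓ N) = 8 ∨ Nat.card ↥(R ⊓ N) = 16 := by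
  have h1 : Nat.card ↥(R ⊓ N) ∣ 16 := h.shape.R_card ▸ Subgroup.card_dvd_of_le inf_le_left
  have h2 : 4 ≤ Nat.card ↥(R ⊓ N) := h.shape.inf_card ▸
    Subgroup.card_le_of_le (le_inf inf_le_left h.Z_le)
  obtain ⟨k, hk, hk'⟩ := (Nat.dvd_prime_pow Nat.prime_two).1 (show _ ∣ 2 ^ 4 from h1)
  rw [hk'] at h2 ⊢
  interval_cases k <;> simp_all

theorem R_le_of_card (h : MinData S R A N) (hc : Nat.card ↥(R ⊓ N) = 16) : R ≤ N := by
  have := Subgroup.eq_of_le_of_card_ge (inf_le_left : R ⊓ N ≤ R) (by rw [hc, h.shape.R_card])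
  exact this ▸ inf_le_right

theorem inf_eq_of_card (h : MinData S R A N) (hc : Nat.card ↥(R ⊓ N) = 4) : R ⊓ N = R ⊓ A :=
  (Subgroup.eq_of_le_of_card_ge (le_inf inf_le_left h.Z_le) (by rw [hc, h.shape.inf_card])).symm

theorem eight (h : MinData S R A N) (hc : Nat.card ↥(R ⊓ N) = 8) :
    Eight (S : Subgroup G) R A (R ⊓ N) :=
  ⟨h.shape, le_inf inf_le_left h.Z_le, inf_le_left, hc⟩

/-- An involution of `R ⊓ N` outside the centre is centralised by no subgroup of order sixteen
of `N`, if `R ⊓ N` has order eight. -/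
theorem fusion_eight (h : MinData S R A N) (hc : Nat.card ↥(R ⊓ N) = 8) {r : G}
    (hr : r ∈ R ⊓ N) (hrA : r ∉ A) {P : Subgroup G} (hPN : P ≤ N) (hP : IsPGroup 2 P)
    (hPr : ∀ p ∈ P, p * r = r * p) (h16 : 16 ≤ Nat.card P) : False := by
  haveI : Fact (Nat.Prime 2) := ⟨Nat.prime_two⟩
  haveI := h.normal
  have hE := h.eight hc
  set E := R ⊓ N with hEdef
  set C := N ⊓ centralizer ({r} : Set G)
  have hEC : E ≤ C := fun x hx => ⟨hx.2,
    mem_centralizer_singleton_iff.2 (h.shape.R_comm hx.1 hr.1)⟩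
  have hPC : P ≤ C := fun p hp => ⟨hPN hp, mem_centralizer_singleton_iff.2 (hPr p hp)⟩
  have hEp : IsPGroup 2 E := IsPGroup.of_card (n := 3) (by rw [hc]; norm_num)
  obtain ⟨Q, hQ⟩ := (hEp.comap_of_injective C.subtype C.subtype_injective).exists_le_sylow
  obtain ⟨Q', hQ'⟩ := (hP.comap_of_injective C.subtype C.subtype_injective).exists_le_sylow
  set Qg := (Q : Subgroup C).map C.subtype with hQgdef
  have hEQ : E ≤ Qg := fun x hx => ⟨⟨x, hEC hx⟩, hQ hx, rfl⟩
  have hQC : Qg ≤ C := Subgroup.map_subtype_le _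
  have hQp : IsPGroup 2 Qg := Q.isPGroup'.map _
  have hQ16 : 16 ≤ Nat.card Qg := by
    rw [hQgdef, Subgroup.card_map_of_injective C.subtype_injective,
      Nat.card_congr (Sylow.equiv Q Q').toEquiv]
    refine h16.trans ?_
    rw [← Nat.card_congr (subgroupOfEquivOfLe hPC).toEquiv]
    exact Subgroup.card_le_of_le hQ'
  have hlt : E.subgroupOf Qg < ⊤ := by
    refine lt_of_le_of_ne le_top fun e => ?_
    have := Nat.card_congr (subgroupOfEquivOfLe hEQ).toEquiv
    rw [e, Subgroup.card_top, hc] at this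
    omega
  haveI := hQp.isNilpotent
  obtain ⟨v, hvn, hvE⟩ := SetLike.exists_of_lt (Group.normalizerCondition_of_isNilpotent _ hlt)
  rw [mem_subgroupOf] at hvE
  have hvn' : (v : G) ∈ normalizer (E : Set G) := by
    refine mem_normalizer_iff.2 fun x => ⟨fun hx => ?_, fun hx => ?_⟩
    · exact mem_subgroupOf.1 ((mem_normalizer_iff.1 hvn ⟨x, hEQ hx⟩).1 (mem_subgroupOf.2 hx))
    · have hx' : x ∈ Qg := by
        have := mul_mem (mul_mem (inv_mem v.2) (hEQ hx)) v.2
        simpa [mul_assoc] using this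
      exact mem_subgroupOf.1 ((mem_normalizer_iff.1 hvn ⟨x, hx'⟩).2 (mem_subgroupOf.2 hx))
  obtain ⟨k, hk⟩ := hQp v
  have hk' : (v : G) ^ 2 ^ k = 1 := congrArg Subtype.val hk
  have hvZ := hE.mem_centralizer_Z hvn' (hE.normalizer_le hvn') ⟨k, hk'⟩
  have hvr : (v : G) * r = r * v := mem_centralizer_singleton_iff.1 (hQC v.2).2
  set D := N ⊓ centralizer (E : Set G) with hDdef
  have hvD : (v : G) ∈ D := by
    refine ⟨(hQC v.2).1, fun x hx => ?_⟩
    by_cases hxA : x ∈ A
    · exact hvZ x ⟨hx.1, hxA⟩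
    · obtain ⟨z, hz, rfl⟩ := hE.exists_eq_mul hr hrA hx hxA
      have hz' : z * (v : G) = v * z := hvZ z hz
      calc z * r * (v : G) = z * (v * r) := by rw [mul_assoc, hvr]
        _ = (v : G) * (z * r) := by rw [← mul_assoc, hz', mul_assoc]
  set T := (S : Subgroup G) ⊓ N with hTdef
  have hTE : T ⊓ D = E := by
    refine le_antisymm (fun x hx => ⟨?_, hx.2.1⟩) fun x hx => ⟨⟨h.shape.R_le hx.1, hx.2⟩, hx.2,
      fun y hy => h.shape.R_comm hy.1 hx.1⟩
    exact h.shape.cent_R r hr.1 hrA x hx.1.1 (hx.2.2 r hr)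
  have hK : D ≤ N ⊓ normalizer (E : Set G) := fun x hx => ⟨hx.1, mem_normalizer_iff.2 fun y =>
    ⟨fun hy => by rwa [← hx.2 y hy, mul_inv_cancel_right], fun hy => by
      have e := hx.2 _ hy
      have e1 : y = x * y * x⁻¹ := by
        refine mul_right_cancel (b := x) ?_
        rw [inv_mul_cancel_right]
        refine mul_left_cancel (a := x) ?_
        calc x * (y * x) = x * (x⁻¹ * ((x * y * x⁻¹) * x) * x) := by group
          _ = x * (x⁻¹ * (x * (x * y * x⁻¹)) * x) := by rw [e]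
          _ = x * (x * y) := by group
      rwa [e1]⟩⟩
  have hKn : N ⊓ normalizer (E : Set G) ≤ normalizer (D : Set G) := by
    intro g hg
    have key : ∀ g ∈ N ⊓ normalizer (E : Set G), ∀ x ∈ D, g * x * g⁻¹ ∈ D := by
      intro g hg x hx
      refine ⟨h.normal.conj_mem x hx.1 g, fun y hy => ?_⟩
      have hy' : g⁻¹ * y * g ∈ E := (mem_normalizer_iff''.1 hg.2 y).1 hy
      calc y * (g * x * g⁻¹) = g * ((g⁻¹ * y * g) * x) * g⁻¹ := by group
        _ = g * (x * (g⁻¹ * y * g)) * g⁻¹ := by rw [hx.2 _ hy']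
        _ = g * x * g⁻¹ * y := by group
    refine mem_normalizer_iff.2 fun x => ⟨key g hg x, fun hx => ?_⟩
    simpa [mul_assoc] using key g⁻¹ (inv_mem hg) _ hx
  have hTK : T ≤ N ⊓ normalizer (E : Set G) := fun x hx => ⟨hx.2, hE.S_le_normalizer hx.1⟩
  have hodd : ¬ 2 ∣ E.relIndex D := by
    intro hd
    rw [← hTE, inf_relIndex_right] at hd
    have h1 : T.relIndex N = (S : Subgroup G).relIndex N := inf_relIndex_right _ _
    have h2 : T.relIndex (N ⊓ normalizer (E : Set G)) ∣ T.relIndex N :=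
      Dvd.intro _ (relIndex_mul_relIndex _ _ _ hTK inf_le_left)
    exact S.not_dvd_index ((((hd.trans (relIndex_dvd_relIndex_of_normalizer T hK hKn)).trans h2).trans
      h1.dvd).trans (relIndex_dvd_index (S : Subgroup G) N))
  haveI : (E.subgroupOf D).Normal := ⟨fun x hx g => by
    rw [mem_subgroupOf] at hx ⊢
    have e := g.2.2 _ hx
    rw [show ((g * x * g⁻¹ : D) : G) = (g : G) * x * (g : G)⁻¹ from rfl, ← e, mul_inv_cancel_right]
    exact hx⟩
  refine hvE ?_
  rw [show (v : G) = ((⟨v, hvD⟩ : D) : G) from rfl, ← mem_subgroupOf, ← QuotientGroup.eq_one_iff]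
  have e1 : (QuotientGroup.mk (⟨v, hvD⟩ : D) : D ⧸ E.subgroupOf D) ^ E.relIndex D = 1 :=
    pow_card_eq_one'
  have e2 : (QuotientGroup.mk (⟨v, hvD⟩ : D) : D ⧸ E.subgroupOf D) ^ 2 ^ k = 1 := by
    rw [← QuotientGroup.mk_pow, show (⟨v, hvD⟩ : D) ^ 2 ^ k = 1 from Subtype.ext hk']
    rfl
  have hcop : Nat.gcd (E.relIndex D) (2 ^ k) = 1 :=
    Nat.Coprime.pow_right k (Nat.prime_two.coprime_iff_not_dvd.2 hodd).symm
  simpa [hcop] using pow_gcd_eq_one.2 ⟨e1, e2⟩

end MinData

end Cfsg.Agent.L34Type
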