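import Cfsg.Agent.Lib.L34Type.Fused
import Cfsg.Agent.Lib.Coprime.Generation

/-!
# Sylow 2-subgroups of type `L₃(4)`: odd automorphism groups of `R` normalised by `S`

Such a group induces at most a group of order 3 acting without fixed points on `R`.
-/

set_option autoImplicit false
set_option linter.style.haveILetI false
set_option linter.unusedSectionVars false

namespace Cfsg.Agent.L34Type

open Subgroup Cfsg.Agent.CIT

universe u

variable {G : Type u} [Group G] [Finite G] {S : Sylow 2 G} {R A K : Subgroup G}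

namespace Shape

variable (h : Shape (S : Subgroup G) R A)
include h

/-- An odd subgroup of `N(R)` normalised by `S` normalises `R ⊓ A`. -/
theorem odd_normalizes_inf (hK : K ≤ normalizer (R : Set G))
    (hSK : (S : Subgroup G) ≤ normalizer (K : Set G)) (hodd : Odd (Nat.card K)) :
    ∀ k ∈ K, ∀ z ∈ R ⊓ A, k * z * k⁻¹ ∈ A := by
  haveI : Fact (Nat.Prime 2) := ⟨Nat.prime_two⟩
  set ψ := R.normalizerMonoidHom
  set V := ((S : Subgroup G).subgroupOf (normalizer (R : Set G))).map ψ with hV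
  set K' := (K.subgroupOf (normalizer (R : Set G))).map ψ with hK'
  have hact : ∀ (g : normalizer (R : Set G)) (r : R), ((ψ g r : R) : G) = g * r * (g : G)⁻¹ :=
    fun _ _ => rfl
  have hVsq : ∀ v ∈ V, v * v = 1 := by
    rintro _ ⟨s, hs, rfl⟩
    rw [← map_mul]
    refine MulEquiv.ext fun r => Subtype.ext ?_
    rw [hact, MulAut.one_apply]
    show (s : G) * s * r * ((s : G) * s)⁻¹ = r
    have hz := h.sq s (mem_subgroupOf.1 hs)
    rw [h.R_comm hz.1 r.2, mul_inv_cancel_right]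
  haveI : IsMulCommutative V := ⟨⟨fun a b => Subtype.ext (by
    have e := hVsq _ (mul_mem a.2 b.2)
    show (a : MulAut R) * b = b * a
    calc (a : MulAut R) * b = ((a : MulAut R) * b)⁻¹ := (inv_eq_of_mul_eq_one_right e).symm
      _ = b * a := by
        rw [mul_inv_rev, inv_eq_of_mul_eq_one_right (hVsq _ a.2),
          inv_eq_of_mul_eq_one_right (hVsq _ b.2)])⟩⟩
  obtain ⟨r₀, hr₀, hr₀A⟩ := h.exists_R_notMem_A
  -- `S` induces at least three automorphisms
  have hnc : ¬ IsCyclic V := by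
    intro hc
    obtain ⟨g, hg⟩ := hc.exists_generator
    have hV2 : Nat.card V ≤ 2 := by
      rw [← orderOf_eq_card_of_forall_mem_zpowers hg]
      exact Nat.le_of_dvd two_pos (orderOf_dvd_of_pow_eq_one
        (Subtype.ext (by rw [pow_two]; exact hVsq _ g.2)))
    let f : (R ⊓ A : Subgroup G) → V := fun z =>
      ⟨ψ ⟨(h.exists_conj_eq hr₀ hr₀A z.2).choose,
          h.le_norm_R (h.exists_conj_eq hr₀ hr₀A z.2).choose_spec.1⟩,
        _, mem_subgroupOf.2 (h.exists_conj_eq hr₀ hr₀A z.2).choose_spec.1, rfl⟩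
    have hinj : Function.Injective f := by
      intro z z' e
      have e' := congrArg (fun v : V => (((v : MulAut R) ⟨r₀, hr₀⟩ : R) : G)) e
      simp only [f, hact] at e'
      rw [(h.exists_conj_eq hr₀ hr₀A z.2).choose_spec.2,
        (h.exists_conj_eq hr₀ hr₀A z'.2).choose_spec.2] at e'
      exact Subtype.ext (mul_left_cancel e')
    have := Nat.card_le_card_of_injective f hinj
    rw [h.inf_card] at this
    omega
  have hVK : V ≤ normalizer (K' : Set (MulAut R)) := by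
    rintro _ ⟨s, hs, rfl⟩
    refine CIT.mem_normalizer_of_forall ?_
    rintro _ ⟨k, hk, rfl⟩
    exact ⟨s * k * s⁻¹, (mem_normalizer_iff.1 (hSK (mem_subgroupOf.1 hs)) _).1
      (mem_subgroupOf.1 hk), by rw [map_mul, map_mul, map_inv]⟩
  have hcop : (Nat.card V).Coprime (Nat.card K') := by
    have h1 : Nat.card K' ∣ Nat.card K := (card_map_dvd _ _).trans
      (dvd_of_eq (Nat.card_congr (subgroupOfEquivOfLe hK).toEquiv))
    obtain ⟨m, hm⟩ := IsPGroup.iff_card.1 ((S.2.of_equiv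
      (subgroupOfEquivOfLe h.le_norm_R).symm).map ψ)
    rw [show Nat.card V = 2 ^ m from hm]
    exact ((hodd.of_dvd_nat h1).coprime_two_left).pow_left m
  -- automorphisms preserving `R ⊓ A`
  let Pres : Subgroup (MulAut R) :=
    { carrier := {α | ∀ r : R, ((α r : R) : G) ∈ A ↔ (r : G) ∈ A}
      one_mem' := fun r => Iff.rfl
      mul_mem' := fun {α β} ha hb r => (ha (β r)).trans (hb r)
      inv_mem' := fun {α} ha r => by
        have := ha (α⁻¹ r)
        rw [MulAut.apply_inv_self] at this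
        exact this.symm }
  have hle : K' ≤ Pres := by
    rw [← Coprime.fixedGen_eq hnc hVK hcop]
    refine iSup₂_le fun v hv α hα r => ?_
    obtain ⟨hvV, hv1⟩ := hv
    obtain ⟨s, hs, rfl⟩ := hvV
    have hsS : (s : G) ∈ (S : Subgroup G) := mem_subgroupOf.1 hs
    -- the fixed points of `s` on `R` are exactly `R ⊓ A`
    have hfix : ∀ x : R, ψ s x = x ↔ (x : G) ∈ A := by
      intro x
      constructor
      · intro e
        by_contra hxA
        refine hv1 (MulEquiv.ext fun y => Subtype.ext ?_)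
        have e' : (s : G) * x * (s : G)⁻¹ = x := congrArg Subtype.val e
        have hsR := h.cent_R x x.2 hxA s hsS (mul_inv_eq_iff_eq_mul.1 e').symm
        rw [hact, MulAut.one_apply]
        show (s : G) * y * (s : G)⁻¹ = y
        rw [h.R_comm hsR y.2, mul_inv_cancel_right]
      · intro hxA
        refine Subtype.ext ?_
        rw [hact, ← h.central x ⟨x.2, hxA⟩ s hsS, mul_inv_cancel_right]
    have hc : α * ψ s = ψ s * α := mem_centralizer_singleton_iff.1 hα.2
    have hc' : ∀ x, α (ψ s x) = ψ s (α x) := fun x => congrArg (fun f : MulAut R => f x) hc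
    rw [← hfix, ← hfix]
    refine ⟨fun e => α.injective (by rw [hc', e]), fun e => by rw [← hc', e]⟩
  intro k hk z hz
  exact (hle ⟨⟨k, hK hk⟩, mem_subgroupOf.2 hk, rfl⟩ ⟨z, hz.1⟩).2 hz.2

/-- An element of an odd subgroup of `N(R)` normalised by `S` which fixes a nonidentity element
of `R` centralises `R`. -/
theorem odd_fixedPointFree (hK : K ≤ normalizer (R : Set G))
    (hSK : (S : Subgroup G) ≤ normalizer (K : Set G)) (hodd : Odd (Nat.card K))
    {k r : G} (hk : k ∈ K) (hr : r ∈ R) (hr1 : r ≠ 1) (hfix : k * r * k⁻¹ = r) :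
    k ∈ centralizer (R : Set G) := by
  haveI : Fact (Nat.Prime 2) := ⟨Nat.prime_two⟩
  have hns := h.odd_normalizes_inf hK hSK hodd
  have hR : ∀ {y}, y ∈ K → ∀ x ∈ R, y * x * y⁻¹ ∈ R :=
    fun hy x hx => (mem_normalizer_iff.1 (hK hy) x).1 hx
  have hZ : ∀ {y}, y ∈ K → ∀ z ∈ R ⊓ A, y * z * y⁻¹ ∈ R ⊓ A :=
    fun hy z hz => ⟨hR hy z hz.1, hns _ hy z hz⟩
  have hout : ∀ {y}, y ∈ K → ∀ x ∈ R, x ∉ A → y * x * y⁻¹ ∉ A := fun {y} hy x hx hxA e => hxA (by
    have := hns y⁻¹ (inv_mem hy) _ (mem_inf.2 ⟨hR hy x hx, e⟩)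
    rwa [show y⁻¹ * (y * x * y⁻¹) * y⁻¹⁻¹ = x by group] at this)
  have hsz : ∀ s ∈ (S : Subgroup G), ∀ z ∈ R ⊓ A, s * z * s⁻¹ = z := fun s hs z hz => by
    rw [← h.central z hz s hs, mul_inv_cancel_right]
  -- an odd element whose action is a translation is trivial
  have htriv : ∀ y ∈ K, (∀ z ∈ R ⊓ A, y * z * y⁻¹ = z) → (∀ x ∈ R, y * x * y⁻¹ * x ∈ R ⊓ A) →
      y ∈ centralizer (R : Set G) := by
    intro y hy hyz hyr
    have hy2 : y ^ 2 ∈ centralizer (R : Set G) := mem_centralizer_iff.2 fun x hx => by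
      have e : y * x * y⁻¹ = x * (y * x * y⁻¹ * x) := by
        rw [h.R_comm (hR hy x hx) hx, ← mul_assoc, h.R_sq x hx, one_mul]
      have h1 : y ^ 2 * x * (y ^ 2)⁻¹ = x := by
        rw [pow_two, conj_comp]
        conv_lhs => rw [e]
        rw [show y * (x * (y * x * y⁻¹ * x)) * y⁻¹ =
          y * x * y⁻¹ * (y * (y * x * y⁻¹ * x) * y⁻¹) by group, hyz _ (hyr x hx), ← mul_assoc,
          h.R_sq _ (hR hy x hx), one_mul]
      exact (mul_inv_eq_iff_eq_mul.1 h1).symm
    obtain ⟨j, hj⟩ := hodd.of_dvd_nat (K.orderOf_dvd_natCard hy)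
    have : y = (y ^ 2) ^ (j + 1) := by
      rw [← pow_mul, show 2 * (j + 1) = orderOf y + 1 by omega, pow_succ, pow_orderOf_eq_one,
        one_mul]
    rw [this]
    exact pow_mem hy2 _
  -- `k` commutes with `S` on `R`
  have hcomm : ∀ s ∈ (S : Subgroup G), ∀ x ∈ R,
      k * (s * x * s⁻¹) * k⁻¹ = s * (k * x * k⁻¹) * s⁻¹ := by
    intro s hs x hx
    set c := k⁻¹ * (s * k * s⁻¹) with hc
    have hcK : c ∈ K := mul_mem (inv_mem hk) ((mem_normalizer_iff.1 (hSK hs) k).1 hk)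
    have hcC : c ∈ centralizer (R : Set G) := by
      refine htriv c hcK (fun z hz => ?_) fun y hy => ?_
      · rw [hc, conj_comp, conj_comp (s * k), conj_comp s, hsz s⁻¹ (inv_mem hs) z hz,
          hsz s hs _ (hZ hk z hz)]
        group
      · set y₁ := s⁻¹ * y * s⁻¹⁻¹ with hy₁
        have hy₁R : y₁ ∈ R := (mem_normalizer_iff.1 (h.le_norm_R (inv_mem hs)) y).1 hy
        have d1 : y₁ * y ∈ R ⊓ A := h.conj_mul_mem hy (inv_mem hs)
        have d2 : s * (k * y₁ * k⁻¹) * s⁻¹ * (k * y₁ * k⁻¹) ∈ R ⊓ A :=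
          h.conj_mul_mem (hR hk _ hy₁R) hs
        have hky : k * y₁ * k⁻¹ * (k * y₁ * k⁻¹) = 1 := h.R_sq _ (hR hk _ hy₁R)
        have := hZ (inv_mem hk) _ (mul_mem d2 (hZ hk _ d1))
        convert this using 1
        calc c * y * c⁻¹ * y = k⁻¹ * (s * (k * y₁ * k⁻¹) * s⁻¹ *
              (k * y₁ * k⁻¹ * (k * y₁ * k⁻¹))) * (k * y * k⁻¹) * k⁻¹⁻¹ := by
              rw [hky, hc, hy₁]; group
          _ = k⁻¹ * (s * (k * y₁ * k⁻¹) * s⁻¹ * (k * y₁ * k⁻¹) *
              (k * (y₁ * y) * k⁻¹)) * k⁻¹⁻¹ := by group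
    have e := mem_centralizer_iff.1 hcC x hx
    calc k * (s * x * s⁻¹) * k⁻¹ = k * s * x * s⁻¹ * k⁻¹ := by group
      _ = s * (k * x * k⁻¹) * s⁻¹ := by
        have hcC' := mem_centralizer_iff.1 hcC _ ((mem_normalizer_iff.1 (h.le_norm_R hs) x).1 hx)
        have e2 : s * k * s⁻¹ = k * c := by rw [hc]; group
        calc k * s * x * s⁻¹ * k⁻¹ = k * ((s * x * s⁻¹) * c) * (k * c)⁻¹ := by group
          _ = (k * c) * (s * x * s⁻¹) * (k * c)⁻¹ := by rw [hcC']; group
          _ = s * (k * x * k⁻¹) * s⁻¹ := by rw [← e2]; group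
  -- it fixes some involution of `R ⊓ A`
  obtain ⟨z₀, hz₀, hz₀1, hk₀⟩ : ∃ z₀ ∈ R ⊓ A, z₀ ≠ 1 ∧ k * z₀ * k⁻¹ = z₀ := by
    by_cases hrA : r ∈ A
    · exact ⟨r, ⟨hr, hrA⟩, hr1, hfix⟩
    obtain ⟨z, hz, hz1⟩ := h.exists_inf_ne_one
    obtain ⟨s, hs, hse⟩ := h.exists_conj_eq hr hrA hz
    refine ⟨z, hz, hz1, ?_⟩
    have e := hcomm s hs r hr
    rw [hfix, hse, show k * (r * z) * k⁻¹ = k * r * k⁻¹ * (k * z * k⁻¹) by group, hfix] at e
    exact mul_left_cancel e
  -- hence it fixes all cosets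
  have hquot : ∀ x ∈ R, k * x * k⁻¹ * x ∈ R ⊓ A := by
    intro x hx
    by_cases hxA : x ∈ A
    · exact mul_mem (hZ hk x ⟨hx, hxA⟩) ⟨hx, hxA⟩
    obtain ⟨s, hs, hse⟩ := h.exists_conj_eq hx hxA hz₀
    set y := k * x * k⁻¹ with hy
    have hyR : y ∈ R := hR hk x hx
    have e : s * y * s⁻¹ = y * z₀ := by
      rw [← hcomm s hs x hx, hse, show k * (x * z₀) * k⁻¹ = k * x * k⁻¹ * (k * z₀ * k⁻¹) by group,
        hk₀]
    -- `s` fixes `y x`
    refine ⟨mul_mem hyR hx, ?_⟩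
    by_contra hyx
    have hsR := h.cent_R (y * x) (mul_mem hyR hx) hyx s hs (by
      have h1 : s * (y * x) * s⁻¹ = y * x := by
        rw [show s * (y * x) * s⁻¹ = s * y * s⁻¹ * (s * x * s⁻¹) by group, e, hse, mul_assoc y,
          ← mul_assoc z₀, h.R_comm hz₀.1 hx, mul_assoc x, h.R_sq z₀ hz₀.1, mul_one]
      exact (mul_inv_eq_iff_eq_mul.1 h1).symm)
    have h2 : x * z₀ = x * 1 := by
      rw [mul_one, ← hse, h.R_comm hsR hx, mul_inv_cancel_right]
    exact hz₀1 (mul_left_cancel h2)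
  have hzall : ∀ z ∈ R ⊓ A, k * z * k⁻¹ = z := by
    intro z hz
    obtain ⟨x, hx, hxA⟩ := h.exists_R_notMem_A
    obtain ⟨s, hs, hse⟩ := h.exists_conj_eq hx hxA hz
    have hkx : k * x * k⁻¹ = x * (k * x * k⁻¹ * x) := by
      rw [h.R_comm (hR hk x hx) hx, ← mul_assoc, h.R_sq x hx, one_mul]
    have e := hcomm s hs x hx
    rw [hse, show k * (x * z) * k⁻¹ = k * x * k⁻¹ * (k * z * k⁻¹) by group] at e
    conv_rhs at e => rw [hkx, show s * (x * (k * x * k⁻¹ * x)) * s⁻¹ =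
      s * x * s⁻¹ * (s * (k * x * k⁻¹ * x) * s⁻¹) by group, hsz s hs _ (hquot x hx), hse,
      mul_assoc x z, h.R_comm hz.1 (hquot x hx).1, ← mul_assoc, ← hkx]
    exact mul_left_cancel e
  exact htriv k hk hzall hquot

/-- At most three automorphisms of `R` are induced. -/
theorem odd_relIndex_le (hK : K ≤ normalizer (R : Set G))
    (hSK : (S : Subgroup G) ≤ normalizer (K : Set G)) (hodd : Odd (Nat.card K)) :
    (centralizer (R : Set G) ⊓ K).relIndex K ≤ 3 := by
  obtain ⟨z, hz, hz1⟩ := h.exists_inf_ne_one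
  have hns := h.odd_normalizes_inf hK hSK hodd
  set L := (centralizer (R : Set G) ⊓ K).subgroupOf K
  let f : K ⧸ L → {w : (R ⊓ A : Subgroup G) // w ≠ 1} := fun q =>
    ⟨⟨(q.out : G) * z * (q.out : G)⁻¹,
        ⟨(mem_normalizer_iff.1 (hK q.out.2) z).1 hz.1, hns _ q.out.2 z hz⟩⟩,
      fun e => hz1 (conj_eq_one_iff.1 (congrArg Subtype.val e))⟩
  have hinj : Function.Injective f := by
    intro q q' e
    have e' : (q.out : G) * z * (q.out : G)⁻¹ = (q'.out : G) * z * (q'.out : G)⁻¹ :=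
      congrArg (fun w => ((w.1 : (R ⊓ A : Subgroup G)) : G)) e
    rw [← q.out_eq, ← q'.out_eq]
    refine QuotientGroup.eq.2 (mem_subgroupOf.2 ?_)
    rw [Subgroup.coe_mul, Subgroup.coe_inv]
    refine mem_inf.2 ⟨h.odd_fixedPointFree hK hSK hodd (mul_mem (inv_mem q.out.2) q'.out.2)
      hz.1 hz1 ?_, mul_mem (inv_mem q.out.2) q'.out.2⟩
    rw [conj_comp, ← e']
    group
  have h3 : Nat.card {w : (R ⊓ A : Subgroup G) // w ≠ 1} = 3 := by
    classical
    haveI := Fintype.ofFinite (R ⊓ A : Subgroup G)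
    rw [Nat.card_eq_fintype_card, Fintype.card_subtype_compl, Fintype.card_subtype_eq,
      ← Nat.card_eq_fintype_card, h.inf_card]
  exact (Nat.card_le_card_of_injective f hinj).trans_eq h3

end Shape

end Cfsg.Agent.L34Type
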