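import Cfsg.Agent.Lib.L34Type.Invol
import Cfsg.Agent.Lib.L34Type.Signalizer
import Cfsg.Agent.Lib.Involutions.StronglyEmbedded

/-!
# Sylow 2-subgroups of type `L₃(4)`: one fused side

`N(A)` is transitive on the involutions of `A` and `N(R)` normalises `R ⊓ A`: the first facts, and
no proper subgroup contains `N(A)` and all centralisers of involutions.
-/

set_option autoImplicit false
set_option linter.style.haveILetI false
set_option linter.unusedSectionVars false

namespace Cfsg.Agent.L34Type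

open Subgroup Cfsg.Agent.CIT Cfsg.Agent.Involutions
open Cfsg.Agent.StronglyClosedFour (core core_le core_odd le_normalizer_core eq_one_of_two_group
  exists_conj_into exists_conj_into_involution odd_orderOf_of_mem)

universe u

variable {G : Type u} [Group G] [Finite G]

/-- An odd group is generated by the centralisers of the involutions of a four-group. -/
theorem le_of_cent_le {V X Y : Subgroup G} (hsq : ∀ v ∈ V, v * v = 1) (h3 : 3 ≤ Nat.card V)
    (hVX : V ≤ normalizer (X : Set G)) (hodd : Odd (Nat.card X))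
    (hle : ∀ v ∈ V, v ≠ 1 → X ⊓ centralizer ({v} : Set G) ≤ Y) : X ≤ Y := by
  haveI : Fact (Nat.Prime 2) := ⟨Nat.prime_two⟩
  haveI : IsMulCommutative V := ⟨⟨fun a b => Subtype.ext (by
    show (a : G) * b = b * a
    calc (a : G) * b = ((a : G) * b)⁻¹ := (inv_eq_of_mul_eq_one_right (hsq _ (mul_mem a.2 b.2))).symm
      _ = b * a := by
        rw [mul_inv_rev, inv_eq_of_mul_eq_one_right (hsq _ a.2),
          inv_eq_of_mul_eq_one_right (hsq _ b.2)])⟩⟩
  have hnc : ¬ IsCyclic V := by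
    intro hc
    obtain ⟨g, hg⟩ := hc.exists_generator
    have h2 : orderOf g ≤ 2 := Nat.le_of_dvd two_pos
      (orderOf_dvd_of_pow_eq_one (Subtype.ext (by rw [pow_two]; exact hsq _ g.2)))
    rw [orderOf_eq_card_of_forall_mem_zpowers hg] at h2
    omega
  have hp : IsPGroup 2 V := fun x => ⟨1, Subtype.ext (by rw [pow_one, pow_two]; exact hsq x x.2)⟩
  obtain ⟨m, hm⟩ := IsPGroup.iff_card.1 hp
  rw [← Coprime.fixedGen_eq hnc hVX (by rw [hm]; exact (hodd.coprime_two_left).pow_left m)]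
  exact iSup₂_le fun v hv => hle v hv.1 hv.2

variable {S : Sylow 2 G} {R A : Subgroup G}

namespace Shape

variable (h : Shape (S : Subgroup G) R A)
include h

/-- `A` has odd index in its centraliser. -/
theorem odd_cent_self : Odd (A.relIndex (centralizer (A : Set G))) := by
  haveI : Fact (Nat.Prime 2) := ⟨Nat.prime_two⟩
  set C := centralizer (A : Set G) with hC
  set N := normalizer (A : Set G) with hN
  have hAC : A ≤ C := fun a ha => mem_centralizer_iff.2 fun b hb => h.symm.R_comm hb ha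
  have hCN : C ≤ N := fun c hc => CIT.mem_normalizer_of_forall fun a ha => by
    rwa [← mem_centralizer_iff.1 hc a ha, mul_inv_cancel_right]
  obtain ⟨T, hT⟩ := IsPGroup.exists_le_sylow
    (h.symm.R_isPGroup.of_equiv (subgroupOfEquivOfLe hAC).symm)
  have hodd : Odd ((S : Subgroup G).relIndex N) := by
    rw [Nat.odd_iff]
    have h1 : ¬ 2 ∣ (S : Subgroup G).relIndex N := fun e =>
      S.not_dvd_index (e.trans (relIndex_dvd_index_of_le h.le_norm_A))
    omega
  obtain ⟨k, hk, hkS⟩ := exists_conj_into (T.2.map C.subtype) ((map_subtype_le _).trans hCN) hodd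
  obtain ⟨a₀, ha₀, ha₀R⟩ := h.symm.exists_R_notMem_A
  have he : (T : Subgroup C) = A.subgroupOf C := by
    refine le_antisymm (fun t ht => ?_) hT
    have hk' : k⁻¹ * (t : G) * k ∈ (S : Subgroup G) := hkS _ ⟨t, ht, rfl⟩
    have hcomm : a₀ * (k⁻¹ * (t : G) * k) = k⁻¹ * (t : G) * k * a₀ := by
      calc a₀ * (k⁻¹ * (t : G) * k) = k⁻¹ * ((k * a₀ * k⁻¹) * t) * k := by group
        _ = k⁻¹ * ((t : G) * (k * a₀ * k⁻¹)) * k := by
          rw [mem_centralizer_iff.1 t.2 _ ((mem_normalizer_iff.1 hk a₀).1 ha₀)]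
        _ = k⁻¹ * (t : G) * k * a₀ := by group
    have := (mem_normalizer_iff.1 hk _).1 (h.cent_A a₀ ha₀ ha₀R _ hk' hcomm)
    rw [mem_subgroupOf]
    rwa [show k * (k⁻¹ * (t : G) * k) * k⁻¹ = t by group] at this
  rw [relIndex, ← he, Nat.odd_iff]
  have := T.not_dvd_index
  omega

section

variable (hns : ∀ n ∈ normalizer (R : Set G), ∀ z ∈ R ⊓ A, n * z * n⁻¹ ∈ A)
include hns

/-- Conjugates in `S` of elements of `A` lie in `A`. -/
theorem conj_mem_A {g a : G} (ha : a ∈ A) (hg : g * a * g⁻¹ ∈ (S : Subgroup G)) :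
    g * a * g⁻¹ ∈ A := by
  by_contra hne
  have h2 : g * a * g⁻¹ * (g * a * g⁻¹) = 1 := by
    rw [show g * a * g⁻¹ * (g * a * g⁻¹) = g * (a * a) * g⁻¹ by group, h.A_sq a ha, mul_one,
      mul_inv_cancel]
  have hR : g * a * g⁻¹ ∈ R := (h.involutions _ hg h2).resolve_right hne
  have hback : g⁻¹ * (g * a * g⁻¹) * g⁻¹⁻¹ = a := by group
  have h' := (h.exists_norm_conj (g := g⁻¹) hR (h.conj_notMem_of_normalizes hns hR hne)
    (by rw [hback]; exact h.A_le ha)).2.1
  rw [hback] at h'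
  exact h' ha

theorem not_isConj_A {r a : G} (hr : r ∈ R) (hrA : r ∉ A) (ha : a ∈ A) : ¬ IsConj a r := fun hc => by
  obtain ⟨g, rfl⟩ := isConj_iff.1 hc
  exact hrA (h.conj_mem_A hns ha (h.R_le hr))

/-- An element of odd order centralising `r` and `z` lies in `O(C(z))`. -/
theorem odd_mem_core {r : G} (hr : r ∈ R) (hrA : r ∉ A) {z : G} (hz : z ∈ R ⊓ A) (hz1 : z ≠ 1)
    {x : G} (hxr : x ∈ centralizer ({r} : Set G)) (hxz : x ∈ centralizer ({z} : Set G))
    (hx : Odd (orderOf x)) : x ∈ core (centralizer ({z} : Set G)) := by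
  obtain ⟨o, ho, -, t, ht, rfl⟩ := h.cent_cent_cases hns hr hrA hz hz1 hxr hxz
  set C := centralizer ({z} : Set G) with hC
  haveI : ((core C).subgroupOf C).Normal :=
    normal_subgroupOf_of_le_normalizer (le_normalizer_core C)
  have htC : t ∈ C := h.le_centralizer_of_mem_inf hz (h.R_le ht)
  let φ := QuotientGroup.mk' ((core C).subgroupOf C)
  have e : φ ⟨o * t, hxz⟩ = φ ⟨t, htC⟩ := by
    rw [show (⟨o * t, hxz⟩ : C) = ⟨o, core_le C ho⟩ * ⟨t, htC⟩ from rfl, map_mul,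
      show φ ⟨o, core_le C ho⟩ = 1 from (QuotientGroup.eq_one_iff _).2 (mem_subgroupOf.2 ho), one_mul]
  obtain ⟨j, hj⟩ := hx
  have h1 : φ ⟨t, htC⟩ ^ (2 * j + 1) = 1 := by
    rw [← e, ← map_pow, ← hj]
    exact (congrArg φ (Subtype.ext (pow_orderOf_eq_one (o * t)))).trans (map_one φ)
  have h2 : φ ⟨t, htC⟩ ^ 2 = 1 := by
    rw [← map_pow, show (⟨t, htC⟩ : C) ^ 2 = 1 from Subtype.ext (by rw [pow_two]; exact h.R_sq t ht),
      map_one]
  rw [pow_succ, pow_mul, h2, one_pow, one_mul] at h1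
  exact mul_mem ho (mem_subgroupOf.1 ((QuotientGroup.eq_one_iff _).1 h1))

/-- An odd subgroup of `C(r)` normalised by `R ⊓ A` is generated by parts of the cores. -/
theorem odd_le {r : G} (hr : r ∈ R) (hrA : r ∉ A) {X Y : Subgroup G}
    (hXr : X ≤ centralizer ({r} : Set G)) (hZX : R ⊓ A ≤ normalizer (X : Set G))
    (hodd : Odd (Nat.card X))
    (hY : ∀ z ∈ R ⊓ A, z ≠ 1 → core (centralizer ({z} : Set G)) ≤ Y) : X ≤ Y :=
  le_of_cent_le (V := R ⊓ A) (fun v hv => h.R_sq v hv.1) (by rw [h.inf_card]; norm_num) hZX hodd fun z hz hz1 x hx =>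
    hY z hz hz1 (h.odd_mem_core hns hr hrA hz hz1 (hXr (mem_inf.1 hx).1) (mem_inf.1 hx).2
      (odd_orderOf_of_mem hodd (mem_inf.1 hx).1))

section

variable {M : Subgroup G} (hNA : normalizer (A : Set G) ≤ M)
  (hCM : ∀ a ∈ A, a ≠ 1 → centralizer ({a} : Set G) ≤ M)
include hNA hCM

/-- `N(R)` lies in `M`. -/
theorem norm_R_le : normalizer (R : Set G) ≤ M := by
  intro n hn
  obtain ⟨c, hc, hcn⟩ := h.exists_mul_mem_norm_S hns hn
  obtain ⟨z, hz, hz1⟩ := h.exists_inf_ne_one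
  have hcM : c ∈ M := hCM z hz.2 hz1
    (mem_centralizer_singleton_iff.2 (mem_centralizer_iff.1 hc z hz.1).symm)
  exact (Subgroup.mul_mem_cancel_left _ hcM).1 (hNA (h.norm_S_le_A hcn))

/-- A proper subgroup over `N(A)` and the centralisers of the involutions of `A` misses the
centraliser of some involution of `R \ A`. -/
theorem exists_cent_not_le (hf : Fused A) (hM : M ≠ ⊤) :
    ∃ r ∈ R, r ∉ A ∧ ¬ centralizer ({r} : Set G) ≤ M := by
  haveI : Fact (Nat.Prime 2) := ⟨Nat.prime_two⟩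
  by_contra hne
  push Not at hne
  have hSM : (S : Subgroup G) ≤ M := h.le_norm_A.trans hNA
  have hoddS : Odd ((S : Subgroup G).relIndex M) := by
    rw [Nat.odd_iff]
    have h1 : ¬ 2 ∣ (S : Subgroup G).relIndex M := fun e =>
      S.not_dvd_index (e.trans (relIndex_dvd_index_of_le hSM))
    omega
  have heven : Even (Nat.card M) := even_iff_two_dvd.2 (Dvd.dvd.trans
    ⟨32, h.card_S.trans (by norm_num)⟩ (Subgroup.card_dvd_of_le hSM))
  have hse : Cfsg.IsStronglyEmbedded M := StronglyEmbedded.of_conj hM heven fun t ht ht2 g hg => by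
    obtain ⟨k₁, hk₁, h₁⟩ := exists_conj_into_involution (Basic.inv_sq_one ht2) ht hoddS
    have hy2 : g * t * g⁻¹ * (g * t * g⁻¹) = 1 := by
      rw [show g * t * g⁻¹ * (g * t * g⁻¹) = g * (t * t) * g⁻¹ by group, Basic.inv_sq_one ht2,
        mul_one, mul_inv_cancel]
    obtain ⟨k₂, hk₂, h₂⟩ := exists_conj_into_involution hy2 hg hoddS
    set t₁ := k₁⁻¹ * t * k₁ with ht₁
    set k := k₂⁻¹ * g * k₁ with hk
    have hkt : k * t₁ * k⁻¹ = k₂⁻¹ * (g * t * g⁻¹) * k₂ := by rw [hk, ht₁]; group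
    rw [← hkt] at h₂
    have ht₁o : orderOf t₁ = 2 := by
      rw [ht₁, show k₁⁻¹ * t * k₁ = k₁⁻¹ * t * k₁⁻¹⁻¹ by group, Basic.orderOf_conj, ht2]
    have ht₁1 : t₁ ≠ 1 := Basic.ne_one ht₁o
    suffices hkM : k ∈ M by
      have := mul_mem (mul_mem hk₂ hkM) (inv_mem hk₁)
      rwa [hk, show k₂ * (k₂⁻¹ * g * k₁) * k₁⁻¹ = g by group] at this
    have hfin : ∀ n ∈ M, centralizer ({t₁} : Set G) ≤ M → n * t₁ * n⁻¹ = k * t₁ * k⁻¹ → k ∈ M := by
      intro n hn hle e
      have hmem : n⁻¹ * k ∈ centralizer ({t₁} : Set G) := mem_centralizer_singleton_iff.2 (by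
        calc n⁻¹ * k * t₁ = n⁻¹ * (k * t₁ * k⁻¹) * k := by group
          _ = t₁ * (n⁻¹ * k) := by rw [← e]; group)
      have := mul_mem hn (hle hmem)
      rwa [mul_inv_cancel_left] at this
    by_cases hA : t₁ ∈ A
    · have hA2 := h.conj_mem_A hns hA h₂
      obtain ⟨n, hn, e⟩ := hf t₁ hA ht₁1 _ hA2 (fun e1 => ht₁1 (conj_eq_one_iff.1 e1))
      exact hfin n (hNA hn) (hCM t₁ hA ht₁1) e
    · have hR : t₁ ∈ R := (h.involutions _ h₁ (Basic.inv_sq_one ht₁o)).resolve_right hA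
      obtain ⟨-, -, n, hn, e⟩ :=
        h.exists_norm_conj hR (h.conj_notMem_of_normalizes hns hR hA) h₂
      exact hfin n (h.norm_R_le hns hNA hCM hn) (hne t₁ hR hA) e
  obtain ⟨r, hr, hrA⟩ := h.exists_R_notMem_A
  obtain ⟨z, hz, hz1⟩ := h.exists_inf_ne_one
  exact h.not_isConj_A hns hr hrA hz.2 (StronglyEmbedded.isConj_involutions hse
    (Basic.orderOf_two_iff.2 ⟨h.R_sq z hz.1, hz1⟩)
    (Basic.orderOf_two_iff.2 ⟨h.R_sq r hr, fun e => hrA (e ▸ one_mem A)⟩))

end

end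

end Shape

end Cfsg.Agent.L34Type
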