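import Cfsg.Agent.Lib.L34Type.OneFusedKernel
import Cfsg.Agent.Lib.L34Type.NoFusionSide

/-!
# Sylow 2-subgroups of type `L₃(4)`: one fused side without signalizers

With trivial signalizer closure the index of `N(A)` is small: pairs of involutions from the classes
of `z` and of `r` are counted.
-/

set_option autoImplicit false
set_option linter.style.haveILetI false
set_option linter.unusedSectionVars false

namespace Cfsg.Agent.L34Type

open Subgroup Cfsg.Agent.CIT Cfsg.Agent.Involutions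
open Cfsg.Agent.StronglyClosedFour (core core_le core_odd le_normalizer_core exists_conj_into_involution
  eq_one_of_two_group)

universe u

variable {G : Type u} [Group G] [Finite G]

/-- The order formula with the middle involution in one of the two classes. -/
theorem two_class_count {x₁ x₂ : G} (h₁ : orderOf x₁ = 2) (h₂ : orderOf x₂ = 2)
    (hnc : ¬ IsConj x₁ x₂)
    (hmid : ∀ p q : G, IsConj x₁ p → IsConj x₂ q →
      IsConj x₁ ((p * q) ^ (orderOf (p * q) / 2)) ∨ IsConj x₂ ((p * q) ^ (orderOf (p * q) / 2))) :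
    Nat.card G = Nat.card (centralizer ({x₂} : Set G)) *
        Nat.card {p : G × G // IsConj x₁ p.1 ∧ IsConj x₂ p.2 ∧ x₁ ∈ zpowers (p.1 * p.2)} +
      Nat.card (centralizer ({x₁} : Set G)) *
        Nat.card {p : G × G // IsConj x₁ p.1 ∧ IsConj x₂ p.2 ∧ x₂ ∈ zpowers (p.1 * p.2)} := by
  classical
  have : Fintype G := Fintype.ofFinite G
  let P := {p : G × G // IsConj x₁ p.1 ∧ IsConj x₂ p.2}
  let mid : P → G := fun p => (p.1.1 * p.1.2) ^ (orderOf (p.1.1 * p.1.2) / 2)
  let S : (x : G) → Type _ := fun x => {p : P // IsConj x (mid p)}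
  have hS : ∀ x : G, orderOf x = 2 → Nat.card (S x) = Nat.card {u : G // IsConj x u} *
      Nat.card {p : G × G // IsConj x₁ p.1 ∧ IsConj x₂ p.2 ∧ x ∈ zpowers (p.1 * p.2)} := by
    intro x hx
    have e : S x ≃ Σ y : {u : G // IsConj x u},
        {p : G × G // IsConj x₁ p.1 ∧ IsConj x₂ p.2 ∧ y.1 ∈ zpowers (p.1 * p.2)} :=
      { toFun := fun p => ⟨⟨mid p.1, p.2⟩, p.1.1, p.1.2.1, p.1.2.2, pow_mem (mem_zpowers _) _⟩
        invFun := fun s => ⟨⟨s.2.1, s.2.2.1, s.2.2.2.1⟩, by
          show IsConj x ((s.2.1.1 * s.2.1.2) ^ (orderOf (s.2.1.1 * s.2.1.2) / 2))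
          rw [← OrderFormula.eq_middle (Count.orderOf_of_isConj hx s.1.2) s.2.2.2.2]
          exact s.1.2⟩
        left_inv := fun p => rfl
        right_inv := by
          rintro ⟨⟨y, hy⟩, p, hp1, hp2, hp3⟩
          have := OrderFormula.eq_middle (Count.orderOf_of_isConj hx hy) hp3
          subst this
          rfl }
    rw [Nat.card_congr e, Nat.card_sigma,
      Finset.sum_congr rfl fun y _ => OrderFormula.fibre_card x₁ x₂ x y.1 y.2, Finset.sum_const,
      Finset.card_univ, smul_eq_mul, Nat.card_eq_fintype_card (α := {u : G // IsConj x u})]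
  have htot : Nat.card P = Nat.card (S x₁) + Nat.card (S x₂) := by
    rw [← Nat.card_sum]
    refine Nat.card_congr ((Equiv.sumCompl fun p : P => IsConj x₁ (mid p)).symm.trans
      (Equiv.sumCongr (Equiv.refl _) (Equiv.subtypeEquivRight fun p => ?_)))
    exact ⟨fun h => (hmid _ _ p.2.1 p.2.2).resolve_left h, fun h h' => hnc (h'.trans h.symm)⟩
  have hP : Nat.card P = Nat.card {u : G // IsConj x₁ u} * Nat.card {u : G // IsConj x₂ u} := by
    rw [← Nat.card_prod]
    exact Nat.card_congr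
      { toFun := fun p => (⟨p.1.1, p.2.1⟩, ⟨p.1.2, p.2.2⟩)
        invFun := fun q => ⟨(q.1.1, q.2.1), q.1.2, q.2.2⟩
        left_inv := fun p => rfl
        right_inv := fun q => rfl }
  rw [hP, hS x₁ h₁, hS x₂ h₂] at htot
  have e1 := OrderFormula.class_card_mul x₁
  have e2 := OrderFormula.class_card_mul x₂
  set a := Nat.card {u : G // IsConj x₁ u}
  set b := Nat.card {u : G // IsConj x₂ u}
  set c₁ := Nat.card (centralizer ({x₁} : Set G))
  set c₂ := Nat.card (centralizer ({x₂} : Set G))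
  apply Nat.eq_of_mul_eq_mul_left (Nat.card_pos : 0 < Nat.card G)
  generalize Nat.card {p : G × G // IsConj x₁ p.1 ∧ IsConj x₂ p.2 ∧ x₁ ∈ zpowers (p.1 * p.2)} = n₁
    at htot ⊢
  generalize Nat.card {p : G × G // IsConj x₁ p.1 ∧ IsConj x₂ p.2 ∧ x₂ ∈ zpowers (p.1 * p.2)} = n₂
    at htot ⊢
  calc Nat.card G * Nat.card G = (a * c₁) * (b * c₂) := by rw [e1, e2]
    _ = a * b * (c₁ * c₂) := by ring
    _ = (a * n₁ + b * n₂) * (c₁ * c₂) := by rw [htot]
    _ = (a * c₁) * (c₂ * n₁) + (b * c₂) * (c₁ * n₂) := by ring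
    _ = Nat.card G * (c₂ * n₁ + c₁ * n₂) := by rw [e1, e2, mul_add]

variable {S : Sylow 2 G} {R A : Subgroup G}

namespace Shape

variable (h : Shape (S : Subgroup G) R A)
include h

theorem card_R_mod_A : Nat.card (R ⧸ A.subgroupOf R) = 4 := by
  have h2 := Subgroup.card_eq_card_quotient_mul_card_subgroup (A.subgroupOf R)
  have h3 : Nat.card (A.subgroupOf R) = Nat.card (A ⊓ R : Subgroup G) := by
    rw [← Subgroup.inf_subgroupOf_right]
    exact Nat.card_congr (Subgroup.subgroupOfEquivOfLe inf_le_right).toEquiv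
  rw [h3, inf_comm, h.inf_card, h.R_card] at h2
  omega

section

variable (hcz : ∀ z ∈ R ⊓ A, z ≠ 1 → core (centralizer ({z} : Set G)) = ⊥)
  {z : G} (hz : z ∈ R ⊓ A) (hz1 : z ≠ 1)
include hcz hz hz1

theorem cent_le_norm_S : centralizer ({z} : Set G) ≤ normalizer ((S : Subgroup G) : Set G) := by
  intro k hk
  obtain ⟨o, ho, n, hn, rfl⟩ := h.cent_cover hz hz1 k hk
  rw [hcz z hz hz1, Subgroup.mem_bot] at ho
  rw [ho, one_mul]
  exact (mem_inf.1 hn).1

/-- `|C(z)| = 64 e` with `e` odd and at most 3. -/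
theorem cent_card : ∃ e, Odd e ∧ e ≤ 3 ∧ Nat.card (centralizer ({z} : Set G)) = 64 * e := by
  haveI : Fact (Nat.Prime 2) := ⟨Nat.prime_two⟩
  set C := centralizer ({z} : Set G) with hC
  have hCN := h.cent_le_norm_S hcz hz hz1
  have hSC : (S : Subgroup G) ≤ C := h.le_centralizer_of_mem_inf hz
  refine ⟨(S : Subgroup G).relIndex C, ?_, ?_, ?_⟩
  · rw [Nat.odd_iff]
    have h1 : ¬ 2 ∣ (S : Subgroup G).relIndex C := fun e =>
      S.not_dvd_index (e.trans (relIndex_dvd_index_of_le hSC))
    omega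
  · obtain ⟨r, hr, hrA⟩ := h.exists_R_notMem_A
    let one : R ⧸ A.subgroupOf R := QuotientGroup.mk ⟨1, one_mem R⟩
    let f : C ⧸ (S : Subgroup G).subgroupOf C → {c : R ⧸ A.subgroupOf R // c ≠ one} :=
      fun c => ⟨QuotientGroup.mk ⟨(c.out : G) * r * (c.out : G)⁻¹,
        h.conj_R (hCN c.out.2) hr⟩, fun e => by
        have e' := mem_subgroupOf.1 (QuotientGroup.eq.1 e)
        rw [Subgroup.coe_mul, Subgroup.coe_inv] at e'
        simp only [mul_one] at e'
        exact h.conj_notMem_A_of_norm (hCN c.out.2) hrA (by simpa using inv_mem e')⟩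
    have hinj : Function.Injective f := by
      intro c d e
      have e' := mem_subgroupOf.1 (QuotientGroup.eq.1 (congrArg Subtype.val e))
      rw [Subgroup.coe_mul, Subgroup.coe_inv] at e'
      simp only at e'
      set m := (c.out : G)⁻¹ * (d.out : G) with hm
      have hmC : m ∈ C := mul_mem (inv_mem c.out.2) d.out.2
      have hmod : m * r * m⁻¹ * r ∈ A := by
        have h2 := (mem_normalizer_iff''.1 (h.norm_S_le_A (hCN c.out.2)) _).1 e'
        have hR2 : m * r * m⁻¹ ∈ R := h.conj_R (hCN hmC) hr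
        rw [h.R_comm hR2 hr]
        have hrinv := h.R_inv hr
        rwa [show (c.out : G)⁻¹ * (((c.out : G) * r * (c.out : G)⁻¹)⁻¹ *
          ((d.out : G) * r * (d.out : G)⁻¹)) * (c.out : G) = r⁻¹ * (m * r * m⁻¹) by rw [hm]; group,
          hrinv] at h2
      have hfix := h.norm_fix_inf (hCN hmC) hz hz1
        (by rw [mem_centralizer_singleton_iff.1 hmC, mul_inv_cancel_right])
      have hle : centralizer ((S : Subgroup G) : Set G) ⊔ (S : Subgroup G) ≤ (S : Subgroup G) := by
        refine sup_le ((h.cent_S_le hz hz1).trans ?_) le_rfl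
        rw [hcz z hz hz1, bot_sup_eq]
        exact inf_le_left.trans h.R_le
      rw [← c.out_eq, ← d.out_eq]
      refine QuotientGroup.eq.2 (mem_subgroupOf.2 ?_)
      rw [Subgroup.coe_mul, Subgroup.coe_inv]
      exact hle (h.norm_trivial (hCN hmC) hfix hr hrA hmod)
    refine (Nat.card_le_card_of_injective f hinj).trans_eq ?_
    classical
    haveI := Fintype.ofFinite (R ⧸ A.subgroupOf R)
    rw [Nat.card_eq_fintype_card, Fintype.card_subtype_compl, Fintype.card_subtype_eq,
      ← Nat.card_eq_fintype_card, h.card_R_mod_A]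
  · rw [card_eq_card_mul_relIndex hSC, h.card_S]

/-- `|N(A)| = 15 |C(z)|`. -/
theorem norm_A_card (hf : Fused A) :
    Nat.card (normalizer (A : Set G)) = 15 * Nat.card (centralizer ({z} : Set G)) := by
  set C := centralizer ({z} : Set G) with hC
  set N := normalizer (A : Set G) with hN
  have hle : C ≤ N := (h.cent_le_norm_S hcz hz hz1).trans h.norm_S_le_A
  let f : N ⧸ C.subgroupOf N → {a : A // a ≠ 1} := fun c =>
    ⟨⟨(c.out : G) * z * (c.out : G)⁻¹, (mem_normalizer_iff.1 c.out.2 z).1 hz.2⟩,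
      fun e => hz1 (conj_eq_one_iff.1 (congrArg Subtype.val e))⟩
  have hbij : Function.Bijective f := by
    refine ⟨fun c d e => ?_, fun ⟨a, ha1⟩ => ?_⟩
    · have e' : (c.out : G) * z * (c.out : G)⁻¹ = (d.out : G) * z * (d.out : G)⁻¹ :=
        congrArg (fun a : {a : A // a ≠ 1} => ((a.1 : A) : G)) e
      rw [← c.out_eq, ← d.out_eq]
      refine QuotientGroup.eq.2 (mem_subgroupOf.2 ?_)
      rw [Subgroup.coe_mul, Subgroup.coe_inv]
      refine mem_centralizer_singleton_iff.2 ?_
      calc (c.out : G)⁻¹ * (d.out : G) * z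
          = (c.out : G)⁻¹ * ((d.out : G) * z * (d.out : G)⁻¹) * (d.out : G) := by group
        _ = z * ((c.out : G)⁻¹ * (d.out : G)) := by rw [← e']; group
    · obtain ⟨n, hn, e⟩ := hf z hz.2 hz1 a a.2 (fun e => ha1 (Subtype.ext e))
      refine ⟨QuotientGroup.mk ⟨n, hn⟩, Subtype.ext (Subtype.ext ?_)⟩
      have hmem := mem_subgroupOf.1 (QuotientGroup.eq.1
        (QuotientGroup.mk (s := C.subgroupOf N) (⟨n, hn⟩ : N)).out_eq)
      rw [Subgroup.coe_mul, Subgroup.coe_inv] at hmem
      show ((QuotientGroup.mk (s := C.subgroupOf N) (⟨n, hn⟩ : N)).out : G) * z * _ = (a : G)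
      generalize ((QuotientGroup.mk (s := C.subgroupOf N) (⟨n, hn⟩ : N)).out : G) = d at hmem ⊢
      have hc := mem_centralizer_singleton_iff.1 hmem
      simp only at hc
      calc d * z * d⁻¹ = d * (z * (d⁻¹ * n)) * n⁻¹ := by group
        _ = n * z * n⁻¹ := by rw [← hc]; group
        _ = a := e
  rw [card_eq_card_mul_relIndex hle, mul_comm]
  congr 1
  show Nat.card (N ⧸ C.subgroupOf N) = 15
  rw [Nat.card_congr (Equiv.ofBijective f hbij)]
  classical
  haveI := Fintype.ofFinite A
  rw [Nat.card_eq_fintype_card, Fintype.card_subtype_compl, Fintype.card_subtype_eq,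
    ← Nat.card_eq_fintype_card, h.A_card]

end

section

variable (hns : ∀ n ∈ normalizer (R : Set G), ∀ z ∈ R ⊓ A, n * z * n⁻¹ ∈ A)
include hns

/-- At most 48 pairs have a given central middle. -/
theorem pairs_mid_z (hcz : ∀ z ∈ R ⊓ A, z ≠ 1 → core (centralizer ({z} : Set G)) = ⊥)
    {z r : G} (hz : z ∈ R ⊓ A) (hz1 : z ≠ 1) (hr : r ∈ R) (hrA : r ∉ A) :
    Nat.card {p : G × G // IsConj z p.1 ∧ IsConj r p.2 ∧ z ∈ zpowers (p.1 * p.2)} ≤ 48 := by
  classical
  haveI := Fintype.ofFinite G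
  have oz : orderOf z = 2 := Basic.orderOf_two_iff.2 ⟨h.R_sq z hz.1, hz1⟩
  have or₂ : orderOf r = 2 := Basic.orderOf_two_iff.2 ⟨h.R_sq r hr, fun e => hrA (e ▸ one_mem A)⟩
  set T := Finset.univ.filter fun t : G × G => t.1 ∈ R ∧ t.1 ∉ A ∧ t.2 ∈ A ∧ t.2 ∉ R ∧
    t.1 * t.2 * (t.1 * t.2) = z with hT
  have hTc : T.card ≤ 48 := by
    set R' := Finset.univ.filter fun x : G => x ∈ R ∧ x ∉ A with hR'
    have hR'c : R'.card ≤ 12 := by
      have hsub : R' ⊆ (Finset.univ.filter fun x : G => x ∈ R) \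
          Finset.univ.filter fun x : G => x ∈ R ⊓ A := by
        intro x hx
        simp only [hR', Finset.mem_filter, Finset.mem_univ, true_and] at hx
        simp only [Finset.mem_sdiff, Finset.mem_filter, Finset.mem_univ, true_and]
        exact ⟨hx.1, fun e => hx.2 e.2⟩
      refine (Finset.card_le_card hsub).trans_eq ?_
      rw [Finset.card_sdiff_of_subset (fun x hx => by
        simp only [Finset.mem_filter, Finset.mem_univ, true_and] at hx ⊢; exact hx.1)]
      have c1 : (Finset.univ.filter fun x : G => x ∈ R).card = 16 := by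
        rw [← Fintype.card_subtype, ← Nat.card_eq_fintype_card]; exact h.R_card
      have c2 : (Finset.univ.filter fun x : G => x ∈ R ⊓ A).card = 4 := by
        rw [← Fintype.card_subtype, ← Nat.card_eq_fintype_card]; exact h.inf_card
      rw [c1, c2]
    have hsub : T ⊆ R'.biUnion fun x => T.filter fun t => t.1 = x := fun t ht => by
      refine Finset.mem_biUnion.2 ⟨t.1, ?_, by simp [ht]⟩
      simp only [hT, hR', Finset.mem_filter, Finset.mem_univ, true_and] at ht ⊢
      exact ⟨ht.1, ht.2.1⟩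
    refine (Finset.card_le_card hsub).trans (Finset.card_biUnion_le.trans
      ((Finset.sum_le_card_nsmul _ _ 4 fun x _ => ?_).trans (by rw [smul_eq_mul]; omega)))
    rcases (T.filter fun t => t.1 = x).eq_empty_or_nonempty with e | ⟨⟨x₀, y₀⟩, h0⟩
    · rw [e, Finset.card_empty]; omega
    refine le_trans (Finset.card_le_card_of_injOn (fun t : G × G => y₀ * t.2)
      (t := Finset.univ.filter fun w : G => w ∈ R ⊓ A) ?_ ?_) (le_of_eq ?_)
    · intro t ht
      simp only [hT, Finset.coe_filter, Finset.mem_filter, Finset.mem_univ, true_and,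
        Set.mem_ofPred_eq] at ht h0 ⊢
      obtain ⟨⟨t1R, t1A, t2A, -, te⟩, tx⟩ := ht
      obtain ⟨⟨-, -, y0A, -, ye⟩, yx⟩ := h0
      rw [tx] at te t1R t1A
      rw [show x₀ = x from yx] at ye
      have c1 : t.2 * x * t.2⁻¹ = y₀ * x * y₀⁻¹ := by
        rw [inv_eq_of_mul_eq_one_right (h.A_sq _ t2A), inv_eq_of_mul_eq_one_right (h.A_sq _ y0A)]
        have e1 : x * t.2 * x * t.2 = x * y₀ * x * y₀ := by
          simpa [mul_assoc] using te.trans ye.symm
        rw [mul_assoc x t.2 x, mul_assoc x (t.2 * x), mul_assoc x y₀ x, mul_assoc x (y₀ * x)] at e1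
        exact mul_left_cancel e1
      refine mem_inf.2 ⟨h.cent_R x t1R t1A _ (h.A_le (mul_mem y0A t2A)) ?_, mul_mem y0A t2A⟩
      have c2 : y₀ * t.2 * x * (y₀ * t.2)⁻¹ = x := by
        rw [conj_comp, c1, ← conj_comp, h.A_sq y₀ y0A]; group
      exact (mul_inv_eq_iff_eq_mul.1 c2).symm
    · intro t ht t' ht' e
      simp only [Finset.coe_filter, Set.mem_ofPred_eq] at ht ht'
      exact Prod.ext (ht.2.trans ht'.2.symm) (mul_left_cancel e)
    · rw [← Fintype.card_subtype, ← Nat.card_eq_fintype_card]; exact h.inf_card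
  rw [Nat.card_eq_fintype_card, Fintype.card_subtype]
  refine (Finset.card_le_card_of_injOn (t := T) (fun p : G × G => (p.2, p.1)) ?_ ?_).trans hTc
  · rintro ⟨p, q⟩ hp
    simp only [Finset.coe_filter, Finset.mem_filter, Finset.mem_univ, true_and,
      Set.mem_ofPred_eq] at hp
    obtain ⟨hzp, hrq, hzm⟩ := hp
    have op := Count.orderOf_of_isConj oz hzp
    have oq := Count.orderOf_of_isConj or₂ hrq
    have hnc : ¬ IsConj z r := h.not_isConj_A hns hr hrA hz.2
    obtain ⟨-, cp, cq⟩ := Basic.middle_involution op oq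
      (Basic.even_orderOf_mul_of_not_isConj op oq fun hc => hnc (hzp.trans (hc.trans hrq.symm)))
    set k := orderOf (p * q) / 2
    have hzk : z = (p * q) ^ k := OrderFormula.eq_middle oz hzm
    rw [← hzk] at cp cq
    have hinS : ∀ u : G, orderOf u = 2 → Commute z u → u ∈ (S : Subgroup G) := by
      intro u hu hc
      obtain ⟨t, ht, -, hut, -⟩ :=
        h.cent_involution hz hz1 hu (mem_centralizer_singleton_iff.2 hc.eq.symm)
      rw [hcz z hz hz1, Subgroup.mem_bot, mul_inv_eq_one] at hut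
      rwa [hut]
    have hpS := hinS p op cp
    have hqS := hinS q oq cq
    obtain ⟨g₁, rfl⟩ := isConj_iff.1 hzp
    obtain ⟨g₂, rfl⟩ := isConj_iff.1 hrq
    have hpA := h.conj_mem_A hns hz.2 hpS
    obtain ⟨hqR, hqA, -⟩ := h.exists_norm_conj hr (h.conj_notMem_of_normalizes hns hr hrA) hqS
    set p := g₁ * z * g₁⁻¹
    set q := g₂ * r * g₂⁻¹
    have hpR : p ∉ R := by
      intro hpR
      have hsq : (p * q) ^ 2 = 1 := by rw [pow_two]; exact h.R_sq _ (mul_mem hpR hqR)
      rcases Nat.even_or_odd' k with ⟨i, hi | hi⟩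
      · rw [hi, pow_mul, hsq, one_pow] at hzk
        exact hz1 hzk
      · rw [hi, pow_succ, pow_mul, hsq, one_pow, one_mul] at hzk
        refine hqA ?_
        have := mul_mem (inv_mem hpA) hz.2
        rwa [hzk, inv_mul_cancel_left] at this
    have hk : (q * p) ^ k = z := by
      rw [show q * p = q * (p * q) * q⁻¹ by group, conj_pow, ← hzk, ← cq.eq, mul_inv_cancel_right]
    simp only [hT, Finset.mem_filter, Finset.mem_univ, true_and, Finset.coe_filter, Set.mem_ofPred_eq]
    exact ⟨hqR, hqA, hpA, hpR, ((h.mixed_pow_cases hqR hqA hpA hz hk).resolve_left hz1).symm⟩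
  · intro p _ q _ e
    exact Prod.ext (congrArg Prod.snd e) (congrArg Prod.fst e)

variable {r : G} (hr : r ∈ R) (hrA : r ∉ A) {H : Subgroup G} (hH : Kernel R A r H)
  (hF : FiveType R A H)
include hr hrA hH hF

/-- Without cores `C(r)` has order at most 240 and `H` at most 15 involutions. -/
theorem kernel_small (hcz : ∀ z ∈ R ⊓ A, z ≠ 1 → core (centralizer ({z} : Set G)) = ⊥) :
    Nat.card (centralizer ({r} : Set G)) ≤ 240 ∧ Nat.card {u : H // u * u = 1} ≤ 16 := by
  haveI : Fact (Nat.Prime 2) := ⟨Nat.prime_two⟩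
  have hO : Cfsg.oddCore H = ⊥ := by
    have hcore : core H = ⊥ := le_bot_iff.1 (h.odd_le hns hr hrA ((core_le H).trans hH.le)
      (hH.inf_le.trans (le_normalizer_core H)) (core_odd H) fun z hz hz1 => (hcz z hz hz1).le)
    exact (Subgroup.map_eq_bot_iff_of_injective _ H.subtype_injective).1 hcore
  have h60 : Nat.card H = 60 := by
    have := Subgroup.card_eq_card_quotient_mul_card_subgroup (Cfsg.oddCore H)
    rw [hF.card, hO, Subgroup.card_bot] at this
    simpa using this
  constructor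
  · let f : H × (R ⧸ A.subgroupOf R) → centralizer ({r} : Set G) := fun p =>
      ⟨(p.1 : G) * (p.2.out : G), mul_mem (hH.le p.1.2) (h.R_le_centralizer hr p.2.out.2)⟩
    have hf : Function.Surjective f := by
      rintro ⟨k, hk⟩
      obtain ⟨k₀, hk₀, t, ht, rfl⟩ := hH.mul k hk
      set q : R ⧸ A.subgroupOf R := QuotientGroup.mk ⟨t, ht⟩ with hq
      have hmem := mem_subgroupOf.1 (QuotientGroup.eq.1 q.out_eq)
      rw [Subgroup.coe_mul, Subgroup.coe_inv] at hmem
      simp only at hmem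
      have hR : t * (q.out : G)⁻¹ ∈ R := mul_mem ht (inv_mem q.out.2)
      have hA : t * (q.out : G)⁻¹ ∈ A := by
        rwa [h.R_comm ht (inv_mem q.out.2)]
      refine ⟨(⟨k₀ * (t * (q.out : G)⁻¹), mul_mem hk₀ (hH.inf_le ⟨hR, hA⟩)⟩, q), Subtype.ext ?_⟩
      show k₀ * (t * (q.out : G)⁻¹) * (q.out : G) = k₀ * t
      group
    refine (Nat.card_le_card_of_surjective f hf).trans_eq ?_
    rw [Nat.card_prod, h60, h.card_R_mod_A]
  · set φ := QuotientGroup.mk' (Cfsg.oddCore H) with hφ
    have hφi : Function.Injective φ := (injective_iff_map_eq_one φ).2 fun x hx => by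
      have := (QuotientGroup.eq_one_iff x).1 hx
      rwa [hO, Subgroup.mem_bot] at this
    set Z := Zbar R A H with hZ
    set N := normalizer (Z : Set (H ⧸ Cfsg.oddCore H)) with hN
    have hNi : Nat.card ((H ⧸ Cfsg.oddCore H) ⧸ N) = 5 := by
      have := Subgroup.card_eq_card_quotient_mul_card_subgroup N
      rw [hF.norm, hF.card] at this
      omega
    have hZodd : Odd (Z.relIndex ⊤) := by
      rw [relIndex_top_right]
      have := Z.card_mul_index
      rw [hF.card, hF.card_Z] at this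
      exact ⟨7, by omega⟩
    let f : Option (((H ⧸ Cfsg.oddCore H) ⧸ N) × {w : Z // w ≠ 1}) →
        {u : H ⧸ Cfsg.oddCore H // u * u = 1} := fun o =>
      match o with
      | none => ⟨1, one_mul 1⟩
      | some p => ⟨p.1.out * (p.2.1 : H ⧸ Cfsg.oddCore H) * p.1.out⁻¹, by
          have := hF.sq _ p.2.1.2
          rw [show p.1.out * (p.2.1 : H ⧸ Cfsg.oddCore H) * p.1.out⁻¹ *
            (p.1.out * (p.2.1 : H ⧸ Cfsg.oddCore H) * p.1.out⁻¹) = p.1.out *
            ((p.2.1 : H ⧸ Cfsg.oddCore H) * p.2.1) * p.1.out⁻¹ by group, this, mul_one,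
            mul_inv_cancel]⟩
    have hf : Function.Surjective f := by
      rintro ⟨u, hu⟩
      by_cases hu1 : u = 1
      · exact ⟨none, Subtype.ext hu1.symm⟩
      obtain ⟨k, -, hk⟩ := exists_conj_into_involution hu (Subgroup.mem_top u) hZodd
      set c : (H ⧸ Cfsg.oddCore H) ⧸ N := QuotientGroup.mk k with hc
      have hn : c.out⁻¹ * k ∈ N := QuotientGroup.eq.1 c.out_eq
      have hw : c.out⁻¹ * u * c.out ∈ Z := by
        have := (mem_normalizer_iff.1 hn _).1 hk
        rwa [show c.out⁻¹ * k * (k⁻¹ * u * k) * (c.out⁻¹ * k)⁻¹ = c.out⁻¹ * u * c.out by group] at this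
      refine ⟨some (c, ⟨⟨_, hw⟩, fun e => hu1 ?_⟩), Subtype.ext ?_⟩
      · have e' : c.out⁻¹ * u * c.out = 1 := congrArg Subtype.val e
        calc u = c.out * (c.out⁻¹ * u * c.out) * c.out⁻¹ := by group
          _ = 1 := by rw [e', mul_one, mul_inv_cancel]
      · show c.out * (c.out⁻¹ * u * c.out) * c.out⁻¹ = u
        group
    refine (Nat.card_le_card_of_injective (β := {u : H ⧸ Cfsg.oddCore H // u * u = 1})
      (fun u => ⟨φ u.1, by rw [← map_mul, u.2, map_one]⟩) fun u v e =>
        Subtype.ext (hφi (congrArg Subtype.val e))).trans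
      ((Nat.card_le_card_of_surjective f hf).trans (le_of_eq ?_))
    classical
    haveI := Fintype.ofFinite Z
    rw [Finite.card_option, Nat.card_prod, hNi, Nat.card_eq_fintype_card (α := {w : Z // w ≠ 1}),
      Fintype.card_subtype_compl, Fintype.card_subtype_eq, ← Nat.card_eq_fintype_card, hF.card_Z]

end

end Shape

end Cfsg.Agent.L34Type
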