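import Cfsg.Agent.Lib.L34Type.OneFusedCount
import Cfsg.Agent.Lib.L34Type.NoFusion

/-!
# Sylow 2-subgroups of type `L₃(4)`: a simple group has no single fused side

Without signalizers `N(A)` would have index 17, and an element of order 8 would normalise a Sylow
17-subgroup.
-/

set_option autoImplicit false
set_option linter.style.haveILetI false
set_option linter.unusedSectionVars false

namespace Cfsg.Agent.L34Type

open Subgroup Cfsg.Agent.CIT Cfsg.Agent.Involutions
open Cfsg.Agent.StronglyClosedFour (core exists_conj_into exists_conj_into_involution)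
open scoped Pointwise

universe u

variable {G : Type u} [Group G] [Finite G]

/-- A group acting faithfully on 17 points with a point stabiliser of order `960 e`, `e ∈ {1,3}`,
has an element of order 8. -/
theorem exists_order_eight {N : Subgroup G} (hN : N.index = 17) (hcore : N.normalCore = ⊥) {e : ℕ}
    (he : e = 1 ∨ e = 3) (hNc : Nat.card N = 960 * e) : ∃ g : G, orderOf g = 8 := by
  haveI : Fact (Nat.Prime 17) := ⟨by norm_num⟩
  have hG : Nat.card G = 17 * (960 * e) := by rw [← N.card_mul_index, hN, hNc, mul_comm]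
  obtain ⟨P⟩ := (inferInstance : Nonempty (Sylow 17 G))
  have hP : Nat.card P = 17 := by
    have hfac : (Nat.card G).factorization 17 = 1 := by
      rw [hG, Nat.factorization_mul (by norm_num) (by omega)]
      simp only [Finsupp.coe_add, Pi.add_apply]
      rw [Nat.Prime.factorization_self (by norm_num), Nat.factorization_eq_zero_of_not_dvd (by
        rcases he with rfl | rfl <;> norm_num)]
    rw [P.card_eq_multiplicity, hfac, pow_one]
  haveI : IsCyclic P := isCyclic_of_prime_card hP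
  obtain ⟨⟨σ, hσP⟩, hσ⟩ := IsCyclic.exists_generator (α := P)
  have hzp : (P : Subgroup G) = zpowers σ := by
    refine le_antisymm (fun x hx => ?_) (zpowers_le.2 hσP)
    obtain ⟨i, hi⟩ := hσ ⟨x, hx⟩
    exact ⟨i, congrArg Subtype.val hi⟩
  have hσo : orderOf σ = 17 := by
    have : Nat.card (P : Subgroup G) = 17 := hP
    rwa [hzp, Nat.card_zpowers] at this
  -- `P` is regular on the cosets, so self-centralising
  have hfree : ∀ x ∈ (P : Subgroup G), ∀ c : G ⧸ N, x • c = c → x = 1 := by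
    intro x hx c hc
    obtain ⟨g, rfl⟩ := QuotientGroup.mk_surjective c
    have h1 : g⁻¹ * x * g ∈ N := by
      have h' : ((x * g : G) : G ⧸ N) = (g : G ⧸ N) := hc
      have := inv_mem (QuotientGroup.eq.1 h')
      rwa [show ((x * g)⁻¹ * g)⁻¹ = g⁻¹ * x * g by group] at this
    have ho : orderOf (g⁻¹ * x * g) = orderOf x := by
      rw [show g⁻¹ * x * g = g⁻¹ * x * g⁻¹⁻¹ by group, Basic.orderOf_conj]
    have h17 : orderOf x ∣ 17 := hP ▸ (P : Subgroup G).orderOf_dvd_natCard hx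
    rcases (Nat.dvd_prime (by norm_num)).1 h17 with e1 | e1
    · exact orderOf_eq_one_iff.1 e1
    · exfalso
      have := N.orderOf_dvd_natCard h1
      rw [ho, e1, hNc] at this
      rcases he with rfl | rfl <;> norm_num at this
  have hreg : ∀ c : G ⧸ N, ∃ x ∈ (P : Subgroup G), x • ((1 : G) : G ⧸ N) = c := by
    have hbij : Function.Bijective fun x : (P : Subgroup G) => (x : G) • ((1 : G) : G ⧸ N) := by
      refine (Nat.bijective_iff_injective_and_card _).2 ⟨fun x y exy => ?_, ?_⟩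
      · have := hfree _ (mul_mem (inv_mem x.2) y.2) ((1 : G) : G ⧸ N) (by
          rw [mul_smul, ← show (x : G) • ((1 : G) : G ⧸ N) = (y : G) • ((1 : G) : G ⧸ N) from exy,
            inv_smul_smul])
        exact Subtype.ext (inv_mul_eq_one.1 this)
      · rw [show Nat.card (G ⧸ N) = 17 from hN]; exact hP
    intro c
    obtain ⟨x, hx⟩ := hbij.2 c
    exact ⟨x, x.2, hx⟩
  have hC : centralizer ((P : Subgroup G) : Set G) = (P : Subgroup G) := by
    refine le_antisymm (fun g hg => ?_) ?_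
    · obtain ⟨x, hx, hxe⟩ := hreg (g • ((1 : G) : G ⧸ N))
      set k := x⁻¹ * g with hk
      have hkc : k ∈ centralizer ((P : Subgroup G) : Set G) := by
        refine mul_mem (mem_centralizer_iff.2 fun y hy => ?_) hg
        rw [hzp] at hy hx
        obtain ⟨i, rfl⟩ := hy
        obtain ⟨j, rfl⟩ := hx
        exact ((Commute.refl σ).zpow_zpow i j).inv_right.eq
      have hfix : k • ((1 : G) : G ⧸ N) = ((1 : G) : G ⧸ N) := by
        rw [hk, mul_smul, ← hxe, inv_smul_smul]
      have hall : k ∈ N.normalCore := by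
        rw [Subgroup.normalCore_eq_ker, MonoidHom.mem_ker]
        refine Equiv.ext fun c => ?_
        show k • c = c
        obtain ⟨y, hy, rfl⟩ := hreg c
        rw [smul_smul, ← mem_centralizer_iff.1 hkc y hy, mul_smul, hfix]
      rw [hcore, Subgroup.mem_bot, hk, inv_mul_eq_one] at hall
      rwa [← hall]
    · intro y hy
      refine mem_centralizer_iff.2 fun z hz => ?_
      rw [hzp] at hy hz
      obtain ⟨i, rfl⟩ := hy
      obtain ⟨j, rfl⟩ := hz
      exact ((Commute.refl σ).zpow_zpow j i).eq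
  -- the automorphisms induced by `N(P)`
  set M := normalizer ((P : Subgroup G) : Set G) with hM
  set ψ := (P : Subgroup G).normalizerMonoidHom with hψ
  have hker : Nat.card ψ.ker = 17 := by
    rw [hψ, Subgroup.normalizerMonoidHom_ker, hC,
      Nat.card_congr (subgroupOfEquivOfLe (Subgroup.le_normalizer)).toEquiv]
    exact hP
  have hMc : Nat.card M = Nat.card ψ.range * 17 := by
    rw [Subgroup.card_eq_card_quotient_mul_card_subgroup ψ.ker, hker,
      Nat.card_congr (QuotientGroup.quotientKerEquivRange ψ).toEquiv]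
  haveI : IsCyclic (ZMod (Nat.card (P : Subgroup G)))ˣ := by
    rw [show Nat.card (P : Subgroup G) = 17 from hP]; infer_instance
  haveI : IsCyclic (MulAut (P : Subgroup G)) :=
    isCyclic_of_injective (IsCyclic.mulAutMulEquiv (P : Subgroup G)).toMonoidHom
      (IsCyclic.mulAutMulEquiv (P : Subgroup G)).injective
  have h16 : Nat.card ψ.range ∣ 16 := by
    refine (Subgroup.card_subgroup_dvd_card _).trans (dvd_of_eq ?_)
    rw [Nat.card_congr (IsCyclic.mulAutMulEquiv (P : Subgroup G)).toEquiv,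
      show Nat.card (P : Subgroup G) = 17 from hP, Nat.card_eq_fintype_card, ZMod.card_units]
  have h8 : 8 ∣ Nat.card ψ.range := by
    have hn := card_sylow_modEq_one 17 G
    rw [P.card_eq_index_normalizer] at hn
    have hidx := M.card_mul_index
    rw [hMc, hG] at hidx
    change M.index % 17 = 1 % 17 at hn
    have hidx' : Nat.card ψ.range * M.index = 960 * e := by
      refine Nat.eq_of_mul_eq_mul_left (show 0 < 17 by norm_num) ?_
      rw [← hidx]; ring
    obtain ⟨k, hk, hd⟩ := (Nat.dvd_prime_pow Nat.prime_two).1 (show Nat.card ψ.range ∣ 2 ^ 4 from h16)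
    rw [hd] at hidx' ⊢
    rcases he with rfl | rfl <;> interval_cases k <;> omega
  obtain ⟨τ, hτ⟩ := IsCyclic.exists_generator (α := ψ.range)
  have hτo : orderOf (τ : MulAut (P : Subgroup G)) = Nat.card ψ.range := by
    rw [Subgroup.orderOf_coe, orderOf_eq_card_of_forall_mem_zpowers hτ]
  obtain ⟨g, hg⟩ := τ.2
  have h8g : 8 ∣ orderOf (g : G) := by
    rw [Subgroup.orderOf_coe]
    refine h8.trans ?_
    rw [← hτo, ← hg]
    exact orderOf_map_dvd ψ g
  obtain ⟨m, hm⟩ := h8g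
  refine ⟨(g : G) ^ m, ?_⟩
  rw [orderOf_pow, hm, Nat.gcd_mul_left_left, Nat.mul_div_cancel _ (by
    rcases Nat.eq_zero_or_pos m with rfl | h
    · exact absurd hm (by simpa using (orderOf_pos (g : G)).ne')
    · exact h)]

variable {S : Sylow 2 G} {R A : Subgroup G}

namespace Shape

variable (h : Shape (S : Subgroup G) R A)
include h

/-- An element of a group of this type has no order 8. -/
theorem no_order_eight {g : G} : orderOf g ≠ 8 := by
  haveI : Fact (Nat.Prime 2) := ⟨Nat.prime_two⟩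
  intro hg
  have hp : IsPGroup 2 (zpowers g) := IsPGroup.of_card (n := 3) (by rw [Nat.card_zpowers, hg]; rfl)
  obtain ⟨Q, hQ⟩ := hp.exists_le_sylow
  obtain ⟨c, hc⟩ := MulAction.exists_smul_eq G Q S
  set u := c * g * c⁻¹ with hu
  have huS : u ∈ (S : Subgroup G) := by
    rw [← hc, Sylow.coe_subgroup_smul]
    exact ⟨g, hQ (mem_zpowers g), rfl⟩
  have h2 := h.sq u huS
  have h4 : u ^ 4 = 1 := by
    rw [show (4 : ℕ) = 2 * 2 from rfl, pow_mul, pow_two, pow_two, h.R_sq _ h2.1]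
  have := orderOf_dvd_of_pow_eq_one h4
  rw [hu, Basic.orderOf_conj, hg] at this
  norm_num at this

section

variable (hns : ∀ n ∈ normalizer (R : Set G), ∀ z ∈ R ⊓ A, n * z * n⁻¹ ∈ A)
include hns

/-- The middle involution of a pair from the classes of `z` and `r` is in one of the two. -/
theorem middle_cases (hf : Fused A) {z r : G} (hz : z ∈ R ⊓ A) (hz1 : z ≠ 1) (hr : r ∈ R)
    (hrA : r ∉ A) (p q : G) (hp : IsConj z p) (hq : IsConj r q) :
    IsConj z ((p * q) ^ (orderOf (p * q) / 2)) ∨ IsConj r ((p * q) ^ (orderOf (p * q) / 2)) := by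
  have oz : orderOf z = 2 := Basic.orderOf_two_iff.2 ⟨h.R_sq z hz.1, hz1⟩
  have or₂ : orderOf r = 2 := Basic.orderOf_two_iff.2 ⟨h.R_sq r hr, fun e => hrA (e ▸ one_mem A)⟩
  have hnc : ¬ IsConj z r := h.not_isConj_A hns hr hrA hz.2
  have hcr := h.odd_cent hns hr hrA
  have op := Count.orderOf_of_isConj oz hp
  have oq := Count.orderOf_of_isConj or₂ hq
  obtain ⟨oi, cip, ciq⟩ := Basic.middle_involution op oq
    (Basic.even_orderOf_mul_of_not_isConj op oq fun hc => hnc (hp.trans (hc.trans hq.symm)))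
  set k := orderOf (p * q) / 2
  set i := (p * q) ^ k with hi
  obtain ⟨g, rfl⟩ := isConj_iff.1 hq
  have hirC : g⁻¹ * i * g ∈ centralizer ({r} : Set G) := mem_centralizer_singleton_iff.2 (by
    calc g⁻¹ * i * g * r = g⁻¹ * (i * (g * r * g⁻¹)) * g := by group
      _ = g⁻¹ * ((g * r * g⁻¹) * i) * g := by rw [ciq.eq]
      _ = r * (g⁻¹ * i * g) := by group)
  obtain ⟨c, hc, hcR⟩ := exists_conj_into_involution (by
    rw [show g⁻¹ * i * g * (g⁻¹ * i * g) = g⁻¹ * (i * i) * g by group, Basic.inv_sq_one oi, mul_one,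
      inv_mul_cancel]) hirC hcr
  set t := c⁻¹ * (g⁻¹ * i * g) * c with htdef
  set p' := c⁻¹ * g⁻¹ * p * (c⁻¹ * g⁻¹)⁻¹ with hp'def
  have hzp' : IsConj z p' := hp.trans (isConj_iff.2 ⟨c⁻¹ * g⁻¹, rfl⟩)
  have op' : orderOf p' = 2 := Count.orderOf_of_isConj oz hzp'
  have hct : c⁻¹ * r * c = r := by
    rw [mul_assoc, ← mem_centralizer_singleton_iff.1 hc, inv_mul_cancel_left]
  have ht' : t = (p' * r) ^ k := by
    rw [htdef, hp'def]
    conv_rhs => rw [← hct]
    rw [show c⁻¹ * g⁻¹ * p * (c⁻¹ * g⁻¹)⁻¹ * (c⁻¹ * r * c) =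
      c⁻¹ * g⁻¹ * (p * (g * r * g⁻¹)) * (c⁻¹ * g⁻¹)⁻¹ by group, conj_pow, ← hi]
    group
  have hti : IsConj t i := isConj_iff.2 ⟨g * c, by rw [htdef]; group⟩
  have ot : orderOf t = 2 := by
    rw [htdef, show c⁻¹ * (g⁻¹ * i * g) * c = (c⁻¹ * g⁻¹) * i * (c⁻¹ * g⁻¹)⁻¹ by group,
      Basic.orderOf_conj, oi]
  by_cases htA : t ∈ A
  · left
    obtain ⟨n, -, e⟩ := hf z hz.2 hz1 t htA (Basic.ne_one ot)
    exact (isConj_iff.2 ⟨n, e⟩).trans hti
  right
  have hp't : p' ∈ centralizer ({t} : Set G) := mem_centralizer_singleton_iff.2 (by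
    rw [htdef, hp'def]
    calc c⁻¹ * g⁻¹ * p * (c⁻¹ * g⁻¹)⁻¹ * (c⁻¹ * (g⁻¹ * i * g) * c)
        = c⁻¹ * g⁻¹ * (p * i) * (c⁻¹ * g⁻¹)⁻¹ := by group
      _ = c⁻¹ * g⁻¹ * (i * p) * (c⁻¹ * g⁻¹)⁻¹ := by rw [cip.eq]
      _ = _ := by group)
  obtain ⟨K, hK'⟩ := h.exists_kernel hns hcR htA
  haveI hKn : (K.subgroupOf (centralizer ({t} : Set G))).Normal :=
    normal_subgroupOf_of_le_normalizer hK'.norm
  have hp'K : p' ∈ K := by
    obtain ⟨d, hd, hdR⟩ :=
      exists_conj_into_involution (Basic.inv_sq_one op') hp't (h.odd_cent hns hcR htA)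
    obtain ⟨y, hy⟩ := isConj_iff.1 (hzp'.trans (isConj_iff.2 ⟨d⁻¹, rfl⟩))
    rw [inv_inv] at hy
    have hdA := h.conj_mem_A hns hz.2 (g := y) (hy.symm ▸ h.R_le hdR)
    have := (mem_normalizer_iff.1 (hK'.norm hd) _).1 (hK'.inf_le ⟨hdR, hy ▸ hdA⟩)
    rwa [show d * (d⁻¹ * p' * d) * d⁻¹ = p' by group] at this
  have hrC : r ∈ centralizer ({t} : Set G) := h.R_le_centralizer hcR hr
  let φ := QuotientGroup.mk' (K.subgroupOf (centralizer ({t} : Set G)))
  have hφp : φ ⟨p', hp't⟩ = 1 := (QuotientGroup.eq_one_iff _).2 (mem_subgroupOf.2 hp'K)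
  have e1 : φ ⟨t, mem_centralizer_singleton_iff.2 rfl⟩ = φ ⟨r, hrC⟩ ^ k := by
    rw [show (⟨t, mem_centralizer_singleton_iff.2 rfl⟩ : centralizer ({t} : Set G)) =
      (⟨p', hp't⟩ * ⟨r, hrC⟩) ^ k from Subtype.ext ht', map_pow, map_mul, hφp, one_mul]
  have hrr : φ ⟨r, hrC⟩ ^ 2 = 1 := by
    rw [← map_pow, show (⟨r, hrC⟩ : centralizer ({t} : Set G)) ^ 2 = 1 from
      Subtype.ext (by rw [pow_two]; exact h.R_sq r hr), map_one]
  have htr : t⁻¹ * r ∈ R ⊓ A := by
    rcases Nat.even_or_odd' k with ⟨j, hj | hj⟩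
    · rw [hj, pow_mul, hrr, one_pow] at e1
      exact absurd
        ((hK'.mem_iff t hcR).1 (mem_subgroupOf.1 ((QuotientGroup.eq_one_iff _).1 e1))) htA
    · rw [hj, pow_succ, pow_mul, hrr, one_pow, one_mul] at e1
      have h1 := mem_subgroupOf.1 (QuotientGroup.eq.1 e1)
      have hmem : t⁻¹ * r ∈ R := mul_mem (inv_mem hcR) hr
      exact mem_inf.2 ⟨hmem, (hK'.mem_iff _ hmem).1 h1⟩
  obtain ⟨s, -, hse⟩ := h.exists_conj_eq hcR htA htr
  rw [mul_inv_cancel_left] at hse
  exact (isConj_iff.2 ⟨s, hse⟩).symm.trans hti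

/-- Pairs with middle `r` lie in `H × H r`. -/
theorem pairs_mid_r {z r : G} (hz : z ∈ R ⊓ A) (hz1 : z ≠ 1) (hr : r ∈ R) (hrA : r ∉ A)
    {H : Subgroup G} (hH : Kernel R A r H) :
    Nat.card {p : G × G // IsConj z p.1 ∧ IsConj r p.2 ∧ r ∈ zpowers (p.1 * p.2)} ≤
      Nat.card {u : H // u * u = 1} * Nat.card {u : H // u * u = 1} := by
  have oz : orderOf z = 2 := Basic.orderOf_two_iff.2 ⟨h.R_sq z hz.1, hz1⟩
  have or₂ : orderOf r = 2 := Basic.orderOf_two_iff.2 ⟨h.R_sq r hr, fun e => hrA (e ▸ one_mem A)⟩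
  have hnc : ¬ IsConj z r := h.not_isConj_A hns hr hrA hz.2
  set C := centralizer ({r} : Set G) with hC
  haveI hHn : (H.subgroupOf C).Normal := normal_subgroupOf_of_le_normalizer hH.norm
  let φ := QuotientGroup.mk' (H.subgroupOf C)
  have hmem : ∀ p q : G, IsConj z p → IsConj r q → r ∈ zpowers (p * q) →
      p ∈ H ∧ p * p = 1 ∧ q * r ∈ H ∧ q * r * (q * r) = 1 := by
    intro p q hp hq hrm
    have op := Count.orderOf_of_isConj oz hp
    have oq := Count.orderOf_of_isConj or₂ hq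
    obtain ⟨-, cp, cq⟩ := Basic.middle_involution op oq
      (Basic.even_orderOf_mul_of_not_isConj op oq fun hc => hnc (hp.trans (hc.trans hq.symm)))
    set k := orderOf (p * q) / 2
    have hrk : r = (p * q) ^ k := OrderFormula.eq_middle or₂ hrm
    rw [← hrk] at cp cq
    have hpC : p ∈ C := mem_centralizer_singleton_iff.2 cp.eq.symm
    have hqC : q ∈ C := mem_centralizer_singleton_iff.2 cq.eq.symm
    have hpH : p ∈ H := by
      obtain ⟨d, hd, hdR⟩ :=
        exists_conj_into_involution (Basic.inv_sq_one op) hpC (h.odd_cent hns hr hrA)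
      obtain ⟨y, hy⟩ := isConj_iff.1 (hp.trans (isConj_iff.2 ⟨d⁻¹, rfl⟩))
      rw [inv_inv] at hy
      have hdA := h.conj_mem_A hns hz.2 (g := y) (hy.symm ▸ h.R_le hdR)
      have := (mem_normalizer_iff.1 (hH.norm hd) _).1 (hH.inf_le ⟨hdR, hy ▸ hdA⟩)
      rwa [show d * (d⁻¹ * p * d) * d⁻¹ = p by group] at this
    have hrC : r ∈ C := mem_centralizer_singleton_iff.2 rfl
    have hφp : φ ⟨p, hpC⟩ = 1 := (QuotientGroup.eq_one_iff _).2 (mem_subgroupOf.2 hpH)
    have hqq : φ ⟨q, hqC⟩ ^ 2 = 1 := by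
      rw [← map_pow, show (⟨q, hqC⟩ : C) ^ 2 = 1 from
        Subtype.ext (by rw [pow_two]; exact Basic.inv_sq_one oq), map_one]
    have e1 : φ ⟨r, hrC⟩ = φ ⟨q, hqC⟩ ^ k := by
      rw [show (⟨r, hrC⟩ : C) = (⟨p, hpC⟩ * ⟨q, hqC⟩) ^ k from Subtype.ext hrk, map_pow, map_mul,
        hφp, one_mul]
    refine ⟨hpH, Basic.inv_sq_one op, ?_, ?_⟩
    · rcases Nat.even_or_odd' k with ⟨j, hj | hj⟩
      · rw [hj, pow_mul, hqq, one_pow] at e1
        exact absurd
          ((hH.mem_iff r hr).1 (mem_subgroupOf.1 ((QuotientGroup.eq_one_iff _).1 e1))) hrA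
      · rw [hj, pow_succ, pow_mul, hqq, one_pow, one_mul] at e1
        have h1 : q⁻¹ * r ∈ H := mem_subgroupOf.1 (QuotientGroup.eq.1 e1.symm)
        rwa [inv_eq_of_mul_eq_one_right (Basic.inv_sq_one oq)] at h1
    · rw [show q * r * (q * r) = q * (r * q) * r by group, cq.eq, ← mul_assoc q q r,
        Basic.inv_sq_one oq, one_mul, h.R_sq r hr]
  rw [← Nat.card_prod]
  refine Nat.card_le_card_of_injective (fun p =>
    (⟨⟨p.1.1, (hmem _ _ p.2.1 p.2.2.1 p.2.2.2).1⟩, Subtype.ext (hmem _ _ p.2.1 p.2.2.1 p.2.2.2).2.1⟩,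
      ⟨⟨p.1.2 * r, (hmem _ _ p.2.1 p.2.2.1 p.2.2.2).2.2.1⟩,
        Subtype.ext (hmem _ _ p.2.1 p.2.2.1 p.2.2.2).2.2.2⟩)) fun p q e => ?_
  have e1 := congrArg (fun x => ((x.1.1 : H) : G)) e
  have e2 := congrArg (fun x => ((x.2.1 : H) : G)) e
  exact Subtype.ext (Prod.ext e1 (mul_right_cancel e2))

end

end Shape

/-- A simple group does not have exactly one fused side. -/
theorem not_oneFused [IsSimpleGroup G] (hK : KleinEmbedded.{u}) (h : Shape (S : Subgroup G) R A)
    (hf : Fused A) (hns : ∀ n ∈ normalizer (R : Set G), ∀ z ∈ R ⊓ A, n * z * n⁻¹ ∈ A) : False := by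
  haveI : Fact (Nat.Prime 2) := ⟨Nat.prime_two⟩
  have hAbot : A ≠ ⊥ := fun e => by
    have h16 := h.A_card
    rw [e, Subgroup.card_bot] at h16
    omega
  obtain ⟨W, hWodd, hNW, hcW, hCW⟩ := exists_signalizer_closure A h.A_sq
    (by rw [h.A_card]; norm_num) h.odd_cent_self (fun u hu hu1 => by
      obtain ⟨z, hz, hz1⟩ := h.exists_inf_ne_one
      obtain ⟨n, hn, e⟩ := hf u hu hu1 z hz.2 hz1
      exact h.cent_cover_A hn (e ▸ hz) hu1)
  by_cases hW : W = ⊥
  swap
  · have hM : normalizer (W : Set G) ≠ ⊤ := by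
      intro e
      rcases IsSimpleGroup.eq_bot_or_eq_top_of_normal W (Subgroup.normalizer_eq_top_iff.1 e) with e1 | e1
      · exact hW e1
      · have h2 : 2 ∣ Nat.card G := Dvd.dvd.trans ⟨32, h.card_S.trans (by norm_num)⟩
          (card_subgroup_dvd_card (S : Subgroup G))
        rw [e1, Subgroup.card_top] at hWodd
        exact absurd (even_iff_two_dvd.2 h2) (Nat.not_even_iff_odd.2 hWodd)
    obtain ⟨r, hr, hrA, hnle⟩ := h.exists_cent_not_le hns hNW hCW hf hM
    exact hnle (h.cent_le_norm hns hK hWodd hNW hcW hCW hr hrA)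
  -- trivial signalizer closure
  have hca : ∀ a ∈ A, a ≠ 1 → core (centralizer ({a} : Set G)) = ⊥ := fun a ha ha1 =>
    le_bot_iff.1 ((hcW a ha ha1).trans hW.le)
  set N := normalizer (A : Set G) with hN
  have hCA : ∀ a ∈ A, a ≠ 1 → centralizer ({a} : Set G) ≤ N := fun a ha ha1 k hk => by
    obtain ⟨z, hz, hz1⟩ := h.exists_inf_ne_one
    obtain ⟨n, hn, e⟩ := hf a ha ha1 z hz.2 hz1
    obtain ⟨o, ho, m, hm, rfl⟩ := h.cent_cover_A hn (e ▸ hz) ha1 k hk
    rw [hca a ha ha1, Subgroup.mem_bot] at ho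
    rw [ho, one_mul]
    exact hm
  have hNtop : N ≠ ⊤ := fun e => not_normal_of_simple h.symm hAbot (by rw [h.A_card]; norm_num)
    (Subgroup.normalizer_eq_top_iff.1 e)
  obtain ⟨r, hr, hrA, hnle⟩ := h.exists_cent_not_le hns le_rfl hCA hf hNtop
  obtain ⟨H, hH⟩ := h.exists_kernel hns hr hrA
  have hF := h.five_type hns le_rfl hCA hr hrA hH hK hnle
  have hcz : ∀ z ∈ R ⊓ A, z ≠ 1 → core (centralizer ({z} : Set G)) = ⊥ :=
    fun z hz hz1 => hca z hz.2 hz1
  obtain ⟨z, hz, hz1⟩ := h.exists_inf_ne_one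
  obtain ⟨hcr, hinv⟩ := h.kernel_small hns hr hrA hH hF hcz
  obtain ⟨e, he, he3, hce⟩ := h.cent_card hcz hz hz1
  have hNc := h.norm_A_card hcz hz hz1 hf
  rw [hce] at hNc
  have hG := two_class_count (Basic.orderOf_two_iff.2 ⟨h.R_sq z hz.1, hz1⟩)
    (Basic.orderOf_two_iff.2 ⟨h.R_sq r hr, fun e => hrA (e ▸ one_mem A)⟩)
    (h.not_isConj_A hns hr hrA hz.2) (h.middle_cases hns hf hz hz1 hr hrA)
  have hnz := h.pairs_mid_z hns hcz hz hz1 hr hrA
  have hnr := (h.pairs_mid_r hns hz hz1 hr hrA hH).trans (Nat.mul_le_mul hinv hinv)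
  rw [hce, ← N.card_mul_index, hNc] at hG
  have hle : 15 * (64 * e) * N.index ≤ 240 * 48 + 64 * e * (16 * 16) := by
    rw [hG]; gcongr
  -- `A` is semiregular on the other cosets
  have hstab : ∀ g : G, ∀ a ∈ A, a ≠ 1 → g⁻¹ * a * g ∈ N → g ∈ N := by
    intro g a ha ha1 hga
    have hodd : Odd ((S : Subgroup G).relIndex N) := by
      rw [Nat.odd_iff]
      have h1 : ¬ 2 ∣ (S : Subgroup G).relIndex N := fun e =>
        S.not_dvd_index (e.trans (relIndex_dvd_index_of_le h.le_norm_A))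
      omega
    obtain ⟨k, hk, hkS⟩ := exists_conj_into_involution (by
      rw [show g⁻¹ * a * g * (g⁻¹ * a * g) = g⁻¹ * (a * a) * g by group, h.A_sq a ha, mul_one,
        inv_mul_cancel]) hga hodd
    rw [show k⁻¹ * (g⁻¹ * a * g) * k = k⁻¹ * g⁻¹ * a * (k⁻¹ * g⁻¹)⁻¹ by group] at hkS
    have hb := h.conj_mem_A hns ha hkS
    obtain ⟨n, hn, e⟩ := hf a ha ha1 _ hb (fun e => ha1 (conj_eq_one_iff.1 e))
    have hmem : n⁻¹ * (k⁻¹ * g⁻¹) ∈ centralizer ({a} : Set G) :=
      mem_centralizer_singleton_iff.2 (by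
        calc n⁻¹ * (k⁻¹ * g⁻¹) * a
            = n⁻¹ * (k⁻¹ * g⁻¹ * a * (k⁻¹ * g⁻¹)⁻¹) * (k⁻¹ * g⁻¹) := by group
          _ = a * (n⁻¹ * (k⁻¹ * g⁻¹)) := by rw [← e]; group)
    have h1 := mul_mem hn (hCA a ha ha1 hmem)
    rw [mul_inv_cancel_left] at h1
    simpa using mul_mem (inv_mem h1) (inv_mem hk)
  have h16 : N.index % 16 = 1 := by
    classical
    haveI := Fintype.ofFinite (G ⧸ N)
    let X := {c : G ⧸ N // c ≠ ((1 : G) : G ⧸ N)}
    have hfixone : ∀ g ∈ A, g • ((1 : G) : G ⧸ N) = ((1 : G) : G ⧸ N) := fun g hg => by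
      show ((g * 1 : G) : G ⧸ N) = _
      rw [QuotientGroup.eq, mul_one, mul_one]
      exact inv_mem (Subgroup.le_normalizer hg)
    letI : MulAction A X :=
      { smul := fun a c => ⟨(a : G) • c.1, fun e => c.2 (by
          rw [← inv_smul_smul (a : G) c.1, e]; exact hfixone _ (inv_mem a.2))⟩
        one_smul := fun c => Subtype.ext (one_smul G c.1)
        mul_smul := fun a b c => Subtype.ext (mul_smul (a : G) b c.1) }
    have hfree : ∀ x : X, MulAction.stabilizer A x = ⊥ := by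
      intro x
      refine (Subgroup.eq_bot_iff_forall _).2 fun a ha => ?_
      by_contra ha1
      obtain ⟨g, hg⟩ := QuotientGroup.mk_surjective x.1
      have e : ((((a : G) * g : G)) : G ⧸ N) = (g : G ⧸ N) := by
        have := congrArg Subtype.val ha
        change (a : G) • x.1 = x.1 at this
        rwa [← hg] at this
      have h1 : g⁻¹ * (a : G) * g ∈ N := by
        have := inv_mem (QuotientGroup.eq.1 e)
        rwa [show (((a : G) * g)⁻¹ * g)⁻¹ = g⁻¹ * (a : G) * g by group] at this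
      have hgN := hstab g a a.2 (fun e => ha1 (Subtype.ext e)) h1
      exact x.2 (by rw [← hg, QuotientGroup.eq, mul_one]; exact inv_mem hgN)
    haveI := Fintype.ofFinite X
    haveI := Fintype.ofFinite A
    have hdvd : 16 ∣ Nat.card X := by
      rw [Nat.card_congr (MulAction.selfEquivSigmaOrbitsQuotientStabilizer A X), Nat.card_sigma]
      refine Finset.dvd_sum fun o _ => ?_
      rw [show Nat.card (A ⧸ MulAction.stabilizer A (Quotient.out o)) =
        (MulAction.stabilizer A (Quotient.out o)).index from rfl, hfree, Subgroup.index_bot, h.A_card]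
    have hX : Nat.card X = N.index - 1 := by
      rw [Nat.card_eq_fintype_card, Fintype.card_subtype_compl, Fintype.card_subtype_eq,
        ← Nat.card_eq_fintype_card]
      rfl
    have hpos : 0 < N.index := Nat.pos_of_ne_zero N.index_ne_zero_of_finite
    omega
  have hne : N.index ≠ 1 := fun e => hNtop (Subgroup.index_eq_one.1 e)
  have hlt : N.index < 33 := by
    by_contra hge
    push Not at hge
    have : 15 * (64 * e) * 33 ≤ 15 * (64 * e) * N.index := Nat.mul_le_mul_left _ hge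
    obtain ⟨j, rfl⟩ := he
    omega
  have h17 : N.index = 17 := by omega
  have hcore : N.normalCore = ⊥ :=
    (IsSimpleGroup.eq_bot_or_eq_top_of_normal _ inferInstance).resolve_right fun e =>
      hNtop (top_le_iff.1 (e ▸ Subgroup.normalCore_le N))
  obtain ⟨g, hg⟩ := exists_order_eight h17 hcore (e := e) (by obtain ⟨j, rfl⟩ := he; omega)
    (by rw [hNc]; ring)
  exact h.no_order_eight hg

end Cfsg.Agent.L34Type
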