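import Cfsg.Agent.Lib.L34Type.OneFused
import Cfsg.Agent.Lib.L34Type.KleinAut
import Cfsg.Agent.Lib.L34Type.Interface

/-!
# Sylow 2-subgroups of type `L₃(4)`: the large centralisers in the case of one fused side

If `C(r)` is outside `M`, its kernel is of type `A₅` modulo the core; hence `C(r)` normalises the
signalizer closure.
-/

set_option autoImplicit false
set_option linter.style.haveILetI false
set_option linter.unusedSectionVars false

namespace Cfsg.Agent.L34Type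

open Subgroup Cfsg.Agent.CIT Cfsg.Agent.Involutions
open Cfsg.Agent.StronglyClosedFour (core core_le core_odd le_normalizer_core eq_one_of_two_group
  normalizer_le_normalizer_core exists_conj_into odd_orderOf_of_mem odd_mem_of_index_two)
open scoped Pointwise

universe u

variable {G : Type u} [Group G] [Finite G] {S : Sylow 2 G} {R A : Subgroup G}

theorem mem_core_iff {K : Subgroup G} {x : G} (hx : x ∈ K) :
    x ∈ core K ↔ (⟨x, hx⟩ : K) ∈ Cfsg.oddCore K :=
  ⟨fun ⟨_, hy, e⟩ => (Subtype.ext e : _ = (⟨x, hx⟩ : K)) ▸ hy, fun h => ⟨_, h, rfl⟩⟩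

/-- The image of `R ⊓ A` in `H / O(H)`. -/
abbrev Zbar (R A H : Subgroup G) : Subgroup (H ⧸ Cfsg.oddCore H) :=
  ((R ⊓ A).subgroupOf H).map (QuotientGroup.mk' (Cfsg.oddCore H))

/-- `H / O(H)` looks like the alternating group of degree 5 around the image of `R ⊓ A`. -/
structure FiveType (R A H : Subgroup G) : Prop where
  card : Nat.card (H ⧸ Cfsg.oddCore H) = 60
  card_Z : Nat.card (Zbar R A H) = 4
  sq : ∀ v ∈ Zbar R A H, v * v = 1
  cent : ∀ v ∈ Zbar R A H, v ≠ 1 → centralizer ({v} : Set (H ⧸ Cfsg.oddCore H)) = Zbar R A H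
  norm : Nat.card (normalizer (Zbar R A H : Set (H ⧸ Cfsg.oddCore H))) = 12

namespace Shape

variable (h : Shape (S : Subgroup G) R A)
include h

theorem inf_inter_core {H : Subgroup G} {w : G} (hw : w ∈ R ⊓ A) (hwc : w ∈ core H) : w = 1 :=
  eq_one_of_two_group (core_odd H) h.R_isPGroup hwc hw.1

/-- An odd element of `H` centralising an involution of `R ⊓ A` lies in the core. -/
theorem kernel_cent {r : G} {H : Subgroup G} (hH : Kernel R A r H) (hF : FiveType R A H) {z : G}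
    (hz : z ∈ R ⊓ A) (hz1 : z ≠ 1) {x : G} (hx : x ∈ H) (hxz : x * z = z * x)
    (hodd : Odd (orderOf x)) : x ∈ core H := by
  set φ := QuotientGroup.mk' (Cfsg.oddCore H) with hφ
  have hzH : z ∈ H := hH.inf_le hz
  have hv : φ ⟨z, hzH⟩ ∈ Zbar R A H := mem_map_of_mem φ (mem_subgroupOf.2 hz)
  have hv1 : φ ⟨z, hzH⟩ ≠ 1 := fun e =>
    hz1 (h.inf_inter_core hz ((mem_core_iff hzH).2 ((QuotientGroup.eq_one_iff _).1 e)))
  have hmem : φ ⟨x, hx⟩ ∈ Zbar R A H := by
    rw [← hF.cent _ hv hv1, mem_centralizer_singleton_iff, ← map_mul, ← map_mul]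
    exact congrArg φ (Subtype.ext hxz)
  obtain ⟨j, hj⟩ := hodd
  have h1 : φ ⟨x, hx⟩ ^ (2 * j + 1) = 1 := by
    rw [← map_pow, ← hj]
    exact (congrArg φ (Subtype.ext (pow_orderOf_eq_one x))).trans (map_one φ)
  rw [pow_succ, pow_mul, pow_two, hF.sq _ hmem, one_pow, one_mul] at h1
  exact (mem_core_iff hx).2 ((QuotientGroup.eq_one_iff _).1 h1)

section

variable (hns : ∀ n ∈ normalizer (R : Set G), ∀ z ∈ R ⊓ A, n * z * n⁻¹ ∈ A)
include hns

section

variable {M : Subgroup G} (hNA : normalizer (A : Set G) ≤ M)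
  (hCM : ∀ a ∈ A, a ≠ 1 → centralizer ({a} : Set G) ≤ M)
  {r : G} (hr : r ∈ R) (hrA : r ∉ A) {H : Subgroup G} (hH : Kernel R A r H)
include hNA hCM hr hrA hH

/-- The core of the kernel lies in `M`. -/
theorem core_kernel_le : core H ≤ M :=
  h.odd_le hns hr hrA ((core_le H).trans hH.le) (hH.inf_le.trans (le_normalizer_core H)) (core_odd H)
    fun z hz hz1 => (core_le _).trans (hCM z hz.2 hz1)

/-- A centraliser outside `M`: the quotient of its kernel. -/
theorem five_type (hK : KleinEmbedded.{u}) (hnM : ¬ centralizer ({r} : Set G) ≤ M) :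
    FiveType R A H := by
  haveI : Fact (Nat.Prime 2) := ⟨Nat.prime_two⟩
  have hcH := h.core_kernel_le hns hNA hCM hr hrA hH
  have hRM : normalizer (R : Set G) ≤ M := h.norm_R_le hns hNA hCM
  obtain ⟨z₀, hz₀, hz₀1⟩ := h.exists_inf_ne_one
  have hZM : R ⊓ A ≤ M := fun w hw => hNA (Subgroup.le_normalizer hw.2)
  -- `C(r)` is not covered
  have hone : ∀ s t : H, orderOf s = 2 → orderOf t = 2 → IsConj s t := by
    refine ((h.covered_or_wide hns hr hrA hH).resolve_left fun hcov => hnM ?_).1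
    have hc : core (centralizer ({r} : Set G)) ≤ M :=
      h.odd_le hns hr hrA (core_le _)
        ((inf_le_left.trans (h.R_le_centralizer hr)).trans (le_normalizer_core _)) (core_odd _)
        fun z hz hz1 => (core_le _).trans (hCM z hz.2 hz1)
    intro k hk
    obtain ⟨o, ho, n, hn, rfl⟩ := hcov k hk
    exact mul_mem (hc ho) (hRM hn)
  set φ := QuotientGroup.mk' (Cfsg.oddCore H) with hφ
  have hφs : Function.Surjective φ := QuotientGroup.mk'_surjective _
  have hdiff : ∀ x y : H, φ x = φ y → ((x : G))⁻¹ * (y : G) ∈ core H := fun x y e =>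
    ⟨x⁻¹ * y, QuotientGroup.eq.1 e, rfl⟩
  have hsq : ∀ v ∈ Zbar R A H, v * v = 1 := by
    rintro _ ⟨w, hw, rfl⟩
    rw [← map_mul]
    exact (congrArg φ (Subtype.ext (h.R_sq _ (mem_subgroupOf.1 hw).1))).trans (map_one φ)
  have hZ4 : Nat.card (Zbar R A H) = 4 := by
    rw [← h.inf_card, ← Nat.card_congr (subgroupOfEquivOfLe hH.inf_le).toEquiv]
    refine (Nat.card_congr (Equiv.ofBijective
      (fun w : (R ⊓ A).subgroupOf H => (⟨φ w, mem_map_of_mem φ w.2⟩ : Zbar R A H)) ⟨?_, ?_⟩)).symm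
    · intro w w' e
      have e' := hdiff w w' (congrArg Subtype.val e)
      exact Subtype.ext (Subtype.ext (inv_mul_eq_one.1 (h.inf_inter_core
        (mul_mem (inv_mem (mem_subgroupOf.1 w.2)) (mem_subgroupOf.1 w'.2)) e')))
    · rintro ⟨_, w, hw, rfl⟩
      exact ⟨⟨w, hw⟩, rfl⟩
  have hoddZ : Odd (Zbar R A H).index := by
    refine Odd.of_dvd_nat ?_ (Subgroup.index_map_dvd _ hφs)
    exact hH.odd
  -- the class is lifted
  have hlift : ∀ s : H ⧸ Cfsg.oddCore H, orderOf s = 2 → ∃ t : H, orderOf t = 2 ∧ φ t = s := by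
    intro s hs
    obtain ⟨x, rfl⟩ := hφs s
    have hx2 : x * x ∈ Cfsg.oddCore H := by
      rw [← QuotientGroup.eq_one_iff]
      show φ (x * x) = 1
      rw [map_mul, ← pow_two, ← hs, pow_orderOf_eq_one]
    obtain ⟨j, hj⟩ := (Cores.oddCore_odd (G := H)).of_dvd_nat
      ((Cfsg.oddCore H).orderOf_dvd_natCard hx2)
    have e : φ (x ^ (2 * j + 1)) = φ x := by
      rw [map_pow, pow_succ, pow_mul, ← hs, pow_orderOf_eq_one, one_pow, one_mul]
    refine ⟨x ^ (2 * j + 1), Basic.orderOf_two_iff.2 ⟨?_, fun e1 => ?_⟩, e⟩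
    · rw [← pow_add, show 2 * j + 1 + (2 * j + 1) = 2 * (2 * j + 1) by ring, pow_mul, pow_two, ← hj,
        pow_orderOf_eq_one]
    · rw [e1, map_one] at e
      rw [← e, orderOf_one] at hs
      omega
  have hone' : ∀ s t : H ⧸ Cfsg.oddCore H, orderOf s = 2 → orderOf t = 2 → IsConj s t := by
    intro s t hs ht
    obtain ⟨s', hs', rfl⟩ := hlift s hs
    obtain ⟨t', ht', rfl⟩ := hlift t ht
    exact MonoidHom.map_isConj φ (hone s' t' hs' ht')
  set Mbar := (M.subgroupOf H).map φ with hMbar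
  -- normalisers and centralisers in `M`
  have hNZ : normalizer (Zbar R A H : Set (H ⧸ Cfsg.oddCore H)) ≤ Mbar := by
    intro s hs
    obtain ⟨x, rfl⟩ := hφs s
    refine mem_map_of_mem φ (mem_subgroupOf.2 ?_)
    set K := core H ⊔ (R ⊓ A) with hKdef
    have hKH : K ≤ H := sup_le (core_le H) hH.inf_le
    obtain ⟨c, hc, hcZ⟩ := exists_conj_into (K := K) (T := R ⊓ A)
      (B := (R ⊓ A).map (MulAut.conj (x : G)).toMonoidHom) ((h.R_isPGroup.to_le inf_le_left).map _)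
      (by
        rintro _ ⟨w, hw, rfl⟩
        show (x : G) * w * (x : G)⁻¹ ∈ K
        have hmem : φ (x * ⟨w, hH.inf_le hw⟩ * x⁻¹) ∈ Zbar R A H := by
          rw [map_mul, map_mul, map_inv]
          exact (mem_normalizer_iff.1 hs _).1 (mem_map_of_mem φ (mem_subgroupOf.2 hw))
        obtain ⟨w', hw', e⟩ := hmem
        have e' := hdiff _ _ e
        have := mul_mem (mem_sup_right (S := core H) (mem_subgroupOf.1 hw'))
          (mem_sup_left (T := R ⊓ A) e')
        rwa [mul_inv_cancel_left] at this)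
      (hH.odd.of_dvd_nat (relIndex_dvd_relIndex le_sup_right hKH))
    have hcM : c ∈ M := (sup_le hcH hZM : K ≤ M) hc
    set n := c⁻¹ * (x : G) with hn
    have hnH : n ∈ centralizer ({r} : Set G) := hH.le (mul_mem (inv_mem (hKH hc)) x.2)
    have hnN : n ∈ normalizer ((R ⊓ A : Subgroup G) : Set G) :=
      CIT.mem_normalizer_of_forall fun w hw => by
        have := hcZ _ ⟨w, hw, rfl⟩
        change c⁻¹ * ((x : G) * w * (x : G)⁻¹) * c ∈ R ⊓ A at this
        rwa [hn, conj_comp, inv_inv]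
    set D := centralizer ((R ⊓ A : Subgroup G) : Set G) ⊓ centralizer ({r} : Set G) with hD
    have hRD : R ≤ D := le_inf
      (fun t ht => mem_centralizer_iff.2 fun w hw => h.R_comm hw.1 ht) (h.R_le_centralizer hr)
    obtain ⟨d, hd, hdR⟩ := exists_conj_into (K := D) (T := R)
      (B := R.map (MulAut.conj n).toMonoidHom) (h.R_isPGroup.map _)
      (by
        rintro _ ⟨y, hy, rfl⟩
        refine mem_inf.2 ⟨mem_centralizer_iff.2 fun w hw => ?_,
          mul_mem (mul_mem hnH (h.R_le_centralizer hr hy)) (inv_mem hnH)⟩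
        show w * (n * y * n⁻¹) = n * y * n⁻¹ * w
        calc w * (n * y * n⁻¹) = n * ((n⁻¹ * w * n) * y) * n⁻¹ := by group
          _ = n * (y * (n⁻¹ * w * n)) * n⁻¹ := by
            rw [h.R_comm ((mem_normalizer_iff''.1 hnN w).1 hw).1 hy]
          _ = n * y * n⁻¹ * w := by group)
      ((h.odd_cent hns hr hrA).of_dvd_nat (relIndex_dvd_relIndex hRD inf_le_right))
    have hdM : d ∈ M := hCM z₀ hz₀.2 hz₀1
      (mem_centralizer_singleton_iff.2 (mem_centralizer_iff.1 (mem_inf.1 hd).1 z₀ hz₀).symm)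
    have hdn : d⁻¹ * n ∈ normalizer (R : Set G) := CIT.mem_normalizer_of_forall fun y hy => by
      have := hdR _ ⟨y, hy, rfl⟩
      change d⁻¹ * (n * y * n⁻¹) * d ∈ R at this
      rwa [conj_comp, inv_inv]
    have := mul_mem hcM (mul_mem hdM (hRM hdn))
    rwa [mul_inv_cancel_left, hn, mul_inv_cancel_left] at this
  have hCz : ∀ v ∈ Zbar R A H, v ≠ 1 → centralizer ({v} : Set (H ⧸ Cfsg.oddCore H)) ≤ Mbar := by
    rintro _ ⟨w, hw, rfl⟩ hv1 s hs
    obtain ⟨x, rfl⟩ := hφs s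
    refine mem_map_of_mem φ (mem_subgroupOf.2 ?_)
    have hwZ := mem_subgroupOf.1 hw
    have hw1 : (w : G) ≠ 1 := fun e => hv1 (by rw [show w = 1 from Subtype.ext e, map_one])
    have hu : φ (x * w * x⁻¹) = φ w := by
      rw [map_mul, map_mul, map_inv, mem_centralizer_singleton_iff.1 hs, mul_inv_cancel_right]
    set u := (x : G) * w * (x : G)⁻¹ with hudef
    have hu2 : u * u = 1 := by
      rw [hudef, show (x : G) * w * (x : G)⁻¹ * ((x : G) * w * (x : G)⁻¹) =
        (x : G) * ((w : G) * w) * (x : G)⁻¹ by group, h.R_sq _ hwZ.1, mul_one, mul_inv_cancel]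
    obtain ⟨q, hq, hqe⟩ := exists_conj_of_fibre (core_odd H) hu2 (h.R_sq _ hwZ.1) (by
      have e' : u⁻¹ * (w : G) ∈ core H := hdiff _ _ hu
      rwa [inv_eq_of_mul_eq_one_right hu2] at e')
    have hmem : q⁻¹ * (x : G) ∈ centralizer ({(w : G)} : Set G) :=
      mem_centralizer_singleton_iff.2 (by
        calc q⁻¹ * (x : G) * w = q⁻¹ * u * x := by rw [hudef]; group
          _ = (w : G) * (q⁻¹ * x) := by rw [← hqe]; group)
    have := mul_mem (hcH hq) (hCM _ hwZ.2 hw1 hmem)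
    rwa [mul_inv_cancel_left] at this
  have hMtop : Mbar ≠ ⊤ := by
    intro e
    refine hnM fun k hk => ?_
    obtain ⟨k₀, hk₀, t, ht, rfl⟩ := hH.mul k hk
    refine mul_mem ?_ (hRM (Subgroup.le_normalizer ht))
    obtain ⟨m, hm, e'⟩ := (e.symm ▸ Subgroup.mem_top (φ ⟨k₀, hk₀⟩) : φ ⟨k₀, hk₀⟩ ∈ Mbar)
    have := mul_mem (mem_subgroupOf.1 hm) (hcH (hdiff _ _ e'))
    rwa [mul_inv_cancel_left] at this
  obtain ⟨h60, hc, h12⟩ := hK _ (Zbar R A H) Mbar hZ4 hsq hoddZ
    InvChar.Core.oddCore_quotient_oddCore_eq_bot hone' hNZ hCz hMtop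
  exact ⟨h60, hZ4, hsq, hc, h12⟩

end

/-- Every element of `R` acts on `H` modulo the core as an element of `R ⊓ A`. -/
theorem exists_twist {r : G} (hr : r ∈ R) {H : Subgroup G} (hH : Kernel R A r H)
    (hF : FiveType R A H) {t : G} (ht : t ∈ R) :
    ∃ w ∈ R ⊓ A, ∀ x ∈ H, t * w * x * (t * w)⁻¹ * x⁻¹ ∈ core H := by
  set φ := QuotientGroup.mk' (Cfsg.oddCore H) with hφ
  set e : MulAut H := H.normalizerMonoidHom ⟨t, hH.norm (h.R_le_centralizer hr ht)⟩ with he
  have hval : ∀ y : H, ((e y : H) : G) = t * y * t⁻¹ := fun _ => rfl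
  let α : MulAut (H ⧸ Cfsg.oddCore H) := QuotientGroup.congr (Cfsg.oddCore H) (Cfsg.oddCore H) e
    (InvChar.Core.map_pPrimeCore_equiv 2 e)
  have hα : ∀ y : H, α (φ y) = φ (e y) := fun _ => rfl
  obtain ⟨v, hv, hve⟩ := klein_aut hF.card_Z hF.sq hF.card hF.cent hF.norm
    InvChar.Core.oddCore_quotient_oddCore_eq_bot α (by
      rintro _ ⟨w, hw, rfl⟩
      rw [hα]
      exact congrArg φ (Subtype.ext (by
        rw [hval, h.R_comm ht (mem_subgroupOf.1 hw).1, mul_inv_cancel_right])))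
  obtain ⟨w, hw, rfl⟩ := hv
  refine ⟨w, mem_subgroupOf.1 hw, fun x hx => ?_⟩
  have hwv : φ w * φ w = 1 := hF.sq _ (mem_map_of_mem φ hw)
  have hkey : φ (e (w * ⟨x, hx⟩ * w⁻¹)) = φ ⟨x, hx⟩ := by
    rw [← hα, hve, map_mul, map_mul, map_inv, inv_eq_of_mul_eq_one_right hwv]
    calc φ w * (φ w * φ ⟨x, hx⟩ * φ w) * φ w = (φ w * φ w) * φ ⟨x, hx⟩ * (φ w * φ w) := by group
      _ = φ ⟨x, hx⟩ := by rw [hwv, one_mul, mul_one]
  refine ⟨e (w * ⟨x, hx⟩ * w⁻¹) * (⟨x, hx⟩ : H)⁻¹, ?_, ?_⟩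
  · show _ ∈ Cfsg.oddCore H
    rw [← QuotientGroup.eq_one_iff]
    show φ _ = 1
    rw [map_mul, map_inv, hkey, mul_inv_cancel]
  · show ((e (w * ⟨x, hx⟩ * w⁻¹) : H) : G) * x⁻¹ = _
    rw [hval]
    show t * ((w : G) * x * (w : G)⁻¹) * t⁻¹ * x⁻¹ = _
    group

/-- If the signalizer closure is there, the centralisers of the elements of `R \ A` normalise it. -/
theorem cent_le_norm (hK : KleinEmbedded.{u}) {W : Subgroup G} (hW : Odd (Nat.card W))
    (hNW : normalizer (A : Set G) ≤ normalizer (W : Set G))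
    (hcW : ∀ a ∈ A, a ≠ 1 → core (centralizer ({a} : Set G)) ≤ W)
    (hCW : ∀ a ∈ A, a ≠ 1 → centralizer ({a} : Set G) ≤ normalizer (W : Set G))
    {r : G} (hr : r ∈ R) (hrA : r ∉ A) : centralizer ({r} : Set G) ≤ normalizer (W : Set G) := by
  haveI : Fact (Nat.Prime 2) := ⟨Nat.prime_two⟩
  by_contra hnM
  have hcoreW : ∀ {x : G} (_ : x ∈ R) (_ : x ∉ A) {K : Subgroup G}, Kernel R A x K → core K ≤ W :=
    fun {x} hx hxA {K} hK' => h.odd_le hns hx hxA ((core_le K).trans hK'.le)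
      (hK'.inf_le.trans (le_normalizer_core K)) (core_odd K) fun z hz hz1 => hcW z hz.2 hz1
  have hRW : R ≤ normalizer (W : Set G) := h.R_le.trans (h.le_norm_A.trans hNW)
  -- in every `C(x)` the part of `W` is invariant
  have hloc : ∀ x ∈ R, x ∉ A → ∀ k ∈ centralizer ({x} : Set G), ∀ y ∈ W,
      y ∈ centralizer ({x} : Set G) → k * y * k⁻¹ ∈ W := by
    intro x hx hxA k hk y hy hyx
    by_cases hxM : centralizer ({x} : Set G) ≤ normalizer (W : Set G)
    · exact (mem_normalizer_iff.1 (hxM hk) y).1 hy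
    obtain ⟨K, hK'⟩ := h.exists_kernel hns hx hxA
    have hF := h.five_type hns hNW hCW hx hxA hK' hK hxM
    have hWx : W ⊓ centralizer ({x} : Set G) ≤ core K := by
      have hodd : Odd (Nat.card (W ⊓ centralizer ({x} : Set G) : Subgroup G)) :=
        hW.of_dvd_nat (Subgroup.card_dvd_of_le inf_le_left)
      refine le_of_cent_le (V := R ⊓ A) (fun v hv => h.R_sq v hv.1)
        (by rw [h.inf_card]; norm_num) (fun v hv => CIT.mem_normalizer_of_forall fun u hu =>
          mem_inf.2 ⟨(mem_normalizer_iff.1 (hRW hv.1) u).1 hu.1,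
            mul_mem (mul_mem (h.R_le_centralizer hx hv.1) hu.2)
              (inv_mem (h.R_le_centralizer hx hv.1))⟩) hodd ?_
      rintro z hz hz1 u ⟨hu, huz⟩
      have huo := odd_orderOf_of_mem hodd hu
      obtain ⟨j, hj⟩ := hK'.two
      exact h.kernel_cent hK' hF hz hz1 (odd_mem_of_index_two hK'.norm hj huo hu.2)
        (mem_centralizer_singleton_iff.1 huz) huo
    exact hcoreW hx hxA hK' ((mem_normalizer_iff.1
      (normalizer_le_normalizer_core _ (hK'.norm hk)) y).1 (hWx (mem_inf.2 ⟨hy, hyx⟩)))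
  obtain ⟨H, hH⟩ := h.exists_kernel hns hr hrA
  have hF := h.five_type hns hNW hCW hr hrA hH hK hnM
  have hHn : R ≤ normalizer (core H : Set G) :=
    (h.R_le_centralizer hr).trans (hH.norm.trans (normalizer_le_normalizer_core H))
  -- the elements of `R` acting trivially on `H` modulo the core
  let V : Subgroup G :=
    { carrier := {t | t ∈ R ∧ ∀ x ∈ H, t * x * t⁻¹ * x⁻¹ ∈ core H}
      one_mem' := ⟨one_mem R, fun x _ => by simp⟩
      mul_mem' := fun {s t} hs ht => ⟨mul_mem hs.1 ht.1, fun x hx => by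
        rw [show s * t * x * (s * t)⁻¹ * x⁻¹ =
          s * (t * x * t⁻¹ * x⁻¹) * s⁻¹ * (s * x * s⁻¹ * x⁻¹) by group]
        exact mul_mem ((mem_normalizer_iff.1 (hHn hs.1) _).1 (ht.2 x hx)) (hs.2 x hx)⟩
      inv_mem' := fun {s} hs => by rwa [Set.mem_setOf_eq, h.R_inv hs.1] }
  have hVmem : ∀ t, t ∈ V ↔ t ∈ R ∧ ∀ x ∈ H, t * x * t⁻¹ * x⁻¹ ∈ core H := fun t => Iff.rfl
  have hrV : r ∈ V := (hVmem r).2 ⟨hr, fun x hx => by
    rw [← mem_centralizer_singleton_iff.1 (hH.le hx), mul_inv_cancel_right, mul_inv_cancel]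
    exact one_mem _⟩
  have hVA : ∀ v ∈ V, v ∈ A → v = 1 := by
    intro v hv hvA
    by_contra hv1
    have hvH : v ∈ H := hH.inf_le ⟨hv.1, hvA⟩
    set φ := QuotientGroup.mk' (Cfsg.oddCore H)
    have hmem : φ ⟨v, hvH⟩ ∈ Zbar R A H := mem_map_of_mem φ (mem_subgroupOf.2 ⟨hv.1, hvA⟩)
    have hall : centralizer ({φ ⟨v, hvH⟩} : Set (H ⧸ Cfsg.oddCore H)) = ⊤ := by
      refine (eq_top_iff' _).2 fun s => ?_
      obtain ⟨x, rfl⟩ := QuotientGroup.mk'_surjective (Cfsg.oddCore H) s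
      rw [mem_centralizer_singleton_iff, ← map_mul, ← map_mul]
      refine (QuotientGroup.eq.2 ?_)
      obtain ⟨y, hy, e⟩ := hv.2 (x : G)⁻¹ (inv_mem x.2)
      have e2 : (x * ⟨v, hvH⟩)⁻¹ * (⟨v, hvH⟩ * x) = y := Subtype.ext (Eq.trans (by
        show ((x : G) * v)⁻¹ * (v * x) = v * (x : G)⁻¹ * v⁻¹ * (x : G)⁻¹⁻¹
        rw [mul_inv_rev, h.R_inv hv.1]
        group) e.symm)
      rw [e2]
      exact hy
    have hv1' : φ ⟨v, hvH⟩ ≠ 1 := fun e =>
      hv1 (h.inf_inter_core ⟨hv.1, hvA⟩ ((mem_core_iff hvH).2 ((QuotientGroup.eq_one_iff _).1 e)))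
    have h4 := hF.card_Z
    rw [← hF.cent _ hmem hv1', hall, Subgroup.card_top, hF.card] at h4
    omega
  have h3 : 3 ≤ Nat.card V := by
    obtain ⟨t, ht, htA, hrt⟩ : ∃ t ∈ R, t ∉ A ∧ r * t ∉ A := by
      by_contra hne
      push Not at hne
      -- `R` would be covered by two cosets
      have hsub : (R : Set G) ⊆ ((R ⊓ A : Subgroup G) : Set G) ∪
          (fun w => r * w) '' ((R ⊓ A : Subgroup G) : Set G) := fun t ht => by
        by_cases htA : t ∈ A
        · exact Or.inl ⟨ht, htA⟩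
        · exact Or.inr ⟨r * t, ⟨mul_mem hr ht, hne t ht htA⟩,
            by show r * (r * t) = t; rw [← mul_assoc, h.R_sq r hr, one_mul]⟩
      have h8 := (Set.ncard_le_ncard hsub (Set.toFinite _)).trans
        ((Set.ncard_union_le _ _).trans (add_le_add le_rfl (Set.ncard_image_le (Set.toFinite _))))
      rw [← Nat.card_coe_set_eq, ← Nat.card_coe_set_eq, SetLike.coe_sort_coe,
        SetLike.coe_sort_coe, h.R_card, h.inf_card] at h8
      omega
    obtain ⟨w, hw, hwt⟩ := h.exists_twist hns hr hH hF ht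
    have htV : t * w ∈ V := (hVmem _).2 ⟨mul_mem ht hw.1, hwt⟩
    have hsub : ({1, r, t * w} : Set G) ⊆ (V : Set G) := by
      rintro y (rfl | rfl | rfl)
      exacts [one_mem V, hrV, htV]
    have h3 := Set.ncard_le_ncard hsub (Set.toFinite _)
    rw [← Nat.card_coe_set_eq (V : Set G), SetLike.coe_sort_coe,
      Set.ncard_eq_three.2 ⟨1, r, t * w, fun e => hrA (e ▸ one_mem A), fun e => htA ?_,
        fun e => hrt ?_, rfl⟩] at h3
    · exact h3
    · rw [eq_inv_of_mul_eq_one_left e.symm]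
      exact inv_mem hw.2
    · rw [e, h.R_comm (mul_mem ht hw.1) ht, ← mul_assoc, h.R_sq t ht, one_mul]
      exact hw.2
  refine hnM fun k hk => CIT.mem_normalizer_of_forall ?_
  have hle : W ≤ W.comap (MulAut.conj k).toMonoidHom := by
    refine le_of_cent_le (V := V) (fun v hv => h.R_sq v hv.1) h3 (fun v hv => hRW hv.1) hW ?_
    rintro v hv hv1 y ⟨hy, hyv⟩
    show k * y * k⁻¹ ∈ W
    have hvA : v ∉ A := fun e => hv1 (hVA v hv e)
    obtain ⟨k₀, hk₀, t, ht, rfl⟩ := hH.mul k hk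
    set u := k₀ * t * v * (k₀ * t)⁻¹ with hu
    have hu' : u = k₀ * v * k₀⁻¹ := by rw [hu, conj_comp, h.R_comm ht hv.1, mul_inv_cancel_right]
    have hu2 : u * u = 1 := by
      rw [hu', show k₀ * v * k₀⁻¹ * (k₀ * v * k₀⁻¹) = k₀ * (v * v) * k₀⁻¹ by group, h.R_sq v hv.1,
        mul_one, mul_inv_cancel]
    obtain ⟨q, hq, hqe⟩ := exists_conj_of_fibre (core_odd H) hu2 (h.R_sq v hv.1) (by
      have := inv_mem (hv.2 k₀ hk₀)
      rwa [show (v * k₀ * v⁻¹ * k₀⁻¹)⁻¹ = k₀ * v * k₀⁻¹ * v⁻¹ by group, ← hu', h.R_inv hv.1] at this)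
    have hmem : q⁻¹ * (k₀ * t) ∈ centralizer ({v} : Set G) :=
      mem_centralizer_singleton_iff.2 (by
        calc q⁻¹ * (k₀ * t) * v = q⁻¹ * u * (k₀ * t) := by rw [hu]; group
          _ = v * (q⁻¹ * (k₀ * t)) := by rw [← hqe]; group)
    have hqW := hcoreW hr hrA hH hq
    have := mul_mem (mul_mem hqW (hloc v hv.1 hvA _ hmem y hy hyv)) (inv_mem hqW)
    rwa [show q * (q⁻¹ * (k₀ * t) * y * (q⁻¹ * (k₀ * t))⁻¹) * q⁻¹ = k₀ * t * y * (k₀ * t)⁻¹ by
      group] at this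
  exact hle

end

end Shape

end Cfsg.Agent.L34Type
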