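import Cfsg.Agent.Lib.L34Type.OuterReal

/-!
# The configuration of `PGL₃(4)`: subgroups of odd order of `N(R)`

One of order at least 15 has order 15 and its elements of order three centralise an involution.
-/

set_option autoImplicit false
set_option linter.style.haveILetI false
set_option linter.unusedSectionVars false

namespace Cfsg.Agent.L34Type.WithOuter

open Subgroup Cfsg.Agent.Involutions.Basic Cfsg.Agent.CIT

universe u

variable {G : Type u} [Group G] [Finite G] {U : Sylow 2 G} {R A : Subgroup G}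
variable (h : WithOuter U R A)
include h

theorem five_not_comm {v y : G} (hv : orderOf v = 2) (hy : orderOf y = 5) (hc : v * y = y * v) :
    False := by
  obtain ⟨l, -, hC, -⟩ := h.exists_center hv
  have h1 := Subgroup.orderOf_dvd_natCard _
    (mem_centralizer_singleton_iff.2 hc.symm : y ∈ centralizer ({v} : Set G))
  rw [hy, hC] at h1
  norm_num at h1

theorem exists_real_candidate {D : Subgroup G} (hD : D ≤ normalizer (R : Set G))
    (hd : Nat.card D ∣ 45) (h15 : 15 ≤ Nat.card D) :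
    Nat.card D = 15 ∧ ∃ σ ∈ D, orderOf σ = 3 ∧ ∃ x, orderOf x = 2 ∧ x * σ = σ * x := by
  classical
  haveI : Fact (Nat.Prime 5) := ⟨by norm_num⟩
  haveI : Fact (Nat.Prime 3) := ⟨Nat.prime_three⟩
  haveI : Fact (Nat.Prime 2) := ⟨Nat.prime_two⟩
  have hD45 : Nat.card D = 15 ∨ Nat.card D = 45 := by
    have h45 := Nat.le_of_dvd (by norm_num) hd
    obtain ⟨c, hc⟩ := hd
    interval_cases hh : Nat.card D <;> omega
  set K := normalizer (R : Set G) with hK
  haveI : (R.subgroupOf K).Normal := normal_subgroupOf_of_le_normalizer le_rfl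
  set π := QuotientGroup.mk' (R.subgroupOf K) with hπdef
  have hker : ∀ k : K, π k = 1 ↔ (k : G) ∈ R := fun k => by
    rw [hπdef, QuotientGroup.mk'_apply, QuotientGroup.eq_one_iff, mem_subgroupOf]
  have hQ : Nat.card (K ⧸ R.subgroupOf K) = 180 := by
    have h1 := (R.subgroupOf K).card_mul_index
    rw [Nat.card_congr (subgroupOfEquivOfLe le_normalizer).toEquiv, h.R_card,
      show Nat.card K = 2880 from h.norm_R] at h1
    rw [← Subgroup.index_eq_card]
    omega
  have hcop : ∀ d : D, (d : G) ∈ R → d = 1 := by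
    intro d hR
    have h1 : orderOf d ∣ 2 := by
      rw [← Subgroup.orderOf_coe]
      exact orderOf_dvd_of_pow_eq_one (by rw [sq]; exact h.R_sq _ hR)
    have h2 : orderOf d ∣ Nat.card D := orderOf_dvd_natCard d
    exact orderOf_eq_one_iff.1 (Nat.eq_one_of_dvd_coprimes
      (by rcases hD45 with e | e <;> rw [e] <;> norm_num) h1 h2)
  obtain ⟨⟨y, hyD⟩, hy⟩ := exists_prime_orderOf_dvd_card' (G := D) 5
    (by rcases hD45 with e | e <;> rw [e] <;> norm_num)
  have hy5 : orderOf y = 5 := by rwa [Subgroup.orderOf_mk] at hy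
  set ψ : D →* K ⧸ R.subgroupOf K := π.comp (inclusion hD) with hψ
  have hψinj : Function.Injective ψ :=
    (injective_iff_map_eq_one ψ).2 fun d hd => hcop d ((hker _).1 hd)
  set yb := ψ ⟨y, hyD⟩ with hyb
  have hyb5 : orderOf yb = 5 := by rw [hyb, orderOf_injective ψ hψinj, hy]
  have hfac : (5 : ℕ) ^ (Nat.card (K ⧸ R.subgroupOf K)).factorization 5 = 5 := by
    rw [hQ, show (180 : ℕ) = 5 * 36 by norm_num, Nat.factorization_mul (by norm_num) (by norm_num)]
    simp [Nat.Prime.factorization_self (show Nat.Prime 5 by norm_num),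
      Nat.factorization_eq_zero_of_not_dvd (show ¬ 5 ∣ 36 by norm_num)]
  set P : Sylow 5 (K ⧸ R.subgroupOf K) :=
    Sylow.ofCard (zpowers yb) (by rw [Nat.card_zpowers, hyb5, hfac]) with hP
  set Nb := normalizer ((P : Subgroup (K ⧸ R.subgroupOf K)) : Set (K ⧸ R.subgroupOf K)) with hNb
  have hn : Nat.card (Sylow 5 (K ⧸ R.subgroupOf K)) = Nb.index := Sylow.card_eq_index_normalizer P
  have hmod := card_sylow_modEq_one 5 (K ⧸ R.subgroupOf K)
  have hmul := Nb.card_mul_index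
  rw [hQ] at hmul
  rw [hn] at hmod
  unfold Nat.ModEq at hmod
  -- the subgroup of order five is normal in `D`
  have hnd : (zpowers (⟨y, hyD⟩ : D)).Normal := by
    let Q : Sylow 5 D := Sylow.ofCard (zpowers (⟨y, hyD⟩ : D)) (by
      rw [Nat.card_zpowers, hy]
      rcases hD45 with e | e <;> rw [e]
      · rw [show (15 : ℕ) = 5 * 3 by norm_num, Nat.factorization_mul (by norm_num) (by norm_num)]
        simp [Nat.Prime.factorization_self (show Nat.Prime 5 by norm_num),
          Nat.factorization_eq_zero_of_not_dvd (show ¬ 5 ∣ 3 by norm_num)]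
      · rw [show (45 : ℕ) = 5 * 9 by norm_num, Nat.factorization_mul (by norm_num) (by norm_num)]
        simp [Nat.Prime.factorization_self (show Nat.Prime 5 by norm_num),
          Nat.factorization_eq_zero_of_not_dvd (show ¬ 5 ∣ 9 by norm_num)])
    have hQc : Nat.card (Sylow 5 D) = 1 := by
      have h1 := card_sylow_modEq_one 5 D
      have h2 : Nat.card (Sylow 5 D) ∣ Nat.card D := by
        rw [Sylow.card_eq_index_normalizer Q]; exact Subgroup.index_dvd_card _
      unfold Nat.ModEq at h1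
      have h3 := Nat.le_of_dvd Nat.card_pos h2
      rcases hD45 with e | e <;> rw [e] at h2 h3 <;> obtain ⟨c, hc⟩ := h2 <;>
        interval_cases hh : Nat.card (Sylow 5 D) <;> omega
    haveI : Subsingleton (Sylow 5 D) := (Nat.card_eq_one_iff_unique.1 hQc).1
    exact Q.normal_of_subsingleton
  have hψN : ψ.range ≤ Nb := by
    have hle : ψ.range ≤ normalizer (zpowers yb : Set (K ⧸ R.subgroupOf K)) := by
      rintro _ ⟨d, rfl⟩
      refine mem_normalizer_fintype fun x hx => ?_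
      rw [SetLike.mem_coe, hyb, ← MonoidHom.map_zpowers] at hx ⊢
      obtain ⟨e, he, rfl⟩ := hx
      exact ⟨d * e * d⁻¹, hnd.conj_mem e he d, by simp⟩
    exact hle
  have hDN : Nat.card D ∣ Nat.card Nb := by
    refine dvd_trans ?_ (card_dvd_of_le hψN)
    rw [← Nat.card_congr (MonoidHom.ofInjective hψinj).toEquiv]
  have hne : Nb ≠ ⊤ := by
    intro hPn
    -- an involution of `A` outside `R` commuting with `yb`
    have hact : ∀ a : G, a ∈ A → ∀ ha : a ∈ K,
        π ⟨a, ha⟩ * yb * (π ⟨a, ha⟩)⁻¹ = yb ∨ π ⟨a, ha⟩ * yb * (π ⟨a, ha⟩)⁻¹ = yb⁻¹ := by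
      intro a haA ha
      set ab := π ⟨a, ha⟩
      have hab : ab * ab = 1 := by
        rw [← map_mul, hker]; show a * a ∈ R; rw [h.A_sq a haA]; exact one_mem R
      have hm : ab * yb * ab⁻¹ ∈ zpowers yb := by
        have h1 : ab ∈ normalizer ((P : Subgroup (K ⧸ R.subgroupOf K)) : Set (K ⧸ R.subgroupOf K)) :=
          (show ab ∈ Nb by rw [hPn]; exact mem_top _)
        exact (mem_normalizer_iff.1 h1 yb).1 (mem_zpowers yb)
      obtain ⟨k, hk⟩ := mem_powers_iff_mem_zpowers.2 hm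
      have hk' : ab * yb * ab⁻¹ = yb ^ k := hk.symm
      have hk2 : yb ^ (k * k) = yb := by
        have h1 : ab * (yb ^ k) * ab⁻¹ = yb ^ (k * k) := by rw [← conj_pow, hk', ← pow_mul]
        rw [← h1, ← hk', show ab * (ab * yb * ab⁻¹) * ab⁻¹ = ab * ab * yb * (ab * ab)⁻¹ by group, hab]
        group
      have hk5 : k * k % 5 = 1 := by
        have h1 := pow_inj_mod.1 (hk2.trans (pow_one yb).symm)
        rw [hyb5] at h1
        simpa using h1
      rw [hk', ← pow_mod_orderOf yb k, hyb5]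
      have hlt : k % 5 < 5 := Nat.mod_lt _ (by norm_num)
      rw [Nat.mul_mod] at hk5
      interval_cases hr : k % 5
      · simp at hk5
      · exact Or.inl (pow_one _)
      · simp at hk5
      · simp at hk5
      · refine Or.inr (eq_inv_of_mul_eq_one_left ?_)
        rw [← pow_succ, show 4 + 1 = orderOf yb by rw [hyb5], pow_orderOf_eq_one]
    obtain ⟨a, haA, haR, haK, hac⟩ : ∃ a, a ∈ A ∧ a ∉ R ∧ ∃ ha : a ∈ K,
        π ⟨a, ha⟩ * yb * (π ⟨a, ha⟩)⁻¹ = yb := by
      have hAK : A ≤ K := h.A_le.trans h.U_le_normalizer.1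
      obtain ⟨a₁, ha₁, ha₁R⟩ := SetLike.not_le_iff_exists.1 h.not_le_RA.2
      obtain ⟨a₂, ha₂, ha₂R, h12⟩ : ∃ a₂ ∈ A, a₂ ∉ R ∧ a₁ * a₂ ∉ R := by
        by_contra hcon
        push Not at hcon
        have hsub : (A : Set G) ⊆
            (R ⊓ A : Subgroup G) ∪ (fun z => a₁⁻¹ * z) '' (R ⊓ A : Subgroup G) := by
          intro x hx
          by_cases hxR : x ∈ R
          · exact Or.inl ⟨hxR, hx⟩
          · exact Or.inr ⟨a₁ * x, ⟨hcon x hx hxR, mul_mem ha₁ hx⟩, inv_mul_cancel_left _ _⟩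
        have h1 := (Set.ncard_le_ncard hsub (Set.toFinite _)).trans (Set.ncard_union_le _ _)
        have h2 : ((fun z => a₁⁻¹ * z) '' ((R ⊓ A : Subgroup G) : Set G)).ncard ≤
            ((R ⊓ A : Subgroup G) : Set G).ncard := Set.ncard_image_le (Set.toFinite _)
        simp only [← Nat.card_coe_set_eq, SetLike.coe_sort_coe, h.A_card, h.inf_card] at h1 h2
        omega
      rcases hact a₁ ha₁ (hAK ha₁) with h1 | h1
      · exact ⟨a₁, ha₁, ha₁R, hAK ha₁, h1⟩
      rcases hact a₂ ha₂ (hAK ha₂) with h2 | h2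
      · exact ⟨a₂, ha₂, ha₂R, hAK ha₂, h2⟩
      refine ⟨a₁ * a₂, mul_mem ha₁ ha₂, h12, hAK (mul_mem ha₁ ha₂), ?_⟩
      rw [show (⟨a₁ * a₂, hAK (mul_mem ha₁ ha₂)⟩ : K) = ⟨a₁, hAK ha₁⟩ * ⟨a₂, hAK ha₂⟩ from rfl,
        map_mul]
      set x₁ := π ⟨a₁, hAK ha₁⟩
      set x₂ := π ⟨a₂, hAK ha₂⟩
      rw [show x₁ * x₂ * yb * (x₁ * x₂)⁻¹ = x₁ * (x₂ * yb * x₂⁻¹) * x₁⁻¹ by group, h2, ← conj_inv,
        h1, inv_inv]
    have hyK : y ∈ K := hD hyD
    have hcr : y * a * y⁻¹ * a⁻¹ ∈ R := by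
      refine (hker (⟨y, hyK⟩ * ⟨a, haK⟩ * ⟨y, hyK⟩⁻¹ * ⟨a, haK⟩⁻¹ : K)).1 ?_
      simp only [map_mul, map_inv]
      have e : π ⟨y, hyK⟩ = yb := rfl
      rw [e, show yb * π ⟨a, haK⟩ = π ⟨a, haK⟩ * yb from (mul_inv_eq_iff_eq_mul.1 hac).symm]
      group
    -- `y` fixes one of the four involutions of the coset
    set T : Set G := (fun z => z * a) '' ((R ⊓ A : Subgroup G) : Set G) with hT
    have hTc : T.ncard = 4 := by
      rw [hT, Set.ncard_image_of_injective _ (mul_left_injective a), ← Nat.card_coe_set_eq,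
        SetLike.coe_sort_coe, h.inf_card]
    have hmem : ∀ x ∈ T, y * x * y⁻¹ ∈ T := by
      rintro _ ⟨z, hz, rfl⟩
      have hzR : y * z * y⁻¹ ∈ R := (mem_normalizer_iff.1 hyK z).1 hz.1
      set r := y * z * y⁻¹ * (y * a * y⁻¹ * a⁻¹) with hr
      have hrR : r ∈ R := R.mul_mem hzR hcr
      have he : y * (z * a) * y⁻¹ = r * a := by rw [hr]; group
      rw [he]
      refine ⟨r, ⟨hrR, ?_⟩, rfl⟩
      have hza : z * a * (z * a) = 1 := h.A_sq _ (A.mul_mem hz.2 haA)
      have hsq : r * a * (r * a) = 1 := by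
        rw [← he, show y * (z * a) * y⁻¹ * (y * (z * a) * y⁻¹) = y * (z * a * (z * a)) * y⁻¹ by
          group, hza]
        group
      rcases h.involutions _ (mul_mem (h.R_le hrR) (h.A_le haA)) hsq with h1 | h1
      · exact absurd (by simpa using R.mul_mem (R.inv_mem hrR) h1) haR
      · show r ∈ A
        simpa using A.mul_mem h1 (A.inv_mem haA)
    obtain ⟨x, ⟨z, hz, rfl⟩, hxy⟩ := exists_fixed_conj hy5 hmem (by rw [hTc]; norm_num)
    refine h.five_not_comm (orderOf_two_iff.2 ⟨h.A_sq _ (A.mul_mem hz.2 haA), fun e => haR ?_⟩) hy5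
      (conj_fixed_iff.1 hxy)
    have e' : a = z⁻¹ := (eq_inv_of_mul_eq_one_right e)
    rw [e']
    exact R.inv_mem hz.1
  -- hence the normaliser has order 30
  have h30 : Nat.card Nb = 30 := by
    have hi1 : Nb.index ≠ 1 := fun e => hne (Subgroup.index_eq_one.1 e)
    have h15d : 15 ∣ Nat.card Nb :=
      (show 15 ∣ Nat.card D by rcases hD45 with e | e <;> rw [e]; norm_num).trans hDN
    obtain ⟨j, hj⟩ := h15d
    rw [hj] at hmul
    have h12 : j * Nb.index = 12 := by linarith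
    have hile : Nb.index ≤ 12 := Nat.le_of_dvd (by norm_num) ⟨j, by linarith⟩
    interval_cases hh : Nb.index <;> omega
  have hDc : Nat.card D = 15 := by
    rcases hD45 with e | e
    · exact e
    · exfalso
      rw [e, h30] at hDN
      norm_num at hDN
  refine ⟨hDc, ?_⟩
  obtain ⟨⟨σ, hσD⟩, hσ⟩ := exists_prime_orderOf_dvd_card' (G := D) 3 (by rw [hDc]; norm_num)
  have hσ3 : orderOf σ = 3 := by rwa [Subgroup.orderOf_mk] at hσ
  refine ⟨σ, hσD, hσ3, ?_⟩
  -- `σ` commutes with `y`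
  have hσy : σ * y = y * σ := by
    obtain ⟨k, hk⟩ := mem_powers_iff_mem_zpowers.2
      (hnd.conj_mem _ (mem_zpowers (⟨y, hyD⟩ : D)) ⟨σ, hσD⟩)
    have hk' : σ * y * σ⁻¹ = y ^ k := (congrArg Subtype.val hk).symm
    have h3 : y ^ (k * k * k) = y := by
      have e2 : σ * y ^ k * σ⁻¹ = y ^ (k * k) := by rw [← conj_pow, hk', ← pow_mul]
      have e3 : σ * y ^ (k * k) * σ⁻¹ = y ^ (k * k * k) := by
        rw [← conj_pow, hk', ← pow_mul, mul_assoc]
      rw [← e3, ← e2, ← hk', show σ * (σ * (σ * y * σ⁻¹) * σ⁻¹) * σ⁻¹ = σ ^ 3 * y * (σ ^ 3)⁻¹ by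
        rw [pow_three]; group, show σ ^ 3 = 1 by rw [← hσ3, pow_orderOf_eq_one]]
      group
    have h5 : k * k * k % 5 = 1 := by
      have h1 := pow_inj_mod.1 (h3.trans (pow_one y).symm)
      rw [hy5] at h1
      simpa using h1
    have hk1 : k % 5 = 1 := by
      have hlt : k % 5 < 5 := Nat.mod_lt _ (by norm_num)
      rw [Nat.mul_mod, Nat.mul_mod k k] at h5
      interval_cases hr : k % 5 <;> omega
    rw [← pow_mod_orderOf y k, hy5, hk1, pow_one] at hk'
    exact mul_inv_eq_iff_eq_mul.1 hk'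
  -- `σ` fixes nothing in `R`
  have hσK : σ ∈ K := hD hσD
  have hfix : ∀ r ∈ R, σ * r * σ⁻¹ = r → r = 1 := by
    intro r hr hrσ
    by_contra hr1
    set E := R ⊓ centralizer ({σ} : Set G)
    have hEr : r ∈ E := ⟨hr, mem_centralizer_singleton_iff.2 (conj_fixed_iff.1 hrσ)⟩
    have hy' : ∀ w ∈ (E : Set G) \ {1}, y * w * y⁻¹ ∈ (E : Set G) \ {1} := by
      rintro w ⟨⟨hw, hwσ⟩, hw1⟩
      refine ⟨⟨(mem_normalizer_iff.1 (hD hyD) w).1 hw, mem_centralizer_singleton_iff.2 ?_⟩,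
        fun e => hw1 (conj_eq_one_iff.1 e)⟩
      have hc : Commute y σ := hσy.symm
      exact ((hc.mul_left (mem_centralizer_singleton_iff.1 hwσ)).mul_left hc.inv_left).eq
    have hd : Nat.card E ∣ 2 ^ 4 := by
      rw [show 2 ^ 4 = Nat.card R by rw [h.R_card]; rfl]
      exact card_dvd_of_le inf_le_left
    obtain ⟨j, hj, hEj⟩ := (Nat.dvd_prime_pow Nat.prime_two).1 hd
    have hTc : ((E : Set G) \ {1}).ncard = 2 ^ j - 1 := by
      rw [Set.ncard_sdiff_singleton_of_mem (one_mem E), ← Nat.card_coe_set_eq, SetLike.coe_sort_coe,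
        hEj]
    by_cases h5 : 5 ∣ 2 ^ j - 1
    · have hj4 : j = 4 ∨ j = 0 := by interval_cases j <;> omega
      rcases hj4 with rfl | rfl
      · have hE : E = R := eq_of_le_of_card_ge inf_le_left (by rw [h.R_card, hEj]; norm_num)
        have hσR : σ ∈ centralizer (R : Set G) := mem_centralizer_iff.2 fun w hw =>
          mem_centralizer_singleton_iff.1 (hE.ge hw).2
        rw [h.cent_R] at hσR
        have h1 := R.orderOf_dvd_natCard hσR
        rw [h.R_card, hσ3] at h1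
        norm_num at h1
      · rw [pow_zero, Subgroup.card_eq_one] at hEj
        rw [hEj, mem_bot] at hEr
        exact hr1 hEr
    · obtain ⟨w, ⟨⟨hw, -⟩, hw1⟩, hwy⟩ := exists_fixed_conj hy5 hy' (by rwa [hTc])
      exact h.five_not_comm (orderOf_two_iff.2 ⟨h.R_sq w hw, hw1⟩) hy5 (conj_fixed_iff.1 hwy)
  -- the centraliser of `σ` modulo `R` has even order
  set sb := π ⟨σ, hσK⟩ with hsb
  have hsbψ : sb = ψ ⟨σ, hσD⟩ := rfl
  have hsb3 : orderOf sb = 3 := by rw [hsbψ, orderOf_injective ψ hψinj, hσ]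
  set C := centralizer ({sb} : Set (K ⧸ R.subgroupOf K)) with hC
  have hyC : yb ∈ C := mem_centralizer_singleton_iff.2 (by
    rw [hsbψ, hyb, ← map_mul, ← map_mul]
    exact congrArg ψ (Subtype.ext hσy.symm))
  have h5C : 5 ∣ Nat.card C := hyb5 ▸ Subgroup.orderOf_dvd_natCard _ hyC
  have h9C : 9 ∣ Nat.card C := by
    obtain ⟨Q, hQ'⟩ := (IsPGroup.of_card (p := 3) (n := 1)
      (show Nat.card (zpowers sb) = 3 ^ 1 by rw [Nat.card_zpowers, hsb3, pow_one])).exists_le_sylow
    have hQ9 : Nat.card (Q : Subgroup (K ⧸ R.subgroupOf K)) = 3 ^ 2 := by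
      rw [Q.card_eq_multiplicity, hQ, show (180 : ℕ) = 3 ^ 2 * 20 by norm_num,
        Nat.factorization_mul (by norm_num) (by norm_num), Nat.factorization_pow]
      simp [Nat.Prime.factorization_self Nat.prime_three,
        Nat.factorization_eq_zero_of_not_dvd (show ¬ 3 ∣ 20 by norm_num)]
    have hle : (Q : Subgroup (K ⧸ R.subgroupOf K)) ≤ C := fun q hq =>
      mem_centralizer_singleton_iff.2 (congrArg Subtype.val
        (IsPGroup.commutative_of_card_eq_prime_sq hQ9 ⟨q, hq⟩ ⟨sb, hQ' (mem_zpowers sb)⟩))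
    have h1 := card_dvd_of_le hle
    rwa [hQ9] at h1
  have h2C : 2 ∣ Nat.card C := by
    by_contra hodd
    have hC45 : Nat.card C = 45 := by
      have h180 : Nat.card C ∣ 180 := hQ ▸ Subgroup.card_subgroup_dvd_card C
      have h45 : 45 ∣ Nat.card C := Nat.Coprime.mul_dvd_of_dvd_of_dvd
        (show Nat.Coprime 9 5 by norm_num) h9C h5C
      obtain ⟨j, hj⟩ := h45
      rw [hj] at h180 hodd
      obtain ⟨i, hi⟩ := h180
      have hj4 : j * i = 4 := by linarith
      have : j ≤ 4 := Nat.le_of_dvd (by norm_num) ⟨i, hj4.symm⟩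
      interval_cases j <;> omega
    -- then it would normalise the subgroup of order five
    have hCN : C ≤ Nb := by
      let Q : Sylow 5 C := Sylow.ofCard (zpowers (⟨yb, hyC⟩ : C)) (by
        rw [Nat.card_zpowers, Subgroup.orderOf_mk, hyb5, hC45,
          show (45 : ℕ) = 5 * 9 by norm_num, Nat.factorization_mul (by norm_num) (by norm_num)]
        simp [Nat.Prime.factorization_self (show Nat.Prime 5 by norm_num),
          Nat.factorization_eq_zero_of_not_dvd (show ¬ 5 ∣ 9 by norm_num)])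
      have hQc : Nat.card (Sylow 5 C) = 1 := by
        have h1 := card_sylow_modEq_one 5 C
        have h2 : Nat.card (Sylow 5 C) ∣ Nat.card C := by
          rw [Sylow.card_eq_index_normalizer Q]; exact Subgroup.index_dvd_card _
        unfold Nat.ModEq at h1
        rw [hC45] at h2
        have h3 := Nat.le_of_dvd (by norm_num) h2
        obtain ⟨c, hc⟩ := h2
        interval_cases hh : Nat.card (Sylow 5 C) <;> omega
      haveI : Subsingleton (Sylow 5 C) := (Nat.card_eq_one_iff_unique.1 hQc).1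
      have hn' : (zpowers (⟨yb, hyC⟩ : C)).Normal := Q.normal_of_subsingleton
      intro d hd
      refine mem_normalizer_fintype fun x hx => ?_
      obtain ⟨e, rfl⟩ := mem_zpowers_iff.1 (show x ∈ zpowers yb from hx)
      obtain ⟨i, hi⟩ := mem_zpowers_iff.1
        (hn'.conj_mem _ (zpow_mem (mem_zpowers (⟨yb, hyC⟩ : C)) e) ⟨d, hd⟩)
      exact mem_zpowers_iff.2 ⟨i, congrArg Subtype.val hi⟩
    have := card_dvd_of_le hCN
    rw [hC45, h30] at this
    norm_num at this
  obtain ⟨⟨ab, habC⟩, hab⟩ := exists_prime_orderOf_dvd_card' 2 h2C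
  rw [Subgroup.orderOf_mk] at hab
  obtain ⟨⟨a, haK⟩, rfl⟩ := QuotientGroup.mk'_surjective (R.subgroupOf K) ab
  -- an involution of the coset fixed by `σ`
  set T : Set G := (fun r => r * a) '' (R : Set G)
  have hTc : T.ncard = 16 := by
    rw [Set.ncard_image_of_injective _ (mul_left_injective a), ← Nat.card_coe_set_eq,
      SetLike.coe_sort_coe, h.R_card]
  have hmem : ∀ x ∈ T, σ * x * σ⁻¹ ∈ T := by
    rintro _ ⟨r, hr, rfl⟩
    refine ⟨σ * r * σ⁻¹ * (σ * a * σ⁻¹ * a⁻¹), R.mul_mem ((mem_normalizer_iff.1 hσK r).1 hr) ?_,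
      by group⟩
    refine (hker (⟨σ, hσK⟩ * ⟨a, haK⟩ * ⟨σ, hσK⟩⁻¹ * ⟨a, haK⟩⁻¹ : K)).1 ?_
    simp only [map_mul, map_inv]
    have hc : sb * π ⟨a, haK⟩ = π ⟨a, haK⟩ * sb := (mem_centralizer_singleton_iff.1 habC).symm
    rw [← hsb, hc]
    group
  obtain ⟨x, ⟨r, hr, rfl⟩, hxσ⟩ := exists_fixed_conj hσ3 hmem (by rw [hTc]; norm_num)
  refine ⟨r * a, orderOf_two_iff.2 ⟨hfix _ ?_ ?_, fun e => ?_⟩, conj_fixed_iff.1 hxσ⟩
  · have hrK : r ∈ K := le_normalizer hr
    refine (hker (⟨r, hrK⟩ * ⟨a, haK⟩ * (⟨r, hrK⟩ * ⟨a, haK⟩) : K)).1 ?_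
    simp only [map_mul]
    rw [(hker ⟨r, hrK⟩).2 hr, one_mul, inv_sq_one hab]
  · rw [show σ * (r * a * (r * a)) * σ⁻¹ = σ * (r * a) * σ⁻¹ * (σ * (r * a) * σ⁻¹) by group, hxσ]
  · have ha : a ∈ R := by
      rw [show a = r⁻¹ * (r * a) by group, e, mul_one]
      exact R.inv_mem hr
    rw [(hker ⟨a, haK⟩).2 ha, orderOf_one] at hab
    omega

end Cfsg.Agent.L34Type.WithOuter
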