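import Cfsg.Agent.Lib.L34Type.OuterFifteen

/-!
# The order in the configuration of `PGL₃(4)`

Two conjugates of `R` on no common line would be exchanged by fifteen involutions, all in one coset
of a subgroup of order 15 of `N(R)`, so that one of them would invert an element of order three
centralising an involution.  So any two points are collinear, there are 21 and `|G| = 60480`.
-/

set_option autoImplicit false
set_option linter.style.haveILetI false
set_option linter.unusedSectionVars false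

namespace Cfsg.Agent.L34Type.WithOuter

open Subgroup Cfsg.Agent.Involutions.Basic Cfsg.Agent.CIT

universe u

variable {G : Type u} [Group G] [Finite G] {U : Sylow 2 G} {R A : Subgroup G}

/-- The points. -/
def points (R : Subgroup G) : Set (Subgroup G) := (fun k => cj k R) '' (Set.univ : Set G)

/-- The points fixed by a line. -/
def line (R B : Subgroup G) : Set (Subgroup G) :=
  {q | q ∈ points R ∧ B ≤ normalizer (q : Set G)}

variable (h : WithOuter U R A)
include h

theorem exists_involution_A : ∃ v ∈ A, orderOf v = 2 := by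
  obtain ⟨z, hz, hz1⟩ := h.exists_mem_Z
  exact ⟨z, hz.2, orderOf_two_iff.2 ⟨h.R_sq z hz.1, hz1⟩⟩

theorem line_A : line R A = (fun a => cj a R) '' (normalizer (A : Set G) : Set G) := by
  ext q
  constructor
  · rintro ⟨⟨g, -, rfl⟩, hA⟩
    obtain ⟨v, hvA, hv⟩ := h.exists_involution_A
    obtain ⟨a, ha, e⟩ := h.exists_of_fixes hv hvA (hA hvA)
    exact ⟨a, ha, e.symm⟩
  · rintro ⟨a, ha, rfl⟩
    exact ⟨⟨a, trivial, rfl⟩, h.line_fixes rfl ha⟩

theorem card_inf_normalizers :
    Nat.card (normalizer (R : Set G) ⊓ normalizer (A : Set G) : Subgroup G) = 576 := by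
  rw [← h.normalizer_U, h.norm_U]

theorem ncard_line (k : G) : (line R (cj k A)).ncard = 5 := by
  have hk : line R (cj k A) = cj k '' line R A := by
    ext q
    constructor
    · rintro ⟨⟨g, -, rfl⟩, hA⟩
      refine ⟨cj (k⁻¹ * g) R, ⟨⟨_, trivial, rfl⟩, fun x hx => ?_⟩,
        by rw [cj_cj, mul_inv_cancel_left]⟩
      rw [mem_normalizer_cj]
      have h1 := mem_normalizer_cj.1 (hA (conj_mem_cj hx))
      rwa [show (k⁻¹ * g)⁻¹ * x * (k⁻¹ * g) = g⁻¹ * (k * x * k⁻¹) * g by group]
    · rintro ⟨_, ⟨⟨g, -, rfl⟩, hA⟩, rfl⟩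
      refine ⟨⟨k * g, trivial, (cj_cj k g R).symm⟩, fun x hx => ?_⟩
      rw [mem_normalizer_cj]
      exact hA (mem_cj.1 hx)
  have h1 := card_image_cj (normalizer (A : Set G)) R
  rw [← h.line_A, inf_comm, h.card_inf_normalizers, h.norm_A] at h1
  rw [hk, Set.ncard_image_of_injective _
    (show Function.Injective (cj k) from Subgroup.map_injective (MulAut.conj k).injective)]
  omega

theorem ncard_lines : ((fun k => cj k A) '' (normalizer (R : Set G) : Set G)).ncard = 5 := by
  have h1 := card_image_cj (normalizer (R : Set G)) A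
  rw [h.card_inf_normalizers, h.norm_R] at h1
  omega

/-- An involution commuting with an involution of a point fixes the point. -/
theorem fixes_of_commute {i z g : G} (hi : orderOf i = 2) (hz : orderOf z = 2) (hzg : z ∈ cj g R)
    (hc : Commute z i) : i ∈ normalizer (cj g R : Set G) := by
  obtain ⟨l, hiZ, -, hC⟩ := h.exists_center hi
  haveI : Fact (Nat.Prime 2) := ⟨Nat.prime_two⟩
  have hzl : z ∈ cj l (U : Subgroup G) :=
    hC (zpowers z) (IsPGroup.of_card (n := 1) (by rw [Nat.card_zpowers, hz, pow_one]))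
      (zpowers_le.2 (mem_centralizer_singleton_iff.2 hc.eq)) (mem_zpowers z)
  have hsq : l⁻¹ * z * l * (l⁻¹ * z * l) = 1 := by
    rw [show l⁻¹ * z * l * (l⁻¹ * z * l) = l⁻¹ * (z * z) * l by group, inv_sq_one hz]; group
  have hiU : l⁻¹ * i * l ∈ R ⊓ A := mem_cj.1 hiZ
  rcases h.involutions _ (mem_cj.1 hzl) hsq with h1 | h1
  · rw [h.point_unique hz hzg (mem_cj.2 h1), mem_normalizer_cj]
    exact h.U_le_normalizer.1 (h.R_le hiU.1)
  · have hn : l⁻¹ * z * l ∈ normalizer (cj (l⁻¹ * g) R : Set G) := by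
      rw [mem_normalizer_cj, show (l⁻¹ * g)⁻¹ * (l⁻¹ * z * l) * (l⁻¹ * g) = g⁻¹ * z * g by group]
      exact le_normalizer (mem_cj.1 hzg)
    have hz' : orderOf (l⁻¹ * z * l) = 2 := by
      have := orderOf_conj l⁻¹ z
      rw [inv_inv, hz] at this
      exact this
    obtain ⟨a, ha, e⟩ := h.exists_of_fixes hz' h1 hn
    have h2 := mem_normalizer_cj.1 (h.line_fixes e ha hiU.2)
    rw [mem_normalizer_cj]
    rwa [show (l⁻¹ * g)⁻¹ * (l⁻¹ * i * l) * (l⁻¹ * g) = g⁻¹ * i * g by group] at h2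

/-- Any two points are collinear. -/
theorem exists_fixing_both (g : G) :
    ∃ v, orderOf v = 2 ∧ v ∈ normalizer (R : Set G) ∧ v ∈ normalizer (cj g R : Set G) := by
  classical
  by_contra hcon
  push Not at hcon
  have hsqq : ∀ x ∈ cj g R, x * x = 1 := fun x hx => h.sq_cj h.R_sq hx
  set T : Set G := (R : Set G) \ {1}
  set T' : Set G := (cj g R : Set G) \ {1}
  have hT : Nat.card T = 15 := by
    rw [Nat.card_coe_set_eq, Set.ncard_sdiff_singleton_of_mem (one_mem R), ← Nat.card_coe_set_eq,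
      SetLike.coe_sort_coe, h.R_card]
  have hT' : Nat.card T' = 15 := by
    rw [Nat.card_coe_set_eq, Set.ncard_sdiff_singleton_of_mem (one_mem (cj g R)),
      ← Nat.card_coe_set_eq, SetLike.coe_sort_coe, card_cj, h.R_card]
  set S : Set G := {u | u * u = 1 ∧ cj u R = cj g R}
  -- each pair gives an involution exchanging the points
  have hswap : ∀ z : T, ∀ z' : T', ∃ u : S, (u : G) * z * (u : G)⁻¹ = z' := by
    intro ⟨z, hzR, hz1⟩ ⟨z', hz'R, hz'1⟩
    have hz : orderOf z = 2 := orderOf_two_iff.2 ⟨h.R_sq z hzR, fun e => hz1 e⟩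
    have hz' : orderOf z' = 2 := orderOf_two_iff.2 ⟨hsqq z' hz'R, fun e => hz'1 e⟩
    have hne : z ≠ z' := fun e => hcon z hz (le_normalizer hzR) (e ▸ le_normalizer hz'R)
    have hodd : Odd (orderOf (z * z')) := by
      by_contra he
      obtain ⟨m, hm⟩ := Nat.not_odd_iff_even.1 he
      set i := (z * z') ^ m with hi
      have hpos := orderOf_pos (z * z')
      have hi2 : orderOf i = 2 := by
        have h2 := orderOf_pow_orderOf_div hpos.ne' (show 2 ∣ orderOf (z * z') from ⟨m, by omega⟩)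
        rwa [show orderOf (z * z') / 2 = m by omega] at h2
      have hneg : (z * z') ^ (-(m : ℤ)) = i := by
        rw [zpow_neg, zpow_natCast, ← hi, inv_eq hi2]
      have hc1 : Commute z i := by
        have h3 := zpow_mul_left hz hz' (m : ℤ)
        rw [hneg, zpow_natCast, ← hi] at h3
        exact h3.symm
      have hc2 : Commute z' i := by
        have h3 : Commute (z * (z * z')) i := hc1.mul_left ((Commute.refl _).pow_right m)
        rwa [← mul_assoc, inv_sq_one hz, one_mul] at h3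
      have hR : i ∈ normalizer (cj 1 R : Set G) :=
        h.fixes_of_commute hi2 hz (by rwa [cj_one]) hc1
      rw [cj_one] at hR
      exact hcon i hi2 hR (h.fixes_of_commute hi2 hz' hz'R hc2)
    obtain ⟨d, hd, hdz⟩ := exists_conj_of_odd hz hz' hodd
    obtain ⟨k, rfl⟩ := mem_zpowers_iff.1 hd
    have hu : orderOf ((z * z') ^ k * z) = 2 := by
      rw [zpow_mul_left hz hz']; exact orderOf_mul_zpow hz hz' hne _
    have huz : (z * z') ^ k * z * z * ((z * z') ^ k * z)⁻¹ = z' := by
      rw [show (z * z') ^ k * z * z * ((z * z') ^ k * z)⁻¹ = (z * z') ^ k * z * ((z * z') ^ k)⁻¹ by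
        group]
      exact hdz
    refine ⟨⟨_, inv_sq_one hu, h.point_unique hz' ?_ hz'R⟩, huz⟩
    have h5 := conj_mem_cj (g := (z * z') ^ k * z) hzR
    rwa [huz] at h5
  choose u hu using hswap
  have hS15 : 15 ≤ Nat.card S := by
    have h1 := Nat.card_le_card_of_injective (fun w : T × T' => (w.1, u w.1 w.2))
      (fun w w' e => by
        obtain ⟨e1, e2⟩ := Prod.mk.injEq _ _ _ _ ▸ e
        have h1 := hu w.1 w.2
        rw [e2, e1, hu w'.1 w'.2] at h1
        exact Prod.ext e1 (Subtype.ext h1.symm))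
    rw [Nat.card_prod, Nat.card_prod, hT, hT'] at h1
    omega
  set D := normalizer (R : Set G) ⊓ normalizer (cj g R : Set G) with hD
  have hback : ∀ v : S, cj (v : G) (cj g R) = R := fun v => by
    rw [← v.2.2, cj_cj, v.2.1, cj_one]
  obtain ⟨u₀, hu₀⟩ : S.Nonempty := by
    by_contra he
    rw [Set.not_nonempty_iff_eq_empty] at he
    rw [he, Nat.card_coe_set_eq, Set.ncard_empty] at hS15
    omega
  have hSD : Nat.card S ≤ Nat.card D := by
    refine Nat.card_le_card_of_injective (fun v : S => (⟨u₀ * v, ?_⟩ : D)) fun v v' e =>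
      Subtype.ext (mul_left_cancel (congrArg Subtype.val e))
    refine mem_inf.2 ⟨cj_eq_self_iff.1 ?_, cj_eq_self_iff.1 ?_⟩
    · rw [← cj_cj, v.2.2]
      exact hback ⟨u₀, hu₀⟩
    · rw [← cj_cj, hback v]
      exact hu₀.2
  have hDd : Nat.card D ∣ 64 * 45 := by
    rw [show 64 * 45 = 2880 from rfl, ← h.norm_R]
    exact card_dvd_of_le inf_le_left
  have hDodd : ¬ 2 ∣ Nat.card D := fun h2 => by
    haveI : Fact (Nat.Prime 2) := ⟨Nat.prime_two⟩
    obtain ⟨⟨v, hv⟩, hvo⟩ := exists_prime_orderOf_dvd_card' 2 h2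
    rw [Subgroup.orderOf_mk] at hvo
    exact hcon v hvo hv.1 hv.2
  have hcop : Nat.Coprime (Nat.card D) 64 := by
    rw [show (64 : ℕ) = 2 ^ 6 from rfl]
    exact (Nat.prime_two.coprime_iff_not_dvd.2 hDodd).symm.pow_right 6
  obtain ⟨hD15, σ, hσD, hσ3, x, hx2, hxσ⟩ :=
    h.exists_real_candidate (D := D) inf_le_left (hcop.dvd_of_dvd_mul_left hDd) (by omega)
  -- every element of `D` is a product of `u₀` with a second exchanging involution
  let F : S → D := fun v => ⟨u₀ * v, mem_inf.2 ⟨cj_eq_self_iff.1 (by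
    rw [← cj_cj, v.2.2]; exact hback ⟨u₀, hu₀⟩), cj_eq_self_iff.1 (by
    rw [← cj_cj, hback v]; exact hu₀.2)⟩⟩
  have hFi : Function.Injective F := fun v v' e =>
    Subtype.ext (mul_left_cancel (congrArg Subtype.val e))
  obtain ⟨v, hv⟩ := ((Nat.bijective_iff_injective_and_card F).2 ⟨hFi, by omega⟩).2 ⟨σ, hσD⟩
  have hv' : u₀ * (v : G) = σ := congrArg Subtype.val hv
  refine h.not_real hσ3 hx2 hxσ (u := u₀) ?_
  have e0 : u₀⁻¹ = u₀ := inv_eq_of_mul_eq_one_right hu₀.1
  have ev : (v : G)⁻¹ = v := inv_eq_of_mul_eq_one_right v.2.1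
  rw [e0, ← hv', mul_inv_rev, e0, ev]
  simp only [← mul_assoc, hu₀.1, one_mul]

/-- Two lines through `R` meet nowhere else. -/
theorem eq_R_of_two_lines {k₁ k₂ g : G} (h1 : k₁ ∈ normalizer (R : Set G))
    (h2 : k₂ ∈ normalizer (R : Set G)) (hne : cj k₁ A ≠ cj k₂ A)
    (hq1 : cj k₁ A ≤ normalizer (cj g R : Set G)) (hq2 : cj k₂ A ≤ normalizer (cj g R : Set G)) :
    cj g R = R := by
  have hcard : ∀ k, k ∈ normalizer (R : Set G) →
      Nat.card (R ⊓ cj k A : Subgroup G) = 4 := by
    intro k hk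
    conv_lhs => rw [← cj_eq_self_iff.2 hk]
    rw [show cj k R ⊓ cj k A = cj k (R ⊓ A) from
      (Subgroup.map_inf_eq _ _ _ (MulAut.conj k).injective).symm, card_cj, h.inf_card]
  set X := R ⊓ cj k₁ A
  set Y := R ⊓ cj k₂ A
  have hXY : X ⊓ Y = ⊥ := by
    rw [eq_bot_iff]
    intro v hv
    by_contra hv1
    exact hne (h.line_unique (orderOf_two_iff.2 ⟨h.R_sq v hv.1.1, fun e => hv1 (mem_bot.2 e)⟩)
      hv.1.2 hv.2.2)
  have hsup : X ⊔ Y = R := by
    refine eq_of_le_of_card_ge (sup_le inf_le_left inf_le_left) ?_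
    have e2 := (Y.subgroupOf (X ⊔ Y)).card_mul_index
    rw [Nat.card_congr (subgroupOfEquivOfLe (le_sup_right : Y ≤ X ⊔ Y)).toEquiv, hcard k₂ h2] at e2
    have e3 : Y.relIndex X ≤ Y.relIndex (X ⊔ Y) :=
      Subgroup.relIndex_le_of_le_right le_sup_left Subgroup.index_ne_zero_of_finite
    rw [Subgroup.relIndex, Subgroup.relIndex] at e3
    have e4 : Nat.card (Y.subgroupOf X) = 1 := by
      have : Y.subgroupOf X = ⊥ := by
        rw [← inf_subgroupOf_left, hXY, bot_subgroupOf]
      rw [this]; simp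
    have e5 := (Y.subgroupOf X).card_mul_index
    rw [e4, hcard k₁ h1] at e5
    rw [h.R_card]
    omega
  have hRn : R ≤ normalizer (cj g R : Set G) :=
    hsup.ge.trans (sup_le (inf_le_right.trans hq1) (inf_le_right.trans hq2))
  have hR2 : IsPGroup 2 R := by
    haveI : Fact (Nat.Prime 2) := ⟨Nat.prime_two⟩
    exact IsPGroup.of_card (n := 4) (by rw [h.R_card]; norm_num)
  obtain ⟨k, hk, hle⟩ := h.exists_sylow hR2 hRn
  have e := h.eq_cj_R (g := 1) (k := k) (by rwa [cj_one])
  rw [cj_one] at e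
  exact hk.symm.trans e.symm

/-- **The order.** -/
theorem card_eq : Nat.card G = 60480 := by
  classical
  set Λ := (fun k => cj k A) '' (normalizer (R : Set G) : Set G)
  have hmemΛ : ∀ B ∈ Λ, R ∈ line R B := by
    rintro _ ⟨k, hk, rfl⟩
    refine ⟨⟨1, trivial, cj_one R⟩, fun x hx => ?_⟩
    have hkU := h.U_le_normalizer.1 (h.A_le (mem_cj.1 hx))
    have := mul_mem (mul_mem hk hkU) (inv_mem hk)
    rwa [show k * (k⁻¹ * x * k) * k⁻¹ = x by group] at this
  set Φ := (Set.toFinite Λ).toFinset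
  set L : Subgroup G → Finset (Subgroup G) := fun B =>
    (Set.toFinite (line R B)).toFinset.erase R
  have hdisj : (Φ : Set (Subgroup G)).PairwiseDisjoint L := by
    intro B hB B' hB' hne
    rw [Function.onFun, Finset.disjoint_left]
    intro q hq hq'
    simp only [L, Finset.mem_erase, Set.Finite.mem_toFinset] at hq hq'
    simp only [Φ, Finset.mem_coe, Set.Finite.mem_toFinset] at hB hB'
    obtain ⟨k₁, hk₁, rfl⟩ := hB
    obtain ⟨k₂, hk₂, rfl⟩ := hB'
    obtain ⟨⟨g, -, rfl⟩, hq1⟩ := hq.2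
    exact hq.1 (h.eq_R_of_two_lines hk₁ hk₂ hne hq1 hq'.2.2)
  have hpts : (Set.toFinite (points R)).toFinset = insert R (Φ.biUnion L) := by
    ext q
    simp only [Finset.mem_insert, Finset.mem_biUnion, Set.Finite.mem_toFinset, L, Φ,
      Finset.mem_erase]
    constructor
    · rintro ⟨g, -, rfl⟩
      by_cases hq : cj g R = R
      · exact Or.inl hq
      obtain ⟨v, hv, hvR, hvq⟩ := h.exists_fixing_both g
      obtain ⟨k, hk, hvk⟩ := h.exists_line hv hvR
      refine Or.inr ⟨cj k A, ⟨k, hk, rfl⟩, hq, ⟨g, trivial, rfl⟩, ?_⟩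
      have hv' : orderOf (k⁻¹ * v * k) = 2 := by
        have := orderOf_conj k⁻¹ v
        rw [inv_inv, hv] at this
        exact this
      have hn : k⁻¹ * v * k ∈ normalizer (cj (k⁻¹ * g) R : Set G) := by
        rw [mem_normalizer_cj, show (k⁻¹ * g)⁻¹ * (k⁻¹ * v * k) * (k⁻¹ * g) = g⁻¹ * v * g by group]
        exact mem_normalizer_cj.1 hvq
      obtain ⟨a, ha, e⟩ := h.exists_of_fixes hv' (mem_cj.1 hvk) hn
      intro x hx
      have h2 := mem_normalizer_cj.1 (h.line_fixes e ha (mem_cj.1 hx))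
      rw [mem_normalizer_cj]
      rwa [show (k⁻¹ * g)⁻¹ * (k⁻¹ * x * k) * (k⁻¹ * g) = g⁻¹ * x * g by group] at h2
    · rintro (rfl | ⟨B, -, -, hq, -⟩)
      · exact ⟨1, trivial, cj_one _⟩
      · exact hq
  have hn : (points R).ncard = 21 := by
    rw [Set.ncard_eq_toFinset_card _ (Set.toFinite _), hpts,
      Finset.card_insert_of_notMem (by
        simp only [Finset.mem_biUnion, L, Finset.mem_erase]
        rintro ⟨B, -, h1, -⟩
        exact h1 rfl),
      Finset.card_biUnion hdisj, Finset.sum_const_nat (m := 4)]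
    · rw [← Set.ncard_eq_toFinset_card, h.ncard_lines]
    · intro B hB
      simp only [Φ, Set.Finite.mem_toFinset] at hB
      have hR := hmemΛ B hB
      obtain ⟨k, hk, rfl⟩ := hB
      rw [Finset.card_erase_of_mem (by simpa using hR), ← Set.ncard_eq_toFinset_card, h.ncard_line k]
  have h1 := card_image_cj (⊤ : Subgroup G) R
  rw [coe_top, top_inf_eq, h.norm_R, Subgroup.card_top] at h1
  rw [← h1]
  unfold points at hn
  rw [hn]

end Cfsg.Agent.L34Type.WithOuter
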