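import Cfsg.Agent.Lib.L34Type.OuterBasic

/-!
# The configuration of `PGL₃(4)`: elements of order three

An element of order three centralising an involution is not conjugate to its inverse, and a
subgroup of odd order at least 15 of `N(R)` contains such an element and has order 15.
-/

set_option autoImplicit false
set_option linter.style.haveILetI false
set_option linter.unusedSectionVars false

namespace Cfsg.Agent.L34Type

open Subgroup Cfsg.Agent.Involutions.Basic Cfsg.Agent.CIT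

universe u

variable {G : Type u} [Group G] [Finite G]

/-- An element of prime order `p` fixes a point of an invariant set of order prime to `p`. -/
theorem exists_fixed_conj {p : ℕ} [Fact p.Prime] {y : G} (hy : orderOf y = p) {T : Set G}
    (hT : ∀ x ∈ T, y * x * y⁻¹ ∈ T) (hc : ¬ p ∣ T.ncard) : ∃ x ∈ T, y * x * y⁻¹ = x := by
  have hall : ∀ a ∈ zpowers y, ∀ x ∈ T, a * x * a⁻¹ ∈ T := by
    intro a ha
    obtain ⟨n, rfl⟩ := mem_powers_iff_mem_zpowers.2 ha
    clear ha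
    show ∀ x ∈ T, y ^ n * x * (y ^ n)⁻¹ ∈ T
    induction n with
    | zero => simp
    | succ n ih =>
      intro x hx
      have := ih _ (hT x hx)
      rwa [show y ^ (n + 1) * x * (y ^ (n + 1))⁻¹ = y ^ n * (y * x * y⁻¹) * (y ^ n)⁻¹ by
        rw [pow_succ]; group]
  letI : MulAction (zpowers y) T :=
    { smul := fun a x => ⟨(a : G) * x * (a : G)⁻¹, hall a a.2 x x.2⟩
      one_smul := fun x => Subtype.ext (by show (1 : G) * x * 1⁻¹ = x; simp)
      mul_smul := fun a b x => Subtype.ext (by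
        show (a : G) * b * x * ((a : G) * b)⁻¹ = (a : G) * ((b : G) * x * (b : G)⁻¹) * (a : G)⁻¹
        group) }
  have hP : IsPGroup p (zpowers y) := IsPGroup.of_card (n := 1) (by rw [Nat.card_zpowers, hy, pow_one])
  obtain ⟨x, hx⟩ := hP.nonempty_fixed_point_of_prime_not_dvd_card T (by rwa [Nat.card_coe_set_eq])
  exact ⟨x, x.2, congrArg Subtype.val (hx ⟨y, mem_zpowers y⟩)⟩

theorem conj_fixed_iff {y x : G} : y * x * y⁻¹ = x ↔ x * y = y * x :=
  mul_inv_eq_iff_eq_mul.trans eq_comm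

namespace WithOuter

variable {U : Sylow 2 G} {R A : Subgroup G} (h : WithOuter U R A)
include h

theorem symm : WithOuter U A R where
  shape := h.shape.symm
  cent_R := h.cent_A
  cent_A := h.cent_R
  norm_R := h.norm_A
  norm_A := h.norm_R
  norm_U := h.norm_U
  cent_z := fun z hz => h.cent_z z (inf_comm A R ▸ hz)
  one_class := h.one_class

theorem centralizer_le_normalizers {z : G} (hz : z ∈ R ⊓ A) (hz1 : z ≠ 1) :
    centralizer ({z} : Set G) ≤ normalizer (R : Set G) ⊓ normalizer (A : Set G) :=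
  (h.cent_z z hz hz1).2.trans h.normalizer_U_le

theorem comm_Z {z y : G} (hz : z ∈ R ⊓ A) (hz1 : z ≠ 1) (hy : orderOf y = 3) (hyz : z * y = y * z) :
    ∀ x ∈ R ⊓ A, x * y = y * x := by
  haveI : Fact (Nat.Prime 3) := ⟨Nat.prime_three⟩
  have hn := h.centralizer_le_normalizers hz hz1 (mem_centralizer_singleton_iff.2 hyz.symm)
  intro x hx
  by_contra hne
  set T : Set G := ((R ⊓ A : Subgroup G) : Set G) \ {1, z}
  have hT : ∀ t ∈ T, y * t * y⁻¹ ∈ T := by
    rintro t ⟨ht, ht'⟩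
    refine ⟨⟨(mem_normalizer_iff.1 hn.1 t).1 ht.1, (mem_normalizer_iff.1 hn.2 t).1 ht.2⟩, ?_⟩
    rintro (e | e)
    · exact ht' (Or.inl (conj_eq_one_iff.1 e))
    · refine ht' (Or.inr ?_)
      have e' : y * t * y⁻¹ = y * z * y⁻¹ := e.trans (conj_fixed_iff.2 hyz).symm
      exact mul_left_cancel (mul_right_cancel e')
  have hc : T.ncard = 2 := by
    have hsub : ({1, z} : Set G) ⊆ ((R ⊓ A : Subgroup G) : Set G) := by
      rintro w (rfl | rfl)
      exacts [one_mem _, hz]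
    rw [Set.ncard_sdiff hsub, Set.ncard_pair (Ne.symm hz1), ← Nat.card_coe_set_eq,
      SetLike.coe_sort_coe, h.inf_card]
  obtain ⟨t, ht, hty⟩ := exists_fixed_conj hy hT (by rw [hc]; norm_num)
  -- two fixed elements generate
  set E := (R ⊓ A) ⊓ centralizer ({y} : Set G)
  have hmem : ∀ w ∈ R ⊓ A, w * y = y * w → w ∈ E := fun w hw e =>
    ⟨hw, mem_centralizer_singleton_iff.2 e⟩
  have h3 : 3 ≤ Nat.card E := by
    rw [← SetLike.coe_sort_coe, Nat.card_coe_set_eq]
    calc 3 = ({1, z, t} : Set G).ncard := by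
          rw [Set.ncard_eq_three.2 ⟨1, z, t, Ne.symm hz1, fun e => ht.2 (Or.inl e.symm),
            fun e => ht.2 (Or.inr e.symm), rfl⟩]
      _ ≤ _ := Set.ncard_le_ncard (by
          rintro w (rfl | rfl | rfl)
          exacts [one_mem _, hmem _ hz hyz, hmem _ ht.1 (conj_fixed_iff.1 hty)]) (Set.toFinite _)
  have hd : Nat.card E ∣ 4 := h.inf_card ▸ card_dvd_of_le inf_le_left
  have hE : E = R ⊓ A := eq_of_le_of_card_ge inf_le_left (by
    have := Nat.le_of_dvd (by norm_num) hd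
    rw [h.inf_card]
    interval_cases hh : Nat.card E <;> omega)
  exact hne (mem_centralizer_singleton_iff.1 (hE ▸ hx : x ∈ E).2)

/-- An element of `R` commuting with `y` lies in `A`. -/
theorem mem_A_of_comm_R {z y r : G} (hz : z ∈ R ⊓ A) (hz1 : z ≠ 1) (hy : orderOf y = 3)
    (hyz : z * y = y * z) (hr : r ∈ R) (hry : r * y = y * r) : r ∈ A := by
  haveI : Fact (Nat.Prime 3) := ⟨Nat.prime_three⟩
  by_contra hrA
  have hn := h.centralizer_le_normalizers hz hz1 (mem_centralizer_singleton_iff.2 hyz.symm)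
  set E := R ⊓ centralizer ({y} : Set G)
  have hEc : Nat.card E ∣ 16 := h.R_card ▸ card_dvd_of_le inf_le_left
  have hZE : R ⊓ A ≤ E := fun x hx =>
    ⟨hx.1, mem_centralizer_singleton_iff.2 (h.comm_Z hz hz1 hy hyz x hx)⟩
  have h4 : 4 < Nat.card E := by
    by_contra hle
    have e : R ⊓ A = E := eq_of_le_of_card_ge hZE (by rw [h.inf_card]; omega)
    exact hrA ((e ▸ ⟨hr, mem_centralizer_singleton_iff.2 hry⟩ : r ∈ R ⊓ A)).2
  have hE : E = R := by
    refine eq_of_le_of_card_ge inf_le_left ?_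
    rw [h.R_card]
    by_contra hlt
    obtain ⟨j, hj, hEj⟩ := (Nat.dvd_prime_pow Nat.prime_two).1 (show Nat.card E ∣ 2 ^ 4 from hEc)
    have hj3 : Nat.card E = 8 := by interval_cases j <;> omega
    set T : Set G := (R : Set G) \ (E : Set G)
    have hT : ∀ x ∈ T, y * x * y⁻¹ ∈ T := by
      rintro x ⟨hx, hxE⟩
      refine ⟨(mem_normalizer_iff.1 hn.1 x).1 hx, fun e => hxE ?_⟩
      have e1 := conj_fixed_iff.2 (mem_centralizer_singleton_iff.1 e.2)
      exact ⟨hx, mem_centralizer_singleton_iff.2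
        (conj_fixed_iff.1 (mul_left_cancel (mul_right_cancel e1)))⟩
    have hc : T.ncard = 8 := by
      rw [Set.ncard_sdiff (inf_le_left : E ≤ R), ← Nat.card_coe_set_eq, ← Nat.card_coe_set_eq,
        SetLike.coe_sort_coe, SetLike.coe_sort_coe, h.R_card, hj3]
    obtain ⟨x, hx, hxy⟩ := exists_fixed_conj hy hT (by rw [hc]; norm_num)
    exact hx.2 ⟨hx.1, mem_centralizer_singleton_iff.2 (conj_fixed_iff.1 hxy)⟩
  have hyR : y ∈ centralizer (R : Set G) := mem_centralizer_iff.2 fun x hx =>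
    mem_centralizer_singleton_iff.1 (hE.ge hx).2
  rw [h.cent_R] at hyR
  have h1 := R.orderOf_dvd_natCard hyR
  rw [h.R_card, hy] at h1
  norm_num at h1

theorem exists_mul_eq {u : G} (hu : u ∈ (U : Subgroup G)) : ∃ r ∈ R, ∃ a ∈ A, r * a = u := by
  let f : (R ⧸ A.subgroupOf R) × A → (U : Subgroup G) := fun p =>
    ⟨(p.1.out : G) * (p.2 : G), mul_mem (h.R_le p.1.out.2) (h.A_le p.2.2)⟩
  have hinj : Function.Injective f := by
    rintro ⟨q, a⟩ ⟨q', a'⟩ e
    have e' : (q.out : G) * a = q'.out * a' := congrArg Subtype.val e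
    have hq : q = q' := by
      rw [← q.out_eq, ← q'.out_eq]
      refine QuotientGroup.eq.2 (Subgroup.mem_subgroupOf.2 ?_)
      have : ((q.out : G))⁻¹ * (q'.out : G) = a * (a' : G)⁻¹ := by
        rw [eq_mul_inv_iff_mul_eq, mul_assoc, ← e', inv_mul_cancel_left]
      rw [Subgroup.coe_mul, Subgroup.coe_inv, this]
      exact mul_mem a.2 (inv_mem a'.2)
    subst hq
    exact Prod.ext rfl (Subtype.ext (mul_left_cancel e'))
  have hq : Nat.card (R ⧸ A.subgroupOf R) = 4 := by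
    have h2 := Subgroup.card_eq_card_quotient_mul_card_subgroup (A.subgroupOf R)
    have h3 : Nat.card (A.subgroupOf R) = Nat.card (A ⊓ R : Subgroup G) := by
      rw [← Subgroup.inf_subgroupOf_right]
      exact Nat.card_congr (Subgroup.subgroupOfEquivOfLe inf_le_right).toEquiv
    rw [h3, inf_comm, h.inf_card, h.R_card] at h2
    omega
  have hbij : Function.Bijective f := (Nat.bijective_iff_injective_and_card f).2
    ⟨hinj, by rw [Nat.card_prod, hq, h.A_card, h.card_U]⟩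
  obtain ⟨⟨q, a⟩, he⟩ := hbij.2 ⟨u, hu⟩
  exact ⟨q.out, q.out.2, a, a.2, congrArg Subtype.val he⟩

theorem mem_Z_of_comm {z y s : G} (hz : z ∈ R ⊓ A) (hz1 : z ≠ 1) (hy : orderOf y = 3)
    (hyz : z * y = y * z) (hs : s ∈ (U : Subgroup G)) (hsy : s * y = y * s) : s ∈ R ⊓ A := by
  haveI : Fact (Nat.Prime 3) := ⟨Nat.prime_three⟩
  obtain ⟨r, hr, a, ha, rfl⟩ := h.exists_mul_eq hs
  have hn := h.centralizer_le_normalizers hz hz1 (mem_centralizer_singleton_iff.2 hyz.symm)
  have hr' : y * r * y⁻¹ ∈ R := (mem_normalizer_iff.1 hn.1 r).1 hr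
  have ha' : y * a * y⁻¹ ∈ A := (mem_normalizer_iff.1 hn.2 a).1 ha
  have hZr : r⁻¹ * (y * r * y⁻¹) ∈ R ⊓ A := by
    refine ⟨R.mul_mem (R.inv_mem hr) hr', ?_⟩
    show r⁻¹ * (y * r * y⁻¹) ∈ A
    have e : y * r * y⁻¹ * (y * a * y⁻¹) = r * a := by
      rw [show y * r * y⁻¹ * (y * a * y⁻¹) = y * (r * a) * y⁻¹ by group]
      exact conj_fixed_iff.2 hsy
    rw [show r⁻¹ * (y * r * y⁻¹) = r⁻¹ * (y * r * y⁻¹ * (y * a * y⁻¹)) * (y * a * y⁻¹)⁻¹ by group,
      e, inv_mul_cancel_left]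
    exact mul_mem ha (inv_mem ha')
  set T : Set G := (fun w => r * w) '' ((R ⊓ A : Subgroup G) : Set G)
  have hT : ∀ x ∈ T, y * x * y⁻¹ ∈ T := by
    rintro _ ⟨w, hw, rfl⟩
    refine ⟨r⁻¹ * (y * r * y⁻¹) * w, (R ⊓ A).mul_mem hZr hw, ?_⟩
    show r * (r⁻¹ * (y * r * y⁻¹) * w) = y * (r * w) * y⁻¹
    rw [show y * (r * w) * y⁻¹ = y * r * y⁻¹ * (y * w * y⁻¹) by group,
      conj_fixed_iff.2 (h.comm_Z hz hz1 hy hyz w hw)]
    group
  have hc : T.ncard = 4 := by
    rw [Set.ncard_image_of_injective _ (mul_right_injective r), ← Nat.card_coe_set_eq,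
      SetLike.coe_sort_coe, h.inf_card]
  obtain ⟨x, ⟨w, hw, rfl⟩, hxy⟩ := exists_fixed_conj hy hT (by rw [hc]; norm_num)
  have hrw := h.mem_A_of_comm_R hz hz1 hy hyz (mul_mem hr hw.1) (conj_fixed_iff.1 hxy)
  have hrA : r ∈ A := (Subgroup.mul_mem_cancel_right A hw.2).1 hrw
  have hsA : r * a ∈ A := mul_mem hrA ha
  exact ⟨h.symm.mem_A_of_comm_R (inf_comm R A ▸ hz) hz1 hy hyz hsA hsy, hsA⟩

/-- An element of order three centralising an involution is not inverted. -/
theorem not_real {σ x u : G} (hσ : orderOf σ = 3) (hx : orderOf x = 2) (hxσ : x * σ = σ * x)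
    (hu : u * σ * u⁻¹ = σ⁻¹) : False := by
  haveI : Fact (Nat.Prime 2) := ⟨Nat.prime_two⟩
  obtain ⟨g, hgx, -, -⟩ := h.exists_center hx
  set z := g⁻¹ * x * g with hzd
  have hz : z ∈ R ⊓ A := mem_cj.1 hgx
  have hz1 : z ≠ 1 := fun e => by
    rw [show x = g * z * g⁻¹ by rw [hzd]; group, e, mul_one, mul_inv_cancel, orderOf_one] at hx
    omega
  set y := g⁻¹ * σ * g with hyd
  have hy : orderOf y = 3 := by
    have := orderOf_conj g⁻¹ σ
    rwa [inv_inv, hσ] at this
  have hyz : z * y = y * z := by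
    rw [hzd, hyd, show g⁻¹ * x * g * (g⁻¹ * σ * g) = g⁻¹ * (x * σ) * g by group, hxσ]; group
  set u' := g⁻¹ * u * g with hu'd
  have hu' : u' * y * u'⁻¹ = y⁻¹ := by
    rw [hu'd, hyd, show g⁻¹ * u * g * (g⁻¹ * σ * g) * (g⁻¹ * u * g)⁻¹ = g⁻¹ * (u * σ * u⁻¹) * g by
      group, hu]
    group
  set K := centralizer ({y} : Set G) with hK
  have hZK : R ⊓ A ≤ K := fun w hw => mem_centralizer_singleton_iff.2 (h.comm_Z hz hz1 hy hyz w hw)
  -- 2-subgroups of `K` have at most four elements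
  have hP4 : ∀ P : Subgroup G, IsPGroup 2 P → P ≤ K → Nat.card P ≤ 4 := by
    intro P hP hPK
    rcases eq_or_ne P ⊥ with rfl | hne
    · rw [Subgroup.card_bot]; norm_num
    haveI : Nontrivial P := (nontrivial_iff_ne_bot P).2 hne
    haveI := hP.center_nontrivial
    have hd : 2 ∣ Nat.card (center P) := by
      obtain ⟨i, hi⟩ := (hP.to_subgroup (center P)).exists_card_eq
      rcases i with _ | i
      · exact absurd hi (by rw [pow_zero]; exact (Finite.one_lt_card).ne')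
      · rw [hi]; exact dvd_pow_self 2 (Nat.succ_ne_zero i)
    obtain ⟨⟨⟨s, hsP⟩, hsc⟩, hso⟩ := exists_prime_orderOf_dvd_card' 2 hd
    rw [Subgroup.orderOf_mk, Subgroup.orderOf_mk] at hso
    obtain ⟨l, hls, -, hl⟩ := h.exists_center hso
    have hPl : P ≤ cj l (U : Subgroup G) := hl P hP fun w hw => by
      rw [mem_centralizer_singleton_iff]
      exact congrArg Subtype.val ((mem_center_iff.1 hsc) ⟨w, hw⟩)
    set z' := l⁻¹ * s * l with hz'd
    have hz'1 : z' ≠ 1 := fun e => by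
      rw [show s = l * z' * l⁻¹ by rw [hz'd]; group, e, mul_one, mul_inv_cancel, orderOf_one] at hso
      omega
    have hy' : orderOf (l⁻¹ * y * l) = 3 := by
      have := orderOf_conj l⁻¹ y
      rwa [inv_inv, hy] at this
    have hcomm : ∀ w ∈ P, l⁻¹ * w * l * (l⁻¹ * y * l) = l⁻¹ * y * l * (l⁻¹ * w * l) := fun w hw => by
      rw [show l⁻¹ * w * l * (l⁻¹ * y * l) = l⁻¹ * (w * y) * l by group,
        mem_centralizer_singleton_iff.1 (hPK hw)]
      group
    have hle : cj l⁻¹ P ≤ R ⊓ A := by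
      intro w hw
      rw [mem_cj, inv_inv] at hw
      have h1 := mem_cj.1 (hPl hw)
      rw [show l⁻¹ * (l * w * l⁻¹) * l = w by group] at h1
      have h2 := hcomm _ hw
      rw [show l⁻¹ * (l * w * l⁻¹) * l = w by group] at h2
      exact h.mem_Z_of_comm (mem_cj.1 hls) hz'1 hy' (hcomm s hsP) h1 h2
    have := Nat.le_of_dvd Nat.card_pos (card_dvd_of_le hle)
    rwa [card_cj, h.inf_card] at this
  -- `u'` moves `Z` to another Sylow subgroup of `K`
  have hu'' : u'⁻¹ * y * u' = y⁻¹ := by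
    have e : u'⁻¹ * y⁻¹ * u' = y := by rw [← hu']; group
    have e' := congrArg (·⁻¹) e
    simpa [mul_assoc] using e'
  have hKu : cj u' (R ⊓ A) ≤ K := by
    intro w hw
    have h1 := mem_centralizer_singleton_iff.1 (hZK (mem_cj.1 hw))
    refine mem_centralizer_singleton_iff.2 ?_
    have h2 : u'⁻¹ * w * u' * (u'⁻¹ * y * u') = u'⁻¹ * y * u' * (u'⁻¹ * w * u') := by
      rw [hu'']
      exact (Commute.inv_right h1).eq
    calc w * y = u' * (u'⁻¹ * w * u' * (u'⁻¹ * y * u')) * u'⁻¹ := by group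
      _ = y * w := by rw [h2]; group
  have hpZ : IsPGroup 2 (R ⊓ A : Subgroup G) := U.2.to_le (inf_le_left.trans h.R_le)
  have hfull : ∀ P : Subgroup G, IsPGroup 2 P → P ≤ K → Nat.card P = 4 →
      ∃ Q : Sylow 2 K, (Q : Subgroup K) = P.subgroupOf K := by
    intro P hP hPK hc
    obtain ⟨Q, hQ⟩ := (hP.of_equiv (subgroupOfEquivOfLe hPK).symm).exists_le_sylow
    refine ⟨Q, (eq_of_le_of_card_ge hQ ?_).symm⟩
    rw [Nat.card_congr (subgroupOfEquivOfLe hPK).toEquiv, hc, ← card_map_of_injective K.subtype_injective]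
    exact hP4 _ (Q.2.map _) (map_subtype_le _)
  obtain ⟨Q₁, hQ₁⟩ := hfull _ (hpZ.map _) hKu ((card_cj u' (R ⊓ A)).trans h.inf_card)
  obtain ⟨Q₂, hQ₂⟩ := hfull _ hpZ hZK h.inf_card
  obtain ⟨c, hc⟩ := MulAction.exists_smul_eq K Q₁ Q₂
  set w := (c : G) * u' with hwd
  have hwy : w * y * w⁻¹ = y⁻¹ := by
    rw [hwd, show (c : G) * u' * y * ((c : G) * u')⁻¹ = c * (u' * y * u'⁻¹) * (c : G)⁻¹ by group, hu']
    exact conj_fixed_iff.2 (Commute.inv_left (mem_centralizer_singleton_iff.1 c.2).symm).eq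
  have hwZ : cj w (R ⊓ A) = R ⊓ A := by
    refine eq_of_le_of_card_ge (fun x hx => ?_) (by rw [card_cj])
    rw [mem_cj] at hx
    have h1 : (c : G)⁻¹ * x * c ∈ cj u' (R ⊓ A) := by
      rw [mem_cj]; simpa [hwd, mul_assoc] using hx
    have hxK : (⟨_, hKu h1⟩ : K) ∈ (Q₁ : Subgroup K) := by rw [hQ₁]; exact mem_subgroupOf.2 h1
    have h2 := Subgroup.smul_mem_pointwise_smul _ (MulAut.conj c) _ hxK
    change _ ∈ ((c • Q₁ : Sylow 2 K) : Subgroup K) at h2
    rw [hc, hQ₂, mem_subgroupOf] at h2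
    change (c : G) * ((c : G)⁻¹ * x * c) * (c : G)⁻¹ ∈ R ⊓ A at h2
    rwa [show (c : G) * ((c : G)⁻¹ * x * c) * (c : G)⁻¹ = x by group] at h2
  -- `N(Z)` normalises `U`, and `N(U)` is abelian modulo `U`
  set N := normalizer ((U : Subgroup G) : Set G) with hN
  have hwN : w ∈ N := by
    refine cj_eq_self_iff.1 (eq_of_le_of_card_ge (h.le_U (U.2.map _) fun x hx => ?_) (by rw [card_cj]))
    have hzw : w * z * w⁻¹ ∈ R ⊓ A := hwZ ▸ conj_mem_cj hz
    refine (h.cent_z _ hzw fun e => hz1 (conj_eq_one_iff.1 e)).2 (mem_centralizer_singleton_iff.2 ?_)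
    have h1 := h.shape.central z hz _ (mem_cj.1 hx)
    calc x * (w * z * w⁻¹) = w * (w⁻¹ * x * w * z) * w⁻¹ := by group
      _ = w * z * w⁻¹ * x := by rw [← h1]; group
  have hyN : y ∈ N := (h.cent_z z hz hz1).2 (mem_centralizer_singleton_iff.2 hyz.symm)
  haveI : ((U : Subgroup G).subgroupOf N).Normal := Subgroup.normal_in_normalizer
  have h9 : Nat.card (N ⧸ (U : Subgroup G).subgroupOf N) = 3 ^ 2 := by
    have h1 := ((U : Subgroup G).subgroupOf N).card_mul_index
    rw [Nat.card_congr (subgroupOfEquivOfLe le_normalizer).toEquiv, h.card_U,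
      show Nat.card N = 576 from h.norm_U] at h1
    rw [← Subgroup.index_eq_card]
    omega
  haveI : Fact (Nat.Prime 3) := ⟨Nat.prime_three⟩
  have hcomm := IsPGroup.commutative_of_card_eq_prime_sq h9
    (QuotientGroup.mk (⟨w, hwN⟩ : N)) (QuotientGroup.mk (⟨y, hyN⟩ : N))
  rw [← QuotientGroup.mk_mul, ← QuotientGroup.mk_mul, QuotientGroup.eq, mem_subgroupOf] at hcomm
  change (w * y)⁻¹ * (y * w) ∈ (U : Subgroup G) at hcomm
  have e : w⁻¹ * y * w = y⁻¹ := by
    have e' : w⁻¹ * y⁻¹ * w = y := by rw [← hwy]; group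
    have e'' := congrArg (·⁻¹) e'
    simpa [mul_assoc] using e''
  rw [show (w * y)⁻¹ * (y * w) = y⁻¹ * (w⁻¹ * y * w) by group, e] at hcomm
  have hyU : y ∈ (U : Subgroup G) := by
    have h3 : y ^ 3 = 1 := by rw [← hy, pow_orderOf_eq_one]
    have e3 : y⁻¹ * y⁻¹ = y := by
      rw [show y⁻¹ * y⁻¹ = y * (y ^ 3)⁻¹ by group, h3, inv_one, mul_one]
    rwa [e3] at hcomm
  have h64 := (U : Subgroup G).orderOf_dvd_natCard hyU
  rw [h.card_U, hy] at h64
  norm_num at h64

end WithOuter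

end Cfsg.Agent.L34Type
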